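import Mathlib
import Cfsg.Agent.H19.Th.DC.F0
import Cfsg.Agent.H19.Th.DC.F1
import Cfsg.Agent.H19.Th.DC.F2
import Cfsg.Agent.H19.Th.N
import Cfsg.Agent.H19.DCE7

set_option autoImplicit false
set_option maxRecDepth 100000
set_option Elab.async false
set_option linter.all false

namespace H19.Th.DC
open H29

noncomputable def FT (i : ℕ) : DFact :=
  (Bool.rec (Bool.rec (Bool.rec (Bool.rec (Bool.rec (Bool.rec (Bool.rec (Bool.rec (Bool.rec (Bool.rec (Bool.rec (Bool.rec f0 f1 (Nat.ble 1 i)) (Bool.rec f2 f3 (Nat.ble 3 i)) (Nat.ble 2 i)) (Bool.rec (Bool.rec f4 f5 (Nat.ble 5 i)) (Bool.rec f6 f7 (Nat.ble 7 i)) (Nat.ble 6 i)) (Nat.ble 4 i)) (Bool.rec (Bool.rec (Bool.rec f8 f9 (Nat.ble 9 i)) (Bool.rec f10 f11 (Nat.ble 11 i)) (Nat.ble 10 i)) (Bool.rec (Bool.rec f12 f13 (Nat.ble 13 i)) (Bool.rec f14 f15 (Nat.ble 15 i)) (Nat.ble 14 i)) (Nat.ble 12 i)) (Nat.ble 8 i)) (Bool.rec (Bool.rec (Bool.rec (Bool.rec f16 f17 (Nat.ble 17 i)) (Bool.rec f18 f19 (Nat.ble 19 i)) (Nat.ble 18 i)) (Bool.rec (Bool.rec f20 f21 (Nat.ble 21 i)) (Bool.rec f22 f23 (Nat.ble 23 i)) (Nat.ble 22 i)) (Nat.ble 20 i)) (Bool.rec (Bool.rec (Bool.rec f24 f25 (Nat.ble 25 i)) (Bool.rec f26 f27 (Nat.ble 27 i)) (Nat.ble 26 i)) (Bool.rec (Bool.rec f28 f29 (Nat.ble 29 i)) (Bool.rec f30 (Bool.rec f31 f32 (Nat.ble 32 i)) (Nat.ble 31 i)) (Nat.ble 30 i)) (Nat.ble 28 i)) (Nat.ble 24 i)) (Nat.ble 16 i)) (Bool.rec (Bool.rec (Bool.rec (Bool.rec (Bool.rec f33 f34 (Nat.ble 34 i)) (Bool.rec f35 f36 (Nat.ble 36 i)) (Nat.ble 35 i)) (Bool.rec (Bool.rec f37 f38 (Nat.ble 38 i)) (Bool.rec f39 f40 (Nat.ble 40 i)) (Nat.ble 39 i)) (Nat.ble 37 i)) (Bool.rec (Bool.rec (Bool.rec f41 f42 (Nat.ble 42 i)) (Bool.rec f43 f44 (Nat.ble 44 i)) (Nat.ble 43 i)) (Bool.rec (Bool.rec f45 f46 (Nat.ble 46 i)) (Bool.rec f47 f48 (Nat.ble 48 i)) (Nat.ble 47 i)) (Nat.ble 45 i)) (Nat.ble 41 i)) (Bool.rec (Bool.rec (Bool.rec (Bool.rec f49 f50 (Nat.ble 50 i)) (Bool.rec f51 f52 (Nat.ble 52 i)) (Nat.ble 51 i)) (Bool.rec (Bool.rec f53 f54 (Nat.ble 54 i)) (Bool.rec f55 f56 (Nat.ble 56 i)) (Nat.ble 55 i)) (Nat.ble 53 i)) (Bool.rec (Bool.rec (Bool.rec f57 f58 (Nat.ble 58 i)) (Bool.rec f59 f60 (Nat.ble 60 i)) (Nat.ble 59 i)) (Bool.rec (Bool.rec f61 f62 (Nat.ble 62 i)) (Bool.rec f63 (Bool.rec f64 f65 (Nat.ble 65 i)) (Nat.ble 64 i)) (Nat.ble 63 i)) (Nat.ble 61 i)) (Nat.ble 57 i)) (Nat.ble 49 i)) (Nat.ble 33 i)) (Bool.rec (Bool.rec (Bool.rec (Bool.rec (Bool.rec (Bool.rec f66 f67 (Nat.ble 67 i)) (Bool.rec f68 f69 (Nat.ble 69 i)) (Nat.ble 68 i)) (Bool.rec (Bool.rec f70 f71 (Nat.ble 71 i)) (Bool.rec f72 f73 (Nat.ble 73 i)) (Nat.ble 72 i)) (Nat.ble 70 i)) (Bool.rec (Bool.rec (Bool.rec f74 f75 (Nat.ble 75 i)) (Bool.rec f76 f77 (Nat.ble 77 i)) (Nat.ble 76 i)) (Bool.rec (Bool.rec f78 f79 (Nat.ble 79 i)) (Bool.rec f80 f81 (Nat.ble 81 i)) (Nat.ble 80 i)) (Nat.ble 78 i)) (Nat.ble 74 i)) (Bool.rec (Bool.rec (Bool.rec (Bool.rec f82 f83 (Nat.ble 83 i)) (Bool.rec f84 f85 (Nat.ble 85 i)) (Nat.ble 84 i)) (Bool.rec (Bool.rec f86 f87 (Nat.ble 87 i)) (Bool.rec f88 f89 (Nat.ble 89 i)) (Nat.ble 88 i)) (Nat.ble 86 i)) (Bool.rec (Bool.rec (Bool.rec f90 f91 (Nat.ble 91 i)) (Bool.rec f92 f93 (Nat.ble 93 i)) (Nat.ble 92 i)) (Bool.rec (Bool.rec f94 f95 (Nat.ble 95 i)) (Bool.rec f96 (Bool.rec f97 f98 (Nat.ble 98 i)) (Nat.ble 97 i)) (Nat.ble 96 i)) (Nat.ble 94 i)) (Nat.ble 90 i)) (Nat.ble 82 i)) (Bool.rec (Bool.rec (Bool.rec (Bool.rec (Bool.rec f99 f100 (Nat.ble 100 i)) (Bool.rec f101 f102 (Nat.ble 102 i)) (Nat.ble 101 i)) (Bool.rec (Bool.rec f103 f104 (Nat.ble 104 i)) (Bool.rec f105 f106 (Nat.ble 106 i)) (Nat.ble 105 i)) (Nat.ble 103 i)) (Bool.rec (Bool.rec (Bool.rec f107 f108 (Nat.ble 108 i)) (Bool.rec f109 f110 (Nat.ble 110 i)) (Nat.ble 109 i)) (Bool.rec (Bool.rec f111 f112 (Nat.ble 112 i)) (Bool.rec f113 (Bool.rec f114 f115 (Nat.ble 115 i)) (Nat.ble 114 i)) (Nat.ble 113 i)) (Nat.ble 111 i)) (Nat.ble 107 i)) (Bool.rec (Bool.rec (Bool.rec (Bool.rec f116 f117 (Nat.ble 117 i)) (Bool.rec f118 f119 (Nat.ble 119 i)) (Nat.ble 118 i)) (Bool.rec (Bool.rec f120 f121 (Nat.ble 121 i)) (Bool.rec f122 f123 (Nat.ble 123 i)) (Nat.ble 122 i)) (Nat.ble 120 i)) (Bool.rec (Bool.rec (Bool.rec f124 f125 (Nat.ble 125 i)) (Bool.rec f126 f127 (Nat.ble 127 i)) (Nat.ble 126 i)) (Bool.rec (Bool.rec f128 f129 (Nat.ble 129 i)) (Bool.rec f130 (Bool.rec f131 f132 (Nat.ble 132 i)) (Nat.ble 131 i)) (Nat.ble 130 i)) (Nat.ble 128 i)) (Nat.ble 124 i)) (Nat.ble 116 i)) (Nat.ble 99 i)) (Nat.ble 66 i)) (Bool.rec (Bool.rec (Bool.rec (Bool.rec (Bool.rec (Bool.rec (Bool.rec f133 f134 (Nat.ble 134 i)) (Bool.rec f135 f136 (Nat.ble 136 i)) (Nat.ble 135 i)) (Bool.rec (Bool.rec f137 f138 (Nat.ble 138 i)) (Bool.rec f139 f140 (Nat.ble 140 i)) (Nat.ble 139 i)) (Nat.ble 137 i)) (Bool.rec (Bool.rec (Bool.rec f141 f142 (Nat.ble 142 i)) (Bool.rec f143 f144 (Nat.ble 144 i)) (Nat.ble 143 i)) (Bool.rec (Bool.rec f145 f146 (Nat.ble 146 i)) (Bool.rec f147 f148 (Nat.ble 148 i)) (Nat.ble 147 i)) (Nat.ble 145 i)) (Nat.ble 141 i)) (Bool.rec (Bool.rec (Bool.rec (Bool.rec f149 f150 (Nat.ble 150 i)) (Bool.rec f151 f152 (Nat.ble 152 i)) (Nat.ble 151 i)) (Bool.rec (Bool.rec f153 f154 (Nat.ble 154 i)) (Bool.rec f155 f156 (Nat.ble 156 i)) (Nat.ble 155 i)) (Nat.ble 153 i)) (Bool.rec (Bool.rec (Bool.rec f157 f158 (Nat.ble 158 i)) (Bool.rec f159 f160 (Nat.ble 160 i)) (Nat.ble 159 i)) (Bool.rec (Bool.rec f161 f162 (Nat.ble 162 i)) (Bool.rec f163 (Bool.rec f164 f165 (Nat.ble 165 i)) (Nat.ble 164 i)) (Nat.ble 163 i)) (Nat.ble 161 i)) (Nat.ble 157 i)) (Nat.ble 149 i)) (Bool.rec (Bool.rec (Bool.rec (Bool.rec (Bool.rec f166 f167 (Nat.ble 167 i)) (Bool.rec f168 f169 (Nat.ble 169 i)) (Nat.ble 168 i)) (Bool.rec (Bool.rec f170 f171 (Nat.ble 171 i)) (Bool.rec f172 f173 (Nat.ble 173 i)) (Nat.ble 172 i)) (Nat.ble 170 i)) (Bool.rec (Bool.rec (Bool.rec f174 f175 (Nat.ble 175 i)) (Bool.rec f176 f177 (Nat.ble 177 i)) (Nat.ble 176 i)) (Bool.rec (Bool.rec f178 f179 (Nat.ble 179 i)) (Bool.rec f180 f181 (Nat.ble 181 i)) (Nat.ble 180 i)) (Nat.ble 178 i)) (Nat.ble 174 i)) (Bool.rec (Bool.rec (Bool.rec (Bool.rec f182 f183 (Nat.ble 183 i)) (Bool.rec f184 f185 (Nat.ble 185 i)) (Nat.ble 184 i)) (Bool.rec (Bool.rec f186 f187 (Nat.ble 187 i)) (Bool.rec f188 f189 (Nat.ble 189 i)) (Nat.ble 188 i)) (Nat.ble 186 i)) (Bool.rec (Bool.rec (Bool.rec f190 f191 (Nat.ble 191 i)) (Bool.rec f192 f193 (Nat.ble 193 i)) (Nat.ble 192 i)) (Bool.rec (Bool.rec f194 f195 (Nat.ble 195 i)) (Bool.rec f196 (Bool.rec f197 f198 (Nat.ble 198 i)) (Nat.ble 197 i)) (Nat.ble 196 i)) (Nat.ble 194 i)) (Nat.ble 190 i)) (Nat.ble 182 i)) (Nat.ble 166 i)) (Bool.rec (Bool.rec (Bool.rec (Bool.rec (Bool.rec (Bool.rec f199 f200 (Nat.ble 200 i)) (Bool.rec f201 f202 (Nat.ble 202 i)) (Nat.ble 201 i)) (Bool.rec (Bool.rec f203 f204 (Nat.ble 204 i)) (Bool.rec f205 f206 (Nat.ble 206 i)) (Nat.ble 205 i)) (Nat.ble 203 i)) (Bool.rec (Bool.rec (Bool.rec f207 f208 (Nat.ble 208 i)) (Bool.rec f209 f210 (Nat.ble 210 i)) (Nat.ble 209 i)) (Bool.rec (Bool.rec f211 f212 (Nat.ble 212 i)) (Bool.rec f213 f214 (Nat.ble 214 i)) (Nat.ble 213 i)) (Nat.ble 211 i)) (Nat.ble 207 i)) (Bool.rec (Bool.rec (Bool.rec (Bool.rec f215 f216 (Nat.ble 216 i)) (Bool.rec f217 f218 (Nat.ble 218 i)) (Nat.ble 217 i)) (Bool.rec (Bool.rec f219 f220 (Nat.ble 220 i)) (Bool.rec f221 f222 (Nat.ble 222 i)) (Nat.ble 221 i)) (Nat.ble 219 i)) (Bool.rec (Bool.rec (Bool.rec f223 f224 (Nat.ble 224 i)) (Bool.rec f225 f226 (Nat.ble 226 i)) (Nat.ble 225 i)) (Bool.rec (Bool.rec f227 f228 (Nat.ble 228 i)) (Bool.rec f229 (Bool.rec f230 f231 (Nat.ble 231 i)) (Nat.ble 230 i)) (Nat.ble 229 i)) (Nat.ble 227 i)) (Nat.ble 223 i)) (Nat.ble 215 i)) (Bool.rec (Bool.rec (Bool.rec (Bool.rec (Bool.rec f232 f233 (Nat.ble 233 i)) (Bool.rec f234 f235 (Nat.ble 235 i)) (Nat.ble 234 i)) (Bool.rec (Bool.rec f236 f237 (Nat.ble 237 i)) (Bool.rec f238 f239 (Nat.ble 239 i)) (Nat.ble 238 i)) (Nat.ble 236 i)) (Bool.rec (Bool.rec (Bool.rec f240 f241 (Nat.ble 241 i)) (Bool.rec f242 f243 (Nat.ble 243 i)) (Nat.ble 242 i)) (Bool.rec (Bool.rec f244 f245 (Nat.ble 245 i)) (Bool.rec f246 (Bool.rec f247 f248 (Nat.ble 248 i)) (Nat.ble 247 i)) (Nat.ble 246 i)) (Nat.ble 244 i)) (Nat.ble 240 i)) (Bool.rec (Bool.rec (Bool.rec (Bool.rec f249 f250 (Nat.ble 250 i)) (Bool.rec f251 f252 (Nat.ble 252 i)) (Nat.ble 251 i)) (Bool.rec (Bool.rec f253 f254 (Nat.ble 254 i)) (Bool.rec f255 f256 (Nat.ble 256 i)) (Nat.ble 255 i)) (Nat.ble 253 i)) (Bool.rec (Bool.rec (Bool.rec f257 f258 (Nat.ble 258 i)) (Bool.rec f259 f260 (Nat.ble 260 i)) (Nat.ble 259 i)) (Bool.rec (Bool.rec f261 f262 (Nat.ble 262 i)) (Bool.rec f263 (Bool.rec f264 f265 (Nat.ble 265 i)) (Nat.ble 264 i)) (Nat.ble 263 i)) (Nat.ble 261 i)) (Nat.ble 257 i)) (Nat.ble 249 i)) (Nat.ble 232 i)) (Nat.ble 199 i)) (Nat.ble 133 i)) (Bool.rec (Bool.rec (Bool.rec (Bool.rec (Bool.rec (Bool.rec (Bool.rec (Bool.rec f266 f267 (Nat.ble 267 i)) (Bool.rec f268 f269 (Nat.ble 269 i)) (Nat.ble 268 i)) (Bool.rec (Bool.rec f270 f271 (Nat.ble 271 i)) (Bool.rec f272 f273 (Nat.ble 273 i)) (Nat.ble 272 i)) (Nat.ble 270 i)) (Bool.rec (Bool.rec (Bool.rec f274 f275 (Nat.ble 275 i)) (Bool.rec f276 f277 (Nat.ble 277 i)) (Nat.ble 276 i)) (Bool.rec (Bool.rec f278 f279 (Nat.ble 279 i)) (Bool.rec f280 f281 (Nat.ble 281 i)) (Nat.ble 280 i)) (Nat.ble 278 i)) (Nat.ble 274 i)) (Bool.rec (Bool.rec (Bool.rec (Bool.rec f282 f283 (Nat.ble 283 i)) (Bool.rec f284 f285 (Nat.ble 285 i)) (Nat.ble 284 i)) (Bool.rec (Bool.rec f286 f287 (Nat.ble 287 i)) (Bool.rec f288 f289 (Nat.ble 289 i)) (Nat.ble 288 i)) (Nat.ble 286 i)) (Bool.rec (Bool.rec (Bool.rec f290 f291 (Nat.ble 291 i)) (Bool.rec f292 f293 (Nat.ble 293 i)) (Nat.ble 292 i)) (Bool.rec (Bool.rec f294 f295 (Nat.ble 295 i)) (Bool.rec f296 (Bool.rec f297 f298 (Nat.ble 298 i)) (Nat.ble 297 i)) (Nat.ble 296 i)) (Nat.ble 294 i)) (Nat.ble 290 i)) (Nat.ble 282 i)) (Bool.rec (Bool.rec (Bool.rec (Bool.rec (Bool.rec f299 f300 (Nat.ble 300 i)) (Bool.rec f301 f302 (Nat.ble 302 i)) (Nat.ble 301 i)) (Bool.rec (Bool.rec f303 f304 (Nat.ble 304 i)) (Bool.rec f305 f306 (Nat.ble 306 i)) (Nat.ble 305 i)) (Nat.ble 303 i)) (Bool.rec (Bool.rec (Bool.rec f307 f308 (Nat.ble 308 i)) (Bool.rec f309 f310 (Nat.ble 310 i)) (Nat.ble 309 i)) (Bool.rec (Bool.rec f311 f312 (Nat.ble 312 i)) (Bool.rec f313 f314 (Nat.ble 314 i)) (Nat.ble 313 i)) (Nat.ble 311 i)) (Nat.ble 307 i)) (Bool.rec (Bool.rec (Bool.rec (Bool.rec f315 f316 (Nat.ble 316 i)) (Bool.rec f317 f318 (Nat.ble 318 i)) (Nat.ble 317 i)) (Bool.rec (Bool.rec f319 f320 (Nat.ble 320 i)) (Bool.rec f321 f322 (Nat.ble 322 i)) (Nat.ble 321 i)) (Nat.ble 319 i)) (Bool.rec (Bool.rec (Bool.rec f323 f324 (Nat.ble 324 i)) (Bool.rec f325 f326 (Nat.ble 326 i)) (Nat.ble 325 i)) (Bool.rec (Bool.rec f327 f328 (Nat.ble 328 i)) (Bool.rec f329 (Bool.rec f330 f331 (Nat.ble 331 i)) (Nat.ble 330 i)) (Nat.ble 329 i)) (Nat.ble 327 i)) (Nat.ble 323 i)) (Nat.ble 315 i)) (Nat.ble 299 i)) (Bool.rec (Bool.rec (Bool.rec (Bool.rec (Bool.rec (Bool.rec f332 f333 (Nat.ble 333 i)) (Bool.rec f334 f335 (Nat.ble 335 i)) (Nat.ble 334 i)) (Bool.rec (Bool.rec f336 f337 (Nat.ble 337 i)) (Bool.rec f338 f339 (Nat.ble 339 i)) (Nat.ble 338 i)) (Nat.ble 336 i)) (Bool.rec (Bool.rec (Bool.rec f340 f341 (Nat.ble 341 i)) (Bool.rec f342 f343 (Nat.ble 343 i)) (Nat.ble 342 i)) (Bool.rec (Bool.rec f344 f345 (Nat.ble 345 i)) (Bool.rec f346 f347 (Nat.ble 347 i)) (Nat.ble 346 i)) (Nat.ble 344 i)) (Nat.ble 340 i)) (Bool.rec (Bool.rec (Bool.rec (Bool.rec f348 f349 (Nat.ble 349 i)) (Bool.rec f350 f351 (Nat.ble 351 i)) (Nat.ble 350 i)) (Bool.rec (Bool.rec f352 f353 (Nat.ble 353 i)) (Bool.rec f354 f355 (Nat.ble 355 i)) (Nat.ble 354 i)) (Nat.ble 352 i)) (Bool.rec (Bool.rec (Bool.rec f356 f357 (Nat.ble 357 i)) (Bool.rec f358 f359 (Nat.ble 359 i)) (Nat.ble 358 i)) (Bool.rec (Bool.rec f360 f361 (Nat.ble 361 i)) (Bool.rec f362 (Bool.rec f363 f364 (Nat.ble 364 i)) (Nat.ble 363 i)) (Nat.ble 362 i)) (Nat.ble 360 i)) (Nat.ble 356 i)) (Nat.ble 348 i)) (Bool.rec (Bool.rec (Bool.rec (Bool.rec (Bool.rec f365 f366 (Nat.ble 366 i)) (Bool.rec f367 f368 (Nat.ble 368 i)) (Nat.ble 367 i)) (Bool.rec (Bool.rec f369 f370 (Nat.ble 370 i)) (Bool.rec f371 f372 (Nat.ble 372 i)) (Nat.ble 371 i)) (Nat.ble 369 i)) (Bool.rec (Bool.rec (Bool.rec f373 f374 (Nat.ble 374 i)) (Bool.rec f375 f376 (Nat.ble 376 i)) (Nat.ble 375 i)) (Bool.rec (Bool.rec f377 f378 (Nat.ble 378 i)) (Bool.rec f379 (Bool.rec f380 f381 (Nat.ble 381 i)) (Nat.ble 380 i)) (Nat.ble 379 i)) (Nat.ble 377 i)) (Nat.ble 373 i)) (Bool.rec (Bool.rec (Bool.rec (Bool.rec f382 f383 (Nat.ble 383 i)) (Bool.rec f384 f385 (Nat.ble 385 i)) (Nat.ble 384 i)) (Bool.rec (Bool.rec f386 f387 (Nat.ble 387 i)) (Bool.rec f388 f389 (Nat.ble 389 i)) (Nat.ble 388 i)) (Nat.ble 386 i)) (Bool.rec (Bool.rec (Bool.rec f390 f391 (Nat.ble 391 i)) (Bool.rec f392 f393 (Nat.ble 393 i)) (Nat.ble 392 i)) (Bool.rec (Bool.rec f394 f395 (Nat.ble 395 i)) (Bool.rec f396 (Bool.rec f397 f398 (Nat.ble 398 i)) (Nat.ble 397 i)) (Nat.ble 396 i)) (Nat.ble 394 i)) (Nat.ble 390 i)) (Nat.ble 382 i)) (Nat.ble 365 i)) (Nat.ble 332 i)) (Bool.rec (Bool.rec (Bool.rec (Bool.rec (Bool.rec (Bool.rec (Bool.rec f399 f400 (Nat.ble 400 i)) (Bool.rec f401 f402 (Nat.ble 402 i)) (Nat.ble 401 i)) (Bool.rec (Bool.rec f403 f404 (Nat.ble 404 i)) (Bool.rec f405 f406 (Nat.ble 406 i)) (Nat.ble 405 i)) (Nat.ble 403 i)) (Bool.rec (Bool.rec (Bool.rec f407 f408 (Nat.ble 408 i)) (Bool.rec f409 f410 (Nat.ble 410 i)) (Nat.ble 409 i)) (Bool.rec (Bool.rec f411 f412 (Nat.ble 412 i)) (Bool.rec f413 f414 (Nat.ble 414 i)) (Nat.ble 413 i)) (Nat.ble 411 i)) (Nat.ble 407 i)) (Bool.rec (Bool.rec (Bool.rec (Bool.rec f415 f416 (Nat.ble 416 i)) (Bool.rec f417 f418 (Nat.ble 418 i)) (Nat.ble 417 i)) (Bool.rec (Bool.rec f419 f420 (Nat.ble 420 i)) (Bool.rec f421 f422 (Nat.ble 422 i)) (Nat.ble 421 i)) (Nat.ble 419 i)) (Bool.rec (Bool.rec (Bool.rec f423 f424 (Nat.ble 424 i)) (Bool.rec f425 f426 (Nat.ble 426 i)) (Nat.ble 425 i)) (Bool.rec (Bool.rec f427 f428 (Nat.ble 428 i)) (Bool.rec f429 (Bool.rec f430 f431 (Nat.ble 431 i)) (Nat.ble 430 i)) (Nat.ble 429 i)) (Nat.ble 427 i)) (Nat.ble 423 i)) (Nat.ble 415 i)) (Bool.rec (Bool.rec (Bool.rec (Bool.rec (Bool.rec f432 f433 (Nat.ble 433 i)) (Bool.rec f434 f435 (Nat.ble 435 i)) (Nat.ble 434 i)) (Bool.rec (Bool.rec f436 f437 (Nat.ble 437 i)) (Bool.rec f438 f439 (Nat.ble 439 i)) (Nat.ble 438 i)) (Nat.ble 436 i)) (Bool.rec (Bool.rec (Bool.rec f440 f441 (Nat.ble 441 i)) (Bool.rec f442 f443 (Nat.ble 443 i)) (Nat.ble 442 i)) (Bool.rec (Bool.rec f444 f445 (Nat.ble 445 i)) (Bool.rec f446 f447 (Nat.ble 447 i)) (Nat.ble 446 i)) (Nat.ble 444 i)) (Nat.ble 440 i)) (Bool.rec (Bool.rec (Bool.rec (Bool.rec f448 f449 (Nat.ble 449 i)) (Bool.rec f450 f451 (Nat.ble 451 i)) (Nat.ble 450 i)) (Bool.rec (Bool.rec f452 f453 (Nat.ble 453 i)) (Bool.rec f454 f455 (Nat.ble 455 i)) (Nat.ble 454 i)) (Nat.ble 452 i)) (Bool.rec (Bool.rec (Bool.rec f456 f457 (Nat.ble 457 i)) (Bool.rec f458 f459 (Nat.ble 459 i)) (Nat.ble 458 i)) (Bool.rec (Bool.rec f460 f461 (Nat.ble 461 i)) (Bool.rec f462 (Bool.rec f463 f464 (Nat.ble 464 i)) (Nat.ble 463 i)) (Nat.ble 462 i)) (Nat.ble 460 i)) (Nat.ble 456 i)) (Nat.ble 448 i)) (Nat.ble 432 i)) (Bool.rec (Bool.rec (Bool.rec (Bool.rec (Bool.rec (Bool.rec f465 f466 (Nat.ble 466 i)) (Bool.rec f467 f468 (Nat.ble 468 i)) (Nat.ble 467 i)) (Bool.rec (Bool.rec f469 f470 (Nat.ble 470 i)) (Bool.rec f471 f472 (Nat.ble 472 i)) (Nat.ble 471 i)) (Nat.ble 469 i)) (Bool.rec (Bool.rec (Bool.rec f473 f474 (Nat.ble 474 i)) (Bool.rec f475 f476 (Nat.ble 476 i)) (Nat.ble 475 i)) (Bool.rec (Bool.rec f477 f478 (Nat.ble 478 i)) (Bool.rec f479 f480 (Nat.ble 480 i)) (Nat.ble 479 i)) (Nat.ble 477 i)) (Nat.ble 473 i)) (Bool.rec (Bool.rec (Bool.rec (Bool.rec f481 f482 (Nat.ble 482 i)) (Bool.rec f483 f484 (Nat.ble 484 i)) (Nat.ble 483 i)) (Bool.rec (Bool.rec f485 f486 (Nat.ble 486 i)) (Bool.rec f487 f488 (Nat.ble 488 i)) (Nat.ble 487 i)) (Nat.ble 485 i)) (Bool.rec (Bool.rec (Bool.rec f489 f490 (Nat.ble 490 i)) (Bool.rec f491 f492 (Nat.ble 492 i)) (Nat.ble 491 i)) (Bool.rec (Bool.rec f493 f494 (Nat.ble 494 i)) (Bool.rec f495 (Bool.rec f496 f497 (Nat.ble 497 i)) (Nat.ble 496 i)) (Nat.ble 495 i)) (Nat.ble 493 i)) (Nat.ble 489 i)) (Nat.ble 481 i)) (Bool.rec (Bool.rec (Bool.rec (Bool.rec (Bool.rec f498 f499 (Nat.ble 499 i)) (Bool.rec f500 f501 (Nat.ble 501 i)) (Nat.ble 500 i)) (Bool.rec (Bool.rec f502 f503 (Nat.ble 503 i)) (Bool.rec f504 f505 (Nat.ble 505 i)) (Nat.ble 504 i)) (Nat.ble 502 i)) (Bool.rec (Bool.rec (Bool.rec f506 f507 (Nat.ble 507 i)) (Bool.rec f508 f509 (Nat.ble 509 i)) (Nat.ble 508 i)) (Bool.rec (Bool.rec f510 f511 (Nat.ble 511 i)) (Bool.rec f512 (Bool.rec f513 f514 (Nat.ble 514 i)) (Nat.ble 513 i)) (Nat.ble 512 i)) (Nat.ble 510 i)) (Nat.ble 506 i)) (Bool.rec (Bool.rec (Bool.rec (Bool.rec f515 f516 (Nat.ble 516 i)) (Bool.rec f517 f518 (Nat.ble 518 i)) (Nat.ble 517 i)) (Bool.rec (Bool.rec f519 f520 (Nat.ble 520 i)) (Bool.rec f521 f522 (Nat.ble 522 i)) (Nat.ble 521 i)) (Nat.ble 519 i)) (Bool.rec (Bool.rec (Bool.rec f523 f524 (Nat.ble 524 i)) (Bool.rec f525 f526 (Nat.ble 526 i)) (Nat.ble 525 i)) (Bool.rec (Bool.rec f527 f528 (Nat.ble 528 i)) (Bool.rec f529 (Bool.rec f530 f531 (Nat.ble 531 i)) (Nat.ble 530 i)) (Nat.ble 529 i)) (Nat.ble 527 i)) (Nat.ble 523 i)) (Nat.ble 515 i)) (Nat.ble 498 i)) (Nat.ble 465 i)) (Nat.ble 399 i)) (Nat.ble 266 i)) (Bool.rec (Bool.rec (Bool.rec (Bool.rec (Bool.rec (Bool.rec (Bool.rec (Bool.rec (Bool.rec f532 f533 (Nat.ble 533 i)) (Bool.rec f534 f535 (Nat.ble 535 i)) (Nat.ble 534 i)) (Bool.rec (Bool.rec f536 f537 (Nat.ble 537 i)) (Bool.rec f538 f539 (Nat.ble 539 i)) (Nat.ble 538 i)) (Nat.ble 536 i)) (Bool.rec (Bool.rec (Bool.rec f540 f541 (Nat.ble 541 i)) (Bool.rec f542 f543 (Nat.ble 543 i)) (Nat.ble 542 i)) (Bool.rec (Bool.rec f544 f545 (Nat.ble 545 i)) (Bool.rec f546 f547 (Nat.ble 547 i)) (Nat.ble 546 i)) (Nat.ble 544 i)) (Nat.ble 540 i)) (Bool.rec (Bool.rec (Bool.rec (Bool.rec f548 f549 (Nat.ble 549 i)) (Bool.rec f550 f551 (Nat.ble 551 i)) (Nat.ble 550 i)) (Bool.rec (Bool.rec f552 f553 (Nat.ble 553 i)) (Bool.rec f554 f555 (Nat.ble 555 i)) (Nat.ble 554 i)) (Nat.ble 552 i)) (Bool.rec (Bool.rec (Bool.rec f556 f557 (Nat.ble 557 i)) (Bool.rec f558 f559 (Nat.ble 559 i)) (Nat.ble 558 i)) (Bool.rec (Bool.rec f560 f561 (Nat.ble 561 i)) (Bool.rec f562 (Bool.rec f563 f564 (Nat.ble 564 i)) (Nat.ble 563 i)) (Nat.ble 562 i)) (Nat.ble 560 i)) (Nat.ble 556 i)) (Nat.ble 548 i)) (Bool.rec (Bool.rec (Bool.rec (Bool.rec (Bool.rec f565 f566 (Nat.ble 566 i)) (Bool.rec f567 f568 (Nat.ble 568 i)) (Nat.ble 567 i)) (Bool.rec (Bool.rec f569 f570 (Nat.ble 570 i)) (Bool.rec f571 f572 (Nat.ble 572 i)) (Nat.ble 571 i)) (Nat.ble 569 i)) (Bool.rec (Bool.rec (Bool.rec f573 f574 (Nat.ble 574 i)) (Bool.rec f575 f576 (Nat.ble 576 i)) (Nat.ble 575 i)) (Bool.rec (Bool.rec f577 f578 (Nat.ble 578 i)) (Bool.rec f579 f580 (Nat.ble 580 i)) (Nat.ble 579 i)) (Nat.ble 577 i)) (Nat.ble 573 i)) (Bool.rec (Bool.rec (Bool.rec (Bool.rec f581 f582 (Nat.ble 582 i)) (Bool.rec f583 f584 (Nat.ble 584 i)) (Nat.ble 583 i)) (Bool.rec (Bool.rec f585 f586 (Nat.ble 586 i)) (Bool.rec f587 f588 (Nat.ble 588 i)) (Nat.ble 587 i)) (Nat.ble 585 i)) (Bool.rec (Bool.rec (Bool.rec f589 f590 (Nat.ble 590 i)) (Bool.rec f591 f592 (Nat.ble 592 i)) (Nat.ble 591 i)) (Bool.rec (Bool.rec f593 f594 (Nat.ble 594 i)) (Bool.rec f595 (Bool.rec f596 f597 (Nat.ble 597 i)) (Nat.ble 596 i)) (Nat.ble 595 i)) (Nat.ble 593 i)) (Nat.ble 589 i)) (Nat.ble 581 i)) (Nat.ble 565 i)) (Bool.rec (Bool.rec (Bool.rec (Bool.rec (Bool.rec (Bool.rec f598 f599 (Nat.ble 599 i)) (Bool.rec f600 f601 (Nat.ble 601 i)) (Nat.ble 600 i)) (Bool.rec (Bool.rec f602 f603 (Nat.ble 603 i)) (Bool.rec f604 f605 (Nat.ble 605 i)) (Nat.ble 604 i)) (Nat.ble 602 i)) (Bool.rec (Bool.rec (Bool.rec f606 f607 (Nat.ble 607 i)) (Bool.rec f608 f609 (Nat.ble 609 i)) (Nat.ble 608 i)) (Bool.rec (Bool.rec f610 f611 (Nat.ble 611 i)) (Bool.rec f612 f613 (Nat.ble 613 i)) (Nat.ble 612 i)) (Nat.ble 610 i)) (Nat.ble 606 i)) (Bool.rec (Bool.rec (Bool.rec (Bool.rec f614 f615 (Nat.ble 615 i)) (Bool.rec f616 f617 (Nat.ble 617 i)) (Nat.ble 616 i)) (Bool.rec (Bool.rec f618 f619 (Nat.ble 619 i)) (Bool.rec f620 f621 (Nat.ble 621 i)) (Nat.ble 620 i)) (Nat.ble 618 i)) (Bool.rec (Bool.rec (Bool.rec f622 f623 (Nat.ble 623 i)) (Bool.rec f624 f625 (Nat.ble 625 i)) (Nat.ble 624 i)) (Bool.rec (Bool.rec f626 f627 (Nat.ble 627 i)) (Bool.rec f628 (Bool.rec f629 f630 (Nat.ble 630 i)) (Nat.ble 629 i)) (Nat.ble 628 i)) (Nat.ble 626 i)) (Nat.ble 622 i)) (Nat.ble 614 i)) (Bool.rec (Bool.rec (Bool.rec (Bool.rec (Bool.rec f631 f632 (Nat.ble 632 i)) (Bool.rec f633 f634 (Nat.ble 634 i)) (Nat.ble 633 i)) (Bool.rec (Bool.rec f635 f636 (Nat.ble 636 i)) (Bool.rec f637 f638 (Nat.ble 638 i)) (Nat.ble 637 i)) (Nat.ble 635 i)) (Bool.rec (Bool.rec (Bool.rec f639 f640 (Nat.ble 640 i)) (Bool.rec f641 f642 (Nat.ble 642 i)) (Nat.ble 641 i)) (Bool.rec (Bool.rec f643 f644 (Nat.ble 644 i)) (Bool.rec f645 (Bool.rec f646 f647 (Nat.ble 647 i)) (Nat.ble 646 i)) (Nat.ble 645 i)) (Nat.ble 643 i)) (Nat.ble 639 i)) (Bool.rec (Bool.rec (Bool.rec (Bool.rec f648 f649 (Nat.ble 649 i)) (Bool.rec f650 f651 (Nat.ble 651 i)) (Nat.ble 650 i)) (Bool.rec (Bool.rec f652 f653 (Nat.ble 653 i)) (Bool.rec f654 f655 (Nat.ble 655 i)) (Nat.ble 654 i)) (Nat.ble 652 i)) (Bool.rec (Bool.rec (Bool.rec f656 f657 (Nat.ble 657 i)) (Bool.rec f658 f659 (Nat.ble 659 i)) (Nat.ble 658 i)) (Bool.rec (Bool.rec f660 f661 (Nat.ble 661 i)) (Bool.rec f662 (Bool.rec f663 f664 (Nat.ble 664 i)) (Nat.ble 663 i)) (Nat.ble 662 i)) (Nat.ble 660 i)) (Nat.ble 656 i)) (Nat.ble 648 i)) (Nat.ble 631 i)) (Nat.ble 598 i)) (Bool.rec (Bool.rec (Bool.rec (Bool.rec (Bool.rec (Bool.rec (Bool.rec f665 f666 (Nat.ble 666 i)) (Bool.rec f667 f668 (Nat.ble 668 i)) (Nat.ble 667 i)) (Bool.rec (Bool.rec f669 f670 (Nat.ble 670 i)) (Bool.rec f671 f672 (Nat.ble 672 i)) (Nat.ble 671 i)) (Nat.ble 669 i)) (Bool.rec (Bool.rec (Bool.rec f673 f674 (Nat.ble 674 i)) (Bool.rec f675 f676 (Nat.ble 676 i)) (Nat.ble 675 i)) (Bool.rec (Bool.rec f677 f678 (Nat.ble 678 i)) (Bool.rec f679 f680 (Nat.ble 680 i)) (Nat.ble 679 i)) (Nat.ble 677 i)) (Nat.ble 673 i)) (Bool.rec (Bool.rec (Bool.rec (Bool.rec f681 f682 (Nat.ble 682 i)) (Bool.rec f683 f684 (Nat.ble 684 i)) (Nat.ble 683 i)) (Bool.rec (Bool.rec f685 f686 (Nat.ble 686 i)) (Bool.rec f687 f688 (Nat.ble 688 i)) (Nat.ble 687 i)) (Nat.ble 685 i)) (Bool.rec (Bool.rec (Bool.rec f689 f690 (Nat.ble 690 i)) (Bool.rec f691 f692 (Nat.ble 692 i)) (Nat.ble 691 i)) (Bool.rec (Bool.rec f693 f694 (Nat.ble 694 i)) (Bool.rec f695 (Bool.rec f696 f697 (Nat.ble 697 i)) (Nat.ble 696 i)) (Nat.ble 695 i)) (Nat.ble 693 i)) (Nat.ble 689 i)) (Nat.ble 681 i)) (Bool.rec (Bool.rec (Bool.rec (Bool.rec (Bool.rec f698 f699 (Nat.ble 699 i)) (Bool.rec f700 f701 (Nat.ble 701 i)) (Nat.ble 700 i)) (Bool.rec (Bool.rec f702 f703 (Nat.ble 703 i)) (Bool.rec f704 f705 (Nat.ble 705 i)) (Nat.ble 704 i)) (Nat.ble 702 i)) (Bool.rec (Bool.rec (Bool.rec f706 f707 (Nat.ble 707 i)) (Bool.rec f708 f709 (Nat.ble 709 i)) (Nat.ble 708 i)) (Bool.rec (Bool.rec f710 f711 (Nat.ble 711 i)) (Bool.rec f712 f713 (Nat.ble 713 i)) (Nat.ble 712 i)) (Nat.ble 710 i)) (Nat.ble 706 i)) (Bool.rec (Bool.rec (Bool.rec (Bool.rec f714 f715 (Nat.ble 715 i)) (Bool.rec f716 f717 (Nat.ble 717 i)) (Nat.ble 716 i)) (Bool.rec (Bool.rec f718 f719 (Nat.ble 719 i)) (Bool.rec f720 f721 (Nat.ble 721 i)) (Nat.ble 720 i)) (Nat.ble 718 i)) (Bool.rec (Bool.rec (Bool.rec f722 f723 (Nat.ble 723 i)) (Bool.rec f724 f725 (Nat.ble 725 i)) (Nat.ble 724 i)) (Bool.rec (Bool.rec f726 f727 (Nat.ble 727 i)) (Bool.rec f728 (Bool.rec f729 f730 (Nat.ble 730 i)) (Nat.ble 729 i)) (Nat.ble 728 i)) (Nat.ble 726 i)) (Nat.ble 722 i)) (Nat.ble 714 i)) (Nat.ble 698 i)) (Bool.rec (Bool.rec (Bool.rec (Bool.rec (Bool.rec (Bool.rec f731 f732 (Nat.ble 732 i)) (Bool.rec f733 f734 (Nat.ble 734 i)) (Nat.ble 733 i)) (Bool.rec (Bool.rec f735 f736 (Nat.ble 736 i)) (Bool.rec f737 f738 (Nat.ble 738 i)) (Nat.ble 737 i)) (Nat.ble 735 i)) (Bool.rec (Bool.rec (Bool.rec f739 f740 (Nat.ble 740 i)) (Bool.rec f741 f742 (Nat.ble 742 i)) (Nat.ble 741 i)) (Bool.rec (Bool.rec f743 f744 (Nat.ble 744 i)) (Bool.rec f745 f746 (Nat.ble 746 i)) (Nat.ble 745 i)) (Nat.ble 743 i)) (Nat.ble 739 i)) (Bool.rec (Bool.rec (Bool.rec (Bool.rec f747 f748 (Nat.ble 748 i)) (Bool.rec f749 f750 (Nat.ble 750 i)) (Nat.ble 749 i)) (Bool.rec (Bool.rec f751 f752 (Nat.ble 752 i)) (Bool.rec f753 f754 (Nat.ble 754 i)) (Nat.ble 753 i)) (Nat.ble 751 i)) (Bool.rec (Bool.rec (Bool.rec f755 f756 (Nat.ble 756 i)) (Bool.rec f757 f758 (Nat.ble 758 i)) (Nat.ble 757 i)) (Bool.rec (Bool.rec f759 f760 (Nat.ble 760 i)) (Bool.rec f761 (Bool.rec f762 f763 (Nat.ble 763 i)) (Nat.ble 762 i)) (Nat.ble 761 i)) (Nat.ble 759 i)) (Nat.ble 755 i)) (Nat.ble 747 i)) (Bool.rec (Bool.rec (Bool.rec (Bool.rec (Bool.rec f764 f765 (Nat.ble 765 i)) (Bool.rec f766 f767 (Nat.ble 767 i)) (Nat.ble 766 i)) (Bool.rec (Bool.rec f768 f769 (Nat.ble 769 i)) (Bool.rec f770 f771 (Nat.ble 771 i)) (Nat.ble 770 i)) (Nat.ble 768 i)) (Bool.rec (Bool.rec (Bool.rec f772 f773 (Nat.ble 773 i)) (Bool.rec f774 f775 (Nat.ble 775 i)) (Nat.ble 774 i)) (Bool.rec (Bool.rec f776 f777 (Nat.ble 777 i)) (Bool.rec f778 (Bool.rec f779 f780 (Nat.ble 780 i)) (Nat.ble 779 i)) (Nat.ble 778 i)) (Nat.ble 776 i)) (Nat.ble 772 i)) (Bool.rec (Bool.rec (Bool.rec (Bool.rec f781 f782 (Nat.ble 782 i)) (Bool.rec f783 f784 (Nat.ble 784 i)) (Nat.ble 783 i)) (Bool.rec (Bool.rec f785 f786 (Nat.ble 786 i)) (Bool.rec f787 f788 (Nat.ble 788 i)) (Nat.ble 787 i)) (Nat.ble 785 i)) (Bool.rec (Bool.rec (Bool.rec f789 f790 (Nat.ble 790 i)) (Bool.rec f791 f792 (Nat.ble 792 i)) (Nat.ble 791 i)) (Bool.rec (Bool.rec f793 f794 (Nat.ble 794 i)) (Bool.rec f795 (Bool.rec f796 f797 (Nat.ble 797 i)) (Nat.ble 796 i)) (Nat.ble 795 i)) (Nat.ble 793 i)) (Nat.ble 789 i)) (Nat.ble 781 i)) (Nat.ble 764 i)) (Nat.ble 731 i)) (Nat.ble 665 i)) (Bool.rec (Bool.rec (Bool.rec (Bool.rec (Bool.rec (Bool.rec (Bool.rec (Bool.rec f798 f799 (Nat.ble 799 i)) (Bool.rec f800 f801 (Nat.ble 801 i)) (Nat.ble 800 i)) (Bool.rec (Bool.rec f802 f803 (Nat.ble 803 i)) (Bool.rec f804 f805 (Nat.ble 805 i)) (Nat.ble 804 i)) (Nat.ble 802 i)) (Bool.rec (Bool.rec (Bool.rec f806 f807 (Nat.ble 807 i)) (Bool.rec f808 f809 (Nat.ble 809 i)) (Nat.ble 808 i)) (Bool.rec (Bool.rec f810 f811 (Nat.ble 811 i)) (Bool.rec f812 f813 (Nat.ble 813 i)) (Nat.ble 812 i)) (Nat.ble 810 i)) (Nat.ble 806 i)) (Bool.rec (Bool.rec (Bool.rec (Bool.rec f814 f815 (Nat.ble 815 i)) (Bool.rec f816 f817 (Nat.ble 817 i)) (Nat.ble 816 i)) (Bool.rec (Bool.rec f818 f819 (Nat.ble 819 i)) (Bool.rec f820 f821 (Nat.ble 821 i)) (Nat.ble 820 i)) (Nat.ble 818 i)) (Bool.rec (Bool.rec (Bool.rec f822 f823 (Nat.ble 823 i)) (Bool.rec f824 f825 (Nat.ble 825 i)) (Nat.ble 824 i)) (Bool.rec (Bool.rec f826 f827 (Nat.ble 827 i)) (Bool.rec f828 (Bool.rec f829 f830 (Nat.ble 830 i)) (Nat.ble 829 i)) (Nat.ble 828 i)) (Nat.ble 826 i)) (Nat.ble 822 i)) (Nat.ble 814 i)) (Bool.rec (Bool.rec (Bool.rec (Bool.rec (Bool.rec f831 f832 (Nat.ble 832 i)) (Bool.rec f833 f834 (Nat.ble 834 i)) (Nat.ble 833 i)) (Bool.rec (Bool.rec f835 f836 (Nat.ble 836 i)) (Bool.rec f837 f838 (Nat.ble 838 i)) (Nat.ble 837 i)) (Nat.ble 835 i)) (Bool.rec (Bool.rec (Bool.rec f839 f840 (Nat.ble 840 i)) (Bool.rec f841 f842 (Nat.ble 842 i)) (Nat.ble 841 i)) (Bool.rec (Bool.rec f843 f844 (Nat.ble 844 i)) (Bool.rec f845 f846 (Nat.ble 846 i)) (Nat.ble 845 i)) (Nat.ble 843 i)) (Nat.ble 839 i)) (Bool.rec (Bool.rec (Bool.rec (Bool.rec f847 f848 (Nat.ble 848 i)) (Bool.rec f849 f850 (Nat.ble 850 i)) (Nat.ble 849 i)) (Bool.rec (Bool.rec f851 f852 (Nat.ble 852 i)) (Bool.rec f853 f854 (Nat.ble 854 i)) (Nat.ble 853 i)) (Nat.ble 851 i)) (Bool.rec (Bool.rec (Bool.rec f855 f856 (Nat.ble 856 i)) (Bool.rec f857 f858 (Nat.ble 858 i)) (Nat.ble 857 i)) (Bool.rec (Bool.rec f859 f860 (Nat.ble 860 i)) (Bool.rec f861 (Bool.rec f862 f863 (Nat.ble 863 i)) (Nat.ble 862 i)) (Nat.ble 861 i)) (Nat.ble 859 i)) (Nat.ble 855 i)) (Nat.ble 847 i)) (Nat.ble 831 i)) (Bool.rec (Bool.rec (Bool.rec (Bool.rec (Bool.rec (Bool.rec f864 f865 (Nat.ble 865 i)) (Bool.rec f866 f867 (Nat.ble 867 i)) (Nat.ble 866 i)) (Bool.rec (Bool.rec f868 f869 (Nat.ble 869 i)) (Bool.rec f870 f871 (Nat.ble 871 i)) (Nat.ble 870 i)) (Nat.ble 868 i)) (Bool.rec (Bool.rec (Bool.rec f872 f873 (Nat.ble 873 i)) (Bool.rec f874 f875 (Nat.ble 875 i)) (Nat.ble 874 i)) (Bool.rec (Bool.rec f876 f877 (Nat.ble 877 i)) (Bool.rec f878 f879 (Nat.ble 879 i)) (Nat.ble 878 i)) (Nat.ble 876 i)) (Nat.ble 872 i)) (Bool.rec (Bool.rec (Bool.rec (Bool.rec f880 f881 (Nat.ble 881 i)) (Bool.rec f882 f883 (Nat.ble 883 i)) (Nat.ble 882 i)) (Bool.rec (Bool.rec f884 f885 (Nat.ble 885 i)) (Bool.rec f886 f887 (Nat.ble 887 i)) (Nat.ble 886 i)) (Nat.ble 884 i)) (Bool.rec (Bool.rec (Bool.rec f888 f889 (Nat.ble 889 i)) (Bool.rec f890 f891 (Nat.ble 891 i)) (Nat.ble 890 i)) (Bool.rec (Bool.rec f892 f893 (Nat.ble 893 i)) (Bool.rec f894 (Bool.rec f895 f896 (Nat.ble 896 i)) (Nat.ble 895 i)) (Nat.ble 894 i)) (Nat.ble 892 i)) (Nat.ble 888 i)) (Nat.ble 880 i)) (Bool.rec (Bool.rec (Bool.rec (Bool.rec (Bool.rec f897 f898 (Nat.ble 898 i)) (Bool.rec f899 f900 (Nat.ble 900 i)) (Nat.ble 899 i)) (Bool.rec (Bool.rec f901 f902 (Nat.ble 902 i)) (Bool.rec f903 f904 (Nat.ble 904 i)) (Nat.ble 903 i)) (Nat.ble 901 i)) (Bool.rec (Bool.rec (Bool.rec f905 f906 (Nat.ble 906 i)) (Bool.rec f907 f908 (Nat.ble 908 i)) (Nat.ble 907 i)) (Bool.rec (Bool.rec f909 f910 (Nat.ble 910 i)) (Bool.rec f911 (Bool.rec f912 f913 (Nat.ble 913 i)) (Nat.ble 912 i)) (Nat.ble 911 i)) (Nat.ble 909 i)) (Nat.ble 905 i)) (Bool.rec (Bool.rec (Bool.rec (Bool.rec f914 f915 (Nat.ble 915 i)) (Bool.rec f916 f917 (Nat.ble 917 i)) (Nat.ble 916 i)) (Bool.rec (Bool.rec f918 f919 (Nat.ble 919 i)) (Bool.rec f920 f921 (Nat.ble 921 i)) (Nat.ble 920 i)) (Nat.ble 918 i)) (Bool.rec (Bool.rec (Bool.rec f922 f923 (Nat.ble 923 i)) (Bool.rec f924 f925 (Nat.ble 925 i)) (Nat.ble 924 i)) (Bool.rec (Bool.rec f926 f927 (Nat.ble 927 i)) (Bool.rec f928 (Bool.rec f929 f930 (Nat.ble 930 i)) (Nat.ble 929 i)) (Nat.ble 928 i)) (Nat.ble 926 i)) (Nat.ble 922 i)) (Nat.ble 914 i)) (Nat.ble 897 i)) (Nat.ble 864 i)) (Bool.rec (Bool.rec (Bool.rec (Bool.rec (Bool.rec (Bool.rec (Bool.rec f931 f932 (Nat.ble 932 i)) (Bool.rec f933 f934 (Nat.ble 934 i)) (Nat.ble 933 i)) (Bool.rec (Bool.rec f935 f936 (Nat.ble 936 i)) (Bool.rec f937 f938 (Nat.ble 938 i)) (Nat.ble 937 i)) (Nat.ble 935 i)) (Bool.rec (Bool.rec (Bool.rec f939 f940 (Nat.ble 940 i)) (Bool.rec f941 f942 (Nat.ble 942 i)) (Nat.ble 941 i)) (Bool.rec (Bool.rec f943 f944 (Nat.ble 944 i)) (Bool.rec f945 f946 (Nat.ble 946 i)) (Nat.ble 945 i)) (Nat.ble 943 i)) (Nat.ble 939 i)) (Bool.rec (Bool.rec (Bool.rec (Bool.rec f947 f948 (Nat.ble 948 i)) (Bool.rec f949 f950 (Nat.ble 950 i)) (Nat.ble 949 i)) (Bool.rec (Bool.rec f951 f952 (Nat.ble 952 i)) (Bool.rec f953 f954 (Nat.ble 954 i)) (Nat.ble 953 i)) (Nat.ble 951 i)) (Bool.rec (Bool.rec (Bool.rec f955 f956 (Nat.ble 956 i)) (Bool.rec f957 f958 (Nat.ble 958 i)) (Nat.ble 957 i)) (Bool.rec (Bool.rec f959 f960 (Nat.ble 960 i)) (Bool.rec f961 (Bool.rec f962 f963 (Nat.ble 963 i)) (Nat.ble 962 i)) (Nat.ble 961 i)) (Nat.ble 959 i)) (Nat.ble 955 i)) (Nat.ble 947 i)) (Bool.rec (Bool.rec (Bool.rec (Bool.rec (Bool.rec f964 f965 (Nat.ble 965 i)) (Bool.rec f966 f967 (Nat.ble 967 i)) (Nat.ble 966 i)) (Bool.rec (Bool.rec f968 f969 (Nat.ble 969 i)) (Bool.rec f970 f971 (Nat.ble 971 i)) (Nat.ble 970 i)) (Nat.ble 968 i)) (Bool.rec (Bool.rec (Bool.rec f972 f973 (Nat.ble 973 i)) (Bool.rec f974 f975 (Nat.ble 975 i)) (Nat.ble 974 i)) (Bool.rec (Bool.rec f976 f977 (Nat.ble 977 i)) (Bool.rec f978 f979 (Nat.ble 979 i)) (Nat.ble 978 i)) (Nat.ble 976 i)) (Nat.ble 972 i)) (Bool.rec (Bool.rec (Bool.rec (Bool.rec f980 f981 (Nat.ble 981 i)) (Bool.rec f982 f983 (Nat.ble 983 i)) (Nat.ble 982 i)) (Bool.rec (Bool.rec f984 f985 (Nat.ble 985 i)) (Bool.rec f986 f987 (Nat.ble 987 i)) (Nat.ble 986 i)) (Nat.ble 984 i)) (Bool.rec (Bool.rec (Bool.rec f988 f989 (Nat.ble 989 i)) (Bool.rec f990 f991 (Nat.ble 991 i)) (Nat.ble 990 i)) (Bool.rec (Bool.rec f992 f993 (Nat.ble 993 i)) (Bool.rec f994 (Bool.rec f995 f996 (Nat.ble 996 i)) (Nat.ble 995 i)) (Nat.ble 994 i)) (Nat.ble 992 i)) (Nat.ble 988 i)) (Nat.ble 980 i)) (Nat.ble 964 i)) (Bool.rec (Bool.rec (Bool.rec (Bool.rec (Bool.rec (Bool.rec f997 f998 (Nat.ble 998 i)) (Bool.rec f999 f1000 (Nat.ble 1000 i)) (Nat.ble 999 i)) (Bool.rec (Bool.rec f1001 f1002 (Nat.ble 1002 i)) (Bool.rec f1003 f1004 (Nat.ble 1004 i)) (Nat.ble 1003 i)) (Nat.ble 1001 i)) (Bool.rec (Bool.rec (Bool.rec f1005 f1006 (Nat.ble 1006 i)) (Bool.rec f1007 f1008 (Nat.ble 1008 i)) (Nat.ble 1007 i)) (Bool.rec (Bool.rec f1009 f1010 (Nat.ble 1010 i)) (Bool.rec f1011 f1012 (Nat.ble 1012 i)) (Nat.ble 1011 i)) (Nat.ble 1009 i)) (Nat.ble 1005 i)) (Bool.rec (Bool.rec (Bool.rec (Bool.rec f1013 f1014 (Nat.ble 1014 i)) (Bool.rec f1015 f1016 (Nat.ble 1016 i)) (Nat.ble 1015 i)) (Bool.rec (Bool.rec f1017 f1018 (Nat.ble 1018 i)) (Bool.rec f1019 f1020 (Nat.ble 1020 i)) (Nat.ble 1019 i)) (Nat.ble 1017 i)) (Bool.rec (Bool.rec (Bool.rec f1021 f1022 (Nat.ble 1022 i)) (Bool.rec f1023 f1024 (Nat.ble 1024 i)) (Nat.ble 1023 i)) (Bool.rec (Bool.rec f1025 f1026 (Nat.ble 1026 i)) (Bool.rec f1027 (Bool.rec f1028 f1029 (Nat.ble 1029 i)) (Nat.ble 1028 i)) (Nat.ble 1027 i)) (Nat.ble 1025 i)) (Nat.ble 1021 i)) (Nat.ble 1013 i)) (Bool.rec (Bool.rec (Bool.rec (Bool.rec (Bool.rec f1030 f1031 (Nat.ble 1031 i)) (Bool.rec f1032 f1033 (Nat.ble 1033 i)) (Nat.ble 1032 i)) (Bool.rec (Bool.rec f1034 f1035 (Nat.ble 1035 i)) (Bool.rec f1036 f1037 (Nat.ble 1037 i)) (Nat.ble 1036 i)) (Nat.ble 1034 i)) (Bool.rec (Bool.rec (Bool.rec f1038 f1039 (Nat.ble 1039 i)) (Bool.rec f1040 f1041 (Nat.ble 1041 i)) (Nat.ble 1040 i)) (Bool.rec (Bool.rec f1042 f1043 (Nat.ble 1043 i)) (Bool.rec f1044 (Bool.rec f1045 f1046 (Nat.ble 1046 i)) (Nat.ble 1045 i)) (Nat.ble 1044 i)) (Nat.ble 1042 i)) (Nat.ble 1038 i)) (Bool.rec (Bool.rec (Bool.rec (Bool.rec f1047 f1048 (Nat.ble 1048 i)) (Bool.rec f1049 f1050 (Nat.ble 1050 i)) (Nat.ble 1049 i)) (Bool.rec (Bool.rec f1051 f1052 (Nat.ble 1052 i)) (Bool.rec f1053 f1054 (Nat.ble 1054 i)) (Nat.ble 1053 i)) (Nat.ble 1051 i)) (Bool.rec (Bool.rec (Bool.rec f1055 f1056 (Nat.ble 1056 i)) (Bool.rec f1057 f1058 (Nat.ble 1058 i)) (Nat.ble 1057 i)) (Bool.rec (Bool.rec f1059 f1060 (Nat.ble 1060 i)) (Bool.rec f1061 (Bool.rec f1062 f1063 (Nat.ble 1063 i)) (Nat.ble 1062 i)) (Nat.ble 1061 i)) (Nat.ble 1059 i)) (Nat.ble 1055 i)) (Nat.ble 1047 i)) (Nat.ble 1030 i)) (Nat.ble 997 i)) (Nat.ble 931 i)) (Nat.ble 798 i)) (Nat.ble 532 i)) (Bool.rec (Bool.rec (Bool.rec (Bool.rec (Bool.rec (Bool.rec (Bool.rec (Bool.rec (Bool.rec (Bool.rec f1064 f1065 (Nat.ble 1065 i)) (Bool.rec f1066 f1067 (Nat.ble 1067 i)) (Nat.ble 1066 i)) (Bool.rec (Bool.rec f1068 f1069 (Nat.ble 1069 i)) (Bool.rec f1070 f1071 (Nat.ble 1071 i)) (Nat.ble 1070 i)) (Nat.ble 1068 i)) (Bool.rec (Bool.rec (Bool.rec f1072 f1073 (Nat.ble 1073 i)) (Bool.rec f1074 f1075 (Nat.ble 1075 i)) (Nat.ble 1074 i)) (Bool.rec (Bool.rec f1076 f1077 (Nat.ble 1077 i)) (Bool.rec f1078 f1079 (Nat.ble 1079 i)) (Nat.ble 1078 i)) (Nat.ble 1076 i)) (Nat.ble 1072 i)) (Bool.rec (Bool.rec (Bool.rec (Bool.rec f1080 f1081 (Nat.ble 1081 i)) (Bool.rec f1082 f1083 (Nat.ble 1083 i)) (Nat.ble 1082 i)) (Bool.rec (Bool.rec f1084 f1085 (Nat.ble 1085 i)) (Bool.rec f1086 f1087 (Nat.ble 1087 i)) (Nat.ble 1086 i)) (Nat.ble 1084 i)) (Bool.rec (Bool.rec (Bool.rec f1088 f1089 (Nat.ble 1089 i)) (Bool.rec f1090 f1091 (Nat.ble 1091 i)) (Nat.ble 1090 i)) (Bool.rec (Bool.rec f1092 f1093 (Nat.ble 1093 i)) (Bool.rec f1094 (Bool.rec f1095 f1096 (Nat.ble 1096 i)) (Nat.ble 1095 i)) (Nat.ble 1094 i)) (Nat.ble 1092 i)) (Nat.ble 1088 i)) (Nat.ble 1080 i)) (Bool.rec (Bool.rec (Bool.rec (Bool.rec (Bool.rec f1097 f1098 (Nat.ble 1098 i)) (Bool.rec f1099 f1100 (Nat.ble 1100 i)) (Nat.ble 1099 i)) (Bool.rec (Bool.rec f1101 f1102 (Nat.ble 1102 i)) (Bool.rec f1103 f1104 (Nat.ble 1104 i)) (Nat.ble 1103 i)) (Nat.ble 1101 i)) (Bool.rec (Bool.rec (Bool.rec f1105 f1106 (Nat.ble 1106 i)) (Bool.rec f1107 f1108 (Nat.ble 1108 i)) (Nat.ble 1107 i)) (Bool.rec (Bool.rec f1109 f1110 (Nat.ble 1110 i)) (Bool.rec f1111 f1112 (Nat.ble 1112 i)) (Nat.ble 1111 i)) (Nat.ble 1109 i)) (Nat.ble 1105 i)) (Bool.rec (Bool.rec (Bool.rec (Bool.rec f1113 f1114 (Nat.ble 1114 i)) (Bool.rec f1115 f1116 (Nat.ble 1116 i)) (Nat.ble 1115 i)) (Bool.rec (Bool.rec f1117 f1118 (Nat.ble 1118 i)) (Bool.rec f1119 f1120 (Nat.ble 1120 i)) (Nat.ble 1119 i)) (Nat.ble 1117 i)) (Bool.rec (Bool.rec (Bool.rec f1121 f1122 (Nat.ble 1122 i)) (Bool.rec f1123 f1124 (Nat.ble 1124 i)) (Nat.ble 1123 i)) (Bool.rec (Bool.rec f1125 f1126 (Nat.ble 1126 i)) (Bool.rec f1127 (Bool.rec f1128 f1129 (Nat.ble 1129 i)) (Nat.ble 1128 i)) (Nat.ble 1127 i)) (Nat.ble 1125 i)) (Nat.ble 1121 i)) (Nat.ble 1113 i)) (Nat.ble 1097 i)) (Bool.rec (Bool.rec (Bool.rec (Bool.rec (Bool.rec (Bool.rec f1130 f1131 (Nat.ble 1131 i)) (Bool.rec f1132 f1133 (Nat.ble 1133 i)) (Nat.ble 1132 i)) (Bool.rec (Bool.rec f1134 f1135 (Nat.ble 1135 i)) (Bool.rec f1136 f1137 (Nat.ble 1137 i)) (Nat.ble 1136 i)) (Nat.ble 1134 i)) (Bool.rec (Bool.rec (Bool.rec f1138 f1139 (Nat.ble 1139 i)) (Bool.rec f1140 f1141 (Nat.ble 1141 i)) (Nat.ble 1140 i)) (Bool.rec (Bool.rec f1142 f1143 (Nat.ble 1143 i)) (Bool.rec f1144 f1145 (Nat.ble 1145 i)) (Nat.ble 1144 i)) (Nat.ble 1142 i)) (Nat.ble 1138 i)) (Bool.rec (Bool.rec (Bool.rec (Bool.rec f1146 f1147 (Nat.ble 1147 i)) (Bool.rec f1148 f1149 (Nat.ble 1149 i)) (Nat.ble 1148 i)) (Bool.rec (Bool.rec f1150 f1151 (Nat.ble 1151 i)) (Bool.rec f1152 f1153 (Nat.ble 1153 i)) (Nat.ble 1152 i)) (Nat.ble 1150 i)) (Bool.rec (Bool.rec (Bool.rec f1154 f1155 (Nat.ble 1155 i)) (Bool.rec f1156 f1157 (Nat.ble 1157 i)) (Nat.ble 1156 i)) (Bool.rec (Bool.rec f1158 f1159 (Nat.ble 1159 i)) (Bool.rec f1160 (Bool.rec f1161 f1162 (Nat.ble 1162 i)) (Nat.ble 1161 i)) (Nat.ble 1160 i)) (Nat.ble 1158 i)) (Nat.ble 1154 i)) (Nat.ble 1146 i)) (Bool.rec (Bool.rec (Bool.rec (Bool.rec (Bool.rec f1163 f1164 (Nat.ble 1164 i)) (Bool.rec f1165 f1166 (Nat.ble 1166 i)) (Nat.ble 1165 i)) (Bool.rec (Bool.rec f1167 f1168 (Nat.ble 1168 i)) (Bool.rec f1169 f1170 (Nat.ble 1170 i)) (Nat.ble 1169 i)) (Nat.ble 1167 i)) (Bool.rec (Bool.rec (Bool.rec f1171 f1172 (Nat.ble 1172 i)) (Bool.rec f1173 f1174 (Nat.ble 1174 i)) (Nat.ble 1173 i)) (Bool.rec (Bool.rec f1175 f1176 (Nat.ble 1176 i)) (Bool.rec f1177 (Bool.rec f1178 f1179 (Nat.ble 1179 i)) (Nat.ble 1178 i)) (Nat.ble 1177 i)) (Nat.ble 1175 i)) (Nat.ble 1171 i)) (Bool.rec (Bool.rec (Bool.rec (Bool.rec f1180 f1181 (Nat.ble 1181 i)) (Bool.rec f1182 f1183 (Nat.ble 1183 i)) (Nat.ble 1182 i)) (Bool.rec (Bool.rec f1184 f1185 (Nat.ble 1185 i)) (Bool.rec f1186 f1187 (Nat.ble 1187 i)) (Nat.ble 1186 i)) (Nat.ble 1184 i)) (Bool.rec (Bool.rec (Bool.rec f1188 f1189 (Nat.ble 1189 i)) (Bool.rec f1190 f1191 (Nat.ble 1191 i)) (Nat.ble 1190 i)) (Bool.rec (Bool.rec f1192 f1193 (Nat.ble 1193 i)) (Bool.rec f1194 (Bool.rec f1195 f1196 (Nat.ble 1196 i)) (Nat.ble 1195 i)) (Nat.ble 1194 i)) (Nat.ble 1192 i)) (Nat.ble 1188 i)) (Nat.ble 1180 i)) (Nat.ble 1163 i)) (Nat.ble 1130 i)) (Bool.rec (Bool.rec (Bool.rec (Bool.rec (Bool.rec (Bool.rec (Bool.rec f1197 f1198 (Nat.ble 1198 i)) (Bool.rec f1199 f1200 (Nat.ble 1200 i)) (Nat.ble 1199 i)) (Bool.rec (Bool.rec f1201 f1202 (Nat.ble 1202 i)) (Bool.rec f1203 f1204 (Nat.ble 1204 i)) (Nat.ble 1203 i)) (Nat.ble 1201 i)) (Bool.rec (Bool.rec (Bool.rec f1205 f1206 (Nat.ble 1206 i)) (Bool.rec f1207 f1208 (Nat.ble 1208 i)) (Nat.ble 1207 i)) (Bool.rec (Bool.rec f1209 f1210 (Nat.ble 1210 i)) (Bool.rec f1211 f1212 (Nat.ble 1212 i)) (Nat.ble 1211 i)) (Nat.ble 1209 i)) (Nat.ble 1205 i)) (Bool.rec (Bool.rec (Bool.rec (Bool.rec f1213 f1214 (Nat.ble 1214 i)) (Bool.rec f1215 f1216 (Nat.ble 1216 i)) (Nat.ble 1215 i)) (Bool.rec (Bool.rec f1217 f1218 (Nat.ble 1218 i)) (Bool.rec f1219 f1220 (Nat.ble 1220 i)) (Nat.ble 1219 i)) (Nat.ble 1217 i)) (Bool.rec (Bool.rec (Bool.rec f1221 f1222 (Nat.ble 1222 i)) (Bool.rec f1223 f1224 (Nat.ble 1224 i)) (Nat.ble 1223 i)) (Bool.rec (Bool.rec f1225 f1226 (Nat.ble 1226 i)) (Bool.rec f1227 (Bool.rec f1228 f1229 (Nat.ble 1229 i)) (Nat.ble 1228 i)) (Nat.ble 1227 i)) (Nat.ble 1225 i)) (Nat.ble 1221 i)) (Nat.ble 1213 i)) (Bool.rec (Bool.rec (Bool.rec (Bool.rec (Bool.rec f1230 f1231 (Nat.ble 1231 i)) (Bool.rec f1232 f1233 (Nat.ble 1233 i)) (Nat.ble 1232 i)) (Bool.rec (Bool.rec f1234 f1235 (Nat.ble 1235 i)) (Bool.rec f1236 f1237 (Nat.ble 1237 i)) (Nat.ble 1236 i)) (Nat.ble 1234 i)) (Bool.rec (Bool.rec (Bool.rec f1238 f1239 (Nat.ble 1239 i)) (Bool.rec f1240 f1241 (Nat.ble 1241 i)) (Nat.ble 1240 i)) (Bool.rec (Bool.rec f1242 f1243 (Nat.ble 1243 i)) (Bool.rec f1244 f1245 (Nat.ble 1245 i)) (Nat.ble 1244 i)) (Nat.ble 1242 i)) (Nat.ble 1238 i)) (Bool.rec (Bool.rec (Bool.rec (Bool.rec f1246 f1247 (Nat.ble 1247 i)) (Bool.rec f1248 f1249 (Nat.ble 1249 i)) (Nat.ble 1248 i)) (Bool.rec (Bool.rec f1250 f1251 (Nat.ble 1251 i)) (Bool.rec f1252 f1253 (Nat.ble 1253 i)) (Nat.ble 1252 i)) (Nat.ble 1250 i)) (Bool.rec (Bool.rec (Bool.rec f1254 f1255 (Nat.ble 1255 i)) (Bool.rec f1256 f1257 (Nat.ble 1257 i)) (Nat.ble 1256 i)) (Bool.rec (Bool.rec f1258 f1259 (Nat.ble 1259 i)) (Bool.rec f1260 (Bool.rec f1261 f1262 (Nat.ble 1262 i)) (Nat.ble 1261 i)) (Nat.ble 1260 i)) (Nat.ble 1258 i)) (Nat.ble 1254 i)) (Nat.ble 1246 i)) (Nat.ble 1230 i)) (Bool.rec (Bool.rec (Bool.rec (Bool.rec (Bool.rec (Bool.rec f1263 f1264 (Nat.ble 1264 i)) (Bool.rec f1265 f1266 (Nat.ble 1266 i)) (Nat.ble 1265 i)) (Bool.rec (Bool.rec f1267 f1268 (Nat.ble 1268 i)) (Bool.rec f1269 f1270 (Nat.ble 1270 i)) (Nat.ble 1269 i)) (Nat.ble 1267 i)) (Bool.rec (Bool.rec (Bool.rec f1271 f1272 (Nat.ble 1272 i)) (Bool.rec f1273 f1274 (Nat.ble 1274 i)) (Nat.ble 1273 i)) (Bool.rec (Bool.rec f1275 f1276 (Nat.ble 1276 i)) (Bool.rec f1277 f1278 (Nat.ble 1278 i)) (Nat.ble 1277 i)) (Nat.ble 1275 i)) (Nat.ble 1271 i)) (Bool.rec (Bool.rec (Bool.rec (Bool.rec f1279 f1280 (Nat.ble 1280 i)) (Bool.rec f1281 f1282 (Nat.ble 1282 i)) (Nat.ble 1281 i)) (Bool.rec (Bool.rec f1283 f1284 (Nat.ble 1284 i)) (Bool.rec f1285 f1286 (Nat.ble 1286 i)) (Nat.ble 1285 i)) (Nat.ble 1283 i)) (Bool.rec (Bool.rec (Bool.rec f1287 f1288 (Nat.ble 1288 i)) (Bool.rec f1289 f1290 (Nat.ble 1290 i)) (Nat.ble 1289 i)) (Bool.rec (Bool.rec f1291 f1292 (Nat.ble 1292 i)) (Bool.rec f1293 (Bool.rec f1294 f1295 (Nat.ble 1295 i)) (Nat.ble 1294 i)) (Nat.ble 1293 i)) (Nat.ble 1291 i)) (Nat.ble 1287 i)) (Nat.ble 1279 i)) (Bool.rec (Bool.rec (Bool.rec (Bool.rec (Bool.rec f1296 f1297 (Nat.ble 1297 i)) (Bool.rec f1298 f1299 (Nat.ble 1299 i)) (Nat.ble 1298 i)) (Bool.rec (Bool.rec f1300 f1301 (Nat.ble 1301 i)) (Bool.rec f1302 f1303 (Nat.ble 1303 i)) (Nat.ble 1302 i)) (Nat.ble 1300 i)) (Bool.rec (Bool.rec (Bool.rec f1304 f1305 (Nat.ble 1305 i)) (Bool.rec f1306 f1307 (Nat.ble 1307 i)) (Nat.ble 1306 i)) (Bool.rec (Bool.rec f1308 f1309 (Nat.ble 1309 i)) (Bool.rec f1310 (Bool.rec f1311 f1312 (Nat.ble 1312 i)) (Nat.ble 1311 i)) (Nat.ble 1310 i)) (Nat.ble 1308 i)) (Nat.ble 1304 i)) (Bool.rec (Bool.rec (Bool.rec (Bool.rec f1313 f1314 (Nat.ble 1314 i)) (Bool.rec f1315 f1316 (Nat.ble 1316 i)) (Nat.ble 1315 i)) (Bool.rec (Bool.rec f1317 f1318 (Nat.ble 1318 i)) (Bool.rec f1319 f1320 (Nat.ble 1320 i)) (Nat.ble 1319 i)) (Nat.ble 1317 i)) (Bool.rec (Bool.rec (Bool.rec f1321 f1322 (Nat.ble 1322 i)) (Bool.rec f1323 f1324 (Nat.ble 1324 i)) (Nat.ble 1323 i)) (Bool.rec (Bool.rec f1325 f1326 (Nat.ble 1326 i)) (Bool.rec f1327 (Bool.rec f1328 f1329 (Nat.ble 1329 i)) (Nat.ble 1328 i)) (Nat.ble 1327 i)) (Nat.ble 1325 i)) (Nat.ble 1321 i)) (Nat.ble 1313 i)) (Nat.ble 1296 i)) (Nat.ble 1263 i)) (Nat.ble 1197 i)) (Bool.rec (Bool.rec (Bool.rec (Bool.rec (Bool.rec (Bool.rec (Bool.rec (Bool.rec f1330 f1331 (Nat.ble 1331 i)) (Bool.rec f1332 f1333 (Nat.ble 1333 i)) (Nat.ble 1332 i)) (Bool.rec (Bool.rec f1334 f1335 (Nat.ble 1335 i)) (Bool.rec f1336 f1337 (Nat.ble 1337 i)) (Nat.ble 1336 i)) (Nat.ble 1334 i)) (Bool.rec (Bool.rec (Bool.rec f1338 f1339 (Nat.ble 1339 i)) (Bool.rec f1340 f1341 (Nat.ble 1341 i)) (Nat.ble 1340 i)) (Bool.rec (Bool.rec f1342 f1343 (Nat.ble 1343 i)) (Bool.rec f1344 f1345 (Nat.ble 1345 i)) (Nat.ble 1344 i)) (Nat.ble 1342 i)) (Nat.ble 1338 i)) (Bool.rec (Bool.rec (Bool.rec (Bool.rec f1346 f1347 (Nat.ble 1347 i)) (Bool.rec f1348 f1349 (Nat.ble 1349 i)) (Nat.ble 1348 i)) (Bool.rec (Bool.rec f1350 f1351 (Nat.ble 1351 i)) (Bool.rec f1352 f1353 (Nat.ble 1353 i)) (Nat.ble 1352 i)) (Nat.ble 1350 i)) (Bool.rec (Bool.rec (Bool.rec f1354 f1355 (Nat.ble 1355 i)) (Bool.rec f1356 f1357 (Nat.ble 1357 i)) (Nat.ble 1356 i)) (Bool.rec (Bool.rec f1358 f1359 (Nat.ble 1359 i)) (Bool.rec f1360 (Bool.rec f1361 f1362 (Nat.ble 1362 i)) (Nat.ble 1361 i)) (Nat.ble 1360 i)) (Nat.ble 1358 i)) (Nat.ble 1354 i)) (Nat.ble 1346 i)) (Bool.rec (Bool.rec (Bool.rec (Bool.rec (Bool.rec f1363 f1364 (Nat.ble 1364 i)) (Bool.rec f1365 f1366 (Nat.ble 1366 i)) (Nat.ble 1365 i)) (Bool.rec (Bool.rec f1367 f1368 (Nat.ble 1368 i)) (Bool.rec f1369 f1370 (Nat.ble 1370 i)) (Nat.ble 1369 i)) (Nat.ble 1367 i)) (Bool.rec (Bool.rec (Bool.rec f1371 f1372 (Nat.ble 1372 i)) (Bool.rec f1373 f1374 (Nat.ble 1374 i)) (Nat.ble 1373 i)) (Bool.rec (Bool.rec f1375 f1376 (Nat.ble 1376 i)) (Bool.rec f1377 f1378 (Nat.ble 1378 i)) (Nat.ble 1377 i)) (Nat.ble 1375 i)) (Nat.ble 1371 i)) (Bool.rec (Bool.rec (Bool.rec (Bool.rec f1379 f1380 (Nat.ble 1380 i)) (Bool.rec f1381 f1382 (Nat.ble 1382 i)) (Nat.ble 1381 i)) (Bool.rec (Bool.rec f1383 f1384 (Nat.ble 1384 i)) (Bool.rec f1385 f1386 (Nat.ble 1386 i)) (Nat.ble 1385 i)) (Nat.ble 1383 i)) (Bool.rec (Bool.rec (Bool.rec f1387 f1388 (Nat.ble 1388 i)) (Bool.rec f1389 f1390 (Nat.ble 1390 i)) (Nat.ble 1389 i)) (Bool.rec (Bool.rec f1391 f1392 (Nat.ble 1392 i)) (Bool.rec f1393 (Bool.rec f1394 f1395 (Nat.ble 1395 i)) (Nat.ble 1394 i)) (Nat.ble 1393 i)) (Nat.ble 1391 i)) (Nat.ble 1387 i)) (Nat.ble 1379 i)) (Nat.ble 1363 i)) (Bool.rec (Bool.rec (Bool.rec (Bool.rec (Bool.rec (Bool.rec f1396 f1397 (Nat.ble 1397 i)) (Bool.rec f1398 f1399 (Nat.ble 1399 i)) (Nat.ble 1398 i)) (Bool.rec (Bool.rec f1400 f1401 (Nat.ble 1401 i)) (Bool.rec f1402 f1403 (Nat.ble 1403 i)) (Nat.ble 1402 i)) (Nat.ble 1400 i)) (Bool.rec (Bool.rec (Bool.rec f1404 f1405 (Nat.ble 1405 i)) (Bool.rec f1406 f1407 (Nat.ble 1407 i)) (Nat.ble 1406 i)) (Bool.rec (Bool.rec f1408 f1409 (Nat.ble 1409 i)) (Bool.rec f1410 f1411 (Nat.ble 1411 i)) (Nat.ble 1410 i)) (Nat.ble 1408 i)) (Nat.ble 1404 i)) (Bool.rec (Bool.rec (Bool.rec (Bool.rec f1412 f1413 (Nat.ble 1413 i)) (Bool.rec f1414 f1415 (Nat.ble 1415 i)) (Nat.ble 1414 i)) (Bool.rec (Bool.rec f1416 f1417 (Nat.ble 1417 i)) (Bool.rec f1418 f1419 (Nat.ble 1419 i)) (Nat.ble 1418 i)) (Nat.ble 1416 i)) (Bool.rec (Bool.rec (Bool.rec f1420 f1421 (Nat.ble 1421 i)) (Bool.rec f1422 f1423 (Nat.ble 1423 i)) (Nat.ble 1422 i)) (Bool.rec (Bool.rec f1424 f1425 (Nat.ble 1425 i)) (Bool.rec f1426 (Bool.rec f1427 f1428 (Nat.ble 1428 i)) (Nat.ble 1427 i)) (Nat.ble 1426 i)) (Nat.ble 1424 i)) (Nat.ble 1420 i)) (Nat.ble 1412 i)) (Bool.rec (Bool.rec (Bool.rec (Bool.rec (Bool.rec f1429 f1430 (Nat.ble 1430 i)) (Bool.rec f1431 f1432 (Nat.ble 1432 i)) (Nat.ble 1431 i)) (Bool.rec (Bool.rec f1433 f1434 (Nat.ble 1434 i)) (Bool.rec f1435 f1436 (Nat.ble 1436 i)) (Nat.ble 1435 i)) (Nat.ble 1433 i)) (Bool.rec (Bool.rec (Bool.rec f1437 f1438 (Nat.ble 1438 i)) (Bool.rec f1439 f1440 (Nat.ble 1440 i)) (Nat.ble 1439 i)) (Bool.rec (Bool.rec f1441 f1442 (Nat.ble 1442 i)) (Bool.rec f1443 (Bool.rec f1444 f1445 (Nat.ble 1445 i)) (Nat.ble 1444 i)) (Nat.ble 1443 i)) (Nat.ble 1441 i)) (Nat.ble 1437 i)) (Bool.rec (Bool.rec (Bool.rec (Bool.rec f1446 f1447 (Nat.ble 1447 i)) (Bool.rec f1448 f1449 (Nat.ble 1449 i)) (Nat.ble 1448 i)) (Bool.rec (Bool.rec f1450 f1451 (Nat.ble 1451 i)) (Bool.rec f1452 f1453 (Nat.ble 1453 i)) (Nat.ble 1452 i)) (Nat.ble 1450 i)) (Bool.rec (Bool.rec (Bool.rec f1454 f1455 (Nat.ble 1455 i)) (Bool.rec f1456 f1457 (Nat.ble 1457 i)) (Nat.ble 1456 i)) (Bool.rec (Bool.rec f1458 f1459 (Nat.ble 1459 i)) (Bool.rec f1460 (Bool.rec f1461 f1462 (Nat.ble 1462 i)) (Nat.ble 1461 i)) (Nat.ble 1460 i)) (Nat.ble 1458 i)) (Nat.ble 1454 i)) (Nat.ble 1446 i)) (Nat.ble 1429 i)) (Nat.ble 1396 i)) (Bool.rec (Bool.rec (Bool.rec (Bool.rec (Bool.rec (Bool.rec (Bool.rec f1463 f1464 (Nat.ble 1464 i)) (Bool.rec f1465 f1466 (Nat.ble 1466 i)) (Nat.ble 1465 i)) (Bool.rec (Bool.rec f1467 f1468 (Nat.ble 1468 i)) (Bool.rec f1469 f1470 (Nat.ble 1470 i)) (Nat.ble 1469 i)) (Nat.ble 1467 i)) (Bool.rec (Bool.rec (Bool.rec f1471 f1472 (Nat.ble 1472 i)) (Bool.rec f1473 f1474 (Nat.ble 1474 i)) (Nat.ble 1473 i)) (Bool.rec (Bool.rec f1475 f1476 (Nat.ble 1476 i)) (Bool.rec f1477 f1478 (Nat.ble 1478 i)) (Nat.ble 1477 i)) (Nat.ble 1475 i)) (Nat.ble 1471 i)) (Bool.rec (Bool.rec (Bool.rec (Bool.rec f1479 f1480 (Nat.ble 1480 i)) (Bool.rec f1481 f1482 (Nat.ble 1482 i)) (Nat.ble 1481 i)) (Bool.rec (Bool.rec f1483 f1484 (Nat.ble 1484 i)) (Bool.rec f1485 f1486 (Nat.ble 1486 i)) (Nat.ble 1485 i)) (Nat.ble 1483 i)) (Bool.rec (Bool.rec (Bool.rec f1487 f1488 (Nat.ble 1488 i)) (Bool.rec f1489 f1490 (Nat.ble 1490 i)) (Nat.ble 1489 i)) (Bool.rec (Bool.rec f1491 f1492 (Nat.ble 1492 i)) (Bool.rec f1493 (Bool.rec f1494 f1495 (Nat.ble 1495 i)) (Nat.ble 1494 i)) (Nat.ble 1493 i)) (Nat.ble 1491 i)) (Nat.ble 1487 i)) (Nat.ble 1479 i)) (Bool.rec (Bool.rec (Bool.rec (Bool.rec (Bool.rec f1496 f1497 (Nat.ble 1497 i)) (Bool.rec f1498 f1499 (Nat.ble 1499 i)) (Nat.ble 1498 i)) (Bool.rec (Bool.rec f1500 f1501 (Nat.ble 1501 i)) (Bool.rec f1502 f1503 (Nat.ble 1503 i)) (Nat.ble 1502 i)) (Nat.ble 1500 i)) (Bool.rec (Bool.rec (Bool.rec f1504 f1505 (Nat.ble 1505 i)) (Bool.rec f1506 f1507 (Nat.ble 1507 i)) (Nat.ble 1506 i)) (Bool.rec (Bool.rec f1508 f1509 (Nat.ble 1509 i)) (Bool.rec f1510 f1511 (Nat.ble 1511 i)) (Nat.ble 1510 i)) (Nat.ble 1508 i)) (Nat.ble 1504 i)) (Bool.rec (Bool.rec (Bool.rec (Bool.rec f1512 f1513 (Nat.ble 1513 i)) (Bool.rec f1514 f1515 (Nat.ble 1515 i)) (Nat.ble 1514 i)) (Bool.rec (Bool.rec f1516 f1517 (Nat.ble 1517 i)) (Bool.rec f1518 f1519 (Nat.ble 1519 i)) (Nat.ble 1518 i)) (Nat.ble 1516 i)) (Bool.rec (Bool.rec (Bool.rec f1520 f1521 (Nat.ble 1521 i)) (Bool.rec f1522 f1523 (Nat.ble 1523 i)) (Nat.ble 1522 i)) (Bool.rec (Bool.rec f1524 f1525 (Nat.ble 1525 i)) (Bool.rec f1526 (Bool.rec f1527 f1528 (Nat.ble 1528 i)) (Nat.ble 1527 i)) (Nat.ble 1526 i)) (Nat.ble 1524 i)) (Nat.ble 1520 i)) (Nat.ble 1512 i)) (Nat.ble 1496 i)) (Bool.rec (Bool.rec (Bool.rec (Bool.rec (Bool.rec (Bool.rec f1529 f1530 (Nat.ble 1530 i)) (Bool.rec f1531 f1532 (Nat.ble 1532 i)) (Nat.ble 1531 i)) (Bool.rec (Bool.rec f1533 f1534 (Nat.ble 1534 i)) (Bool.rec f1535 f1536 (Nat.ble 1536 i)) (Nat.ble 1535 i)) (Nat.ble 1533 i)) (Bool.rec (Bool.rec (Bool.rec f1537 f1538 (Nat.ble 1538 i)) (Bool.rec f1539 f1540 (Nat.ble 1540 i)) (Nat.ble 1539 i)) (Bool.rec (Bool.rec f1541 f1542 (Nat.ble 1542 i)) (Bool.rec f1543 f1544 (Nat.ble 1544 i)) (Nat.ble 1543 i)) (Nat.ble 1541 i)) (Nat.ble 1537 i)) (Bool.rec (Bool.rec (Bool.rec (Bool.rec f1545 f1546 (Nat.ble 1546 i)) (Bool.rec f1547 f1548 (Nat.ble 1548 i)) (Nat.ble 1547 i)) (Bool.rec (Bool.rec f1549 f1550 (Nat.ble 1550 i)) (Bool.rec f1551 f1552 (Nat.ble 1552 i)) (Nat.ble 1551 i)) (Nat.ble 1549 i)) (Bool.rec (Bool.rec (Bool.rec f1553 f1554 (Nat.ble 1554 i)) (Bool.rec f1555 f1556 (Nat.ble 1556 i)) (Nat.ble 1555 i)) (Bool.rec (Bool.rec f1557 f1558 (Nat.ble 1558 i)) (Bool.rec f1559 (Bool.rec f1560 f1561 (Nat.ble 1561 i)) (Nat.ble 1560 i)) (Nat.ble 1559 i)) (Nat.ble 1557 i)) (Nat.ble 1553 i)) (Nat.ble 1545 i)) (Bool.rec (Bool.rec (Bool.rec (Bool.rec (Bool.rec f1562 f1563 (Nat.ble 1563 i)) (Bool.rec f1564 f1565 (Nat.ble 1565 i)) (Nat.ble 1564 i)) (Bool.rec (Bool.rec f1566 f1567 (Nat.ble 1567 i)) (Bool.rec f1568 f1569 (Nat.ble 1569 i)) (Nat.ble 1568 i)) (Nat.ble 1566 i)) (Bool.rec (Bool.rec (Bool.rec f1570 f1571 (Nat.ble 1571 i)) (Bool.rec f1572 f1573 (Nat.ble 1573 i)) (Nat.ble 1572 i)) (Bool.rec (Bool.rec f1574 f1575 (Nat.ble 1575 i)) (Bool.rec f1576 (Bool.rec f1577 f1578 (Nat.ble 1578 i)) (Nat.ble 1577 i)) (Nat.ble 1576 i)) (Nat.ble 1574 i)) (Nat.ble 1570 i)) (Bool.rec (Bool.rec (Bool.rec (Bool.rec f1579 f1580 (Nat.ble 1580 i)) (Bool.rec f1581 f1582 (Nat.ble 1582 i)) (Nat.ble 1581 i)) (Bool.rec (Bool.rec f1583 f1584 (Nat.ble 1584 i)) (Bool.rec f1585 f1586 (Nat.ble 1586 i)) (Nat.ble 1585 i)) (Nat.ble 1583 i)) (Bool.rec (Bool.rec (Bool.rec f1587 f1588 (Nat.ble 1588 i)) (Bool.rec f1589 f1590 (Nat.ble 1590 i)) (Nat.ble 1589 i)) (Bool.rec (Bool.rec f1591 f1592 (Nat.ble 1592 i)) (Bool.rec f1593 (Bool.rec f1594 f1595 (Nat.ble 1595 i)) (Nat.ble 1594 i)) (Nat.ble 1593 i)) (Nat.ble 1591 i)) (Nat.ble 1587 i)) (Nat.ble 1579 i)) (Nat.ble 1562 i)) (Nat.ble 1529 i)) (Nat.ble 1463 i)) (Nat.ble 1330 i)) (Bool.rec (Bool.rec (Bool.rec (Bool.rec (Bool.rec (Bool.rec (Bool.rec (Bool.rec (Bool.rec f1596 f1597 (Nat.ble 1597 i)) (Bool.rec f1598 f1599 (Nat.ble 1599 i)) (Nat.ble 1598 i)) (Bool.rec (Bool.rec f1600 f1601 (Nat.ble 1601 i)) (Bool.rec f1602 f1603 (Nat.ble 1603 i)) (Nat.ble 1602 i)) (Nat.ble 1600 i)) (Bool.rec (Bool.rec (Bool.rec f1604 f1605 (Nat.ble 1605 i)) (Bool.rec f1606 f1607 (Nat.ble 1607 i)) (Nat.ble 1606 i)) (Bool.rec (Bool.rec f1608 f1609 (Nat.ble 1609 i)) (Bool.rec f1610 f1611 (Nat.ble 1611 i)) (Nat.ble 1610 i)) (Nat.ble 1608 i)) (Nat.ble 1604 i)) (Bool.rec (Bool.rec (Bool.rec (Bool.rec f1612 f1613 (Nat.ble 1613 i)) (Bool.rec f1614 f1615 (Nat.ble 1615 i)) (Nat.ble 1614 i)) (Bool.rec (Bool.rec f1616 f1617 (Nat.ble 1617 i)) (Bool.rec f1618 f1619 (Nat.ble 1619 i)) (Nat.ble 1618 i)) (Nat.ble 1616 i)) (Bool.rec (Bool.rec (Bool.rec f1620 f1621 (Nat.ble 1621 i)) (Bool.rec f1622 f1623 (Nat.ble 1623 i)) (Nat.ble 1622 i)) (Bool.rec (Bool.rec f1624 f1625 (Nat.ble 1625 i)) (Bool.rec f1626 (Bool.rec f1627 f1628 (Nat.ble 1628 i)) (Nat.ble 1627 i)) (Nat.ble 1626 i)) (Nat.ble 1624 i)) (Nat.ble 1620 i)) (Nat.ble 1612 i)) (Bool.rec (Bool.rec (Bool.rec (Bool.rec (Bool.rec f1629 f1630 (Nat.ble 1630 i)) (Bool.rec f1631 f1632 (Nat.ble 1632 i)) (Nat.ble 1631 i)) (Bool.rec (Bool.rec f1633 f1634 (Nat.ble 1634 i)) (Bool.rec f1635 f1636 (Nat.ble 1636 i)) (Nat.ble 1635 i)) (Nat.ble 1633 i)) (Bool.rec (Bool.rec (Bool.rec f1637 f1638 (Nat.ble 1638 i)) (Bool.rec f1639 f1640 (Nat.ble 1640 i)) (Nat.ble 1639 i)) (Bool.rec (Bool.rec f1641 f1642 (Nat.ble 1642 i)) (Bool.rec f1643 f1644 (Nat.ble 1644 i)) (Nat.ble 1643 i)) (Nat.ble 1641 i)) (Nat.ble 1637 i)) (Bool.rec (Bool.rec (Bool.rec (Bool.rec f1645 f1646 (Nat.ble 1646 i)) (Bool.rec f1647 f1648 (Nat.ble 1648 i)) (Nat.ble 1647 i)) (Bool.rec (Bool.rec f1649 f1650 (Nat.ble 1650 i)) (Bool.rec f1651 f1652 (Nat.ble 1652 i)) (Nat.ble 1651 i)) (Nat.ble 1649 i)) (Bool.rec (Bool.rec (Bool.rec f1653 f1654 (Nat.ble 1654 i)) (Bool.rec f1655 f1656 (Nat.ble 1656 i)) (Nat.ble 1655 i)) (Bool.rec (Bool.rec f1657 f1658 (Nat.ble 1658 i)) (Bool.rec f1659 (Bool.rec f1660 f1661 (Nat.ble 1661 i)) (Nat.ble 1660 i)) (Nat.ble 1659 i)) (Nat.ble 1657 i)) (Nat.ble 1653 i)) (Nat.ble 1645 i)) (Nat.ble 1629 i)) (Bool.rec (Bool.rec (Bool.rec (Bool.rec (Bool.rec (Bool.rec f1662 f1663 (Nat.ble 1663 i)) (Bool.rec f1664 f1665 (Nat.ble 1665 i)) (Nat.ble 1664 i)) (Bool.rec (Bool.rec f1666 f1667 (Nat.ble 1667 i)) (Bool.rec f1668 f1669 (Nat.ble 1669 i)) (Nat.ble 1668 i)) (Nat.ble 1666 i)) (Bool.rec (Bool.rec (Bool.rec f1670 f1671 (Nat.ble 1671 i)) (Bool.rec f1672 f1673 (Nat.ble 1673 i)) (Nat.ble 1672 i)) (Bool.rec (Bool.rec f1674 f1675 (Nat.ble 1675 i)) (Bool.rec f1676 f1677 (Nat.ble 1677 i)) (Nat.ble 1676 i)) (Nat.ble 1674 i)) (Nat.ble 1670 i)) (Bool.rec (Bool.rec (Bool.rec (Bool.rec f1678 f1679 (Nat.ble 1679 i)) (Bool.rec f1680 f1681 (Nat.ble 1681 i)) (Nat.ble 1680 i)) (Bool.rec (Bool.rec f1682 f1683 (Nat.ble 1683 i)) (Bool.rec f1684 f1685 (Nat.ble 1685 i)) (Nat.ble 1684 i)) (Nat.ble 1682 i)) (Bool.rec (Bool.rec (Bool.rec f1686 f1687 (Nat.ble 1687 i)) (Bool.rec f1688 f1689 (Nat.ble 1689 i)) (Nat.ble 1688 i)) (Bool.rec (Bool.rec f1690 f1691 (Nat.ble 1691 i)) (Bool.rec f1692 (Bool.rec f1693 f1694 (Nat.ble 1694 i)) (Nat.ble 1693 i)) (Nat.ble 1692 i)) (Nat.ble 1690 i)) (Nat.ble 1686 i)) (Nat.ble 1678 i)) (Bool.rec (Bool.rec (Bool.rec (Bool.rec (Bool.rec f1695 f1696 (Nat.ble 1696 i)) (Bool.rec f1697 f1698 (Nat.ble 1698 i)) (Nat.ble 1697 i)) (Bool.rec (Bool.rec f1699 f1700 (Nat.ble 1700 i)) (Bool.rec f1701 f1702 (Nat.ble 1702 i)) (Nat.ble 1701 i)) (Nat.ble 1699 i)) (Bool.rec (Bool.rec (Bool.rec f1703 f1704 (Nat.ble 1704 i)) (Bool.rec f1705 f1706 (Nat.ble 1706 i)) (Nat.ble 1705 i)) (Bool.rec (Bool.rec f1707 f1708 (Nat.ble 1708 i)) (Bool.rec f1709 (Bool.rec f1710 f1711 (Nat.ble 1711 i)) (Nat.ble 1710 i)) (Nat.ble 1709 i)) (Nat.ble 1707 i)) (Nat.ble 1703 i)) (Bool.rec (Bool.rec (Bool.rec (Bool.rec f1712 f1713 (Nat.ble 1713 i)) (Bool.rec f1714 f1715 (Nat.ble 1715 i)) (Nat.ble 1714 i)) (Bool.rec (Bool.rec f1716 f1717 (Nat.ble 1717 i)) (Bool.rec f1718 f1719 (Nat.ble 1719 i)) (Nat.ble 1718 i)) (Nat.ble 1716 i)) (Bool.rec (Bool.rec (Bool.rec f1720 f1721 (Nat.ble 1721 i)) (Bool.rec f1722 f1723 (Nat.ble 1723 i)) (Nat.ble 1722 i)) (Bool.rec (Bool.rec f1724 f1725 (Nat.ble 1725 i)) (Bool.rec f1726 (Bool.rec f1727 f1728 (Nat.ble 1728 i)) (Nat.ble 1727 i)) (Nat.ble 1726 i)) (Nat.ble 1724 i)) (Nat.ble 1720 i)) (Nat.ble 1712 i)) (Nat.ble 1695 i)) (Nat.ble 1662 i)) (Bool.rec (Bool.rec (Bool.rec (Bool.rec (Bool.rec (Bool.rec (Bool.rec f1729 f1730 (Nat.ble 1730 i)) (Bool.rec f1731 f1732 (Nat.ble 1732 i)) (Nat.ble 1731 i)) (Bool.rec (Bool.rec f1733 f1734 (Nat.ble 1734 i)) (Bool.rec f1735 f1736 (Nat.ble 1736 i)) (Nat.ble 1735 i)) (Nat.ble 1733 i)) (Bool.rec (Bool.rec (Bool.rec f1737 f1738 (Nat.ble 1738 i)) (Bool.rec f1739 f1740 (Nat.ble 1740 i)) (Nat.ble 1739 i)) (Bool.rec (Bool.rec f1741 f1742 (Nat.ble 1742 i)) (Bool.rec f1743 f1744 (Nat.ble 1744 i)) (Nat.ble 1743 i)) (Nat.ble 1741 i)) (Nat.ble 1737 i)) (Bool.rec (Bool.rec (Bool.rec (Bool.rec f1745 f1746 (Nat.ble 1746 i)) (Bool.rec f1747 f1748 (Nat.ble 1748 i)) (Nat.ble 1747 i)) (Bool.rec (Bool.rec f1749 f1750 (Nat.ble 1750 i)) (Bool.rec f1751 f1752 (Nat.ble 1752 i)) (Nat.ble 1751 i)) (Nat.ble 1749 i)) (Bool.rec (Bool.rec (Bool.rec f1753 f1754 (Nat.ble 1754 i)) (Bool.rec f1755 f1756 (Nat.ble 1756 i)) (Nat.ble 1755 i)) (Bool.rec (Bool.rec f1757 f1758 (Nat.ble 1758 i)) (Bool.rec f1759 (Bool.rec f1760 f1761 (Nat.ble 1761 i)) (Nat.ble 1760 i)) (Nat.ble 1759 i)) (Nat.ble 1757 i)) (Nat.ble 1753 i)) (Nat.ble 1745 i)) (Bool.rec (Bool.rec (Bool.rec (Bool.rec (Bool.rec f1762 f1763 (Nat.ble 1763 i)) (Bool.rec f1764 f1765 (Nat.ble 1765 i)) (Nat.ble 1764 i)) (Bool.rec (Bool.rec f1766 f1767 (Nat.ble 1767 i)) (Bool.rec f1768 f1769 (Nat.ble 1769 i)) (Nat.ble 1768 i)) (Nat.ble 1766 i)) (Bool.rec (Bool.rec (Bool.rec f1770 f1771 (Nat.ble 1771 i)) (Bool.rec f1772 f1773 (Nat.ble 1773 i)) (Nat.ble 1772 i)) (Bool.rec (Bool.rec f1774 f1775 (Nat.ble 1775 i)) (Bool.rec f1776 f1777 (Nat.ble 1777 i)) (Nat.ble 1776 i)) (Nat.ble 1774 i)) (Nat.ble 1770 i)) (Bool.rec (Bool.rec (Bool.rec (Bool.rec f1778 f1779 (Nat.ble 1779 i)) (Bool.rec f1780 f1781 (Nat.ble 1781 i)) (Nat.ble 1780 i)) (Bool.rec (Bool.rec f1782 f1783 (Nat.ble 1783 i)) (Bool.rec f1784 f1785 (Nat.ble 1785 i)) (Nat.ble 1784 i)) (Nat.ble 1782 i)) (Bool.rec (Bool.rec (Bool.rec f1786 f1787 (Nat.ble 1787 i)) (Bool.rec f1788 f1789 (Nat.ble 1789 i)) (Nat.ble 1788 i)) (Bool.rec (Bool.rec f1790 f1791 (Nat.ble 1791 i)) (Bool.rec f1792 (Bool.rec f1793 f1794 (Nat.ble 1794 i)) (Nat.ble 1793 i)) (Nat.ble 1792 i)) (Nat.ble 1790 i)) (Nat.ble 1786 i)) (Nat.ble 1778 i)) (Nat.ble 1762 i)) (Bool.rec (Bool.rec (Bool.rec (Bool.rec (Bool.rec (Bool.rec f1795 f1796 (Nat.ble 1796 i)) (Bool.rec f1797 f1798 (Nat.ble 1798 i)) (Nat.ble 1797 i)) (Bool.rec (Bool.rec f1799 f1800 (Nat.ble 1800 i)) (Bool.rec f1801 f1802 (Nat.ble 1802 i)) (Nat.ble 1801 i)) (Nat.ble 1799 i)) (Bool.rec (Bool.rec (Bool.rec f1803 f1804 (Nat.ble 1804 i)) (Bool.rec f1805 f1806 (Nat.ble 1806 i)) (Nat.ble 1805 i)) (Bool.rec (Bool.rec f1807 f1808 (Nat.ble 1808 i)) (Bool.rec f1809 f1810 (Nat.ble 1810 i)) (Nat.ble 1809 i)) (Nat.ble 1807 i)) (Nat.ble 1803 i)) (Bool.rec (Bool.rec (Bool.rec (Bool.rec f1811 f1812 (Nat.ble 1812 i)) (Bool.rec f1813 f1814 (Nat.ble 1814 i)) (Nat.ble 1813 i)) (Bool.rec (Bool.rec f1815 f1816 (Nat.ble 1816 i)) (Bool.rec f1817 f1818 (Nat.ble 1818 i)) (Nat.ble 1817 i)) (Nat.ble 1815 i)) (Bool.rec (Bool.rec (Bool.rec f1819 f1820 (Nat.ble 1820 i)) (Bool.rec f1821 f1822 (Nat.ble 1822 i)) (Nat.ble 1821 i)) (Bool.rec (Bool.rec f1823 f1824 (Nat.ble 1824 i)) (Bool.rec f1825 (Bool.rec f1826 f1827 (Nat.ble 1827 i)) (Nat.ble 1826 i)) (Nat.ble 1825 i)) (Nat.ble 1823 i)) (Nat.ble 1819 i)) (Nat.ble 1811 i)) (Bool.rec (Bool.rec (Bool.rec (Bool.rec (Bool.rec f1828 f1829 (Nat.ble 1829 i)) (Bool.rec f1830 f1831 (Nat.ble 1831 i)) (Nat.ble 1830 i)) (Bool.rec (Bool.rec f1832 f1833 (Nat.ble 1833 i)) (Bool.rec f1834 f1835 (Nat.ble 1835 i)) (Nat.ble 1834 i)) (Nat.ble 1832 i)) (Bool.rec (Bool.rec (Bool.rec f1836 f1837 (Nat.ble 1837 i)) (Bool.rec f1838 f1839 (Nat.ble 1839 i)) (Nat.ble 1838 i)) (Bool.rec (Bool.rec f1840 f1841 (Nat.ble 1841 i)) (Bool.rec f1842 (Bool.rec f1843 f1844 (Nat.ble 1844 i)) (Nat.ble 1843 i)) (Nat.ble 1842 i)) (Nat.ble 1840 i)) (Nat.ble 1836 i)) (Bool.rec (Bool.rec (Bool.rec (Bool.rec f1845 f1846 (Nat.ble 1846 i)) (Bool.rec f1847 f1848 (Nat.ble 1848 i)) (Nat.ble 1847 i)) (Bool.rec (Bool.rec f1849 f1850 (Nat.ble 1850 i)) (Bool.rec f1851 f1852 (Nat.ble 1852 i)) (Nat.ble 1851 i)) (Nat.ble 1849 i)) (Bool.rec (Bool.rec (Bool.rec f1853 f1854 (Nat.ble 1854 i)) (Bool.rec f1855 f1856 (Nat.ble 1856 i)) (Nat.ble 1855 i)) (Bool.rec (Bool.rec f1857 f1858 (Nat.ble 1858 i)) (Bool.rec f1859 (Bool.rec f1860 f1861 (Nat.ble 1861 i)) (Nat.ble 1860 i)) (Nat.ble 1859 i)) (Nat.ble 1857 i)) (Nat.ble 1853 i)) (Nat.ble 1845 i)) (Nat.ble 1828 i)) (Nat.ble 1795 i)) (Nat.ble 1729 i)) (Bool.rec (Bool.rec (Bool.rec (Bool.rec (Bool.rec (Bool.rec (Bool.rec (Bool.rec f1862 f1863 (Nat.ble 1863 i)) (Bool.rec f1864 f1865 (Nat.ble 1865 i)) (Nat.ble 1864 i)) (Bool.rec (Bool.rec f1866 f1867 (Nat.ble 1867 i)) (Bool.rec f1868 f1869 (Nat.ble 1869 i)) (Nat.ble 1868 i)) (Nat.ble 1866 i)) (Bool.rec (Bool.rec (Bool.rec f1870 f1871 (Nat.ble 1871 i)) (Bool.rec f1872 f1873 (Nat.ble 1873 i)) (Nat.ble 1872 i)) (Bool.rec (Bool.rec f1874 f1875 (Nat.ble 1875 i)) (Bool.rec f1876 f1877 (Nat.ble 1877 i)) (Nat.ble 1876 i)) (Nat.ble 1874 i)) (Nat.ble 1870 i)) (Bool.rec (Bool.rec (Bool.rec (Bool.rec f1878 f1879 (Nat.ble 1879 i)) (Bool.rec f1880 f1881 (Nat.ble 1881 i)) (Nat.ble 1880 i)) (Bool.rec (Bool.rec f1882 f1883 (Nat.ble 1883 i)) (Bool.rec f1884 f1885 (Nat.ble 1885 i)) (Nat.ble 1884 i)) (Nat.ble 1882 i)) (Bool.rec (Bool.rec (Bool.rec f1886 f1887 (Nat.ble 1887 i)) (Bool.rec f1888 f1889 (Nat.ble 1889 i)) (Nat.ble 1888 i)) (Bool.rec (Bool.rec f1890 f1891 (Nat.ble 1891 i)) (Bool.rec f1892 (Bool.rec f1893 f1894 (Nat.ble 1894 i)) (Nat.ble 1893 i)) (Nat.ble 1892 i)) (Nat.ble 1890 i)) (Nat.ble 1886 i)) (Nat.ble 1878 i)) (Bool.rec (Bool.rec (Bool.rec (Bool.rec (Bool.rec f1895 f1896 (Nat.ble 1896 i)) (Bool.rec f1897 f1898 (Nat.ble 1898 i)) (Nat.ble 1897 i)) (Bool.rec (Bool.rec f1899 f1900 (Nat.ble 1900 i)) (Bool.rec f1901 f1902 (Nat.ble 1902 i)) (Nat.ble 1901 i)) (Nat.ble 1899 i)) (Bool.rec (Bool.rec (Bool.rec f1903 f1904 (Nat.ble 1904 i)) (Bool.rec f1905 f1906 (Nat.ble 1906 i)) (Nat.ble 1905 i)) (Bool.rec (Bool.rec f1907 f1908 (Nat.ble 1908 i)) (Bool.rec f1909 f1910 (Nat.ble 1910 i)) (Nat.ble 1909 i)) (Nat.ble 1907 i)) (Nat.ble 1903 i)) (Bool.rec (Bool.rec (Bool.rec (Bool.rec f1911 f1912 (Nat.ble 1912 i)) (Bool.rec f1913 f1914 (Nat.ble 1914 i)) (Nat.ble 1913 i)) (Bool.rec (Bool.rec f1915 f1916 (Nat.ble 1916 i)) (Bool.rec f1917 f1918 (Nat.ble 1918 i)) (Nat.ble 1917 i)) (Nat.ble 1915 i)) (Bool.rec (Bool.rec (Bool.rec f1919 f1920 (Nat.ble 1920 i)) (Bool.rec f1921 f1922 (Nat.ble 1922 i)) (Nat.ble 1921 i)) (Bool.rec (Bool.rec f1923 f1924 (Nat.ble 1924 i)) (Bool.rec f1925 (Bool.rec f1926 f1927 (Nat.ble 1927 i)) (Nat.ble 1926 i)) (Nat.ble 1925 i)) (Nat.ble 1923 i)) (Nat.ble 1919 i)) (Nat.ble 1911 i)) (Nat.ble 1895 i)) (Bool.rec (Bool.rec (Bool.rec (Bool.rec (Bool.rec (Bool.rec f1928 f1929 (Nat.ble 1929 i)) (Bool.rec f1930 f1931 (Nat.ble 1931 i)) (Nat.ble 1930 i)) (Bool.rec (Bool.rec f1932 f1933 (Nat.ble 1933 i)) (Bool.rec f1934 f1935 (Nat.ble 1935 i)) (Nat.ble 1934 i)) (Nat.ble 1932 i)) (Bool.rec (Bool.rec (Bool.rec f1936 f1937 (Nat.ble 1937 i)) (Bool.rec f1938 f1939 (Nat.ble 1939 i)) (Nat.ble 1938 i)) (Bool.rec (Bool.rec f1940 f1941 (Nat.ble 1941 i)) (Bool.rec f1942 f1943 (Nat.ble 1943 i)) (Nat.ble 1942 i)) (Nat.ble 1940 i)) (Nat.ble 1936 i)) (Bool.rec (Bool.rec (Bool.rec (Bool.rec f1944 f1945 (Nat.ble 1945 i)) (Bool.rec f1946 f1947 (Nat.ble 1947 i)) (Nat.ble 1946 i)) (Bool.rec (Bool.rec f1948 f1949 (Nat.ble 1949 i)) (Bool.rec f1950 f1951 (Nat.ble 1951 i)) (Nat.ble 1950 i)) (Nat.ble 1948 i)) (Bool.rec (Bool.rec (Bool.rec f1952 f1953 (Nat.ble 1953 i)) (Bool.rec f1954 f1955 (Nat.ble 1955 i)) (Nat.ble 1954 i)) (Bool.rec (Bool.rec f1956 f1957 (Nat.ble 1957 i)) (Bool.rec f1958 (Bool.rec f1959 f1960 (Nat.ble 1960 i)) (Nat.ble 1959 i)) (Nat.ble 1958 i)) (Nat.ble 1956 i)) (Nat.ble 1952 i)) (Nat.ble 1944 i)) (Bool.rec (Bool.rec (Bool.rec (Bool.rec (Bool.rec f1961 f1962 (Nat.ble 1962 i)) (Bool.rec f1963 f1964 (Nat.ble 1964 i)) (Nat.ble 1963 i)) (Bool.rec (Bool.rec f1965 f1966 (Nat.ble 1966 i)) (Bool.rec f1967 f1968 (Nat.ble 1968 i)) (Nat.ble 1967 i)) (Nat.ble 1965 i)) (Bool.rec (Bool.rec (Bool.rec f1969 f1970 (Nat.ble 1970 i)) (Bool.rec f1971 f1972 (Nat.ble 1972 i)) (Nat.ble 1971 i)) (Bool.rec (Bool.rec f1973 f1974 (Nat.ble 1974 i)) (Bool.rec f1975 (Bool.rec f1976 f1977 (Nat.ble 1977 i)) (Nat.ble 1976 i)) (Nat.ble 1975 i)) (Nat.ble 1973 i)) (Nat.ble 1969 i)) (Bool.rec (Bool.rec (Bool.rec (Bool.rec f1978 f1979 (Nat.ble 1979 i)) (Bool.rec f1980 f1981 (Nat.ble 1981 i)) (Nat.ble 1980 i)) (Bool.rec (Bool.rec f1982 f1983 (Nat.ble 1983 i)) (Bool.rec f1984 f1985 (Nat.ble 1985 i)) (Nat.ble 1984 i)) (Nat.ble 1982 i)) (Bool.rec (Bool.rec (Bool.rec f1986 f1987 (Nat.ble 1987 i)) (Bool.rec f1988 f1989 (Nat.ble 1989 i)) (Nat.ble 1988 i)) (Bool.rec (Bool.rec f1990 f1991 (Nat.ble 1991 i)) (Bool.rec f1992 (Bool.rec f1993 f1994 (Nat.ble 1994 i)) (Nat.ble 1993 i)) (Nat.ble 1992 i)) (Nat.ble 1990 i)) (Nat.ble 1986 i)) (Nat.ble 1978 i)) (Nat.ble 1961 i)) (Nat.ble 1928 i)) (Bool.rec (Bool.rec (Bool.rec (Bool.rec (Bool.rec (Bool.rec (Bool.rec f1995 f1996 (Nat.ble 1996 i)) (Bool.rec f1997 f1998 (Nat.ble 1998 i)) (Nat.ble 1997 i)) (Bool.rec (Bool.rec f1999 f2000 (Nat.ble 2000 i)) (Bool.rec f2001 f2002 (Nat.ble 2002 i)) (Nat.ble 2001 i)) (Nat.ble 1999 i)) (Bool.rec (Bool.rec (Bool.rec f2003 f2004 (Nat.ble 2004 i)) (Bool.rec f2005 f2006 (Nat.ble 2006 i)) (Nat.ble 2005 i)) (Bool.rec (Bool.rec f2007 f2008 (Nat.ble 2008 i)) (Bool.rec f2009 f2010 (Nat.ble 2010 i)) (Nat.ble 2009 i)) (Nat.ble 2007 i)) (Nat.ble 2003 i)) (Bool.rec (Bool.rec (Bool.rec (Bool.rec f2011 f2012 (Nat.ble 2012 i)) (Bool.rec f2013 f2014 (Nat.ble 2014 i)) (Nat.ble 2013 i)) (Bool.rec (Bool.rec f2015 f2016 (Nat.ble 2016 i)) (Bool.rec f2017 f2018 (Nat.ble 2018 i)) (Nat.ble 2017 i)) (Nat.ble 2015 i)) (Bool.rec (Bool.rec (Bool.rec f2019 f2020 (Nat.ble 2020 i)) (Bool.rec f2021 f2022 (Nat.ble 2022 i)) (Nat.ble 2021 i)) (Bool.rec (Bool.rec f2023 f2024 (Nat.ble 2024 i)) (Bool.rec f2025 (Bool.rec f2026 f2027 (Nat.ble 2027 i)) (Nat.ble 2026 i)) (Nat.ble 2025 i)) (Nat.ble 2023 i)) (Nat.ble 2019 i)) (Nat.ble 2011 i)) (Bool.rec (Bool.rec (Bool.rec (Bool.rec (Bool.rec f2028 f2029 (Nat.ble 2029 i)) (Bool.rec f2030 f2031 (Nat.ble 2031 i)) (Nat.ble 2030 i)) (Bool.rec (Bool.rec f2032 f2033 (Nat.ble 2033 i)) (Bool.rec f2034 f2035 (Nat.ble 2035 i)) (Nat.ble 2034 i)) (Nat.ble 2032 i)) (Bool.rec (Bool.rec (Bool.rec f2036 f2037 (Nat.ble 2037 i)) (Bool.rec f2038 f2039 (Nat.ble 2039 i)) (Nat.ble 2038 i)) (Bool.rec (Bool.rec f2040 f2041 (Nat.ble 2041 i)) (Bool.rec f2042 (Bool.rec f2043 f2044 (Nat.ble 2044 i)) (Nat.ble 2043 i)) (Nat.ble 2042 i)) (Nat.ble 2040 i)) (Nat.ble 2036 i)) (Bool.rec (Bool.rec (Bool.rec (Bool.rec f2045 f2046 (Nat.ble 2046 i)) (Bool.rec f2047 f2048 (Nat.ble 2048 i)) (Nat.ble 2047 i)) (Bool.rec (Bool.rec f2049 f2050 (Nat.ble 2050 i)) (Bool.rec f2051 f2052 (Nat.ble 2052 i)) (Nat.ble 2051 i)) (Nat.ble 2049 i)) (Bool.rec (Bool.rec (Bool.rec f2053 f2054 (Nat.ble 2054 i)) (Bool.rec f2055 f2056 (Nat.ble 2056 i)) (Nat.ble 2055 i)) (Bool.rec (Bool.rec f2057 f2058 (Nat.ble 2058 i)) (Bool.rec f2059 (Bool.rec f2060 f2061 (Nat.ble 2061 i)) (Nat.ble 2060 i)) (Nat.ble 2059 i)) (Nat.ble 2057 i)) (Nat.ble 2053 i)) (Nat.ble 2045 i)) (Nat.ble 2028 i)) (Bool.rec (Bool.rec (Bool.rec (Bool.rec (Bool.rec (Bool.rec f2062 f2063 (Nat.ble 2063 i)) (Bool.rec f2064 f2065 (Nat.ble 2065 i)) (Nat.ble 2064 i)) (Bool.rec (Bool.rec f2066 f2067 (Nat.ble 2067 i)) (Bool.rec f2068 f2069 (Nat.ble 2069 i)) (Nat.ble 2068 i)) (Nat.ble 2066 i)) (Bool.rec (Bool.rec (Bool.rec f2070 f2071 (Nat.ble 2071 i)) (Bool.rec f2072 f2073 (Nat.ble 2073 i)) (Nat.ble 2072 i)) (Bool.rec (Bool.rec f2074 f2075 (Nat.ble 2075 i)) (Bool.rec f2076 f2077 (Nat.ble 2077 i)) (Nat.ble 2076 i)) (Nat.ble 2074 i)) (Nat.ble 2070 i)) (Bool.rec (Bool.rec (Bool.rec (Bool.rec f2078 f2079 (Nat.ble 2079 i)) (Bool.rec f2080 f2081 (Nat.ble 2081 i)) (Nat.ble 2080 i)) (Bool.rec (Bool.rec f2082 f2083 (Nat.ble 2083 i)) (Bool.rec f2084 f2085 (Nat.ble 2085 i)) (Nat.ble 2084 i)) (Nat.ble 2082 i)) (Bool.rec (Bool.rec (Bool.rec f2086 f2087 (Nat.ble 2087 i)) (Bool.rec f2088 f2089 (Nat.ble 2089 i)) (Nat.ble 2088 i)) (Bool.rec (Bool.rec f2090 f2091 (Nat.ble 2091 i)) (Bool.rec f2092 (Bool.rec f2093 f2094 (Nat.ble 2094 i)) (Nat.ble 2093 i)) (Nat.ble 2092 i)) (Nat.ble 2090 i)) (Nat.ble 2086 i)) (Nat.ble 2078 i)) (Bool.rec (Bool.rec (Bool.rec (Bool.rec (Bool.rec f2095 f2096 (Nat.ble 2096 i)) (Bool.rec f2097 f2098 (Nat.ble 2098 i)) (Nat.ble 2097 i)) (Bool.rec (Bool.rec f2099 f2100 (Nat.ble 2100 i)) (Bool.rec f2101 f2102 (Nat.ble 2102 i)) (Nat.ble 2101 i)) (Nat.ble 2099 i)) (Bool.rec (Bool.rec (Bool.rec f2103 f2104 (Nat.ble 2104 i)) (Bool.rec f2105 f2106 (Nat.ble 2106 i)) (Nat.ble 2105 i)) (Bool.rec (Bool.rec f2107 f2108 (Nat.ble 2108 i)) (Bool.rec f2109 (Bool.rec f2110 f2111 (Nat.ble 2111 i)) (Nat.ble 2110 i)) (Nat.ble 2109 i)) (Nat.ble 2107 i)) (Nat.ble 2103 i)) (Bool.rec (Bool.rec (Bool.rec (Bool.rec f2112 f2113 (Nat.ble 2113 i)) (Bool.rec f2114 f2115 (Nat.ble 2115 i)) (Nat.ble 2114 i)) (Bool.rec (Bool.rec f2116 f2117 (Nat.ble 2117 i)) (Bool.rec f2118 f2119 (Nat.ble 2119 i)) (Nat.ble 2118 i)) (Nat.ble 2116 i)) (Bool.rec (Bool.rec (Bool.rec f2120 f2121 (Nat.ble 2121 i)) (Bool.rec f2122 f2123 (Nat.ble 2123 i)) (Nat.ble 2122 i)) (Bool.rec (Bool.rec f2124 f2125 (Nat.ble 2125 i)) (Bool.rec f2126 (Bool.rec f2127 f2128 (Nat.ble 2128 i)) (Nat.ble 2127 i)) (Nat.ble 2126 i)) (Nat.ble 2124 i)) (Nat.ble 2120 i)) (Nat.ble 2112 i)) (Nat.ble 2095 i)) (Nat.ble 2062 i)) (Nat.ble 1995 i)) (Nat.ble 1862 i)) (Nat.ble 1596 i)) (Nat.ble 1064 i)) (Bool.rec (Bool.rec (Bool.rec (Bool.rec (Bool.rec (Bool.rec (Bool.rec (Bool.rec (Bool.rec (Bool.rec (Bool.rec f2129 f2130 (Nat.ble 2130 i)) (Bool.rec f2131 f2132 (Nat.ble 2132 i)) (Nat.ble 2131 i)) (Bool.rec (Bool.rec f2133 f2134 (Nat.ble 2134 i)) (Bool.rec f2135 f2136 (Nat.ble 2136 i)) (Nat.ble 2135 i)) (Nat.ble 2133 i)) (Bool.rec (Bool.rec (Bool.rec f2137 f2138 (Nat.ble 2138 i)) (Bool.rec f2139 f2140 (Nat.ble 2140 i)) (Nat.ble 2139 i)) (Bool.rec (Bool.rec f2141 f2142 (Nat.ble 2142 i)) (Bool.rec f2143 f2144 (Nat.ble 2144 i)) (Nat.ble 2143 i)) (Nat.ble 2141 i)) (Nat.ble 2137 i)) (Bool.rec (Bool.rec (Bool.rec (Bool.rec f2145 f2146 (Nat.ble 2146 i)) (Bool.rec f2147 f2148 (Nat.ble 2148 i)) (Nat.ble 2147 i)) (Bool.rec (Bool.rec f2149 f2150 (Nat.ble 2150 i)) (Bool.rec f2151 f2152 (Nat.ble 2152 i)) (Nat.ble 2151 i)) (Nat.ble 2149 i)) (Bool.rec (Bool.rec (Bool.rec f2153 f2154 (Nat.ble 2154 i)) (Bool.rec f2155 f2156 (Nat.ble 2156 i)) (Nat.ble 2155 i)) (Bool.rec (Bool.rec f2157 f2158 (Nat.ble 2158 i)) (Bool.rec f2159 (Bool.rec f2160 f2161 (Nat.ble 2161 i)) (Nat.ble 2160 i)) (Nat.ble 2159 i)) (Nat.ble 2157 i)) (Nat.ble 2153 i)) (Nat.ble 2145 i)) (Bool.rec (Bool.rec (Bool.rec (Bool.rec (Bool.rec f2162 f2163 (Nat.ble 2163 i)) (Bool.rec f2164 f2165 (Nat.ble 2165 i)) (Nat.ble 2164 i)) (Bool.rec (Bool.rec f2166 f2167 (Nat.ble 2167 i)) (Bool.rec f2168 f2169 (Nat.ble 2169 i)) (Nat.ble 2168 i)) (Nat.ble 2166 i)) (Bool.rec (Bool.rec (Bool.rec f2170 f2171 (Nat.ble 2171 i)) (Bool.rec f2172 f2173 (Nat.ble 2173 i)) (Nat.ble 2172 i)) (Bool.rec (Bool.rec f2174 f2175 (Nat.ble 2175 i)) (Bool.rec f2176 f2177 (Nat.ble 2177 i)) (Nat.ble 2176 i)) (Nat.ble 2174 i)) (Nat.ble 2170 i)) (Bool.rec (Bool.rec (Bool.rec (Bool.rec f2178 f2179 (Nat.ble 2179 i)) (Bool.rec f2180 f2181 (Nat.ble 2181 i)) (Nat.ble 2180 i)) (Bool.rec (Bool.rec f2182 f2183 (Nat.ble 2183 i)) (Bool.rec f2184 f2185 (Nat.ble 2185 i)) (Nat.ble 2184 i)) (Nat.ble 2182 i)) (Bool.rec (Bool.rec (Bool.rec f2186 f2187 (Nat.ble 2187 i)) (Bool.rec f2188 f2189 (Nat.ble 2189 i)) (Nat.ble 2188 i)) (Bool.rec (Bool.rec f2190 f2191 (Nat.ble 2191 i)) (Bool.rec f2192 (Bool.rec f2193 f2194 (Nat.ble 2194 i)) (Nat.ble 2193 i)) (Nat.ble 2192 i)) (Nat.ble 2190 i)) (Nat.ble 2186 i)) (Nat.ble 2178 i)) (Nat.ble 2162 i)) (Bool.rec (Bool.rec (Bool.rec (Bool.rec (Bool.rec (Bool.rec f2195 f2196 (Nat.ble 2196 i)) (Bool.rec f2197 f2198 (Nat.ble 2198 i)) (Nat.ble 2197 i)) (Bool.rec (Bool.rec f2199 f2200 (Nat.ble 2200 i)) (Bool.rec f2201 f2202 (Nat.ble 2202 i)) (Nat.ble 2201 i)) (Nat.ble 2199 i)) (Bool.rec (Bool.rec (Bool.rec f2203 f2204 (Nat.ble 2204 i)) (Bool.rec f2205 f2206 (Nat.ble 2206 i)) (Nat.ble 2205 i)) (Bool.rec (Bool.rec f2207 f2208 (Nat.ble 2208 i)) (Bool.rec f2209 f2210 (Nat.ble 2210 i)) (Nat.ble 2209 i)) (Nat.ble 2207 i)) (Nat.ble 2203 i)) (Bool.rec (Bool.rec (Bool.rec (Bool.rec f2211 f2212 (Nat.ble 2212 i)) (Bool.rec f2213 f2214 (Nat.ble 2214 i)) (Nat.ble 2213 i)) (Bool.rec (Bool.rec f2215 f2216 (Nat.ble 2216 i)) (Bool.rec f2217 f2218 (Nat.ble 2218 i)) (Nat.ble 2217 i)) (Nat.ble 2215 i)) (Bool.rec (Bool.rec (Bool.rec f2219 f2220 (Nat.ble 2220 i)) (Bool.rec f2221 f2222 (Nat.ble 2222 i)) (Nat.ble 2221 i)) (Bool.rec (Bool.rec f2223 f2224 (Nat.ble 2224 i)) (Bool.rec f2225 (Bool.rec f2226 f2227 (Nat.ble 2227 i)) (Nat.ble 2226 i)) (Nat.ble 2225 i)) (Nat.ble 2223 i)) (Nat.ble 2219 i)) (Nat.ble 2211 i)) (Bool.rec (Bool.rec (Bool.rec (Bool.rec (Bool.rec f2228 f2229 (Nat.ble 2229 i)) (Bool.rec f2230 f2231 (Nat.ble 2231 i)) (Nat.ble 2230 i)) (Bool.rec (Bool.rec f2232 f2233 (Nat.ble 2233 i)) (Bool.rec f2234 f2235 (Nat.ble 2235 i)) (Nat.ble 2234 i)) (Nat.ble 2232 i)) (Bool.rec (Bool.rec (Bool.rec f2236 f2237 (Nat.ble 2237 i)) (Bool.rec f2238 f2239 (Nat.ble 2239 i)) (Nat.ble 2238 i)) (Bool.rec (Bool.rec f2240 f2241 (Nat.ble 2241 i)) (Bool.rec f2242 (Bool.rec f2243 f2244 (Nat.ble 2244 i)) (Nat.ble 2243 i)) (Nat.ble 2242 i)) (Nat.ble 2240 i)) (Nat.ble 2236 i)) (Bool.rec (Bool.rec (Bool.rec (Bool.rec f2245 f2246 (Nat.ble 2246 i)) (Bool.rec f2247 f2248 (Nat.ble 2248 i)) (Nat.ble 2247 i)) (Bool.rec (Bool.rec f2249 f2250 (Nat.ble 2250 i)) (Bool.rec f2251 f2252 (Nat.ble 2252 i)) (Nat.ble 2251 i)) (Nat.ble 2249 i)) (Bool.rec (Bool.rec (Bool.rec f2253 f2254 (Nat.ble 2254 i)) (Bool.rec f2255 f2256 (Nat.ble 2256 i)) (Nat.ble 2255 i)) (Bool.rec (Bool.rec f2257 f2258 (Nat.ble 2258 i)) (Bool.rec f2259 (Bool.rec f2260 f2261 (Nat.ble 2261 i)) (Nat.ble 2260 i)) (Nat.ble 2259 i)) (Nat.ble 2257 i)) (Nat.ble 2253 i)) (Nat.ble 2245 i)) (Nat.ble 2228 i)) (Nat.ble 2195 i)) (Bool.rec (Bool.rec (Bool.rec (Bool.rec (Bool.rec (Bool.rec (Bool.rec f2262 f2263 (Nat.ble 2263 i)) (Bool.rec f2264 f2265 (Nat.ble 2265 i)) (Nat.ble 2264 i)) (Bool.rec (Bool.rec f2266 f2267 (Nat.ble 2267 i)) (Bool.rec f2268 f2269 (Nat.ble 2269 i)) (Nat.ble 2268 i)) (Nat.ble 2266 i)) (Bool.rec (Bool.rec (Bool.rec f2270 f2271 (Nat.ble 2271 i)) (Bool.rec f2272 f2273 (Nat.ble 2273 i)) (Nat.ble 2272 i)) (Bool.rec (Bool.rec f2274 f2275 (Nat.ble 2275 i)) (Bool.rec f2276 f2277 (Nat.ble 2277 i)) (Nat.ble 2276 i)) (Nat.ble 2274 i)) (Nat.ble 2270 i)) (Bool.rec (Bool.rec (Bool.rec (Bool.rec f2278 f2279 (Nat.ble 2279 i)) (Bool.rec f2280 f2281 (Nat.ble 2281 i)) (Nat.ble 2280 i)) (Bool.rec (Bool.rec f2282 f2283 (Nat.ble 2283 i)) (Bool.rec f2284 f2285 (Nat.ble 2285 i)) (Nat.ble 2284 i)) (Nat.ble 2282 i)) (Bool.rec (Bool.rec (Bool.rec f2286 f2287 (Nat.ble 2287 i)) (Bool.rec f2288 f2289 (Nat.ble 2289 i)) (Nat.ble 2288 i)) (Bool.rec (Bool.rec f2290 f2291 (Nat.ble 2291 i)) (Bool.rec f2292 (Bool.rec f2293 f2294 (Nat.ble 2294 i)) (Nat.ble 2293 i)) (Nat.ble 2292 i)) (Nat.ble 2290 i)) (Nat.ble 2286 i)) (Nat.ble 2278 i)) (Bool.rec (Bool.rec (Bool.rec (Bool.rec (Bool.rec f2295 f2296 (Nat.ble 2296 i)) (Bool.rec f2297 f2298 (Nat.ble 2298 i)) (Nat.ble 2297 i)) (Bool.rec (Bool.rec f2299 f2300 (Nat.ble 2300 i)) (Bool.rec f2301 f2302 (Nat.ble 2302 i)) (Nat.ble 2301 i)) (Nat.ble 2299 i)) (Bool.rec (Bool.rec (Bool.rec f2303 f2304 (Nat.ble 2304 i)) (Bool.rec f2305 f2306 (Nat.ble 2306 i)) (Nat.ble 2305 i)) (Bool.rec (Bool.rec f2307 f2308 (Nat.ble 2308 i)) (Bool.rec f2309 f2310 (Nat.ble 2310 i)) (Nat.ble 2309 i)) (Nat.ble 2307 i)) (Nat.ble 2303 i)) (Bool.rec (Bool.rec (Bool.rec (Bool.rec f2311 f2312 (Nat.ble 2312 i)) (Bool.rec f2313 f2314 (Nat.ble 2314 i)) (Nat.ble 2313 i)) (Bool.rec (Bool.rec f2315 f2316 (Nat.ble 2316 i)) (Bool.rec f2317 f2318 (Nat.ble 2318 i)) (Nat.ble 2317 i)) (Nat.ble 2315 i)) (Bool.rec (Bool.rec (Bool.rec f2319 f2320 (Nat.ble 2320 i)) (Bool.rec f2321 f2322 (Nat.ble 2322 i)) (Nat.ble 2321 i)) (Bool.rec (Bool.rec f2323 f2324 (Nat.ble 2324 i)) (Bool.rec f2325 (Bool.rec f2326 f2327 (Nat.ble 2327 i)) (Nat.ble 2326 i)) (Nat.ble 2325 i)) (Nat.ble 2323 i)) (Nat.ble 2319 i)) (Nat.ble 2311 i)) (Nat.ble 2295 i)) (Bool.rec (Bool.rec (Bool.rec (Bool.rec (Bool.rec (Bool.rec f2328 f2329 (Nat.ble 2329 i)) (Bool.rec f2330 f2331 (Nat.ble 2331 i)) (Nat.ble 2330 i)) (Bool.rec (Bool.rec f2332 f2333 (Nat.ble 2333 i)) (Bool.rec f2334 f2335 (Nat.ble 2335 i)) (Nat.ble 2334 i)) (Nat.ble 2332 i)) (Bool.rec (Bool.rec (Bool.rec f2336 f2337 (Nat.ble 2337 i)) (Bool.rec f2338 f2339 (Nat.ble 2339 i)) (Nat.ble 2338 i)) (Bool.rec (Bool.rec f2340 f2341 (Nat.ble 2341 i)) (Bool.rec f2342 f2343 (Nat.ble 2343 i)) (Nat.ble 2342 i)) (Nat.ble 2340 i)) (Nat.ble 2336 i)) (Bool.rec (Bool.rec (Bool.rec (Bool.rec f2344 f2345 (Nat.ble 2345 i)) (Bool.rec f2346 f2347 (Nat.ble 2347 i)) (Nat.ble 2346 i)) (Bool.rec (Bool.rec f2348 f2349 (Nat.ble 2349 i)) (Bool.rec f2350 f2351 (Nat.ble 2351 i)) (Nat.ble 2350 i)) (Nat.ble 2348 i)) (Bool.rec (Bool.rec (Bool.rec f2352 f2353 (Nat.ble 2353 i)) (Bool.rec f2354 f2355 (Nat.ble 2355 i)) (Nat.ble 2354 i)) (Bool.rec (Bool.rec f2356 f2357 (Nat.ble 2357 i)) (Bool.rec f2358 (Bool.rec f2359 f2360 (Nat.ble 2360 i)) (Nat.ble 2359 i)) (Nat.ble 2358 i)) (Nat.ble 2356 i)) (Nat.ble 2352 i)) (Nat.ble 2344 i)) (Bool.rec (Bool.rec (Bool.rec (Bool.rec (Bool.rec f2361 f2362 (Nat.ble 2362 i)) (Bool.rec f2363 f2364 (Nat.ble 2364 i)) (Nat.ble 2363 i)) (Bool.rec (Bool.rec f2365 f2366 (Nat.ble 2366 i)) (Bool.rec f2367 f2368 (Nat.ble 2368 i)) (Nat.ble 2367 i)) (Nat.ble 2365 i)) (Bool.rec (Bool.rec (Bool.rec f2369 f2370 (Nat.ble 2370 i)) (Bool.rec f2371 f2372 (Nat.ble 2372 i)) (Nat.ble 2371 i)) (Bool.rec (Bool.rec f2373 f2374 (Nat.ble 2374 i)) (Bool.rec f2375 (Bool.rec f2376 f2377 (Nat.ble 2377 i)) (Nat.ble 2376 i)) (Nat.ble 2375 i)) (Nat.ble 2373 i)) (Nat.ble 2369 i)) (Bool.rec (Bool.rec (Bool.rec (Bool.rec f2378 f2379 (Nat.ble 2379 i)) (Bool.rec f2380 f2381 (Nat.ble 2381 i)) (Nat.ble 2380 i)) (Bool.rec (Bool.rec f2382 f2383 (Nat.ble 2383 i)) (Bool.rec f2384 f2385 (Nat.ble 2385 i)) (Nat.ble 2384 i)) (Nat.ble 2382 i)) (Bool.rec (Bool.rec (Bool.rec f2386 f2387 (Nat.ble 2387 i)) (Bool.rec f2388 f2389 (Nat.ble 2389 i)) (Nat.ble 2388 i)) (Bool.rec (Bool.rec f2390 f2391 (Nat.ble 2391 i)) (Bool.rec f2392 (Bool.rec f2393 f2394 (Nat.ble 2394 i)) (Nat.ble 2393 i)) (Nat.ble 2392 i)) (Nat.ble 2390 i)) (Nat.ble 2386 i)) (Nat.ble 2378 i)) (Nat.ble 2361 i)) (Nat.ble 2328 i)) (Nat.ble 2262 i)) (Bool.rec (Bool.rec (Bool.rec (Bool.rec (Bool.rec (Bool.rec (Bool.rec (Bool.rec f2395 f2396 (Nat.ble 2396 i)) (Bool.rec f2397 f2398 (Nat.ble 2398 i)) (Nat.ble 2397 i)) (Bool.rec (Bool.rec f2399 f2400 (Nat.ble 2400 i)) (Bool.rec f2401 f2402 (Nat.ble 2402 i)) (Nat.ble 2401 i)) (Nat.ble 2399 i)) (Bool.rec (Bool.rec (Bool.rec f2403 f2404 (Nat.ble 2404 i)) (Bool.rec f2405 f2406 (Nat.ble 2406 i)) (Nat.ble 2405 i)) (Bool.rec (Bool.rec f2407 f2408 (Nat.ble 2408 i)) (Bool.rec f2409 f2410 (Nat.ble 2410 i)) (Nat.ble 2409 i)) (Nat.ble 2407 i)) (Nat.ble 2403 i)) (Bool.rec (Bool.rec (Bool.rec (Bool.rec f2411 f2412 (Nat.ble 2412 i)) (Bool.rec f2413 f2414 (Nat.ble 2414 i)) (Nat.ble 2413 i)) (Bool.rec (Bool.rec f2415 f2416 (Nat.ble 2416 i)) (Bool.rec f2417 f2418 (Nat.ble 2418 i)) (Nat.ble 2417 i)) (Nat.ble 2415 i)) (Bool.rec (Bool.rec (Bool.rec f2419 f2420 (Nat.ble 2420 i)) (Bool.rec f2421 f2422 (Nat.ble 2422 i)) (Nat.ble 2421 i)) (Bool.rec (Bool.rec f2423 f2424 (Nat.ble 2424 i)) (Bool.rec f2425 (Bool.rec f2426 f2427 (Nat.ble 2427 i)) (Nat.ble 2426 i)) (Nat.ble 2425 i)) (Nat.ble 2423 i)) (Nat.ble 2419 i)) (Nat.ble 2411 i)) (Bool.rec (Bool.rec (Bool.rec (Bool.rec (Bool.rec f2428 f2429 (Nat.ble 2429 i)) (Bool.rec f2430 f2431 (Nat.ble 2431 i)) (Nat.ble 2430 i)) (Bool.rec (Bool.rec f2432 f2433 (Nat.ble 2433 i)) (Bool.rec f2434 f2435 (Nat.ble 2435 i)) (Nat.ble 2434 i)) (Nat.ble 2432 i)) (Bool.rec (Bool.rec (Bool.rec f2436 f2437 (Nat.ble 2437 i)) (Bool.rec f2438 f2439 (Nat.ble 2439 i)) (Nat.ble 2438 i)) (Bool.rec (Bool.rec f2440 f2441 (Nat.ble 2441 i)) (Bool.rec f2442 f2443 (Nat.ble 2443 i)) (Nat.ble 2442 i)) (Nat.ble 2440 i)) (Nat.ble 2436 i)) (Bool.rec (Bool.rec (Bool.rec (Bool.rec f2444 f2445 (Nat.ble 2445 i)) (Bool.rec f2446 f2447 (Nat.ble 2447 i)) (Nat.ble 2446 i)) (Bool.rec (Bool.rec f2448 f2449 (Nat.ble 2449 i)) (Bool.rec f2450 f2451 (Nat.ble 2451 i)) (Nat.ble 2450 i)) (Nat.ble 2448 i)) (Bool.rec (Bool.rec (Bool.rec f2452 f2453 (Nat.ble 2453 i)) (Bool.rec f2454 f2455 (Nat.ble 2455 i)) (Nat.ble 2454 i)) (Bool.rec (Bool.rec f2456 f2457 (Nat.ble 2457 i)) (Bool.rec f2458 (Bool.rec f2459 f2460 (Nat.ble 2460 i)) (Nat.ble 2459 i)) (Nat.ble 2458 i)) (Nat.ble 2456 i)) (Nat.ble 2452 i)) (Nat.ble 2444 i)) (Nat.ble 2428 i)) (Bool.rec (Bool.rec (Bool.rec (Bool.rec (Bool.rec (Bool.rec f2461 f2462 (Nat.ble 2462 i)) (Bool.rec f2463 f2464 (Nat.ble 2464 i)) (Nat.ble 2463 i)) (Bool.rec (Bool.rec f2465 f2466 (Nat.ble 2466 i)) (Bool.rec f2467 f2468 (Nat.ble 2468 i)) (Nat.ble 2467 i)) (Nat.ble 2465 i)) (Bool.rec (Bool.rec (Bool.rec f2469 f2470 (Nat.ble 2470 i)) (Bool.rec f2471 f2472 (Nat.ble 2472 i)) (Nat.ble 2471 i)) (Bool.rec (Bool.rec f2473 f2474 (Nat.ble 2474 i)) (Bool.rec f2475 f2476 (Nat.ble 2476 i)) (Nat.ble 2475 i)) (Nat.ble 2473 i)) (Nat.ble 2469 i)) (Bool.rec (Bool.rec (Bool.rec (Bool.rec f2477 f2478 (Nat.ble 2478 i)) (Bool.rec f2479 f2480 (Nat.ble 2480 i)) (Nat.ble 2479 i)) (Bool.rec (Bool.rec f2481 f2482 (Nat.ble 2482 i)) (Bool.rec f2483 f2484 (Nat.ble 2484 i)) (Nat.ble 2483 i)) (Nat.ble 2481 i)) (Bool.rec (Bool.rec (Bool.rec f2485 f2486 (Nat.ble 2486 i)) (Bool.rec f2487 f2488 (Nat.ble 2488 i)) (Nat.ble 2487 i)) (Bool.rec (Bool.rec f2489 f2490 (Nat.ble 2490 i)) (Bool.rec f2491 (Bool.rec f2492 f2493 (Nat.ble 2493 i)) (Nat.ble 2492 i)) (Nat.ble 2491 i)) (Nat.ble 2489 i)) (Nat.ble 2485 i)) (Nat.ble 2477 i)) (Bool.rec (Bool.rec (Bool.rec (Bool.rec (Bool.rec f2494 f2495 (Nat.ble 2495 i)) (Bool.rec f2496 f2497 (Nat.ble 2497 i)) (Nat.ble 2496 i)) (Bool.rec (Bool.rec f2498 f2499 (Nat.ble 2499 i)) (Bool.rec f2500 f2501 (Nat.ble 2501 i)) (Nat.ble 2500 i)) (Nat.ble 2498 i)) (Bool.rec (Bool.rec (Bool.rec f2502 f2503 (Nat.ble 2503 i)) (Bool.rec f2504 f2505 (Nat.ble 2505 i)) (Nat.ble 2504 i)) (Bool.rec (Bool.rec f2506 f2507 (Nat.ble 2507 i)) (Bool.rec f2508 (Bool.rec f2509 f2510 (Nat.ble 2510 i)) (Nat.ble 2509 i)) (Nat.ble 2508 i)) (Nat.ble 2506 i)) (Nat.ble 2502 i)) (Bool.rec (Bool.rec (Bool.rec (Bool.rec f2511 f2512 (Nat.ble 2512 i)) (Bool.rec f2513 f2514 (Nat.ble 2514 i)) (Nat.ble 2513 i)) (Bool.rec (Bool.rec f2515 f2516 (Nat.ble 2516 i)) (Bool.rec f2517 f2518 (Nat.ble 2518 i)) (Nat.ble 2517 i)) (Nat.ble 2515 i)) (Bool.rec (Bool.rec (Bool.rec f2519 f2520 (Nat.ble 2520 i)) (Bool.rec f2521 f2522 (Nat.ble 2522 i)) (Nat.ble 2521 i)) (Bool.rec (Bool.rec f2523 f2524 (Nat.ble 2524 i)) (Bool.rec f2525 (Bool.rec f2526 f2527 (Nat.ble 2527 i)) (Nat.ble 2526 i)) (Nat.ble 2525 i)) (Nat.ble 2523 i)) (Nat.ble 2519 i)) (Nat.ble 2511 i)) (Nat.ble 2494 i)) (Nat.ble 2461 i)) (Bool.rec (Bool.rec (Bool.rec (Bool.rec (Bool.rec (Bool.rec (Bool.rec f2528 f2529 (Nat.ble 2529 i)) (Bool.rec f2530 f2531 (Nat.ble 2531 i)) (Nat.ble 2530 i)) (Bool.rec (Bool.rec f2532 f2533 (Nat.ble 2533 i)) (Bool.rec f2534 f2535 (Nat.ble 2535 i)) (Nat.ble 2534 i)) (Nat.ble 2532 i)) (Bool.rec (Bool.rec (Bool.rec f2536 f2537 (Nat.ble 2537 i)) (Bool.rec f2538 f2539 (Nat.ble 2539 i)) (Nat.ble 2538 i)) (Bool.rec (Bool.rec f2540 f2541 (Nat.ble 2541 i)) (Bool.rec f2542 f2543 (Nat.ble 2543 i)) (Nat.ble 2542 i)) (Nat.ble 2540 i)) (Nat.ble 2536 i)) (Bool.rec (Bool.rec (Bool.rec (Bool.rec f2544 f2545 (Nat.ble 2545 i)) (Bool.rec f2546 f2547 (Nat.ble 2547 i)) (Nat.ble 2546 i)) (Bool.rec (Bool.rec f2548 f2549 (Nat.ble 2549 i)) (Bool.rec f2550 f2551 (Nat.ble 2551 i)) (Nat.ble 2550 i)) (Nat.ble 2548 i)) (Bool.rec (Bool.rec (Bool.rec f2552 f2553 (Nat.ble 2553 i)) (Bool.rec f2554 f2555 (Nat.ble 2555 i)) (Nat.ble 2554 i)) (Bool.rec (Bool.rec f2556 f2557 (Nat.ble 2557 i)) (Bool.rec f2558 (Bool.rec f2559 f2560 (Nat.ble 2560 i)) (Nat.ble 2559 i)) (Nat.ble 2558 i)) (Nat.ble 2556 i)) (Nat.ble 2552 i)) (Nat.ble 2544 i)) (Bool.rec (Bool.rec (Bool.rec (Bool.rec (Bool.rec f2561 f2562 (Nat.ble 2562 i)) (Bool.rec f2563 f2564 (Nat.ble 2564 i)) (Nat.ble 2563 i)) (Bool.rec (Bool.rec f2565 f2566 (Nat.ble 2566 i)) (Bool.rec f2567 f2568 (Nat.ble 2568 i)) (Nat.ble 2567 i)) (Nat.ble 2565 i)) (Bool.rec (Bool.rec (Bool.rec f2569 f2570 (Nat.ble 2570 i)) (Bool.rec f2571 f2572 (Nat.ble 2572 i)) (Nat.ble 2571 i)) (Bool.rec (Bool.rec f2573 f2574 (Nat.ble 2574 i)) (Bool.rec f2575 f2576 (Nat.ble 2576 i)) (Nat.ble 2575 i)) (Nat.ble 2573 i)) (Nat.ble 2569 i)) (Bool.rec (Bool.rec (Bool.rec (Bool.rec f2577 f2578 (Nat.ble 2578 i)) (Bool.rec f2579 f2580 (Nat.ble 2580 i)) (Nat.ble 2579 i)) (Bool.rec (Bool.rec f2581 f2582 (Nat.ble 2582 i)) (Bool.rec f2583 f2584 (Nat.ble 2584 i)) (Nat.ble 2583 i)) (Nat.ble 2581 i)) (Bool.rec (Bool.rec (Bool.rec f2585 f2586 (Nat.ble 2586 i)) (Bool.rec f2587 f2588 (Nat.ble 2588 i)) (Nat.ble 2587 i)) (Bool.rec (Bool.rec f2589 f2590 (Nat.ble 2590 i)) (Bool.rec f2591 (Bool.rec f2592 f2593 (Nat.ble 2593 i)) (Nat.ble 2592 i)) (Nat.ble 2591 i)) (Nat.ble 2589 i)) (Nat.ble 2585 i)) (Nat.ble 2577 i)) (Nat.ble 2561 i)) (Bool.rec (Bool.rec (Bool.rec (Bool.rec (Bool.rec (Bool.rec f2594 f2595 (Nat.ble 2595 i)) (Bool.rec f2596 f2597 (Nat.ble 2597 i)) (Nat.ble 2596 i)) (Bool.rec (Bool.rec f2598 f2599 (Nat.ble 2599 i)) (Bool.rec f2600 f2601 (Nat.ble 2601 i)) (Nat.ble 2600 i)) (Nat.ble 2598 i)) (Bool.rec (Bool.rec (Bool.rec f2602 f2603 (Nat.ble 2603 i)) (Bool.rec f2604 f2605 (Nat.ble 2605 i)) (Nat.ble 2604 i)) (Bool.rec (Bool.rec f2606 f2607 (Nat.ble 2607 i)) (Bool.rec f2608 f2609 (Nat.ble 2609 i)) (Nat.ble 2608 i)) (Nat.ble 2606 i)) (Nat.ble 2602 i)) (Bool.rec (Bool.rec (Bool.rec (Bool.rec f2610 f2611 (Nat.ble 2611 i)) (Bool.rec f2612 f2613 (Nat.ble 2613 i)) (Nat.ble 2612 i)) (Bool.rec (Bool.rec f2614 f2615 (Nat.ble 2615 i)) (Bool.rec f2616 f2617 (Nat.ble 2617 i)) (Nat.ble 2616 i)) (Nat.ble 2614 i)) (Bool.rec (Bool.rec (Bool.rec f2618 f2619 (Nat.ble 2619 i)) (Bool.rec f2620 f2621 (Nat.ble 2621 i)) (Nat.ble 2620 i)) (Bool.rec (Bool.rec f2622 f2623 (Nat.ble 2623 i)) (Bool.rec f2624 (Bool.rec f2625 f2626 (Nat.ble 2626 i)) (Nat.ble 2625 i)) (Nat.ble 2624 i)) (Nat.ble 2622 i)) (Nat.ble 2618 i)) (Nat.ble 2610 i)) (Bool.rec (Bool.rec (Bool.rec (Bool.rec (Bool.rec f2627 f2628 (Nat.ble 2628 i)) (Bool.rec f2629 f2630 (Nat.ble 2630 i)) (Nat.ble 2629 i)) (Bool.rec (Bool.rec f2631 f2632 (Nat.ble 2632 i)) (Bool.rec f2633 f2634 (Nat.ble 2634 i)) (Nat.ble 2633 i)) (Nat.ble 2631 i)) (Bool.rec (Bool.rec (Bool.rec f2635 f2636 (Nat.ble 2636 i)) (Bool.rec f2637 f2638 (Nat.ble 2638 i)) (Nat.ble 2637 i)) (Bool.rec (Bool.rec f2639 f2640 (Nat.ble 2640 i)) (Bool.rec f2641 (Bool.rec f2642 f2643 (Nat.ble 2643 i)) (Nat.ble 2642 i)) (Nat.ble 2641 i)) (Nat.ble 2639 i)) (Nat.ble 2635 i)) (Bool.rec (Bool.rec (Bool.rec (Bool.rec f2644 f2645 (Nat.ble 2645 i)) (Bool.rec f2646 f2647 (Nat.ble 2647 i)) (Nat.ble 2646 i)) (Bool.rec (Bool.rec f2648 f2649 (Nat.ble 2649 i)) (Bool.rec f2650 f2651 (Nat.ble 2651 i)) (Nat.ble 2650 i)) (Nat.ble 2648 i)) (Bool.rec (Bool.rec (Bool.rec f2652 f2653 (Nat.ble 2653 i)) (Bool.rec f2654 f2655 (Nat.ble 2655 i)) (Nat.ble 2654 i)) (Bool.rec (Bool.rec f2656 f2657 (Nat.ble 2657 i)) (Bool.rec f2658 (Bool.rec f2659 f2660 (Nat.ble 2660 i)) (Nat.ble 2659 i)) (Nat.ble 2658 i)) (Nat.ble 2656 i)) (Nat.ble 2652 i)) (Nat.ble 2644 i)) (Nat.ble 2627 i)) (Nat.ble 2594 i)) (Nat.ble 2528 i)) (Nat.ble 2395 i)) (Bool.rec (Bool.rec (Bool.rec (Bool.rec (Bool.rec (Bool.rec (Bool.rec (Bool.rec (Bool.rec f2661 f2662 (Nat.ble 2662 i)) (Bool.rec f2663 f2664 (Nat.ble 2664 i)) (Nat.ble 2663 i)) (Bool.rec (Bool.rec f2665 f2666 (Nat.ble 2666 i)) (Bool.rec f2667 f2668 (Nat.ble 2668 i)) (Nat.ble 2667 i)) (Nat.ble 2665 i)) (Bool.rec (Bool.rec (Bool.rec f2669 f2670 (Nat.ble 2670 i)) (Bool.rec f2671 f2672 (Nat.ble 2672 i)) (Nat.ble 2671 i)) (Bool.rec (Bool.rec f2673 f2674 (Nat.ble 2674 i)) (Bool.rec f2675 f2676 (Nat.ble 2676 i)) (Nat.ble 2675 i)) (Nat.ble 2673 i)) (Nat.ble 2669 i)) (Bool.rec (Bool.rec (Bool.rec (Bool.rec f2677 f2678 (Nat.ble 2678 i)) (Bool.rec f2679 f2680 (Nat.ble 2680 i)) (Nat.ble 2679 i)) (Bool.rec (Bool.rec f2681 f2682 (Nat.ble 2682 i)) (Bool.rec f2683 f2684 (Nat.ble 2684 i)) (Nat.ble 2683 i)) (Nat.ble 2681 i)) (Bool.rec (Bool.rec (Bool.rec f2685 f2686 (Nat.ble 2686 i)) (Bool.rec f2687 f2688 (Nat.ble 2688 i)) (Nat.ble 2687 i)) (Bool.rec (Bool.rec f2689 f2690 (Nat.ble 2690 i)) (Bool.rec f2691 (Bool.rec f2692 f2693 (Nat.ble 2693 i)) (Nat.ble 2692 i)) (Nat.ble 2691 i)) (Nat.ble 2689 i)) (Nat.ble 2685 i)) (Nat.ble 2677 i)) (Bool.rec (Bool.rec (Bool.rec (Bool.rec (Bool.rec f2694 f2695 (Nat.ble 2695 i)) (Bool.rec f2696 f2697 (Nat.ble 2697 i)) (Nat.ble 2696 i)) (Bool.rec (Bool.rec f2698 f2699 (Nat.ble 2699 i)) (Bool.rec f2700 f2701 (Nat.ble 2701 i)) (Nat.ble 2700 i)) (Nat.ble 2698 i)) (Bool.rec (Bool.rec (Bool.rec f2702 f2703 (Nat.ble 2703 i)) (Bool.rec f2704 f2705 (Nat.ble 2705 i)) (Nat.ble 2704 i)) (Bool.rec (Bool.rec f2706 f2707 (Nat.ble 2707 i)) (Bool.rec f2708 f2709 (Nat.ble 2709 i)) (Nat.ble 2708 i)) (Nat.ble 2706 i)) (Nat.ble 2702 i)) (Bool.rec (Bool.rec (Bool.rec (Bool.rec f2710 f2711 (Nat.ble 2711 i)) (Bool.rec f2712 f2713 (Nat.ble 2713 i)) (Nat.ble 2712 i)) (Bool.rec (Bool.rec f2714 f2715 (Nat.ble 2715 i)) (Bool.rec f2716 f2717 (Nat.ble 2717 i)) (Nat.ble 2716 i)) (Nat.ble 2714 i)) (Bool.rec (Bool.rec (Bool.rec f2718 f2719 (Nat.ble 2719 i)) (Bool.rec f2720 f2721 (Nat.ble 2721 i)) (Nat.ble 2720 i)) (Bool.rec (Bool.rec f2722 f2723 (Nat.ble 2723 i)) (Bool.rec f2724 (Bool.rec f2725 f2726 (Nat.ble 2726 i)) (Nat.ble 2725 i)) (Nat.ble 2724 i)) (Nat.ble 2722 i)) (Nat.ble 2718 i)) (Nat.ble 2710 i)) (Nat.ble 2694 i)) (Bool.rec (Bool.rec (Bool.rec (Bool.rec (Bool.rec (Bool.rec f2727 f2728 (Nat.ble 2728 i)) (Bool.rec f2729 f2730 (Nat.ble 2730 i)) (Nat.ble 2729 i)) (Bool.rec (Bool.rec f2731 f2732 (Nat.ble 2732 i)) (Bool.rec f2733 f2734 (Nat.ble 2734 i)) (Nat.ble 2733 i)) (Nat.ble 2731 i)) (Bool.rec (Bool.rec (Bool.rec f2735 f2736 (Nat.ble 2736 i)) (Bool.rec f2737 f2738 (Nat.ble 2738 i)) (Nat.ble 2737 i)) (Bool.rec (Bool.rec f2739 f2740 (Nat.ble 2740 i)) (Bool.rec f2741 f2742 (Nat.ble 2742 i)) (Nat.ble 2741 i)) (Nat.ble 2739 i)) (Nat.ble 2735 i)) (Bool.rec (Bool.rec (Bool.rec (Bool.rec f2743 f2744 (Nat.ble 2744 i)) (Bool.rec f2745 f2746 (Nat.ble 2746 i)) (Nat.ble 2745 i)) (Bool.rec (Bool.rec f2747 f2748 (Nat.ble 2748 i)) (Bool.rec f2749 f2750 (Nat.ble 2750 i)) (Nat.ble 2749 i)) (Nat.ble 2747 i)) (Bool.rec (Bool.rec (Bool.rec f2751 f2752 (Nat.ble 2752 i)) (Bool.rec f2753 f2754 (Nat.ble 2754 i)) (Nat.ble 2753 i)) (Bool.rec (Bool.rec f2755 f2756 (Nat.ble 2756 i)) (Bool.rec f2757 (Bool.rec f2758 f2759 (Nat.ble 2759 i)) (Nat.ble 2758 i)) (Nat.ble 2757 i)) (Nat.ble 2755 i)) (Nat.ble 2751 i)) (Nat.ble 2743 i)) (Bool.rec (Bool.rec (Bool.rec (Bool.rec (Bool.rec f2760 f2761 (Nat.ble 2761 i)) (Bool.rec f2762 f2763 (Nat.ble 2763 i)) (Nat.ble 2762 i)) (Bool.rec (Bool.rec f2764 f2765 (Nat.ble 2765 i)) (Bool.rec f2766 f2767 (Nat.ble 2767 i)) (Nat.ble 2766 i)) (Nat.ble 2764 i)) (Bool.rec (Bool.rec (Bool.rec f2768 f2769 (Nat.ble 2769 i)) (Bool.rec f2770 f2771 (Nat.ble 2771 i)) (Nat.ble 2770 i)) (Bool.rec (Bool.rec f2772 f2773 (Nat.ble 2773 i)) (Bool.rec f2774 (Bool.rec f2775 f2776 (Nat.ble 2776 i)) (Nat.ble 2775 i)) (Nat.ble 2774 i)) (Nat.ble 2772 i)) (Nat.ble 2768 i)) (Bool.rec (Bool.rec (Bool.rec (Bool.rec f2777 f2778 (Nat.ble 2778 i)) (Bool.rec f2779 f2780 (Nat.ble 2780 i)) (Nat.ble 2779 i)) (Bool.rec (Bool.rec f2781 f2782 (Nat.ble 2782 i)) (Bool.rec f2783 f2784 (Nat.ble 2784 i)) (Nat.ble 2783 i)) (Nat.ble 2781 i)) (Bool.rec (Bool.rec (Bool.rec f2785 f2786 (Nat.ble 2786 i)) (Bool.rec f2787 f2788 (Nat.ble 2788 i)) (Nat.ble 2787 i)) (Bool.rec (Bool.rec f2789 f2790 (Nat.ble 2790 i)) (Bool.rec f2791 (Bool.rec f2792 f2793 (Nat.ble 2793 i)) (Nat.ble 2792 i)) (Nat.ble 2791 i)) (Nat.ble 2789 i)) (Nat.ble 2785 i)) (Nat.ble 2777 i)) (Nat.ble 2760 i)) (Nat.ble 2727 i)) (Bool.rec (Bool.rec (Bool.rec (Bool.rec (Bool.rec (Bool.rec (Bool.rec f2794 f2795 (Nat.ble 2795 i)) (Bool.rec f2796 f2797 (Nat.ble 2797 i)) (Nat.ble 2796 i)) (Bool.rec (Bool.rec f2798 f2799 (Nat.ble 2799 i)) (Bool.rec f2800 f2801 (Nat.ble 2801 i)) (Nat.ble 2800 i)) (Nat.ble 2798 i)) (Bool.rec (Bool.rec (Bool.rec f2802 f2803 (Nat.ble 2803 i)) (Bool.rec f2804 f2805 (Nat.ble 2805 i)) (Nat.ble 2804 i)) (Bool.rec (Bool.rec f2806 f2807 (Nat.ble 2807 i)) (Bool.rec f2808 f2809 (Nat.ble 2809 i)) (Nat.ble 2808 i)) (Nat.ble 2806 i)) (Nat.ble 2802 i)) (Bool.rec (Bool.rec (Bool.rec (Bool.rec f2810 f2811 (Nat.ble 2811 i)) (Bool.rec f2812 f2813 (Nat.ble 2813 i)) (Nat.ble 2812 i)) (Bool.rec (Bool.rec f2814 f2815 (Nat.ble 2815 i)) (Bool.rec f2816 f2817 (Nat.ble 2817 i)) (Nat.ble 2816 i)) (Nat.ble 2814 i)) (Bool.rec (Bool.rec (Bool.rec f2818 f2819 (Nat.ble 2819 i)) (Bool.rec f2820 f2821 (Nat.ble 2821 i)) (Nat.ble 2820 i)) (Bool.rec (Bool.rec f2822 f2823 (Nat.ble 2823 i)) (Bool.rec f2824 (Bool.rec f2825 f2826 (Nat.ble 2826 i)) (Nat.ble 2825 i)) (Nat.ble 2824 i)) (Nat.ble 2822 i)) (Nat.ble 2818 i)) (Nat.ble 2810 i)) (Bool.rec (Bool.rec (Bool.rec (Bool.rec (Bool.rec f2827 f2828 (Nat.ble 2828 i)) (Bool.rec f2829 f2830 (Nat.ble 2830 i)) (Nat.ble 2829 i)) (Bool.rec (Bool.rec f2831 f2832 (Nat.ble 2832 i)) (Bool.rec f2833 f2834 (Nat.ble 2834 i)) (Nat.ble 2833 i)) (Nat.ble 2831 i)) (Bool.rec (Bool.rec (Bool.rec f2835 f2836 (Nat.ble 2836 i)) (Bool.rec f2837 f2838 (Nat.ble 2838 i)) (Nat.ble 2837 i)) (Bool.rec (Bool.rec f2839 f2840 (Nat.ble 2840 i)) (Bool.rec f2841 f2842 (Nat.ble 2842 i)) (Nat.ble 2841 i)) (Nat.ble 2839 i)) (Nat.ble 2835 i)) (Bool.rec (Bool.rec (Bool.rec (Bool.rec f2843 f2844 (Nat.ble 2844 i)) (Bool.rec f2845 f2846 (Nat.ble 2846 i)) (Nat.ble 2845 i)) (Bool.rec (Bool.rec f2847 f2848 (Nat.ble 2848 i)) (Bool.rec f2849 f2850 (Nat.ble 2850 i)) (Nat.ble 2849 i)) (Nat.ble 2847 i)) (Bool.rec (Bool.rec (Bool.rec f2851 f2852 (Nat.ble 2852 i)) (Bool.rec f2853 f2854 (Nat.ble 2854 i)) (Nat.ble 2853 i)) (Bool.rec (Bool.rec f2855 f2856 (Nat.ble 2856 i)) (Bool.rec f2857 (Bool.rec f2858 f2859 (Nat.ble 2859 i)) (Nat.ble 2858 i)) (Nat.ble 2857 i)) (Nat.ble 2855 i)) (Nat.ble 2851 i)) (Nat.ble 2843 i)) (Nat.ble 2827 i)) (Bool.rec (Bool.rec (Bool.rec (Bool.rec (Bool.rec (Bool.rec f2860 f2861 (Nat.ble 2861 i)) (Bool.rec f2862 f2863 (Nat.ble 2863 i)) (Nat.ble 2862 i)) (Bool.rec (Bool.rec f2864 f2865 (Nat.ble 2865 i)) (Bool.rec f2866 f2867 (Nat.ble 2867 i)) (Nat.ble 2866 i)) (Nat.ble 2864 i)) (Bool.rec (Bool.rec (Bool.rec f2868 f2869 (Nat.ble 2869 i)) (Bool.rec f2870 f2871 (Nat.ble 2871 i)) (Nat.ble 2870 i)) (Bool.rec (Bool.rec f2872 f2873 (Nat.ble 2873 i)) (Bool.rec f2874 f2875 (Nat.ble 2875 i)) (Nat.ble 2874 i)) (Nat.ble 2872 i)) (Nat.ble 2868 i)) (Bool.rec (Bool.rec (Bool.rec (Bool.rec f2876 f2877 (Nat.ble 2877 i)) (Bool.rec f2878 f2879 (Nat.ble 2879 i)) (Nat.ble 2878 i)) (Bool.rec (Bool.rec f2880 f2881 (Nat.ble 2881 i)) (Bool.rec f2882 f2883 (Nat.ble 2883 i)) (Nat.ble 2882 i)) (Nat.ble 2880 i)) (Bool.rec (Bool.rec (Bool.rec f2884 f2885 (Nat.ble 2885 i)) (Bool.rec f2886 f2887 (Nat.ble 2887 i)) (Nat.ble 2886 i)) (Bool.rec (Bool.rec f2888 f2889 (Nat.ble 2889 i)) (Bool.rec f2890 (Bool.rec f2891 f2892 (Nat.ble 2892 i)) (Nat.ble 2891 i)) (Nat.ble 2890 i)) (Nat.ble 2888 i)) (Nat.ble 2884 i)) (Nat.ble 2876 i)) (Bool.rec (Bool.rec (Bool.rec (Bool.rec (Bool.rec f2893 f2894 (Nat.ble 2894 i)) (Bool.rec f2895 f2896 (Nat.ble 2896 i)) (Nat.ble 2895 i)) (Bool.rec (Bool.rec f2897 f2898 (Nat.ble 2898 i)) (Bool.rec f2899 f2900 (Nat.ble 2900 i)) (Nat.ble 2899 i)) (Nat.ble 2897 i)) (Bool.rec (Bool.rec (Bool.rec f2901 f2902 (Nat.ble 2902 i)) (Bool.rec f2903 f2904 (Nat.ble 2904 i)) (Nat.ble 2903 i)) (Bool.rec (Bool.rec f2905 f2906 (Nat.ble 2906 i)) (Bool.rec f2907 (Bool.rec f2908 f2909 (Nat.ble 2909 i)) (Nat.ble 2908 i)) (Nat.ble 2907 i)) (Nat.ble 2905 i)) (Nat.ble 2901 i)) (Bool.rec (Bool.rec (Bool.rec (Bool.rec f2910 f2911 (Nat.ble 2911 i)) (Bool.rec f2912 f2913 (Nat.ble 2913 i)) (Nat.ble 2912 i)) (Bool.rec (Bool.rec f2914 f2915 (Nat.ble 2915 i)) (Bool.rec f2916 f2917 (Nat.ble 2917 i)) (Nat.ble 2916 i)) (Nat.ble 2914 i)) (Bool.rec (Bool.rec (Bool.rec f2918 f2919 (Nat.ble 2919 i)) (Bool.rec f2920 f2921 (Nat.ble 2921 i)) (Nat.ble 2920 i)) (Bool.rec (Bool.rec f2922 f2923 (Nat.ble 2923 i)) (Bool.rec f2924 (Bool.rec f2925 f2926 (Nat.ble 2926 i)) (Nat.ble 2925 i)) (Nat.ble 2924 i)) (Nat.ble 2922 i)) (Nat.ble 2918 i)) (Nat.ble 2910 i)) (Nat.ble 2893 i)) (Nat.ble 2860 i)) (Nat.ble 2794 i)) (Bool.rec (Bool.rec (Bool.rec (Bool.rec (Bool.rec (Bool.rec (Bool.rec (Bool.rec f2927 f2928 (Nat.ble 2928 i)) (Bool.rec f2929 f2930 (Nat.ble 2930 i)) (Nat.ble 2929 i)) (Bool.rec (Bool.rec f2931 f2932 (Nat.ble 2932 i)) (Bool.rec f2933 f2934 (Nat.ble 2934 i)) (Nat.ble 2933 i)) (Nat.ble 2931 i)) (Bool.rec (Bool.rec (Bool.rec f2935 f2936 (Nat.ble 2936 i)) (Bool.rec f2937 f2938 (Nat.ble 2938 i)) (Nat.ble 2937 i)) (Bool.rec (Bool.rec f2939 f2940 (Nat.ble 2940 i)) (Bool.rec f2941 f2942 (Nat.ble 2942 i)) (Nat.ble 2941 i)) (Nat.ble 2939 i)) (Nat.ble 2935 i)) (Bool.rec (Bool.rec (Bool.rec (Bool.rec f2943 f2944 (Nat.ble 2944 i)) (Bool.rec f2945 f2946 (Nat.ble 2946 i)) (Nat.ble 2945 i)) (Bool.rec (Bool.rec f2947 f2948 (Nat.ble 2948 i)) (Bool.rec f2949 f2950 (Nat.ble 2950 i)) (Nat.ble 2949 i)) (Nat.ble 2947 i)) (Bool.rec (Bool.rec (Bool.rec f2951 f2952 (Nat.ble 2952 i)) (Bool.rec f2953 f2954 (Nat.ble 2954 i)) (Nat.ble 2953 i)) (Bool.rec (Bool.rec f2955 f2956 (Nat.ble 2956 i)) (Bool.rec f2957 (Bool.rec f2958 f2959 (Nat.ble 2959 i)) (Nat.ble 2958 i)) (Nat.ble 2957 i)) (Nat.ble 2955 i)) (Nat.ble 2951 i)) (Nat.ble 2943 i)) (Bool.rec (Bool.rec (Bool.rec (Bool.rec (Bool.rec f2960 f2961 (Nat.ble 2961 i)) (Bool.rec f2962 f2963 (Nat.ble 2963 i)) (Nat.ble 2962 i)) (Bool.rec (Bool.rec f2964 f2965 (Nat.ble 2965 i)) (Bool.rec f2966 f2967 (Nat.ble 2967 i)) (Nat.ble 2966 i)) (Nat.ble 2964 i)) (Bool.rec (Bool.rec (Bool.rec f2968 f2969 (Nat.ble 2969 i)) (Bool.rec f2970 f2971 (Nat.ble 2971 i)) (Nat.ble 2970 i)) (Bool.rec (Bool.rec f2972 f2973 (Nat.ble 2973 i)) (Bool.rec f2974 f2975 (Nat.ble 2975 i)) (Nat.ble 2974 i)) (Nat.ble 2972 i)) (Nat.ble 2968 i)) (Bool.rec (Bool.rec (Bool.rec (Bool.rec f2976 f2977 (Nat.ble 2977 i)) (Bool.rec f2978 f2979 (Nat.ble 2979 i)) (Nat.ble 2978 i)) (Bool.rec (Bool.rec f2980 f2981 (Nat.ble 2981 i)) (Bool.rec f2982 f2983 (Nat.ble 2983 i)) (Nat.ble 2982 i)) (Nat.ble 2980 i)) (Bool.rec (Bool.rec (Bool.rec f2984 f2985 (Nat.ble 2985 i)) (Bool.rec f2986 f2987 (Nat.ble 2987 i)) (Nat.ble 2986 i)) (Bool.rec (Bool.rec f2988 f2989 (Nat.ble 2989 i)) (Bool.rec f2990 (Bool.rec f2991 f2992 (Nat.ble 2992 i)) (Nat.ble 2991 i)) (Nat.ble 2990 i)) (Nat.ble 2988 i)) (Nat.ble 2984 i)) (Nat.ble 2976 i)) (Nat.ble 2960 i)) (Bool.rec (Bool.rec (Bool.rec (Bool.rec (Bool.rec (Bool.rec f2993 f2994 (Nat.ble 2994 i)) (Bool.rec f2995 f2996 (Nat.ble 2996 i)) (Nat.ble 2995 i)) (Bool.rec (Bool.rec f2997 f2998 (Nat.ble 2998 i)) (Bool.rec f2999 f3000 (Nat.ble 3000 i)) (Nat.ble 2999 i)) (Nat.ble 2997 i)) (Bool.rec (Bool.rec (Bool.rec f3001 f3002 (Nat.ble 3002 i)) (Bool.rec f3003 f3004 (Nat.ble 3004 i)) (Nat.ble 3003 i)) (Bool.rec (Bool.rec f3005 f3006 (Nat.ble 3006 i)) (Bool.rec f3007 f3008 (Nat.ble 3008 i)) (Nat.ble 3007 i)) (Nat.ble 3005 i)) (Nat.ble 3001 i)) (Bool.rec (Bool.rec (Bool.rec (Bool.rec f3009 f3010 (Nat.ble 3010 i)) (Bool.rec f3011 f3012 (Nat.ble 3012 i)) (Nat.ble 3011 i)) (Bool.rec (Bool.rec f3013 f3014 (Nat.ble 3014 i)) (Bool.rec f3015 f3016 (Nat.ble 3016 i)) (Nat.ble 3015 i)) (Nat.ble 3013 i)) (Bool.rec (Bool.rec (Bool.rec f3017 f3018 (Nat.ble 3018 i)) (Bool.rec f3019 f3020 (Nat.ble 3020 i)) (Nat.ble 3019 i)) (Bool.rec (Bool.rec f3021 f3022 (Nat.ble 3022 i)) (Bool.rec f3023 (Bool.rec f3024 f3025 (Nat.ble 3025 i)) (Nat.ble 3024 i)) (Nat.ble 3023 i)) (Nat.ble 3021 i)) (Nat.ble 3017 i)) (Nat.ble 3009 i)) (Bool.rec (Bool.rec (Bool.rec (Bool.rec (Bool.rec f3026 f3027 (Nat.ble 3027 i)) (Bool.rec f3028 f3029 (Nat.ble 3029 i)) (Nat.ble 3028 i)) (Bool.rec (Bool.rec f3030 f3031 (Nat.ble 3031 i)) (Bool.rec f3032 f3033 (Nat.ble 3033 i)) (Nat.ble 3032 i)) (Nat.ble 3030 i)) (Bool.rec (Bool.rec (Bool.rec f3034 f3035 (Nat.ble 3035 i)) (Bool.rec f3036 f3037 (Nat.ble 3037 i)) (Nat.ble 3036 i)) (Bool.rec (Bool.rec f3038 f3039 (Nat.ble 3039 i)) (Bool.rec f3040 (Bool.rec f3041 f3042 (Nat.ble 3042 i)) (Nat.ble 3041 i)) (Nat.ble 3040 i)) (Nat.ble 3038 i)) (Nat.ble 3034 i)) (Bool.rec (Bool.rec (Bool.rec (Bool.rec f3043 f3044 (Nat.ble 3044 i)) (Bool.rec f3045 f3046 (Nat.ble 3046 i)) (Nat.ble 3045 i)) (Bool.rec (Bool.rec f3047 f3048 (Nat.ble 3048 i)) (Bool.rec f3049 f3050 (Nat.ble 3050 i)) (Nat.ble 3049 i)) (Nat.ble 3047 i)) (Bool.rec (Bool.rec (Bool.rec f3051 f3052 (Nat.ble 3052 i)) (Bool.rec f3053 f3054 (Nat.ble 3054 i)) (Nat.ble 3053 i)) (Bool.rec (Bool.rec f3055 f3056 (Nat.ble 3056 i)) (Bool.rec f3057 (Bool.rec f3058 f3059 (Nat.ble 3059 i)) (Nat.ble 3058 i)) (Nat.ble 3057 i)) (Nat.ble 3055 i)) (Nat.ble 3051 i)) (Nat.ble 3043 i)) (Nat.ble 3026 i)) (Nat.ble 2993 i)) (Bool.rec (Bool.rec (Bool.rec (Bool.rec (Bool.rec (Bool.rec (Bool.rec f3060 f3061 (Nat.ble 3061 i)) (Bool.rec f3062 f3063 (Nat.ble 3063 i)) (Nat.ble 3062 i)) (Bool.rec (Bool.rec f3064 f3065 (Nat.ble 3065 i)) (Bool.rec f3066 f3067 (Nat.ble 3067 i)) (Nat.ble 3066 i)) (Nat.ble 3064 i)) (Bool.rec (Bool.rec (Bool.rec f3068 f3069 (Nat.ble 3069 i)) (Bool.rec f3070 f3071 (Nat.ble 3071 i)) (Nat.ble 3070 i)) (Bool.rec (Bool.rec f3072 f3073 (Nat.ble 3073 i)) (Bool.rec f3074 f3075 (Nat.ble 3075 i)) (Nat.ble 3074 i)) (Nat.ble 3072 i)) (Nat.ble 3068 i)) (Bool.rec (Bool.rec (Bool.rec (Bool.rec f3076 f3077 (Nat.ble 3077 i)) (Bool.rec f3078 f3079 (Nat.ble 3079 i)) (Nat.ble 3078 i)) (Bool.rec (Bool.rec f3080 f3081 (Nat.ble 3081 i)) (Bool.rec f3082 f3083 (Nat.ble 3083 i)) (Nat.ble 3082 i)) (Nat.ble 3080 i)) (Bool.rec (Bool.rec (Bool.rec f3084 f3085 (Nat.ble 3085 i)) (Bool.rec f3086 f3087 (Nat.ble 3087 i)) (Nat.ble 3086 i)) (Bool.rec (Bool.rec f3088 f3089 (Nat.ble 3089 i)) (Bool.rec f3090 (Bool.rec f3091 f3092 (Nat.ble 3092 i)) (Nat.ble 3091 i)) (Nat.ble 3090 i)) (Nat.ble 3088 i)) (Nat.ble 3084 i)) (Nat.ble 3076 i)) (Bool.rec (Bool.rec (Bool.rec (Bool.rec (Bool.rec f3093 f3094 (Nat.ble 3094 i)) (Bool.rec f3095 f3096 (Nat.ble 3096 i)) (Nat.ble 3095 i)) (Bool.rec (Bool.rec f3097 f3098 (Nat.ble 3098 i)) (Bool.rec f3099 f3100 (Nat.ble 3100 i)) (Nat.ble 3099 i)) (Nat.ble 3097 i)) (Bool.rec (Bool.rec (Bool.rec f3101 f3102 (Nat.ble 3102 i)) (Bool.rec f3103 f3104 (Nat.ble 3104 i)) (Nat.ble 3103 i)) (Bool.rec (Bool.rec f3105 f3106 (Nat.ble 3106 i)) (Bool.rec f3107 f3108 (Nat.ble 3108 i)) (Nat.ble 3107 i)) (Nat.ble 3105 i)) (Nat.ble 3101 i)) (Bool.rec (Bool.rec (Bool.rec (Bool.rec f3109 f3110 (Nat.ble 3110 i)) (Bool.rec f3111 f3112 (Nat.ble 3112 i)) (Nat.ble 3111 i)) (Bool.rec (Bool.rec f3113 f3114 (Nat.ble 3114 i)) (Bool.rec f3115 f3116 (Nat.ble 3116 i)) (Nat.ble 3115 i)) (Nat.ble 3113 i)) (Bool.rec (Bool.rec (Bool.rec f3117 f3118 (Nat.ble 3118 i)) (Bool.rec f3119 f3120 (Nat.ble 3120 i)) (Nat.ble 3119 i)) (Bool.rec (Bool.rec f3121 f3122 (Nat.ble 3122 i)) (Bool.rec f3123 (Bool.rec f3124 f3125 (Nat.ble 3125 i)) (Nat.ble 3124 i)) (Nat.ble 3123 i)) (Nat.ble 3121 i)) (Nat.ble 3117 i)) (Nat.ble 3109 i)) (Nat.ble 3093 i)) (Bool.rec (Bool.rec (Bool.rec (Bool.rec (Bool.rec (Bool.rec f3126 f3127 (Nat.ble 3127 i)) (Bool.rec f3128 f3129 (Nat.ble 3129 i)) (Nat.ble 3128 i)) (Bool.rec (Bool.rec f3130 f3131 (Nat.ble 3131 i)) (Bool.rec f3132 f3133 (Nat.ble 3133 i)) (Nat.ble 3132 i)) (Nat.ble 3130 i)) (Bool.rec (Bool.rec (Bool.rec f3134 f3135 (Nat.ble 3135 i)) (Bool.rec f3136 f3137 (Nat.ble 3137 i)) (Nat.ble 3136 i)) (Bool.rec (Bool.rec f3138 f3139 (Nat.ble 3139 i)) (Bool.rec f3140 f3141 (Nat.ble 3141 i)) (Nat.ble 3140 i)) (Nat.ble 3138 i)) (Nat.ble 3134 i)) (Bool.rec (Bool.rec (Bool.rec (Bool.rec f3142 f3143 (Nat.ble 3143 i)) (Bool.rec f3144 f3145 (Nat.ble 3145 i)) (Nat.ble 3144 i)) (Bool.rec (Bool.rec f3146 f3147 (Nat.ble 3147 i)) (Bool.rec f3148 f3149 (Nat.ble 3149 i)) (Nat.ble 3148 i)) (Nat.ble 3146 i)) (Bool.rec (Bool.rec (Bool.rec f3150 f3151 (Nat.ble 3151 i)) (Bool.rec f3152 f3153 (Nat.ble 3153 i)) (Nat.ble 3152 i)) (Bool.rec (Bool.rec f3154 f3155 (Nat.ble 3155 i)) (Bool.rec f3156 (Bool.rec f3157 f3158 (Nat.ble 3158 i)) (Nat.ble 3157 i)) (Nat.ble 3156 i)) (Nat.ble 3154 i)) (Nat.ble 3150 i)) (Nat.ble 3142 i)) (Bool.rec (Bool.rec (Bool.rec (Bool.rec (Bool.rec f3159 f3160 (Nat.ble 3160 i)) (Bool.rec f3161 f3162 (Nat.ble 3162 i)) (Nat.ble 3161 i)) (Bool.rec (Bool.rec f3163 f3164 (Nat.ble 3164 i)) (Bool.rec f3165 f3166 (Nat.ble 3166 i)) (Nat.ble 3165 i)) (Nat.ble 3163 i)) (Bool.rec (Bool.rec (Bool.rec f3167 f3168 (Nat.ble 3168 i)) (Bool.rec f3169 f3170 (Nat.ble 3170 i)) (Nat.ble 3169 i)) (Bool.rec (Bool.rec f3171 f3172 (Nat.ble 3172 i)) (Bool.rec f3173 (Bool.rec f3174 f3175 (Nat.ble 3175 i)) (Nat.ble 3174 i)) (Nat.ble 3173 i)) (Nat.ble 3171 i)) (Nat.ble 3167 i)) (Bool.rec (Bool.rec (Bool.rec (Bool.rec f3176 f3177 (Nat.ble 3177 i)) (Bool.rec f3178 f3179 (Nat.ble 3179 i)) (Nat.ble 3178 i)) (Bool.rec (Bool.rec f3180 f3181 (Nat.ble 3181 i)) (Bool.rec f3182 f3183 (Nat.ble 3183 i)) (Nat.ble 3182 i)) (Nat.ble 3180 i)) (Bool.rec (Bool.rec (Bool.rec f3184 f3185 (Nat.ble 3185 i)) (Bool.rec f3186 f3187 (Nat.ble 3187 i)) (Nat.ble 3186 i)) (Bool.rec (Bool.rec f3188 f3189 (Nat.ble 3189 i)) (Bool.rec f3190 (Bool.rec f3191 f3192 (Nat.ble 3192 i)) (Nat.ble 3191 i)) (Nat.ble 3190 i)) (Nat.ble 3188 i)) (Nat.ble 3184 i)) (Nat.ble 3176 i)) (Nat.ble 3159 i)) (Nat.ble 3126 i)) (Nat.ble 3060 i)) (Nat.ble 2927 i)) (Nat.ble 2661 i)) (Bool.rec (Bool.rec (Bool.rec (Bool.rec (Bool.rec (Bool.rec (Bool.rec (Bool.rec (Bool.rec (Bool.rec f3193 f3194 (Nat.ble 3194 i)) (Bool.rec f3195 f3196 (Nat.ble 3196 i)) (Nat.ble 3195 i)) (Bool.rec (Bool.rec f3197 f3198 (Nat.ble 3198 i)) (Bool.rec f3199 f3200 (Nat.ble 3200 i)) (Nat.ble 3199 i)) (Nat.ble 3197 i)) (Bool.rec (Bool.rec (Bool.rec f3201 f3202 (Nat.ble 3202 i)) (Bool.rec f3203 f3204 (Nat.ble 3204 i)) (Nat.ble 3203 i)) (Bool.rec (Bool.rec f3205 f3206 (Nat.ble 3206 i)) (Bool.rec f3207 f3208 (Nat.ble 3208 i)) (Nat.ble 3207 i)) (Nat.ble 3205 i)) (Nat.ble 3201 i)) (Bool.rec (Bool.rec (Bool.rec (Bool.rec f3209 f3210 (Nat.ble 3210 i)) (Bool.rec f3211 f3212 (Nat.ble 3212 i)) (Nat.ble 3211 i)) (Bool.rec (Bool.rec f3213 f3214 (Nat.ble 3214 i)) (Bool.rec f3215 f3216 (Nat.ble 3216 i)) (Nat.ble 3215 i)) (Nat.ble 3213 i)) (Bool.rec (Bool.rec (Bool.rec f3217 f3218 (Nat.ble 3218 i)) (Bool.rec f3219 f3220 (Nat.ble 3220 i)) (Nat.ble 3219 i)) (Bool.rec (Bool.rec f3221 f3222 (Nat.ble 3222 i)) (Bool.rec f3223 (Bool.rec f3224 f3225 (Nat.ble 3225 i)) (Nat.ble 3224 i)) (Nat.ble 3223 i)) (Nat.ble 3221 i)) (Nat.ble 3217 i)) (Nat.ble 3209 i)) (Bool.rec (Bool.rec (Bool.rec (Bool.rec (Bool.rec f3226 f3227 (Nat.ble 3227 i)) (Bool.rec f3228 f3229 (Nat.ble 3229 i)) (Nat.ble 3228 i)) (Bool.rec (Bool.rec f3230 f3231 (Nat.ble 3231 i)) (Bool.rec f3232 f3233 (Nat.ble 3233 i)) (Nat.ble 3232 i)) (Nat.ble 3230 i)) (Bool.rec (Bool.rec (Bool.rec f3234 f3235 (Nat.ble 3235 i)) (Bool.rec f3236 f3237 (Nat.ble 3237 i)) (Nat.ble 3236 i)) (Bool.rec (Bool.rec f3238 f3239 (Nat.ble 3239 i)) (Bool.rec f3240 f3241 (Nat.ble 3241 i)) (Nat.ble 3240 i)) (Nat.ble 3238 i)) (Nat.ble 3234 i)) (Bool.rec (Bool.rec (Bool.rec (Bool.rec f3242 f3243 (Nat.ble 3243 i)) (Bool.rec f3244 f3245 (Nat.ble 3245 i)) (Nat.ble 3244 i)) (Bool.rec (Bool.rec f3246 f3247 (Nat.ble 3247 i)) (Bool.rec f3248 f3249 (Nat.ble 3249 i)) (Nat.ble 3248 i)) (Nat.ble 3246 i)) (Bool.rec (Bool.rec (Bool.rec f3250 f3251 (Nat.ble 3251 i)) (Bool.rec f3252 f3253 (Nat.ble 3253 i)) (Nat.ble 3252 i)) (Bool.rec (Bool.rec f3254 f3255 (Nat.ble 3255 i)) (Bool.rec f3256 (Bool.rec f3257 f3258 (Nat.ble 3258 i)) (Nat.ble 3257 i)) (Nat.ble 3256 i)) (Nat.ble 3254 i)) (Nat.ble 3250 i)) (Nat.ble 3242 i)) (Nat.ble 3226 i)) (Bool.rec (Bool.rec (Bool.rec (Bool.rec (Bool.rec (Bool.rec f3259 f3260 (Nat.ble 3260 i)) (Bool.rec f3261 f3262 (Nat.ble 3262 i)) (Nat.ble 3261 i)) (Bool.rec (Bool.rec f3263 f3264 (Nat.ble 3264 i)) (Bool.rec f3265 f3266 (Nat.ble 3266 i)) (Nat.ble 3265 i)) (Nat.ble 3263 i)) (Bool.rec (Bool.rec (Bool.rec f3267 f3268 (Nat.ble 3268 i)) (Bool.rec f3269 f3270 (Nat.ble 3270 i)) (Nat.ble 3269 i)) (Bool.rec (Bool.rec f3271 f3272 (Nat.ble 3272 i)) (Bool.rec f3273 f3274 (Nat.ble 3274 i)) (Nat.ble 3273 i)) (Nat.ble 3271 i)) (Nat.ble 3267 i)) (Bool.rec (Bool.rec (Bool.rec (Bool.rec f3275 f3276 (Nat.ble 3276 i)) (Bool.rec f3277 f3278 (Nat.ble 3278 i)) (Nat.ble 3277 i)) (Bool.rec (Bool.rec f3279 f3280 (Nat.ble 3280 i)) (Bool.rec f3281 f3282 (Nat.ble 3282 i)) (Nat.ble 3281 i)) (Nat.ble 3279 i)) (Bool.rec (Bool.rec (Bool.rec f3283 f3284 (Nat.ble 3284 i)) (Bool.rec f3285 f3286 (Nat.ble 3286 i)) (Nat.ble 3285 i)) (Bool.rec (Bool.rec f3287 f3288 (Nat.ble 3288 i)) (Bool.rec f3289 (Bool.rec f3290 f3291 (Nat.ble 3291 i)) (Nat.ble 3290 i)) (Nat.ble 3289 i)) (Nat.ble 3287 i)) (Nat.ble 3283 i)) (Nat.ble 3275 i)) (Bool.rec (Bool.rec (Bool.rec (Bool.rec (Bool.rec f3292 f3293 (Nat.ble 3293 i)) (Bool.rec f3294 f3295 (Nat.ble 3295 i)) (Nat.ble 3294 i)) (Bool.rec (Bool.rec f3296 f3297 (Nat.ble 3297 i)) (Bool.rec f3298 f3299 (Nat.ble 3299 i)) (Nat.ble 3298 i)) (Nat.ble 3296 i)) (Bool.rec (Bool.rec (Bool.rec f3300 f3301 (Nat.ble 3301 i)) (Bool.rec f3302 f3303 (Nat.ble 3303 i)) (Nat.ble 3302 i)) (Bool.rec (Bool.rec f3304 f3305 (Nat.ble 3305 i)) (Bool.rec f3306 (Bool.rec f3307 f3308 (Nat.ble 3308 i)) (Nat.ble 3307 i)) (Nat.ble 3306 i)) (Nat.ble 3304 i)) (Nat.ble 3300 i)) (Bool.rec (Bool.rec (Bool.rec (Bool.rec f3309 f3310 (Nat.ble 3310 i)) (Bool.rec f3311 f3312 (Nat.ble 3312 i)) (Nat.ble 3311 i)) (Bool.rec (Bool.rec f3313 f3314 (Nat.ble 3314 i)) (Bool.rec f3315 f3316 (Nat.ble 3316 i)) (Nat.ble 3315 i)) (Nat.ble 3313 i)) (Bool.rec (Bool.rec (Bool.rec f3317 f3318 (Nat.ble 3318 i)) (Bool.rec f3319 f3320 (Nat.ble 3320 i)) (Nat.ble 3319 i)) (Bool.rec (Bool.rec f3321 f3322 (Nat.ble 3322 i)) (Bool.rec f3323 (Bool.rec f3324 f3325 (Nat.ble 3325 i)) (Nat.ble 3324 i)) (Nat.ble 3323 i)) (Nat.ble 3321 i)) (Nat.ble 3317 i)) (Nat.ble 3309 i)) (Nat.ble 3292 i)) (Nat.ble 3259 i)) (Bool.rec (Bool.rec (Bool.rec (Bool.rec (Bool.rec (Bool.rec (Bool.rec f3326 f3327 (Nat.ble 3327 i)) (Bool.rec f3328 f3329 (Nat.ble 3329 i)) (Nat.ble 3328 i)) (Bool.rec (Bool.rec f3330 f3331 (Nat.ble 3331 i)) (Bool.rec f3332 f3333 (Nat.ble 3333 i)) (Nat.ble 3332 i)) (Nat.ble 3330 i)) (Bool.rec (Bool.rec (Bool.rec f3334 f3335 (Nat.ble 3335 i)) (Bool.rec f3336 f3337 (Nat.ble 3337 i)) (Nat.ble 3336 i)) (Bool.rec (Bool.rec f3338 f3339 (Nat.ble 3339 i)) (Bool.rec f3340 f3341 (Nat.ble 3341 i)) (Nat.ble 3340 i)) (Nat.ble 3338 i)) (Nat.ble 3334 i)) (Bool.rec (Bool.rec (Bool.rec (Bool.rec f3342 f3343 (Nat.ble 3343 i)) (Bool.rec f3344 f3345 (Nat.ble 3345 i)) (Nat.ble 3344 i)) (Bool.rec (Bool.rec f3346 f3347 (Nat.ble 3347 i)) (Bool.rec f3348 f3349 (Nat.ble 3349 i)) (Nat.ble 3348 i)) (Nat.ble 3346 i)) (Bool.rec (Bool.rec (Bool.rec f3350 f3351 (Nat.ble 3351 i)) (Bool.rec f3352 f3353 (Nat.ble 3353 i)) (Nat.ble 3352 i)) (Bool.rec (Bool.rec f3354 f3355 (Nat.ble 3355 i)) (Bool.rec f3356 (Bool.rec f3357 f3358 (Nat.ble 3358 i)) (Nat.ble 3357 i)) (Nat.ble 3356 i)) (Nat.ble 3354 i)) (Nat.ble 3350 i)) (Nat.ble 3342 i)) (Bool.rec (Bool.rec (Bool.rec (Bool.rec (Bool.rec f3359 f3360 (Nat.ble 3360 i)) (Bool.rec f3361 f3362 (Nat.ble 3362 i)) (Nat.ble 3361 i)) (Bool.rec (Bool.rec f3363 f3364 (Nat.ble 3364 i)) (Bool.rec f3365 f3366 (Nat.ble 3366 i)) (Nat.ble 3365 i)) (Nat.ble 3363 i)) (Bool.rec (Bool.rec (Bool.rec f3367 f3368 (Nat.ble 3368 i)) (Bool.rec f3369 f3370 (Nat.ble 3370 i)) (Nat.ble 3369 i)) (Bool.rec (Bool.rec f3371 f3372 (Nat.ble 3372 i)) (Bool.rec f3373 f3374 (Nat.ble 3374 i)) (Nat.ble 3373 i)) (Nat.ble 3371 i)) (Nat.ble 3367 i)) (Bool.rec (Bool.rec (Bool.rec (Bool.rec f3375 f3376 (Nat.ble 3376 i)) (Bool.rec f3377 f3378 (Nat.ble 3378 i)) (Nat.ble 3377 i)) (Bool.rec (Bool.rec f3379 f3380 (Nat.ble 3380 i)) (Bool.rec f3381 f3382 (Nat.ble 3382 i)) (Nat.ble 3381 i)) (Nat.ble 3379 i)) (Bool.rec (Bool.rec (Bool.rec f3383 f3384 (Nat.ble 3384 i)) (Bool.rec f3385 f3386 (Nat.ble 3386 i)) (Nat.ble 3385 i)) (Bool.rec (Bool.rec f3387 f3388 (Nat.ble 3388 i)) (Bool.rec f3389 (Bool.rec f3390 f3391 (Nat.ble 3391 i)) (Nat.ble 3390 i)) (Nat.ble 3389 i)) (Nat.ble 3387 i)) (Nat.ble 3383 i)) (Nat.ble 3375 i)) (Nat.ble 3359 i)) (Bool.rec (Bool.rec (Bool.rec (Bool.rec (Bool.rec (Bool.rec f3392 f3393 (Nat.ble 3393 i)) (Bool.rec f3394 f3395 (Nat.ble 3395 i)) (Nat.ble 3394 i)) (Bool.rec (Bool.rec f3396 f3397 (Nat.ble 3397 i)) (Bool.rec f3398 f3399 (Nat.ble 3399 i)) (Nat.ble 3398 i)) (Nat.ble 3396 i)) (Bool.rec (Bool.rec (Bool.rec f3400 f3401 (Nat.ble 3401 i)) (Bool.rec f3402 f3403 (Nat.ble 3403 i)) (Nat.ble 3402 i)) (Bool.rec (Bool.rec f3404 f3405 (Nat.ble 3405 i)) (Bool.rec f3406 f3407 (Nat.ble 3407 i)) (Nat.ble 3406 i)) (Nat.ble 3404 i)) (Nat.ble 3400 i)) (Bool.rec (Bool.rec (Bool.rec (Bool.rec f3408 f3409 (Nat.ble 3409 i)) (Bool.rec f3410 f3411 (Nat.ble 3411 i)) (Nat.ble 3410 i)) (Bool.rec (Bool.rec f3412 f3413 (Nat.ble 3413 i)) (Bool.rec f3414 f3415 (Nat.ble 3415 i)) (Nat.ble 3414 i)) (Nat.ble 3412 i)) (Bool.rec (Bool.rec (Bool.rec f3416 f3417 (Nat.ble 3417 i)) (Bool.rec f3418 f3419 (Nat.ble 3419 i)) (Nat.ble 3418 i)) (Bool.rec (Bool.rec f3420 f3421 (Nat.ble 3421 i)) (Bool.rec f3422 (Bool.rec f3423 f3424 (Nat.ble 3424 i)) (Nat.ble 3423 i)) (Nat.ble 3422 i)) (Nat.ble 3420 i)) (Nat.ble 3416 i)) (Nat.ble 3408 i)) (Bool.rec (Bool.rec (Bool.rec (Bool.rec (Bool.rec f3425 f3426 (Nat.ble 3426 i)) (Bool.rec f3427 f3428 (Nat.ble 3428 i)) (Nat.ble 3427 i)) (Bool.rec (Bool.rec f3429 f3430 (Nat.ble 3430 i)) (Bool.rec f3431 f3432 (Nat.ble 3432 i)) (Nat.ble 3431 i)) (Nat.ble 3429 i)) (Bool.rec (Bool.rec (Bool.rec f3433 f3434 (Nat.ble 3434 i)) (Bool.rec f3435 f3436 (Nat.ble 3436 i)) (Nat.ble 3435 i)) (Bool.rec (Bool.rec f3437 f3438 (Nat.ble 3438 i)) (Bool.rec f3439 (Bool.rec f3440 f3441 (Nat.ble 3441 i)) (Nat.ble 3440 i)) (Nat.ble 3439 i)) (Nat.ble 3437 i)) (Nat.ble 3433 i)) (Bool.rec (Bool.rec (Bool.rec (Bool.rec f3442 f3443 (Nat.ble 3443 i)) (Bool.rec f3444 f3445 (Nat.ble 3445 i)) (Nat.ble 3444 i)) (Bool.rec (Bool.rec f3446 f3447 (Nat.ble 3447 i)) (Bool.rec f3448 f3449 (Nat.ble 3449 i)) (Nat.ble 3448 i)) (Nat.ble 3446 i)) (Bool.rec (Bool.rec (Bool.rec f3450 f3451 (Nat.ble 3451 i)) (Bool.rec f3452 f3453 (Nat.ble 3453 i)) (Nat.ble 3452 i)) (Bool.rec (Bool.rec f3454 f3455 (Nat.ble 3455 i)) (Bool.rec f3456 (Bool.rec f3457 f3458 (Nat.ble 3458 i)) (Nat.ble 3457 i)) (Nat.ble 3456 i)) (Nat.ble 3454 i)) (Nat.ble 3450 i)) (Nat.ble 3442 i)) (Nat.ble 3425 i)) (Nat.ble 3392 i)) (Nat.ble 3326 i)) (Bool.rec (Bool.rec (Bool.rec (Bool.rec (Bool.rec (Bool.rec (Bool.rec (Bool.rec f3459 f3460 (Nat.ble 3460 i)) (Bool.rec f3461 f3462 (Nat.ble 3462 i)) (Nat.ble 3461 i)) (Bool.rec (Bool.rec f3463 f3464 (Nat.ble 3464 i)) (Bool.rec f3465 f3466 (Nat.ble 3466 i)) (Nat.ble 3465 i)) (Nat.ble 3463 i)) (Bool.rec (Bool.rec (Bool.rec f3467 f3468 (Nat.ble 3468 i)) (Bool.rec f3469 f3470 (Nat.ble 3470 i)) (Nat.ble 3469 i)) (Bool.rec (Bool.rec f3471 f3472 (Nat.ble 3472 i)) (Bool.rec f3473 f3474 (Nat.ble 3474 i)) (Nat.ble 3473 i)) (Nat.ble 3471 i)) (Nat.ble 3467 i)) (Bool.rec (Bool.rec (Bool.rec (Bool.rec f3475 f3476 (Nat.ble 3476 i)) (Bool.rec f3477 f3478 (Nat.ble 3478 i)) (Nat.ble 3477 i)) (Bool.rec (Bool.rec f3479 f3480 (Nat.ble 3480 i)) (Bool.rec f3481 f3482 (Nat.ble 3482 i)) (Nat.ble 3481 i)) (Nat.ble 3479 i)) (Bool.rec (Bool.rec (Bool.rec f3483 f3484 (Nat.ble 3484 i)) (Bool.rec f3485 f3486 (Nat.ble 3486 i)) (Nat.ble 3485 i)) (Bool.rec (Bool.rec f3487 f3488 (Nat.ble 3488 i)) (Bool.rec f3489 (Bool.rec f3490 f3491 (Nat.ble 3491 i)) (Nat.ble 3490 i)) (Nat.ble 3489 i)) (Nat.ble 3487 i)) (Nat.ble 3483 i)) (Nat.ble 3475 i)) (Bool.rec (Bool.rec (Bool.rec (Bool.rec (Bool.rec f3492 f3493 (Nat.ble 3493 i)) (Bool.rec f3494 f3495 (Nat.ble 3495 i)) (Nat.ble 3494 i)) (Bool.rec (Bool.rec f3496 f3497 (Nat.ble 3497 i)) (Bool.rec f3498 f3499 (Nat.ble 3499 i)) (Nat.ble 3498 i)) (Nat.ble 3496 i)) (Bool.rec (Bool.rec (Bool.rec f3500 f3501 (Nat.ble 3501 i)) (Bool.rec f3502 f3503 (Nat.ble 3503 i)) (Nat.ble 3502 i)) (Bool.rec (Bool.rec f3504 f3505 (Nat.ble 3505 i)) (Bool.rec f3506 f3507 (Nat.ble 3507 i)) (Nat.ble 3506 i)) (Nat.ble 3504 i)) (Nat.ble 3500 i)) (Bool.rec (Bool.rec (Bool.rec (Bool.rec f3508 f3509 (Nat.ble 3509 i)) (Bool.rec f3510 f3511 (Nat.ble 3511 i)) (Nat.ble 3510 i)) (Bool.rec (Bool.rec f3512 f3513 (Nat.ble 3513 i)) (Bool.rec f3514 f3515 (Nat.ble 3515 i)) (Nat.ble 3514 i)) (Nat.ble 3512 i)) (Bool.rec (Bool.rec (Bool.rec f3516 f3517 (Nat.ble 3517 i)) (Bool.rec f3518 f3519 (Nat.ble 3519 i)) (Nat.ble 3518 i)) (Bool.rec (Bool.rec f3520 f3521 (Nat.ble 3521 i)) (Bool.rec f3522 (Bool.rec f3523 f3524 (Nat.ble 3524 i)) (Nat.ble 3523 i)) (Nat.ble 3522 i)) (Nat.ble 3520 i)) (Nat.ble 3516 i)) (Nat.ble 3508 i)) (Nat.ble 3492 i)) (Bool.rec (Bool.rec (Bool.rec (Bool.rec (Bool.rec (Bool.rec f3525 f3526 (Nat.ble 3526 i)) (Bool.rec f3527 f3528 (Nat.ble 3528 i)) (Nat.ble 3527 i)) (Bool.rec (Bool.rec f3529 f3530 (Nat.ble 3530 i)) (Bool.rec f3531 f3532 (Nat.ble 3532 i)) (Nat.ble 3531 i)) (Nat.ble 3529 i)) (Bool.rec (Bool.rec (Bool.rec f3533 f3534 (Nat.ble 3534 i)) (Bool.rec f3535 f3536 (Nat.ble 3536 i)) (Nat.ble 3535 i)) (Bool.rec (Bool.rec f3537 f3538 (Nat.ble 3538 i)) (Bool.rec f3539 f3540 (Nat.ble 3540 i)) (Nat.ble 3539 i)) (Nat.ble 3537 i)) (Nat.ble 3533 i)) (Bool.rec (Bool.rec (Bool.rec (Bool.rec f3541 f3542 (Nat.ble 3542 i)) (Bool.rec f3543 f3544 (Nat.ble 3544 i)) (Nat.ble 3543 i)) (Bool.rec (Bool.rec f3545 f3546 (Nat.ble 3546 i)) (Bool.rec f3547 f3548 (Nat.ble 3548 i)) (Nat.ble 3547 i)) (Nat.ble 3545 i)) (Bool.rec (Bool.rec (Bool.rec f3549 f3550 (Nat.ble 3550 i)) (Bool.rec f3551 f3552 (Nat.ble 3552 i)) (Nat.ble 3551 i)) (Bool.rec (Bool.rec f3553 f3554 (Nat.ble 3554 i)) (Bool.rec f3555 (Bool.rec f3556 f3557 (Nat.ble 3557 i)) (Nat.ble 3556 i)) (Nat.ble 3555 i)) (Nat.ble 3553 i)) (Nat.ble 3549 i)) (Nat.ble 3541 i)) (Bool.rec (Bool.rec (Bool.rec (Bool.rec (Bool.rec f3558 f3559 (Nat.ble 3559 i)) (Bool.rec f3560 f3561 (Nat.ble 3561 i)) (Nat.ble 3560 i)) (Bool.rec (Bool.rec f3562 f3563 (Nat.ble 3563 i)) (Bool.rec f3564 f3565 (Nat.ble 3565 i)) (Nat.ble 3564 i)) (Nat.ble 3562 i)) (Bool.rec (Bool.rec (Bool.rec f3566 f3567 (Nat.ble 3567 i)) (Bool.rec f3568 f3569 (Nat.ble 3569 i)) (Nat.ble 3568 i)) (Bool.rec (Bool.rec f3570 f3571 (Nat.ble 3571 i)) (Bool.rec f3572 (Bool.rec f3573 f3574 (Nat.ble 3574 i)) (Nat.ble 3573 i)) (Nat.ble 3572 i)) (Nat.ble 3570 i)) (Nat.ble 3566 i)) (Bool.rec (Bool.rec (Bool.rec (Bool.rec f3575 f3576 (Nat.ble 3576 i)) (Bool.rec f3577 f3578 (Nat.ble 3578 i)) (Nat.ble 3577 i)) (Bool.rec (Bool.rec f3579 f3580 (Nat.ble 3580 i)) (Bool.rec f3581 f3582 (Nat.ble 3582 i)) (Nat.ble 3581 i)) (Nat.ble 3579 i)) (Bool.rec (Bool.rec (Bool.rec f3583 f3584 (Nat.ble 3584 i)) (Bool.rec f3585 f3586 (Nat.ble 3586 i)) (Nat.ble 3585 i)) (Bool.rec (Bool.rec f3587 f3588 (Nat.ble 3588 i)) (Bool.rec f3589 (Bool.rec f3590 f3591 (Nat.ble 3591 i)) (Nat.ble 3590 i)) (Nat.ble 3589 i)) (Nat.ble 3587 i)) (Nat.ble 3583 i)) (Nat.ble 3575 i)) (Nat.ble 3558 i)) (Nat.ble 3525 i)) (Bool.rec (Bool.rec (Bool.rec (Bool.rec (Bool.rec (Bool.rec (Bool.rec f3592 f3593 (Nat.ble 3593 i)) (Bool.rec f3594 f3595 (Nat.ble 3595 i)) (Nat.ble 3594 i)) (Bool.rec (Bool.rec f3596 f3597 (Nat.ble 3597 i)) (Bool.rec f3598 f3599 (Nat.ble 3599 i)) (Nat.ble 3598 i)) (Nat.ble 3596 i)) (Bool.rec (Bool.rec (Bool.rec f3600 f3601 (Nat.ble 3601 i)) (Bool.rec f3602 f3603 (Nat.ble 3603 i)) (Nat.ble 3602 i)) (Bool.rec (Bool.rec f3604 f3605 (Nat.ble 3605 i)) (Bool.rec f3606 f3607 (Nat.ble 3607 i)) (Nat.ble 3606 i)) (Nat.ble 3604 i)) (Nat.ble 3600 i)) (Bool.rec (Bool.rec (Bool.rec (Bool.rec f3608 f3609 (Nat.ble 3609 i)) (Bool.rec f3610 f3611 (Nat.ble 3611 i)) (Nat.ble 3610 i)) (Bool.rec (Bool.rec f3612 f3613 (Nat.ble 3613 i)) (Bool.rec f3614 f3615 (Nat.ble 3615 i)) (Nat.ble 3614 i)) (Nat.ble 3612 i)) (Bool.rec (Bool.rec (Bool.rec f3616 f3617 (Nat.ble 3617 i)) (Bool.rec f3618 f3619 (Nat.ble 3619 i)) (Nat.ble 3618 i)) (Bool.rec (Bool.rec f3620 f3621 (Nat.ble 3621 i)) (Bool.rec f3622 (Bool.rec f3623 f3624 (Nat.ble 3624 i)) (Nat.ble 3623 i)) (Nat.ble 3622 i)) (Nat.ble 3620 i)) (Nat.ble 3616 i)) (Nat.ble 3608 i)) (Bool.rec (Bool.rec (Bool.rec (Bool.rec (Bool.rec f3625 f3626 (Nat.ble 3626 i)) (Bool.rec f3627 f3628 (Nat.ble 3628 i)) (Nat.ble 3627 i)) (Bool.rec (Bool.rec f3629 f3630 (Nat.ble 3630 i)) (Bool.rec f3631 f3632 (Nat.ble 3632 i)) (Nat.ble 3631 i)) (Nat.ble 3629 i)) (Bool.rec (Bool.rec (Bool.rec f3633 f3634 (Nat.ble 3634 i)) (Bool.rec f3635 f3636 (Nat.ble 3636 i)) (Nat.ble 3635 i)) (Bool.rec (Bool.rec f3637 f3638 (Nat.ble 3638 i)) (Bool.rec f3639 f3640 (Nat.ble 3640 i)) (Nat.ble 3639 i)) (Nat.ble 3637 i)) (Nat.ble 3633 i)) (Bool.rec (Bool.rec (Bool.rec (Bool.rec f3641 f3642 (Nat.ble 3642 i)) (Bool.rec f3643 f3644 (Nat.ble 3644 i)) (Nat.ble 3643 i)) (Bool.rec (Bool.rec f3645 f3646 (Nat.ble 3646 i)) (Bool.rec f3647 f3648 (Nat.ble 3648 i)) (Nat.ble 3647 i)) (Nat.ble 3645 i)) (Bool.rec (Bool.rec (Bool.rec f3649 f3650 (Nat.ble 3650 i)) (Bool.rec f3651 f3652 (Nat.ble 3652 i)) (Nat.ble 3651 i)) (Bool.rec (Bool.rec f3653 f3654 (Nat.ble 3654 i)) (Bool.rec f3655 (Bool.rec f3656 f3657 (Nat.ble 3657 i)) (Nat.ble 3656 i)) (Nat.ble 3655 i)) (Nat.ble 3653 i)) (Nat.ble 3649 i)) (Nat.ble 3641 i)) (Nat.ble 3625 i)) (Bool.rec (Bool.rec (Bool.rec (Bool.rec (Bool.rec (Bool.rec f3658 f3659 (Nat.ble 3659 i)) (Bool.rec f3660 f3661 (Nat.ble 3661 i)) (Nat.ble 3660 i)) (Bool.rec (Bool.rec f3662 f3663 (Nat.ble 3663 i)) (Bool.rec f3664 f3665 (Nat.ble 3665 i)) (Nat.ble 3664 i)) (Nat.ble 3662 i)) (Bool.rec (Bool.rec (Bool.rec f3666 f3667 (Nat.ble 3667 i)) (Bool.rec f3668 f3669 (Nat.ble 3669 i)) (Nat.ble 3668 i)) (Bool.rec (Bool.rec f3670 f3671 (Nat.ble 3671 i)) (Bool.rec f3672 f3673 (Nat.ble 3673 i)) (Nat.ble 3672 i)) (Nat.ble 3670 i)) (Nat.ble 3666 i)) (Bool.rec (Bool.rec (Bool.rec (Bool.rec f3674 f3675 (Nat.ble 3675 i)) (Bool.rec f3676 f3677 (Nat.ble 3677 i)) (Nat.ble 3676 i)) (Bool.rec (Bool.rec f3678 f3679 (Nat.ble 3679 i)) (Bool.rec f3680 f3681 (Nat.ble 3681 i)) (Nat.ble 3680 i)) (Nat.ble 3678 i)) (Bool.rec (Bool.rec (Bool.rec f3682 f3683 (Nat.ble 3683 i)) (Bool.rec f3684 f3685 (Nat.ble 3685 i)) (Nat.ble 3684 i)) (Bool.rec (Bool.rec f3686 f3687 (Nat.ble 3687 i)) (Bool.rec f3688 (Bool.rec f3689 f3690 (Nat.ble 3690 i)) (Nat.ble 3689 i)) (Nat.ble 3688 i)) (Nat.ble 3686 i)) (Nat.ble 3682 i)) (Nat.ble 3674 i)) (Bool.rec (Bool.rec (Bool.rec (Bool.rec (Bool.rec f3691 f3692 (Nat.ble 3692 i)) (Bool.rec f3693 f3694 (Nat.ble 3694 i)) (Nat.ble 3693 i)) (Bool.rec (Bool.rec f3695 f3696 (Nat.ble 3696 i)) (Bool.rec f3697 f3698 (Nat.ble 3698 i)) (Nat.ble 3697 i)) (Nat.ble 3695 i)) (Bool.rec (Bool.rec (Bool.rec f3699 f3700 (Nat.ble 3700 i)) (Bool.rec f3701 f3702 (Nat.ble 3702 i)) (Nat.ble 3701 i)) (Bool.rec (Bool.rec f3703 f3704 (Nat.ble 3704 i)) (Bool.rec f3705 (Bool.rec f3706 f3707 (Nat.ble 3707 i)) (Nat.ble 3706 i)) (Nat.ble 3705 i)) (Nat.ble 3703 i)) (Nat.ble 3699 i)) (Bool.rec (Bool.rec (Bool.rec (Bool.rec f3708 f3709 (Nat.ble 3709 i)) (Bool.rec f3710 f3711 (Nat.ble 3711 i)) (Nat.ble 3710 i)) (Bool.rec (Bool.rec f3712 f3713 (Nat.ble 3713 i)) (Bool.rec f3714 f3715 (Nat.ble 3715 i)) (Nat.ble 3714 i)) (Nat.ble 3712 i)) (Bool.rec (Bool.rec (Bool.rec f3716 f3717 (Nat.ble 3717 i)) (Bool.rec f3718 f3719 (Nat.ble 3719 i)) (Nat.ble 3718 i)) (Bool.rec (Bool.rec f3720 f3721 (Nat.ble 3721 i)) (Bool.rec f3722 (Bool.rec f3723 f3724 (Nat.ble 3724 i)) (Nat.ble 3723 i)) (Nat.ble 3722 i)) (Nat.ble 3720 i)) (Nat.ble 3716 i)) (Nat.ble 3708 i)) (Nat.ble 3691 i)) (Nat.ble 3658 i)) (Nat.ble 3592 i)) (Nat.ble 3459 i)) (Bool.rec (Bool.rec (Bool.rec (Bool.rec (Bool.rec (Bool.rec (Bool.rec (Bool.rec (Bool.rec f3725 f3726 (Nat.ble 3726 i)) (Bool.rec f3727 f3728 (Nat.ble 3728 i)) (Nat.ble 3727 i)) (Bool.rec (Bool.rec f3729 f3730 (Nat.ble 3730 i)) (Bool.rec f3731 f3732 (Nat.ble 3732 i)) (Nat.ble 3731 i)) (Nat.ble 3729 i)) (Bool.rec (Bool.rec (Bool.rec f3733 f3734 (Nat.ble 3734 i)) (Bool.rec f3735 f3736 (Nat.ble 3736 i)) (Nat.ble 3735 i)) (Bool.rec (Bool.rec f3737 f3738 (Nat.ble 3738 i)) (Bool.rec f3739 f3740 (Nat.ble 3740 i)) (Nat.ble 3739 i)) (Nat.ble 3737 i)) (Nat.ble 3733 i)) (Bool.rec (Bool.rec (Bool.rec (Bool.rec f3741 f3742 (Nat.ble 3742 i)) (Bool.rec f3743 f3744 (Nat.ble 3744 i)) (Nat.ble 3743 i)) (Bool.rec (Bool.rec f3745 f3746 (Nat.ble 3746 i)) (Bool.rec f3747 f3748 (Nat.ble 3748 i)) (Nat.ble 3747 i)) (Nat.ble 3745 i)) (Bool.rec (Bool.rec (Bool.rec f3749 f3750 (Nat.ble 3750 i)) (Bool.rec f3751 f3752 (Nat.ble 3752 i)) (Nat.ble 3751 i)) (Bool.rec (Bool.rec f3753 f3754 (Nat.ble 3754 i)) (Bool.rec f3755 (Bool.rec f3756 f3757 (Nat.ble 3757 i)) (Nat.ble 3756 i)) (Nat.ble 3755 i)) (Nat.ble 3753 i)) (Nat.ble 3749 i)) (Nat.ble 3741 i)) (Bool.rec (Bool.rec (Bool.rec (Bool.rec (Bool.rec f3758 f3759 (Nat.ble 3759 i)) (Bool.rec f3760 f3761 (Nat.ble 3761 i)) (Nat.ble 3760 i)) (Bool.rec (Bool.rec f3762 f3763 (Nat.ble 3763 i)) (Bool.rec f3764 f3765 (Nat.ble 3765 i)) (Nat.ble 3764 i)) (Nat.ble 3762 i)) (Bool.rec (Bool.rec (Bool.rec f3766 f3767 (Nat.ble 3767 i)) (Bool.rec f3768 f3769 (Nat.ble 3769 i)) (Nat.ble 3768 i)) (Bool.rec (Bool.rec f3770 f3771 (Nat.ble 3771 i)) (Bool.rec f3772 f3773 (Nat.ble 3773 i)) (Nat.ble 3772 i)) (Nat.ble 3770 i)) (Nat.ble 3766 i)) (Bool.rec (Bool.rec (Bool.rec (Bool.rec f3774 f3775 (Nat.ble 3775 i)) (Bool.rec f3776 f3777 (Nat.ble 3777 i)) (Nat.ble 3776 i)) (Bool.rec (Bool.rec f3778 f3779 (Nat.ble 3779 i)) (Bool.rec f3780 f3781 (Nat.ble 3781 i)) (Nat.ble 3780 i)) (Nat.ble 3778 i)) (Bool.rec (Bool.rec (Bool.rec f3782 f3783 (Nat.ble 3783 i)) (Bool.rec f3784 f3785 (Nat.ble 3785 i)) (Nat.ble 3784 i)) (Bool.rec (Bool.rec f3786 f3787 (Nat.ble 3787 i)) (Bool.rec f3788 (Bool.rec f3789 f3790 (Nat.ble 3790 i)) (Nat.ble 3789 i)) (Nat.ble 3788 i)) (Nat.ble 3786 i)) (Nat.ble 3782 i)) (Nat.ble 3774 i)) (Nat.ble 3758 i)) (Bool.rec (Bool.rec (Bool.rec (Bool.rec (Bool.rec (Bool.rec f3791 f3792 (Nat.ble 3792 i)) (Bool.rec f3793 f3794 (Nat.ble 3794 i)) (Nat.ble 3793 i)) (Bool.rec (Bool.rec f3795 f3796 (Nat.ble 3796 i)) (Bool.rec f3797 f3798 (Nat.ble 3798 i)) (Nat.ble 3797 i)) (Nat.ble 3795 i)) (Bool.rec (Bool.rec (Bool.rec f3799 f3800 (Nat.ble 3800 i)) (Bool.rec f3801 f3802 (Nat.ble 3802 i)) (Nat.ble 3801 i)) (Bool.rec (Bool.rec f3803 f3804 (Nat.ble 3804 i)) (Bool.rec f3805 f3806 (Nat.ble 3806 i)) (Nat.ble 3805 i)) (Nat.ble 3803 i)) (Nat.ble 3799 i)) (Bool.rec (Bool.rec (Bool.rec (Bool.rec f3807 f3808 (Nat.ble 3808 i)) (Bool.rec f3809 f3810 (Nat.ble 3810 i)) (Nat.ble 3809 i)) (Bool.rec (Bool.rec f3811 f3812 (Nat.ble 3812 i)) (Bool.rec f3813 f3814 (Nat.ble 3814 i)) (Nat.ble 3813 i)) (Nat.ble 3811 i)) (Bool.rec (Bool.rec (Bool.rec f3815 f3816 (Nat.ble 3816 i)) (Bool.rec f3817 f3818 (Nat.ble 3818 i)) (Nat.ble 3817 i)) (Bool.rec (Bool.rec f3819 f3820 (Nat.ble 3820 i)) (Bool.rec f3821 (Bool.rec f3822 f3823 (Nat.ble 3823 i)) (Nat.ble 3822 i)) (Nat.ble 3821 i)) (Nat.ble 3819 i)) (Nat.ble 3815 i)) (Nat.ble 3807 i)) (Bool.rec (Bool.rec (Bool.rec (Bool.rec (Bool.rec f3824 f3825 (Nat.ble 3825 i)) (Bool.rec f3826 f3827 (Nat.ble 3827 i)) (Nat.ble 3826 i)) (Bool.rec (Bool.rec f3828 f3829 (Nat.ble 3829 i)) (Bool.rec f3830 f3831 (Nat.ble 3831 i)) (Nat.ble 3830 i)) (Nat.ble 3828 i)) (Bool.rec (Bool.rec (Bool.rec f3832 f3833 (Nat.ble 3833 i)) (Bool.rec f3834 f3835 (Nat.ble 3835 i)) (Nat.ble 3834 i)) (Bool.rec (Bool.rec f3836 f3837 (Nat.ble 3837 i)) (Bool.rec f3838 (Bool.rec f3839 f3840 (Nat.ble 3840 i)) (Nat.ble 3839 i)) (Nat.ble 3838 i)) (Nat.ble 3836 i)) (Nat.ble 3832 i)) (Bool.rec (Bool.rec (Bool.rec (Bool.rec f3841 f3842 (Nat.ble 3842 i)) (Bool.rec f3843 f3844 (Nat.ble 3844 i)) (Nat.ble 3843 i)) (Bool.rec (Bool.rec f3845 f3846 (Nat.ble 3846 i)) (Bool.rec f3847 f3848 (Nat.ble 3848 i)) (Nat.ble 3847 i)) (Nat.ble 3845 i)) (Bool.rec (Bool.rec (Bool.rec f3849 f3850 (Nat.ble 3850 i)) (Bool.rec f3851 f3852 (Nat.ble 3852 i)) (Nat.ble 3851 i)) (Bool.rec (Bool.rec f3853 f3854 (Nat.ble 3854 i)) (Bool.rec f3855 (Bool.rec f3856 f3857 (Nat.ble 3857 i)) (Nat.ble 3856 i)) (Nat.ble 3855 i)) (Nat.ble 3853 i)) (Nat.ble 3849 i)) (Nat.ble 3841 i)) (Nat.ble 3824 i)) (Nat.ble 3791 i)) (Bool.rec (Bool.rec (Bool.rec (Bool.rec (Bool.rec (Bool.rec (Bool.rec f3858 f3859 (Nat.ble 3859 i)) (Bool.rec f3860 f3861 (Nat.ble 3861 i)) (Nat.ble 3860 i)) (Bool.rec (Bool.rec f3862 f3863 (Nat.ble 3863 i)) (Bool.rec f3864 f3865 (Nat.ble 3865 i)) (Nat.ble 3864 i)) (Nat.ble 3862 i)) (Bool.rec (Bool.rec (Bool.rec f3866 f3867 (Nat.ble 3867 i)) (Bool.rec f3868 f3869 (Nat.ble 3869 i)) (Nat.ble 3868 i)) (Bool.rec (Bool.rec f3870 f3871 (Nat.ble 3871 i)) (Bool.rec f3872 f3873 (Nat.ble 3873 i)) (Nat.ble 3872 i)) (Nat.ble 3870 i)) (Nat.ble 3866 i)) (Bool.rec (Bool.rec (Bool.rec (Bool.rec f3874 f3875 (Nat.ble 3875 i)) (Bool.rec f3876 f3877 (Nat.ble 3877 i)) (Nat.ble 3876 i)) (Bool.rec (Bool.rec f3878 f3879 (Nat.ble 3879 i)) (Bool.rec f3880 f3881 (Nat.ble 3881 i)) (Nat.ble 3880 i)) (Nat.ble 3878 i)) (Bool.rec (Bool.rec (Bool.rec f3882 f3883 (Nat.ble 3883 i)) (Bool.rec f3884 f3885 (Nat.ble 3885 i)) (Nat.ble 3884 i)) (Bool.rec (Bool.rec f3886 f3887 (Nat.ble 3887 i)) (Bool.rec f3888 (Bool.rec f3889 f3890 (Nat.ble 3890 i)) (Nat.ble 3889 i)) (Nat.ble 3888 i)) (Nat.ble 3886 i)) (Nat.ble 3882 i)) (Nat.ble 3874 i)) (Bool.rec (Bool.rec (Bool.rec (Bool.rec (Bool.rec f3891 f3892 (Nat.ble 3892 i)) (Bool.rec f3893 f3894 (Nat.ble 3894 i)) (Nat.ble 3893 i)) (Bool.rec (Bool.rec f3895 f3896 (Nat.ble 3896 i)) (Bool.rec f3897 f3898 (Nat.ble 3898 i)) (Nat.ble 3897 i)) (Nat.ble 3895 i)) (Bool.rec (Bool.rec (Bool.rec f3899 f3900 (Nat.ble 3900 i)) (Bool.rec f3901 f3902 (Nat.ble 3902 i)) (Nat.ble 3901 i)) (Bool.rec (Bool.rec f3903 f3904 (Nat.ble 3904 i)) (Bool.rec f3905 f3906 (Nat.ble 3906 i)) (Nat.ble 3905 i)) (Nat.ble 3903 i)) (Nat.ble 3899 i)) (Bool.rec (Bool.rec (Bool.rec (Bool.rec f3907 f3908 (Nat.ble 3908 i)) (Bool.rec f3909 f3910 (Nat.ble 3910 i)) (Nat.ble 3909 i)) (Bool.rec (Bool.rec f3911 f3912 (Nat.ble 3912 i)) (Bool.rec f3913 f3914 (Nat.ble 3914 i)) (Nat.ble 3913 i)) (Nat.ble 3911 i)) (Bool.rec (Bool.rec (Bool.rec f3915 f3916 (Nat.ble 3916 i)) (Bool.rec f3917 f3918 (Nat.ble 3918 i)) (Nat.ble 3917 i)) (Bool.rec (Bool.rec f3919 f3920 (Nat.ble 3920 i)) (Bool.rec f3921 (Bool.rec f3922 f3923 (Nat.ble 3923 i)) (Nat.ble 3922 i)) (Nat.ble 3921 i)) (Nat.ble 3919 i)) (Nat.ble 3915 i)) (Nat.ble 3907 i)) (Nat.ble 3891 i)) (Bool.rec (Bool.rec (Bool.rec (Bool.rec (Bool.rec (Bool.rec f3924 f3925 (Nat.ble 3925 i)) (Bool.rec f3926 f3927 (Nat.ble 3927 i)) (Nat.ble 3926 i)) (Bool.rec (Bool.rec f3928 f3929 (Nat.ble 3929 i)) (Bool.rec f3930 f3931 (Nat.ble 3931 i)) (Nat.ble 3930 i)) (Nat.ble 3928 i)) (Bool.rec (Bool.rec (Bool.rec f3932 f3933 (Nat.ble 3933 i)) (Bool.rec f3934 f3935 (Nat.ble 3935 i)) (Nat.ble 3934 i)) (Bool.rec (Bool.rec f3936 f3937 (Nat.ble 3937 i)) (Bool.rec f3938 f3939 (Nat.ble 3939 i)) (Nat.ble 3938 i)) (Nat.ble 3936 i)) (Nat.ble 3932 i)) (Bool.rec (Bool.rec (Bool.rec (Bool.rec f3940 f3941 (Nat.ble 3941 i)) (Bool.rec f3942 f3943 (Nat.ble 3943 i)) (Nat.ble 3942 i)) (Bool.rec (Bool.rec f3944 f3945 (Nat.ble 3945 i)) (Bool.rec f3946 f3947 (Nat.ble 3947 i)) (Nat.ble 3946 i)) (Nat.ble 3944 i)) (Bool.rec (Bool.rec (Bool.rec f3948 f3949 (Nat.ble 3949 i)) (Bool.rec f3950 f3951 (Nat.ble 3951 i)) (Nat.ble 3950 i)) (Bool.rec (Bool.rec f3952 f3953 (Nat.ble 3953 i)) (Bool.rec f3954 (Bool.rec f3955 f3956 (Nat.ble 3956 i)) (Nat.ble 3955 i)) (Nat.ble 3954 i)) (Nat.ble 3952 i)) (Nat.ble 3948 i)) (Nat.ble 3940 i)) (Bool.rec (Bool.rec (Bool.rec (Bool.rec (Bool.rec f3957 f3958 (Nat.ble 3958 i)) (Bool.rec f3959 f3960 (Nat.ble 3960 i)) (Nat.ble 3959 i)) (Bool.rec (Bool.rec f3961 f3962 (Nat.ble 3962 i)) (Bool.rec f3963 f3964 (Nat.ble 3964 i)) (Nat.ble 3963 i)) (Nat.ble 3961 i)) (Bool.rec (Bool.rec (Bool.rec f3965 f3966 (Nat.ble 3966 i)) (Bool.rec f3967 f3968 (Nat.ble 3968 i)) (Nat.ble 3967 i)) (Bool.rec (Bool.rec f3969 f3970 (Nat.ble 3970 i)) (Bool.rec f3971 (Bool.rec f3972 f3973 (Nat.ble 3973 i)) (Nat.ble 3972 i)) (Nat.ble 3971 i)) (Nat.ble 3969 i)) (Nat.ble 3965 i)) (Bool.rec (Bool.rec (Bool.rec (Bool.rec f3974 f3975 (Nat.ble 3975 i)) (Bool.rec f3976 f3977 (Nat.ble 3977 i)) (Nat.ble 3976 i)) (Bool.rec (Bool.rec f3978 f3979 (Nat.ble 3979 i)) (Bool.rec f3980 f3981 (Nat.ble 3981 i)) (Nat.ble 3980 i)) (Nat.ble 3978 i)) (Bool.rec (Bool.rec (Bool.rec f3982 f3983 (Nat.ble 3983 i)) (Bool.rec f3984 f3985 (Nat.ble 3985 i)) (Nat.ble 3984 i)) (Bool.rec (Bool.rec f3986 f3987 (Nat.ble 3987 i)) (Bool.rec f3988 (Bool.rec f3989 f3990 (Nat.ble 3990 i)) (Nat.ble 3989 i)) (Nat.ble 3988 i)) (Nat.ble 3986 i)) (Nat.ble 3982 i)) (Nat.ble 3974 i)) (Nat.ble 3957 i)) (Nat.ble 3924 i)) (Nat.ble 3858 i)) (Bool.rec (Bool.rec (Bool.rec (Bool.rec (Bool.rec (Bool.rec (Bool.rec (Bool.rec f3991 f3992 (Nat.ble 3992 i)) (Bool.rec f3993 f3994 (Nat.ble 3994 i)) (Nat.ble 3993 i)) (Bool.rec (Bool.rec f3995 f3996 (Nat.ble 3996 i)) (Bool.rec f3997 f3998 (Nat.ble 3998 i)) (Nat.ble 3997 i)) (Nat.ble 3995 i)) (Bool.rec (Bool.rec (Bool.rec f3999 f4000 (Nat.ble 4000 i)) (Bool.rec f4001 f4002 (Nat.ble 4002 i)) (Nat.ble 4001 i)) (Bool.rec (Bool.rec f4003 f4004 (Nat.ble 4004 i)) (Bool.rec f4005 f4006 (Nat.ble 4006 i)) (Nat.ble 4005 i)) (Nat.ble 4003 i)) (Nat.ble 3999 i)) (Bool.rec (Bool.rec (Bool.rec (Bool.rec f4007 f4008 (Nat.ble 4008 i)) (Bool.rec f4009 f4010 (Nat.ble 4010 i)) (Nat.ble 4009 i)) (Bool.rec (Bool.rec f4011 f4012 (Nat.ble 4012 i)) (Bool.rec f4013 f4014 (Nat.ble 4014 i)) (Nat.ble 4013 i)) (Nat.ble 4011 i)) (Bool.rec (Bool.rec (Bool.rec f4015 f4016 (Nat.ble 4016 i)) (Bool.rec f4017 f4018 (Nat.ble 4018 i)) (Nat.ble 4017 i)) (Bool.rec (Bool.rec f4019 f4020 (Nat.ble 4020 i)) (Bool.rec f4021 (Bool.rec f4022 f4023 (Nat.ble 4023 i)) (Nat.ble 4022 i)) (Nat.ble 4021 i)) (Nat.ble 4019 i)) (Nat.ble 4015 i)) (Nat.ble 4007 i)) (Bool.rec (Bool.rec (Bool.rec (Bool.rec (Bool.rec f4024 f4025 (Nat.ble 4025 i)) (Bool.rec f4026 f4027 (Nat.ble 4027 i)) (Nat.ble 4026 i)) (Bool.rec (Bool.rec f4028 f4029 (Nat.ble 4029 i)) (Bool.rec f4030 f4031 (Nat.ble 4031 i)) (Nat.ble 4030 i)) (Nat.ble 4028 i)) (Bool.rec (Bool.rec (Bool.rec f4032 f4033 (Nat.ble 4033 i)) (Bool.rec f4034 f4035 (Nat.ble 4035 i)) (Nat.ble 4034 i)) (Bool.rec (Bool.rec f4036 f4037 (Nat.ble 4037 i)) (Bool.rec f4038 f4039 (Nat.ble 4039 i)) (Nat.ble 4038 i)) (Nat.ble 4036 i)) (Nat.ble 4032 i)) (Bool.rec (Bool.rec (Bool.rec (Bool.rec f4040 f4041 (Nat.ble 4041 i)) (Bool.rec f4042 f4043 (Nat.ble 4043 i)) (Nat.ble 4042 i)) (Bool.rec (Bool.rec f4044 f4045 (Nat.ble 4045 i)) (Bool.rec f4046 f4047 (Nat.ble 4047 i)) (Nat.ble 4046 i)) (Nat.ble 4044 i)) (Bool.rec (Bool.rec (Bool.rec f4048 f4049 (Nat.ble 4049 i)) (Bool.rec f4050 f4051 (Nat.ble 4051 i)) (Nat.ble 4050 i)) (Bool.rec (Bool.rec f4052 f4053 (Nat.ble 4053 i)) (Bool.rec f4054 (Bool.rec f4055 f4056 (Nat.ble 4056 i)) (Nat.ble 4055 i)) (Nat.ble 4054 i)) (Nat.ble 4052 i)) (Nat.ble 4048 i)) (Nat.ble 4040 i)) (Nat.ble 4024 i)) (Bool.rec (Bool.rec (Bool.rec (Bool.rec (Bool.rec (Bool.rec f4057 f4058 (Nat.ble 4058 i)) (Bool.rec f4059 f4060 (Nat.ble 4060 i)) (Nat.ble 4059 i)) (Bool.rec (Bool.rec f4061 f4062 (Nat.ble 4062 i)) (Bool.rec f4063 f4064 (Nat.ble 4064 i)) (Nat.ble 4063 i)) (Nat.ble 4061 i)) (Bool.rec (Bool.rec (Bool.rec f4065 f4066 (Nat.ble 4066 i)) (Bool.rec f4067 f4068 (Nat.ble 4068 i)) (Nat.ble 4067 i)) (Bool.rec (Bool.rec f4069 f4070 (Nat.ble 4070 i)) (Bool.rec f4071 f4072 (Nat.ble 4072 i)) (Nat.ble 4071 i)) (Nat.ble 4069 i)) (Nat.ble 4065 i)) (Bool.rec (Bool.rec (Bool.rec (Bool.rec f4073 f4074 (Nat.ble 4074 i)) (Bool.rec f4075 f4076 (Nat.ble 4076 i)) (Nat.ble 4075 i)) (Bool.rec (Bool.rec f4077 f4078 (Nat.ble 4078 i)) (Bool.rec f4079 f4080 (Nat.ble 4080 i)) (Nat.ble 4079 i)) (Nat.ble 4077 i)) (Bool.rec (Bool.rec (Bool.rec f4081 f4082 (Nat.ble 4082 i)) (Bool.rec f4083 f4084 (Nat.ble 4084 i)) (Nat.ble 4083 i)) (Bool.rec (Bool.rec f4085 f4086 (Nat.ble 4086 i)) (Bool.rec f4087 (Bool.rec f4088 f4089 (Nat.ble 4089 i)) (Nat.ble 4088 i)) (Nat.ble 4087 i)) (Nat.ble 4085 i)) (Nat.ble 4081 i)) (Nat.ble 4073 i)) (Bool.rec (Bool.rec (Bool.rec (Bool.rec (Bool.rec f4090 f4091 (Nat.ble 4091 i)) (Bool.rec f4092 f4093 (Nat.ble 4093 i)) (Nat.ble 4092 i)) (Bool.rec (Bool.rec f4094 f4095 (Nat.ble 4095 i)) (Bool.rec f4096 f4097 (Nat.ble 4097 i)) (Nat.ble 4096 i)) (Nat.ble 4094 i)) (Bool.rec (Bool.rec (Bool.rec f4098 f4099 (Nat.ble 4099 i)) (Bool.rec f4100 f4101 (Nat.ble 4101 i)) (Nat.ble 4100 i)) (Bool.rec (Bool.rec f4102 f4103 (Nat.ble 4103 i)) (Bool.rec f4104 (Bool.rec f4105 f4106 (Nat.ble 4106 i)) (Nat.ble 4105 i)) (Nat.ble 4104 i)) (Nat.ble 4102 i)) (Nat.ble 4098 i)) (Bool.rec (Bool.rec (Bool.rec (Bool.rec f4107 f4108 (Nat.ble 4108 i)) (Bool.rec f4109 f4110 (Nat.ble 4110 i)) (Nat.ble 4109 i)) (Bool.rec (Bool.rec f4111 f4112 (Nat.ble 4112 i)) (Bool.rec f4113 f4114 (Nat.ble 4114 i)) (Nat.ble 4113 i)) (Nat.ble 4111 i)) (Bool.rec (Bool.rec (Bool.rec f4115 f4116 (Nat.ble 4116 i)) (Bool.rec f4117 f4118 (Nat.ble 4118 i)) (Nat.ble 4117 i)) (Bool.rec (Bool.rec f4119 f4120 (Nat.ble 4120 i)) (Bool.rec f4121 (Bool.rec f4122 f4123 (Nat.ble 4123 i)) (Nat.ble 4122 i)) (Nat.ble 4121 i)) (Nat.ble 4119 i)) (Nat.ble 4115 i)) (Nat.ble 4107 i)) (Nat.ble 4090 i)) (Nat.ble 4057 i)) (Bool.rec (Bool.rec (Bool.rec (Bool.rec (Bool.rec (Bool.rec (Bool.rec f4124 f4125 (Nat.ble 4125 i)) (Bool.rec f4126 f4127 (Nat.ble 4127 i)) (Nat.ble 4126 i)) (Bool.rec (Bool.rec f4128 f4129 (Nat.ble 4129 i)) (Bool.rec f4130 f4131 (Nat.ble 4131 i)) (Nat.ble 4130 i)) (Nat.ble 4128 i)) (Bool.rec (Bool.rec (Bool.rec f4132 f4133 (Nat.ble 4133 i)) (Bool.rec f4134 f4135 (Nat.ble 4135 i)) (Nat.ble 4134 i)) (Bool.rec (Bool.rec f4136 f4137 (Nat.ble 4137 i)) (Bool.rec f4138 f4139 (Nat.ble 4139 i)) (Nat.ble 4138 i)) (Nat.ble 4136 i)) (Nat.ble 4132 i)) (Bool.rec (Bool.rec (Bool.rec (Bool.rec f4140 f4141 (Nat.ble 4141 i)) (Bool.rec f4142 f4143 (Nat.ble 4143 i)) (Nat.ble 4142 i)) (Bool.rec (Bool.rec f4144 f4145 (Nat.ble 4145 i)) (Bool.rec f4146 f4147 (Nat.ble 4147 i)) (Nat.ble 4146 i)) (Nat.ble 4144 i)) (Bool.rec (Bool.rec (Bool.rec f4148 f4149 (Nat.ble 4149 i)) (Bool.rec f4150 f4151 (Nat.ble 4151 i)) (Nat.ble 4150 i)) (Bool.rec (Bool.rec f4152 f4153 (Nat.ble 4153 i)) (Bool.rec f4154 (Bool.rec f4155 f4156 (Nat.ble 4156 i)) (Nat.ble 4155 i)) (Nat.ble 4154 i)) (Nat.ble 4152 i)) (Nat.ble 4148 i)) (Nat.ble 4140 i)) (Bool.rec (Bool.rec (Bool.rec (Bool.rec (Bool.rec f4157 f4158 (Nat.ble 4158 i)) (Bool.rec f4159 f4160 (Nat.ble 4160 i)) (Nat.ble 4159 i)) (Bool.rec (Bool.rec f4161 f4162 (Nat.ble 4162 i)) (Bool.rec f4163 f4164 (Nat.ble 4164 i)) (Nat.ble 4163 i)) (Nat.ble 4161 i)) (Bool.rec (Bool.rec (Bool.rec f4165 f4166 (Nat.ble 4166 i)) (Bool.rec f4167 f4168 (Nat.ble 4168 i)) (Nat.ble 4167 i)) (Bool.rec (Bool.rec f4169 f4170 (Nat.ble 4170 i)) (Bool.rec f4171 (Bool.rec f4172 f4173 (Nat.ble 4173 i)) (Nat.ble 4172 i)) (Nat.ble 4171 i)) (Nat.ble 4169 i)) (Nat.ble 4165 i)) (Bool.rec (Bool.rec (Bool.rec (Bool.rec f4174 f4175 (Nat.ble 4175 i)) (Bool.rec f4176 f4177 (Nat.ble 4177 i)) (Nat.ble 4176 i)) (Bool.rec (Bool.rec f4178 f4179 (Nat.ble 4179 i)) (Bool.rec f4180 f4181 (Nat.ble 4181 i)) (Nat.ble 4180 i)) (Nat.ble 4178 i)) (Bool.rec (Bool.rec (Bool.rec f4182 f4183 (Nat.ble 4183 i)) (Bool.rec f4184 f4185 (Nat.ble 4185 i)) (Nat.ble 4184 i)) (Bool.rec (Bool.rec f4186 f4187 (Nat.ble 4187 i)) (Bool.rec f4188 (Bool.rec f4189 f4190 (Nat.ble 4190 i)) (Nat.ble 4189 i)) (Nat.ble 4188 i)) (Nat.ble 4186 i)) (Nat.ble 4182 i)) (Nat.ble 4174 i)) (Nat.ble 4157 i)) (Bool.rec (Bool.rec (Bool.rec (Bool.rec (Bool.rec (Bool.rec f4191 f4192 (Nat.ble 4192 i)) (Bool.rec f4193 f4194 (Nat.ble 4194 i)) (Nat.ble 4193 i)) (Bool.rec (Bool.rec f4195 f4196 (Nat.ble 4196 i)) (Bool.rec f4197 f4198 (Nat.ble 4198 i)) (Nat.ble 4197 i)) (Nat.ble 4195 i)) (Bool.rec (Bool.rec (Bool.rec f4199 f4200 (Nat.ble 4200 i)) (Bool.rec f4201 f4202 (Nat.ble 4202 i)) (Nat.ble 4201 i)) (Bool.rec (Bool.rec f4203 f4204 (Nat.ble 4204 i)) (Bool.rec f4205 f4206 (Nat.ble 4206 i)) (Nat.ble 4205 i)) (Nat.ble 4203 i)) (Nat.ble 4199 i)) (Bool.rec (Bool.rec (Bool.rec (Bool.rec f4207 f4208 (Nat.ble 4208 i)) (Bool.rec f4209 f4210 (Nat.ble 4210 i)) (Nat.ble 4209 i)) (Bool.rec (Bool.rec f4211 f4212 (Nat.ble 4212 i)) (Bool.rec f4213 f4214 (Nat.ble 4214 i)) (Nat.ble 4213 i)) (Nat.ble 4211 i)) (Bool.rec (Bool.rec (Bool.rec f4215 f4216 (Nat.ble 4216 i)) (Bool.rec f4217 f4218 (Nat.ble 4218 i)) (Nat.ble 4217 i)) (Bool.rec (Bool.rec f4219 f4220 (Nat.ble 4220 i)) (Bool.rec f4221 (Bool.rec f4222 f4223 (Nat.ble 4223 i)) (Nat.ble 4222 i)) (Nat.ble 4221 i)) (Nat.ble 4219 i)) (Nat.ble 4215 i)) (Nat.ble 4207 i)) (Bool.rec (Bool.rec (Bool.rec (Bool.rec (Bool.rec f4224 f4225 (Nat.ble 4225 i)) (Bool.rec f4226 f4227 (Nat.ble 4227 i)) (Nat.ble 4226 i)) (Bool.rec (Bool.rec f4228 f4229 (Nat.ble 4229 i)) (Bool.rec f4230 f4231 (Nat.ble 4231 i)) (Nat.ble 4230 i)) (Nat.ble 4228 i)) (Bool.rec (Bool.rec (Bool.rec f4232 f4233 (Nat.ble 4233 i)) (Bool.rec f4234 f4235 (Nat.ble 4235 i)) (Nat.ble 4234 i)) (Bool.rec (Bool.rec f4236 f4237 (Nat.ble 4237 i)) (Bool.rec f4238 (Bool.rec f4239 f4240 (Nat.ble 4240 i)) (Nat.ble 4239 i)) (Nat.ble 4238 i)) (Nat.ble 4236 i)) (Nat.ble 4232 i)) (Bool.rec (Bool.rec (Bool.rec (Bool.rec f4241 f4242 (Nat.ble 4242 i)) (Bool.rec f4243 f4244 (Nat.ble 4244 i)) (Nat.ble 4243 i)) (Bool.rec (Bool.rec f4245 f4246 (Nat.ble 4246 i)) (Bool.rec f4247 f4248 (Nat.ble 4248 i)) (Nat.ble 4247 i)) (Nat.ble 4245 i)) (Bool.rec (Bool.rec (Bool.rec f4249 f4250 (Nat.ble 4250 i)) (Bool.rec f4251 f4252 (Nat.ble 4252 i)) (Nat.ble 4251 i)) (Bool.rec (Bool.rec f4253 f4254 (Nat.ble 4254 i)) (Bool.rec f4255 (Bool.rec f4256 f4257 (Nat.ble 4257 i)) (Nat.ble 4256 i)) (Nat.ble 4255 i)) (Nat.ble 4253 i)) (Nat.ble 4249 i)) (Nat.ble 4241 i)) (Nat.ble 4224 i)) (Nat.ble 4191 i)) (Nat.ble 4124 i)) (Nat.ble 3991 i)) (Nat.ble 3725 i)) (Nat.ble 3193 i)) (Nat.ble 2129 i))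
def BR : List (List (List ℕ)) := [[[3], [3, 4, 2, 0], [3], [3, 4, 2, 0]], [[3, 1, 2, 0, 1, 3], [3, 1, 0, 2, 1, 2, 4, 3, 2, 0], [3, 1, 2, 0, 1, 4, 2, 0], [3, 2, 0]], [[6, 2, 0], [6, 2, 0], [0, 2, 6, 2, 0]], [[5], [6, 2, 0], [5], [6, 2, 0], [5], [6, 2, 0], [5], [0, 2, 6, 2, 0]], [[5, 5, 3, 6, 6], [5, 5, 3, 6, 6], [5, 5, 3, 6, 6], [4, 3, 2, 3, 4, 5, 5, 5, 4, 3, 2, 3, 4, 6, 3, 2, 3, 2, 0, 3, 6, 6]]]
def TO : List (ℕ × ℕ × ℕ) := [(0, 0, 0), (0, 1, 0), (1, 0, 0), (1, 1, 0), (1, 2, 0), (1, 3, 0), (1, 1, 1), (1, 2, 1), (1, 3, 1), (1, 0, 1), (2, 0, 0), (2, 1, 1), (4, 0, 0)]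
noncomputable def D : DD := ⟨K.P.mul, K.P.one, K.P.chkRed 1, K.lc, nth 0 [0, 1, 2, 3, 4, 5, 6, 8, 7, 9, 10, 14, 12, 15], N.dl,
  tpls (ivOf Th.ivl) [0, 2] BR TO, [(0, []), (0, []), (1, [3]), (1, [6, 1]), (1, [3, 1]), (1, [6, 3, 1]), (1, [5, 3, 1]), (2, [1]), (2, [5, 1]), (3, [11, 12, 7, 12, 11, 5, 1]), (3, [0, 1, 11, 4, 11, 6, 1])], FT⟩

end H19.Th.DC
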