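import Mathlib
import Cfsg.Agent.H19.Th.DC.B

set_option autoImplicit false
set_option maxRecDepth 100000
set_option Elab.async false
set_option linter.all false

namespace H19.Th.DC
open H29

def PF0 : List DPf := [⟨0, 0, 0, [], [], []⟩,
 ⟨2, 0, 0, [0], [⟨0, 0, []⟩, ⟨1, 0, []⟩], [⟨1, 0, [0]⟩]⟩,
 ⟨2, 0, 0, [2], [⟨0, 0, []⟩, ⟨1, 0, []⟩], [⟨1, 0, [2]⟩]⟩,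
 ⟨2, 0, 0, [4], [⟨0, 0, []⟩, ⟨1, 0, []⟩], [⟨1, 0, [4]⟩]⟩,
 ⟨2, 0, 0, [8], [⟨0, 0, []⟩, ⟨1, 0, []⟩], [⟨1, 0, [8]⟩]⟩,
 ⟨2, 0, 0, [7], [⟨0, 0, []⟩, ⟨1, 0, []⟩], [⟨1, 0, [7]⟩]⟩,
 ⟨2, 0, 0, [0, 11, 13, 11, 4, 11, 13], [⟨0, 0, []⟩, ⟨1, 0, []⟩], [⟨1, 0, [0, 11, 13, 11, 4, 11, 13]⟩]⟩,
 ⟨2, 0, 0, [12], [⟨0, 0, []⟩, ⟨1, 0, []⟩], [⟨1, 0, [12]⟩]⟩,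
 ⟨2, 0, 0, [4, 13], [⟨0, 0, []⟩, ⟨1, 0, []⟩], [⟨1, 0, [4, 13]⟩]⟩,
 ⟨1, 0, 0, [], [], [⟨0, 0, [0]⟩]⟩,
 ⟨1, 0, 0, [], [], [⟨0, 0, [1]⟩]⟩,
 ⟨1, 0, 0, [], [], [⟨0, 0, [2]⟩]⟩,
 ⟨1, 0, 0, [], [], [⟨0, 0, [3]⟩]⟩,
 ⟨1, 0, 0, [], [], [⟨0, 0, [4]⟩]⟩,
 ⟨1, 0, 0, [], [], [⟨0, 0, [5]⟩]⟩,
 ⟨1, 0, 0, [], [], [⟨0, 0, [7]⟩]⟩,
 ⟨4, 0, 1, [], [⟨1, 0, []⟩], []⟩,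
 ⟨15, 1, 17, [0, 2, 5, 2, 0], [], [⟨1, 16, []⟩, ⟨0, 0, []⟩, ⟨1, 0, []⟩]⟩,
 ⟨4, 1, 18, [], [⟨1, 17, []⟩], []⟩,
 ⟨0, 0, 0, [], [], []⟩,
 ⟨2, 1, 20, [], [⟨1, 19, []⟩], [⟨1, 1, []⟩, ⟨1, 19, [0]⟩]⟩,
 ⟨2, 1, 20, [], [⟨1, 19, []⟩], [⟨1, 2, []⟩, ⟨1, 19, [11]⟩]⟩,
 ⟨2, 1, 20, [], [⟨1, 19, []⟩], [⟨1, 4, []⟩, ⟨1, 19, [7]⟩]⟩,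
 ⟨2, 1, 20, [], [⟨1, 19, []⟩], [⟨1, 6, []⟩, ⟨1, 19, [2]⟩]⟩,
 ⟨2, 1, 20, [], [⟨1, 19, []⟩], [⟨1, 3, []⟩, ⟨1, 6, []⟩, ⟨1, 3, []⟩, ⟨1, 19, [4, 11, 4]⟩]⟩,
 ⟨2, 1, 20, [], [⟨1, 19, []⟩], [⟨1, 7, []⟩, ⟨1, 6, []⟩, ⟨1, 7, []⟩, ⟨1, 19, [4, 7, 12, 11, 4, 12, 8]⟩]⟩,
 ⟨4, 1, 20, [], [⟨1, 19, []⟩], []⟩,
 ⟨5, 1, 17, [4, 8, 12, 3, 2, 0], [], [⟨1, 16, [4, 8, 12]⟩, ⟨0, 0, []⟩, ⟨1, 0, []⟩, ⟨1, 19, []⟩]⟩,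
 ⟨2, 1, 28, [], [⟨1, 27, []⟩], [⟨1, 4, []⟩, ⟨1, 7, []⟩, ⟨1, 3, []⟩, ⟨1, 19, [0, 2]⟩]⟩,
 ⟨7, 1, 17, [7, 12, 7, 11, 12, 3, 1, 0, 2, 1, 3, 2, 0], [], [⟨1, 16, [7, 12, 7, 11, 12]⟩, ⟨0, 0, []⟩, ⟨1, 0, []⟩, ⟨1, 19, [0, 2, 4, 13]⟩]⟩,
 ⟨2, 1, 30, [], [⟨1, 29, []⟩], [⟨1, 7, []⟩, ⟨1, 6, []⟩, ⟨1, 4, []⟩, ⟨1, 7, []⟩, ⟨1, 6, []⟩, ⟨1, 29, [13, 11, 12, 7, 11, 13]⟩]⟩,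
 ⟨4, 1, 30, [], [⟨1, 29, []⟩], []⟩,
 ⟨9, 1, 20, [4, 12, 13, 0, 2, 4, 1, 0, 2, 1, 3, 2, 0], [], [⟨1, 19, [4, 12, 13]⟩, ⟨1, 24, []⟩, ⟨1, 22, []⟩, ⟨1, 25, []⟩, ⟨1, 31, [4, 8, 11, 12, 13, 11, 4, 11, 4, 12, 13, 11]⟩, ⟨1, 6, []⟩, ⟨1, 7, []⟩, ⟨1, 4, []⟩, ⟨1, 7, []⟩, ⟨1, 29, [2, 4, 12, 11, 4, 12, 8, 11]⟩]⟩,
 ⟨4, 1, 33, [], [⟨1, 32, []⟩], []⟩,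
 ⟨16, 2, 27, [7, 0, 2, 6, 2, 0, 2, 0], [], [⟨1, 26, [7]⟩, ⟨1, 7, []⟩, ⟨1, 5, []⟩, ⟨1, 7, []⟩, ⟨1, 32, [7, 11, 4, 12]⟩]⟩,
 ⟨17, 2, 27, [5, 5, 3, 6, 6, 2, 0], [], [⟨1, 26, []⟩, ⟨1, 5, []⟩, ⟨1, 18, [0, 8, 11]⟩, ⟨1, 5, []⟩, ⟨1, 7, []⟩, ⟨1, 4, []⟩, ⟨1, 3, []⟩, ⟨1, 32, [2, 4, 7, 11, 4, 12, 11, 4]⟩]⟩,
 ⟨2, 2, 36, [], [⟨1, 35, []⟩], [⟨1, 28, []⟩, ⟨1, 34, [7, 12, 7]⟩]⟩,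
 ⟨5, 1, 18, [4, 8, 12, 3, 2, 0], [], [⟨1, 17, [4, 8, 12]⟩, ⟨1, 5, []⟩, ⟨1, 7, []⟩, ⟨1, 5, []⟩, ⟨1, 32, [7, 11, 12, 7]⟩, ⟨1, 22, []⟩, ⟨1, 22, []⟩, ⟨1, 28, []⟩, ⟨1, 36, []⟩, ⟨1, 36, []⟩, ⟨1, 33, [2, 7, 11, 4, 12, 11, 12]⟩]⟩,
 ⟨0, 0, 0, [], [], []⟩,
 ⟨2, 1, 39, [], [⟨1, 38, []⟩], [⟨1, 3, []⟩, ⟨1, 38, [7, 12, 8]⟩]⟩,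
 ⟨2, 1, 39, [], [⟨1, 38, []⟩], [⟨1, 7, []⟩, ⟨1, 38, [4, 12]⟩]⟩,
 ⟨2, 1, 39, [], [⟨1, 38, []⟩], [⟨1, 8, []⟩, ⟨1, 38, [0, 2]⟩]⟩,
 ⟨2, 1, 39, [], [⟨1, 38, []⟩], [⟨1, 2, []⟩, ⟨1, 1, []⟩, ⟨1, 38, [13]⟩]⟩,
 ⟨2, 1, 39, [], [⟨1, 38, []⟩], [⟨1, 5, []⟩, ⟨1, 7, []⟩, ⟨1, 4, []⟩, ⟨1, 38, [12]⟩]⟩,
 ⟨4, 1, 39, [], [⟨1, 38, []⟩], []⟩,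
 ⟨8, 1, 20, [4, 8, 11, 4, 11, 12, 0, 2, 3, 4, 2, 1, 2, 0, 1, 3, 2, 0], [], [⟨1, 19, [4, 8, 11, 4, 11, 12]⟩, ⟨1, 22, []⟩, ⟨1, 36, []⟩, ⟨1, 33, [7, 12, 8, 11, 4, 11, 12, 13]⟩, ⟨1, 4, []⟩, ⟨1, 7, []⟩, ⟨1, 6, []⟩, ⟨1, 8, []⟩, ⟨1, 5, []⟩, ⟨1, 7, []⟩, ⟨1, 6, []⟩, ⟨1, 5, []⟩, ⟨1, 38, [2, 12, 8, 12, 11, 13, 11]⟩]⟩,
 ⟨2, 1, 46, [], [⟨1, 45, []⟩], [⟨1, 7, []⟩, ⟨1, 6, []⟩, ⟨1, 8, []⟩, ⟨1, 3, []⟩, ⟨1, 6, []⟩, ⟨1, 38, [7, 11, 13, 11, 4, 12, 11, 4, 12, 7]⟩]⟩,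
 ⟨8, 1, 20, [8, 12, 7, 11, 12, 0, 2, 3, 4, 2, 1, 2, 0, 1, 3, 2, 0], [], [⟨1, 19, [8, 12, 7, 11, 12]⟩, ⟨1, 22, []⟩, ⟨1, 33, [11, 4, 12, 11, 12, 7, 13]⟩, ⟨1, 5, []⟩, ⟨1, 7, []⟩, ⟨1, 6, []⟩, ⟨1, 8, []⟩, ⟨1, 3, []⟩, ⟨1, 6, []⟩, ⟨1, 38, [8, 11, 13, 11, 12, 11, 12, 8]⟩]⟩,
 ⟨4, 1, 48, [], [⟨1, 47, []⟩], []⟩,
 ⟨8, 2, 27, [8, 12, 7, 11, 12, 0, 2, 3, 4, 2, 1, 2, 0, 1, 3, 2, 0], [], [⟨1, 26, [8, 12, 7, 11, 12]⟩, ⟨1, 7, []⟩, ⟨1, 4, []⟩, ⟨1, 7, []⟩, ⟨1, 37, [2, 11, 12, 8, 12, 11, 4, 12, 13]⟩, ⟨1, 7, []⟩, ⟨1, 6, []⟩, ⟨1, 7, []⟩, ⟨1, 4, []⟩, ⟨1, 47, [2, 11, 4, 13, 11, 12, 7, 11, 4, 13]⟩]⟩,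
 ⟨4, 2, 50, [], [⟨1, 49, []⟩], []⟩,
 ⟨5, 3, 45, [11, 13, 3, 2, 0], [], [⟨1, 44, [11, 13]⟩, ⟨1, 6, []⟩, ⟨1, 8, []⟩, ⟨1, 7, []⟩, ⟨1, 4, []⟩, ⟨1, 3, []⟩, ⟨1, 32, [0, 7, 11, 12, 13, 11]⟩, ⟨1, 25, []⟩, ⟨1, 22, []⟩, ⟨1, 25, []⟩, ⟨1, 22, []⟩, ⟨1, 22, []⟩, ⟨1, 49, [4, 8, 12, 11, 12, 7, 12, 11, 4, 12]⟩]⟩,
 ⟨6, 3, 45, [7, 11, 12, 13, 0, 2, 4, 3, 2, 0], [], [⟨1, 44, [7, 11, 12, 13]⟩, ⟨1, 6, []⟩, ⟨1, 8, []⟩, ⟨1, 5, []⟩, ⟨1, 7, []⟩, ⟨1, 3, []⟩, ⟨1, 6, []⟩, ⟨1, 29, [4, 11, 4, 12, 8, 11, 4]⟩, ⟨1, 22, []⟩, ⟨1, 25, []⟩, ⟨1, 22, []⟩, ⟨1, 25, []⟩, ⟨1, 22, []⟩, ⟨1, 22, []⟩, ⟨1, 36, []⟩, ⟨1, 36, []⟩, ⟨1, 49, [2, 7, 11, 4, 11, 12, 7, 11,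 12, 11, 4]⟩]⟩,
 ⟨4, 3, 53, [], [⟨1, 52, []⟩], []⟩,
 ⟨7, 3, 45, [7, 11, 12, 13, 11, 12, 3, 1, 0, 2, 1, 3, 2, 0], [], [⟨1, 44, [7, 11, 12, 13, 11, 12]⟩, ⟨1, 6, []⟩, ⟨1, 8, []⟩, ⟨1, 3, []⟩, ⟨1, 32, [0, 7, 12, 11, 12, 7, 12, 11]⟩, ⟨1, 22, []⟩, ⟨1, 28, []⟩, ⟨1, 28, []⟩, ⟨1, 36, []⟩, ⟨1, 34, [2, 4, 7, 11, 4, 11, 12, 11, 4, 13]⟩]⟩,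
 ⟨4, 3, 55, [], [⟨1, 54, []⟩], []⟩,
 ⟨7, 3, 45, [11, 4, 12, 13, 11, 4, 12, 3, 1, 0, 2, 1, 3, 2, 0], [], [⟨1, 44, [11, 4, 12, 13, 11, 4, 12]⟩, ⟨1, 6, []⟩, ⟨1, 3, []⟩, ⟨1, 6, []⟩, ⟨1, 8, []⟩, ⟨1, 7, []⟩, ⟨1, 6, []⟩, ⟨1, 3, []⟩, ⟨1, 6, []⟩, ⟨1, 1, []⟩, ⟨1, 38, [2, 4, 11, 12, 13, 11, 12]⟩, ⟨1, 51, [0, 8, 12, 11, 4, 12, 7, 13]⟩]⟩,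
 ⟨8, 3, 45, [11, 13, 0, 2, 3, 4, 2, 1, 2, 0, 1, 3, 2, 0], [], [⟨1, 44, [11, 13]⟩, ⟨1, 6, []⟩, ⟨1, 8, []⟩, ⟨1, 7, []⟩, ⟨1, 4, []⟩, ⟨1, 3, []⟩, ⟨1, 32, [0, 7, 11, 12, 11, 13, 11]⟩, ⟨1, 25, []⟩, ⟨1, 24, []⟩, ⟨1, 22, []⟩, ⟨1, 25, []⟩, ⟨1, 22, []⟩, ⟨1, 22, []⟩, ⟨1, 49, [2, 7, 12, 11, 12, 8, 11, 12, 11, 12]⟩]⟩,
 ⟨15, 3, 45, [0, 2, 5, 2, 0], [], [⟨1, 44, []⟩, ⟨1, 4, []⟩, ⟨1, 38, [7]⟩]⟩,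
 ⟨4, 3, 59, [], [⟨1, 58, []⟩], []⟩,
 ⟨15, 3, 45, [7, 0, 2, 5, 2, 0], [], [⟨1, 44, [7]⟩, ⟨1, 6, []⟩, ⟨1, 8, []⟩, ⟨1, 7, []⟩, ⟨1, 6, []⟩, ⟨1, 3, []⟩, ⟨1, 6, []⟩, ⟨1, 3, []⟩, ⟨1, 47, [4, 13, 11, 12, 8, 11, 4, 11]⟩]⟩,
 ⟨4, 3, 61, [], [⟨1, 60, []⟩], []⟩,
 ⟨15, 3, 45, [8, 0, 2, 5, 2, 0], [], [⟨1, 44, [8]⟩, ⟨1, 6, []⟩, ⟨1, 8, []⟩, ⟨1, 5, []⟩, ⟨1, 7, []⟩, ⟨1, 6, []⟩, ⟨1, 3, []⟩, ⟨1, 6, []⟩, ⟨1, 3, []⟩, ⟨1, 47, [4, 13, 11, 12, 11, 4, 11]⟩]⟩,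
 ⟨4, 3, 63, [], [⟨1, 62, []⟩], []⟩,
 ⟨16, 3, 45, [7, 0, 2, 6, 2, 0, 2, 0], [], [⟨1, 44, [7]⟩, ⟨1, 6, []⟩, ⟨1, 8, []⟩, ⟨1, 4, []⟩, ⟨1, 7, []⟩, ⟨1, 6, []⟩, ⟨1, 3, []⟩, ⟨1, 6, []⟩, ⟨1, 3, []⟩, ⟨1, 47, [0, 4, 13, 11, 12, 11, 4, 11]⟩]⟩,
 ⟨4, 3, 65, [], [⟨1, 64, []⟩], []⟩,
 ⟨16, 3, 45, [0, 2, 6, 2, 0, 2, 0], [], [⟨1, 44, []⟩, ⟨1, 6, []⟩, ⟨1, 8, []⟩, ⟨1, 7, []⟩, ⟨1, 6, []⟩, ⟨1, 4, []⟩, ⟨1, 7, []⟩, ⟨1, 4, []⟩, ⟨1, 29, [2, 13, 11]⟩]⟩,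
 ⟨4, 3, 67, [], [⟨1, 66, []⟩], []⟩,
 ⟨2, 2, 68, [], [⟨1, 67, []⟩], [⟨1, 22, []⟩, ⟨1, 25, []⟩, ⟨1, 22, []⟩, ⟨1, 22, []⟩, ⟨1, 36, []⟩, ⟨1, 36, []⟩, ⟨1, 55, [2, 4, 12, 11, 4, 12, 11, 13, 11, 12]⟩]⟩,
 ⟨17, 3, 45, [7, 11, 12, 8, 13, 5, 5, 3, 6, 6, 2, 0], [], [⟨1, 44, [7, 11, 12, 8, 13]⟩, ⟨1, 6, []⟩, ⟨1, 3, []⟩, ⟨1, 6, []⟩, ⟨1, 8, []⟩, ⟨1, 4, []⟩, ⟨1, 7, []⟩, ⟨1, 6, []⟩, ⟨1, 3, []⟩, ⟨1, 6, []⟩, ⟨1, 4, []⟩, ⟨1, 38, [4, 12, 8, 11, 4, 12, 13, 11, 12]⟩, ⟨1, 68, []⟩, ⟨1, 68, []⟩, ⟨1, 65, [0, 11, 12, 7, 12, 11, 4, 11, 12, 13]⟩]⟩,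
 ⟨4, 3, 70, [], [⟨1, 69, []⟩], []⟩,
 ⟨17, 3, 45, [7, 11, 13, 5, 5, 3, 6, 6, 2, 0], [], [⟨1, 44, [7, 11, 13]⟩, ⟨1, 6, []⟩, ⟨1, 8, []⟩, ⟨1, 19, [7, 12, 13, 11, 2, 12, 7]⟩, ⟨1, 36, []⟩, ⟨1, 36, []⟩, ⟨1, 49, [4, 7, 12, 8, 11, 12, 8, 11, 12, 7]⟩]⟩,
 ⟨17, 3, 45, [8, 11, 13, 5, 5, 3, 6, 6, 2, 0], [], [⟨1, 44, [8, 11, 13]⟩, ⟨1, 6, []⟩, ⟨1, 8, []⟩, ⟨1, 3, []⟩, ⟨1, 37, [7, 12, 13, 11, 12, 7]⟩, ⟨1, 5, []⟩, ⟨1, 7, []⟩, ⟨1, 3, []⟩, ⟨1, 6, []⟩, ⟨1, 4, []⟩, ⟨1, 47, [2, 8, 12, 11, 13, 11, 4, 11, 12, 7, 13]⟩]⟩,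
 ⟨17, 3, 45, [7, 11, 12, 8, 12, 13, 5, 5, 3, 6, 6, 2, 0], [], [⟨1, 44, [7, 11, 12, 8, 12, 13]⟩, ⟨1, 6, []⟩, ⟨1, 7, []⟩, ⟨1, 6, []⟩, ⟨1, 3, []⟩, ⟨1, 6, []⟩, ⟨1, 7, []⟩, ⟨1, 6, []⟩, ⟨1, 4, []⟩, ⟨1, 38, [2, 11, 12, 7, 11, 4, 11, 4, 13]⟩, ⟨1, 46, []⟩, ⟨1, 46, []⟩, ⟨1, 68, []⟩, ⟨1, 64, [0, 4, 12, 11, 13, 11, 12, 8, 12, 11]⟩]⟩,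
 ⟨4, 3, 74, [], [⟨1, 73, []⟩], []⟩,
 ⟨0, 0, 0, [], [], []⟩,
 ⟨2, 1, 76, [], [⟨1, 75, []⟩], [⟨1, 4, []⟩, ⟨1, 75, [7]⟩]⟩,
 ⟨2, 1, 76, [], [⟨1, 75, []⟩], [⟨1, 8, []⟩, ⟨1, 75, [0, 11]⟩]⟩,
 ⟨2, 1, 76, [], [⟨1, 75, []⟩], [⟨1, 6, []⟩, ⟨1, 1, []⟩, ⟨1, 75, [13]⟩]⟩,
 ⟨4, 1, 76, [], [⟨1, 75, []⟩], []⟩,
 ⟨8, 1, 20, [7, 12, 7, 11, 13, 11, 12, 0, 2, 3, 4, 2, 1, 2, 0, 1, 3, 2, 0], [], [⟨1, 19, [7, 12, 7, 11, 13, 11, 12]⟩, ⟨1, 22, []⟩, ⟨1, 22, []⟩, ⟨1, 25, []⟩, ⟨1, 31, [2, 4, 8, 12, 11, 13, 11, 4, 11, 12]⟩, ⟨1, 7, []⟩, ⟨1, 5, []⟩, ⟨1, 7, []⟩, ⟨1, 6, []⟩, ⟨1, 7, []⟩, ⟨1, 6, []⟩, ⟨1, 3, []⟩, ⟨1, 75, [0, 7, 12, 7, 11, 13, 11]⟩]⟩,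
 ⟨2, 1, 81, [], [⟨1, 80, []⟩], [⟨1, 7, []⟩, ⟨1, 3, []⟩, ⟨1, 6, []⟩, ⟨1, 7, []⟩, ⟨1, 3, []⟩, ⟨1, 2, []⟩, ⟨1, 75, [7, 12, 7, 11, 4, 13, 11, 4]⟩]⟩,
 ⟨7, 4, 80, [12, 13, 11, 12, 11, 4, 3, 1, 0, 2, 1, 3, 2, 0], [], [⟨1, 79, [12, 13, 11, 12, 11, 4]⟩, ⟨1, 8, []⟩, ⟨1, 5, []⟩, ⟨1, 7, []⟩, ⟨1, 3, []⟩, ⟨1, 6, []⟩, ⟨1, 3, []⟩, ⟨1, 47, [12, 7, 11, 12, 11, 12, 7, 12]⟩, ⟨1, 46, []⟩, ⟨1, 68, []⟩, ⟨1, 68, []⟩, ⟨1, 63, [0, 7, 11, 12, 7, 11, 4, 13, 11, 12, 7]⟩]⟩,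
 ⟨4, 4, 83, [], [⟨1, 82, []⟩], []⟩,
 ⟨17, 4, 80, [7, 11, 13, 5, 5, 3, 6, 6, 2, 0], [], [⟨1, 79, [7, 11, 13]⟩, ⟨1, 8, []⟩, ⟨1, 6, []⟩, ⟨1, 1, []⟩, ⟨1, 38, [2, 7, 11, 12, 11, 12, 7]⟩, ⟨1, 39, []⟩, ⟨1, 43, []⟩, ⟨1, 42, []⟩, ⟨1, 40, []⟩, ⟨1, 83, [4, 8, 13, 11, 4, 12, 11, 4, 13, 11]⟩]⟩,
 ⟨0, 0, 0, [], [], []⟩,
 ⟨2, 1, 86, [], [⟨1, 85, []⟩], [⟨1, 8, []⟩, ⟨1, 85, [0, 11]⟩]⟩,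
 ⟨2, 1, 86, [], [⟨1, 85, []⟩], [⟨1, 6, []⟩, ⟨1, 1, []⟩, ⟨1, 85, [13]⟩]⟩,
 ⟨4, 1, 86, [], [⟨1, 85, []⟩], []⟩]
theorem chk0 : and2 (D.chkL PF0 0) (Nat.beq (Nat.add 0 PF0.length) 89) = true := by decide +kernel

def PF1 : List DPf := [⟨8, 1, 39, [12, 11, 12, 13, 11, 4, 0, 2, 3, 4, 2, 1, 2, 0, 1, 3, 2, 0], [], [⟨1, 38, [12, 11, 12, 13, 11, 4]⟩, ⟨1, 46, []⟩, ⟨1, 46, []⟩, ⟨1, 68, []⟩, ⟨1, 44, [4, 11, 2, 13, 11, 4, 12, 7, 11, 13]⟩, ⟨1, 4, []⟩, ⟨1, 7, []⟩, ⟨1, 5, []⟩, ⟨1, 3, []⟩, ⟨1, 85, [12, 11, 4, 11, 4, 12, 8, 13, 11, 4, 11, 13]⟩]⟩,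
 ⟨2, 1, 90, [], [⟨1, 89, []⟩], [⟨1, 6, []⟩, ⟨1, 3, []⟩, ⟨1, 6, []⟩, ⟨1, 5, []⟩, ⟨1, 7, []⟩, ⟨1, 6, []⟩, ⟨1, 5, []⟩, ⟨1, 3, []⟩, ⟨1, 85, [0, 12, 13, 11, 4, 11, 12, 7, 11, 4]⟩]⟩,
 ⟨16, 4, 80, [7, 0, 2, 6, 2, 0, 2, 0], [], [⟨1, 79, [7]⟩, ⟨1, 4, []⟩, ⟨1, 85, [0, 2]⟩]⟩,
 ⟨4, 4, 92, [], [⟨1, 91, []⟩], []⟩,
 ⟨7, 5, 89, [12, 13, 11, 12, 11, 4, 3, 1, 0, 2, 1, 3, 2, 0], [], [⟨1, 88, [12, 13, 11, 12, 11, 4]⟩, ⟨1, 4, []⟩, ⟨1, 7, []⟩, ⟨1, 6, []⟩, ⟨1, 3, []⟩, ⟨1, 6, []⟩, ⟨1, 8, []⟩, ⟨1, 2, []⟩, ⟨1, 47, [8, 12, 8, 11, 12, 11]⟩, ⟨1, 68, []⟩, ⟨1, 64, [7, 11, 13, 11, 4, 11, 12, 13]⟩]⟩,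
 ⟨4, 5, 94, [], [⟨1, 93, []⟩], []⟩,
 ⟨7, 5, 89, [0, 4, 12, 13, 11, 12, 3, 1, 0, 2, 1, 3, 2, 0], [], [⟨1, 88, [0, 4, 12, 13, 11, 12]⟩, ⟨1, 8, []⟩, ⟨1, 5, []⟩, ⟨1, 7, []⟩, ⟨1, 3, []⟩, ⟨1, 6, []⟩, ⟨1, 2, []⟩, ⟨1, 29, [4, 7, 12, 11, 2, 12, 8, 12, 11]⟩, ⟨1, 22, []⟩, ⟨1, 25, []⟩, ⟨1, 22, []⟩, ⟨1, 25, []⟩, ⟨1, 22, []⟩, ⟨1, 22, []⟩, ⟨1, 36, []⟩, ⟨1, 36, []⟩, ⟨1, 49, [0, 12, 8, 12, 11, 4, 12, 8, 11, 13]⟩]⟩,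
 ⟨4, 5, 96, [], [⟨1, 95, []⟩], []⟩,
 ⟨7, 5, 89, [7, 11, 12, 13, 11, 12, 3, 1, 0, 2, 1, 3, 2, 0], [], [⟨1, 88, [7, 11, 12, 13, 11, 12]⟩, ⟨1, 7, []⟩, ⟨1, 3, []⟩, ⟨1, 6, []⟩, ⟨1, 4, []⟩, ⟨1, 7, []⟩, ⟨1, 4, []⟩, ⟨1, 47, [7, 12, 7, 11, 12, 8, 11, 4, 12, 11, 4]⟩, ⟨1, 46, []⟩, ⟨1, 46, []⟩, ⟨1, 68, []⟩, ⟨1, 61, [8, 11, 2, 12]⟩]⟩,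
 ⟨4, 5, 98, [], [⟨1, 97, []⟩], []⟩,
 ⟨15, 5, 89, [8, 0, 2, 5, 2, 0], [], [⟨1, 88, [8]⟩, ⟨1, 5, []⟩, ⟨1, 85, []⟩]⟩,
 ⟨4, 5, 100, [], [⟨1, 99, []⟩], []⟩,
 ⟨17, 5, 89, [7, 11, 13, 5, 5, 3, 6, 6, 2, 0], [], [⟨1, 88, [7, 11, 13]⟩, ⟨1, 8, []⟩, ⟨1, 6, []⟩, ⟨1, 4, []⟩, ⟨1, 1, []⟩, ⟨1, 38, [2, 8, 11, 12, 11, 12, 7]⟩, ⟨1, 39, []⟩, ⟨1, 40, []⟩, ⟨1, 98, [4, 12, 8, 11, 12, 8, 11, 12, 11]⟩]⟩,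
 ⟨15, 4, 83, [0, 2, 5, 2, 0], [], [⟨1, 82, []⟩, ⟨1, 43, []⟩, ⟨1, 42, []⟩, ⟨1, 98, [4, 12, 11, 4, 12, 11]⟩]⟩,
 ⟨4, 4, 103, [], [⟨1, 102, []⟩], []⟩,
 ⟨14, 4, 85, [4, 12, 13, 0, 2, 3, 2, 0, 2, 0], [], [⟨1, 84, [4, 12, 13]⟩, ⟨1, 76, []⟩, ⟨1, 76, []⟩, ⟨1, 102, [0, 4, 12, 11, 4, 12, 8]⟩, ⟨1, 90, []⟩, ⟨1, 90, []⟩, ⟨1, 100, [0, 7, 11, 4, 13, 11, 4, 12, 11, 12]⟩]⟩,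
 ⟨4, 4, 105, [], [⟨1, 104, []⟩], []⟩,
 ⟨17, 4, 85, [8, 13, 5, 5, 3, 6, 6, 2, 0], [], [⟨1, 84, [8, 13]⟩, ⟨1, 76, []⟩, ⟨1, 77, []⟩, ⟨1, 81, []⟩, ⟨1, 104, [11, 12, 8, 11, 13, 11, 12, 7, 11, 12, 13]⟩, ⟨1, 86, []⟩, ⟨1, 87, []⟩, ⟨1, 90, []⟩, ⟨1, 86, []⟩, ⟨1, 101, [13, 11, 2, 12, 7, 11, 12, 13]⟩]⟩,
 ⟨4, 4, 107, [], [⟨1, 106, []⟩], []⟩,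
 ⟨17, 5, 100, [12, 8, 13, 5, 5, 3, 6, 6, 2, 0], [], [⟨1, 99, [12, 8, 13]⟩, ⟨1, 86, []⟩, ⟨1, 90, []⟩, ⟨1, 90, []⟩, ⟨1, 107, [2, 11, 13, 11, 12, 7, 11, 4, 12, 13]⟩, ⟨1, 104, [0, 4, 13, 11, 12, 11, 12, 7, 12, 13]⟩]⟩,
 ⟨4, 5, 109, [], [⟨1, 108, []⟩], []⟩,
 ⟨7, 5, 93, [4, 11, 4, 3, 1, 0, 2, 1, 3, 2, 0], [], [⟨1, 92, [4, 11, 4]⟩, ⟨1, 78, []⟩, ⟨1, 77, []⟩, ⟨1, 81, []⟩, ⟨1, 91, [0, 11, 4, 13, 11, 4]⟩, ⟨1, 90, []⟩, ⟨1, 90, []⟩, ⟨1, 101, [0, 4, 11, 12, 8, 11, 12, 8, 11]⟩]⟩,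
 ⟨4, 5, 111, [], [⟨1, 110, []⟩], []⟩,
 ⟨8, 5, 101, [2, 4, 11, 4, 0, 2, 3, 4, 2, 1, 2, 0, 1, 3, 2, 0], [], [⟨1, 100, [2, 4, 11, 4]⟩, ⟨1, 87, []⟩, ⟨1, 86, []⟩, ⟨1, 101, [2, 12, 11, 12, 7, 12, 11, 4, 12, 13]⟩, ⟨1, 86, []⟩, ⟨1, 108, [2, 11, 13, 11, 12, 7, 11, 4, 13]⟩]⟩,
 ⟨4, 5, 113, [], [⟨1, 112, []⟩], []⟩,
 ⟨10, 3, 97, [0, 8, 13, 11, 12, 0, 2, 3, 2, 0], [], [⟨1, 96, [0, 8, 13, 11, 12]⟩, ⟨1, 86, []⟩, ⟨1, 90, []⟩, ⟨1, 87, []⟩, ⟨1, 90, []⟩, ⟨1, 105, [12, 11, 13, 11, 12, 8, 11, 12]⟩, ⟨1, 78, []⟩, ⟨1, 77, []⟩, ⟨1, 81, []⟩, ⟨1, 81, []⟩, ⟨1, 102, [0, 4, 11, 4, 13, 11, 4, 12, 8, 11, 4]⟩]⟩,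
 ⟨4, 3, 115, [], [⟨1, 114, []⟩], []⟩,
 ⟨9, 5, 98, [4, 11, 4, 12, 11, 12, 0, 2, 4, 1, 0, 2, 1, 3, 2, 0], [], [⟨1, 97, [4, 11, 4, 12, 11, 12]⟩, ⟨1, 60, [4, 11, 13, 11, 12, 7, 11, 4, 12, 13]⟩, ⟨1, 43, []⟩, ⟨1, 42, []⟩, ⟨1, 46, []⟩, ⟨1, 46, []⟩, ⟨1, 68, []⟩, ⟨1, 114, [11, 12, 7, 13, 11, 12, 11, 4]⟩]⟩,
 ⟨4, 5, 117, [], [⟨1, 116, []⟩], []⟩,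
 ⟨13, 5, 98, [4, 0, 2, 3, 1, 2, 0, 1, 3, 2, 0], [], [⟨1, 97, [4]⟩, ⟨1, 39, []⟩, ⟨1, 98, [2, 13, 11, 4, 12, 11, 4, 13, 11]⟩, ⟨1, 87, []⟩, ⟨1, 116, [12, 7, 11, 12, 11, 12, 8, 12]⟩]⟩,
 ⟨8, 3, 99, [12, 11, 13, 11, 4, 12, 0, 2, 3, 4, 2, 1, 2, 0, 1, 3, 2, 0], [], [⟨1, 98, [12, 11, 13, 11, 4, 12]⟩, ⟨1, 87, []⟩, ⟨1, 116, [8, 12, 11, 12, 7, 11, 4, 13]⟩, ⟨1, 90, []⟩, ⟨1, 90, []⟩, ⟨1, 86, []⟩, ⟨1, 90, []⟩, ⟨1, 118, [7, 12, 11, 12, 8, 11, 4, 11, 12]⟩]⟩,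
 ⟨4, 3, 120, [], [⟨1, 119, []⟩], []⟩,
 ⟨8, 3, 99, [11, 4, 13, 11, 4, 12, 11, 12, 0, 2, 3, 4, 2, 1, 2, 0, 1, 3, 2, 0], [], [⟨1, 98, [11, 4, 13, 11, 4, 12, 11, 12]⟩, ⟨1, 90, []⟩, ⟨1, 90, []⟩, ⟨1, 86, []⟩, ⟨1, 117, [4, 11, 4, 12, 8, 11, 12, 13]⟩, ⟨1, 86, []⟩, ⟨1, 116, [4, 7, 11, 4, 11, 13, 11, 4, 11, 12]⟩]⟩,
 ⟨4, 3, 122, [], [⟨1, 121, []⟩], []⟩,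
 ⟨8, 3, 99, [2, 12, 7, 11, 12, 0, 2, 3, 4, 2, 1, 2, 0, 1, 3, 2, 0], [], [⟨1, 98, [2, 12, 7, 11, 12]⟩, ⟨1, 86, []⟩, ⟨1, 87, []⟩, ⟨1, 90, []⟩, ⟨1, 86, []⟩, ⟨1, 113, [8, 11, 2, 12, 8, 11, 12, 7, 13]⟩, ⟨1, 90, []⟩, ⟨1, 90, []⟩, ⟨1, 86, []⟩, ⟨1, 90, []⟩, ⟨1, 120, [2, 4, 8, 13, 11, 12, 7, 11, 12, 13]⟩]⟩,
 ⟨4, 3, 124, [], [⟨1, 123, []⟩], []⟩,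
 ⟨14, 3, 99, [4, 12, 7, 11, 12, 11, 0, 2, 3, 2, 0, 2, 0], [], [⟨1, 98, [4, 12, 7, 11, 12, 11]⟩, ⟨1, 116, [2, 11, 12, 8, 11, 12, 7, 11, 12, 8, 11, 12]⟩, ⟨1, 87, []⟩, ⟨1, 90, []⟩, ⟨1, 107, [2, 7, 11, 4, 12, 8, 11, 12, 7, 13]⟩]⟩,
 ⟨2, 3, 126, [], [⟨1, 125, []⟩], [⟨1, 43, []⟩, ⟨1, 42, []⟩, ⟨1, 40, []⟩, ⟨1, 83, [7, 12, 13, 11, 12, 7, 11, 12, 8, 13]⟩]⟩,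
 ⟨8, 5, 102, [7, 12, 13, 11, 4, 12, 0, 2, 3, 4, 2, 1, 2, 0, 1, 3, 2, 0], [], [⟨1, 101, [7, 12, 13, 11, 4, 12]⟩, ⟨1, 90, []⟩, ⟨1, 86, []⟩, ⟨1, 90, []⟩, ⟨1, 110, [11, 4, 12, 11, 12, 7, 12, 11, 12, 13]⟩, ⟨1, 86, []⟩, ⟨1, 87, []⟩, ⟨1, 86, []⟩, ⟨1, 90, []⟩, ⟨1, 90, []⟩, ⟨1, 90, []⟩, ⟨1, 117, [8, 13, 11, 12, 8, 11, 12, 8]⟩]⟩,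
 ⟨4, 5, 128, [], [⟨1, 127, []⟩], []⟩,
 ⟨7, 5, 106, [8, 12, 7, 13, 11, 12, 3, 1, 0, 2, 1, 3, 2, 0], [], [⟨1, 105, [8, 12, 7, 13, 11, 12]⟩, ⟨1, 76, []⟩, ⟨1, 78, []⟩, ⟨1, 77, []⟩, ⟨1, 81, []⟩, ⟨1, 77, []⟩, ⟨1, 81, []⟩, ⟨1, 126, []⟩, ⟨1, 102, [2, 11, 12, 7, 11, 4, 12, 8, 13, 11]⟩, ⟨1, 87, []⟩, ⟨1, 115, [11, 2, 12, 8, 13, 11]⟩]⟩,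
 ⟨4, 5, 130, [], [⟨1, 129, []⟩], []⟩,
 ⟨8, 5, 96, [11, 13, 11, 4, 12, 0, 2, 3, 4, 2, 1, 2, 0, 1, 3, 2, 0], [], [⟨1, 95, [11, 13, 11, 4, 12]⟩, ⟨1, 39, []⟩, ⟨1, 43, []⟩, ⟨1, 42, []⟩, ⟨1, 40, []⟩, ⟨1, 46, []⟩, ⟨1, 46, []⟩, ⟨1, 68, []⟩, ⟨1, 119, [11, 12, 8, 12, 11, 4, 11, 12]⟩, ⟨1, 86, []⟩, ⟨1, 87, []⟩, ⟨1, 86, []⟩, ⟨1, 90, []⟩, ⟨1, 90, []⟩, ⟨1, 90, []⟩, ⟨1, 112, [0, 12, 13, 11, 4, 12, 8, 11, 12]⟩]⟩,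
 ⟨14, 5, 112, [8, 11, 4, 12, 13, 0, 2, 3, 2, 0, 2, 0], [], [⟨1, 111, [8, 11, 4, 12, 13]⟩, ⟨1, 90, []⟩, ⟨1, 99, [4, 12, 11, 4, 11, 12, 13, 11]⟩, ⟨1, 86, []⟩, ⟨1, 87, []⟩, ⟨1, 90, []⟩, ⟨1, 90, []⟩, ⟨1, 90, []⟩, ⟨1, 113, [0, 12, 8, 12, 13, 11, 12, 8, 11, 12]⟩]⟩,
 ⟨0, 0, 0, [], [], []⟩,
 ⟨2, 1, 134, [], [⟨1, 133, []⟩], [⟨1, 8, []⟩, ⟨1, 133, [0, 11]⟩]⟩,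
 ⟨2, 1, 134, [], [⟨1, 133, []⟩], [⟨1, 6, []⟩, ⟨1, 1, []⟩, ⟨1, 133, [13]⟩]⟩,
 ⟨4, 1, 134, [], [⟨1, 133, []⟩], []⟩,
 ⟨15, 4, 80, [0, 2, 5, 2, 0], [], [⟨1, 79, []⟩, ⟨1, 133, []⟩]⟩,
 ⟨4, 4, 138, [], [⟨1, 137, []⟩], []⟩,
 ⟨15, 5, 89, [7, 0, 2, 5, 2, 0], [], [⟨1, 88, [7]⟩, ⟨1, 133, [8]⟩]⟩,
 ⟨4, 5, 140, [], [⟨1, 139, []⟩], []⟩,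
 ⟨16, 5, 89, [7, 0, 2, 6, 2, 0, 2, 0], [], [⟨1, 88, [7]⟩, ⟨1, 5, []⟩, ⟨1, 133, [0, 2, 7]⟩]⟩,
 ⟨4, 5, 142, [], [⟨1, 141, []⟩], []⟩,
 ⟨16, 5, 89, [8, 0, 2, 6, 2, 0, 2, 0], [], [⟨1, 88, [8]⟩, ⟨1, 4, []⟩, ⟨1, 133, [0, 2, 8]⟩]⟩,
 ⟨4, 5, 144, [], [⟨1, 143, []⟩], []⟩]
theorem chk1 : and2 (D.chkL PF1 89) (Nat.beq (Nat.add 89 PF1.length) 145) = true := by decide +kernel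

def PF2 : List DPf := [⟨7, 6, 137, [12, 13, 11, 12, 11, 4, 3, 1, 0, 2, 1, 3, 2, 0], [], [⟨1, 136, [12, 13, 11, 12, 11, 4]⟩, ⟨1, 7, []⟩, ⟨1, 6, []⟩, ⟨1, 8, []⟩, ⟨1, 6, []⟩, ⟨1, 7, []⟩, ⟨1, 6, []⟩, ⟨1, 5, []⟩, ⟨1, 38, [4, 12, 11, 13, 11, 12, 8, 12, 11]⟩, ⟨1, 46, []⟩, ⟨1, 46, []⟩, ⟨1, 68, []⟩, ⟨1, 53, [8, 11, 12, 13, 11, 12, 7, 12, 11]⟩]⟩,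
 ⟨4, 6, 146, [], [⟨1, 145, []⟩], []⟩,
 ⟨7, 6, 137, [0, 4, 12, 13, 11, 12, 3, 1, 0, 2, 1, 3, 2, 0], [], [⟨1, 136, [0, 4, 12, 13, 11, 12]⟩, ⟨1, 8, []⟩, ⟨1, 5, []⟩, ⟨1, 7, []⟩, ⟨1, 6, []⟩, ⟨1, 47, [0, 12, 11, 4, 12, 8, 11, 12, 11]⟩, ⟨1, 46, []⟩, ⟨1, 68, []⟩, ⟨1, 56, [4, 11, 2, 12, 7, 13, 11, 12, 11]⟩]⟩,
 ⟨4, 6, 148, [], [⟨1, 147, []⟩], []⟩,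
 ⟨7, 6, 137, [4, 11, 4, 3, 1, 0, 2, 1, 3, 2, 0], [], [⟨1, 136, [4, 11, 4]⟩, ⟨1, 6, []⟩, ⟨1, 8, []⟩, ⟨1, 3, []⟩, ⟨1, 37, [0, 7, 13, 11, 4, 11, 4]⟩, ⟨1, 4, []⟩, ⟨1, 2, []⟩, ⟨1, 47, [12, 11, 4, 11, 13, 11, 12, 11, 12, 8]⟩]⟩,
 ⟨4, 6, 150, [], [⟨1, 149, []⟩], []⟩,
 ⟨7, 6, 137, [0, 11, 12, 11, 4, 13, 3, 1, 0, 2, 1, 3, 2, 0], [], [⟨1, 136, [0, 11, 12, 11, 4, 13]⟩, ⟨1, 3, []⟩, ⟨1, 6, []⟩, ⟨1, 8, []⟩, ⟨1, 4, []⟩, ⟨1, 7, []⟩, ⟨1, 6, []⟩, ⟨1, 3, []⟩, ⟨1, 6, []⟩, ⟨1, 1, []⟩, ⟨1, 38, [0, 12, 11, 12, 7, 12, 13, 11]⟩, ⟨1, 52, [0, 4, 7, 12, 11, 12, 13, 11, 4, 12, 11]⟩]⟩,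
 ⟨4, 6, 152, [], [⟨1, 151, []⟩], []⟩,
 ⟨7, 6, 137, [11, 13, 11, 4, 3, 1, 0, 2, 1, 3, 2, 0], [], [⟨1, 136, [11, 13, 11, 4]⟩, ⟨1, 3, []⟩, ⟨1, 6, []⟩, ⟨1, 8, []⟩, ⟨1, 7, []⟩, ⟨1, 6, []⟩, ⟨1, 4, []⟩, ⟨1, 3, []⟩, ⟨1, 47, [2, 4, 7, 12, 11, 12, 13, 11, 4, 11]⟩, ⟨1, 43, []⟩, ⟨1, 42, []⟩, ⟨1, 41, []⟩, ⟨1, 150, [0, 13, 11, 12, 7, 12, 11, 4]⟩]⟩,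
 ⟨4, 6, 154, [], [⟨1, 153, []⟩], []⟩,
 ⟨7, 6, 137, [7, 11, 12, 13, 11, 12, 3, 1, 0, 2, 1, 3, 2, 0], [], [⟨1, 136, [7, 11, 12, 13, 11, 12]⟩, ⟨1, 3, []⟩, ⟨1, 6, []⟩, ⟨1, 7, []⟩, ⟨1, 6, []⟩, ⟨1, 3, []⟩, ⟨1, 2, []⟩, ⟨1, 47, [2, 11, 12, 8]⟩, ⟨1, 46, []⟩, ⟨1, 58, [7, 12, 8, 11, 4, 12, 11, 13, 11, 4]⟩]⟩,
 ⟨4, 6, 156, [], [⟨1, 155, []⟩], []⟩,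
 ⟨7, 6, 137, [11, 12, 13, 11, 12, 3, 1, 0, 2, 1, 3, 2, 0], [], [⟨1, 136, [11, 12, 13, 11, 12]⟩, ⟨1, 3, []⟩, ⟨1, 6, []⟩, ⟨1, 8, []⟩, ⟨1, 3, []⟩, ⟨1, 6, []⟩, ⟨1, 38, [8, 11, 12, 7, 13, 11, 4, 12, 11]⟩, ⟨1, 70, [0, 12, 7, 13, 11, 12, 8, 11, 4, 12]⟩]⟩,
 ⟨4, 6, 158, [], [⟨1, 157, []⟩], []⟩,
 ⟨7, 6, 137, [4, 13, 3, 1, 0, 2, 1, 3, 2, 0], [], [⟨1, 136, [4, 13]⟩, ⟨1, 8, []⟩, ⟨1, 3, []⟩, ⟨1, 6, []⟩, ⟨1, 4, []⟩, ⟨1, 7, []⟩, ⟨1, 3, []⟩, ⟨1, 47, [11, 4, 11, 13, 11, 12, 7, 11, 13]⟩, ⟨1, 46, []⟩, ⟨1, 46, []⟩, ⟨1, 57, [8, 12, 13, 11, 4, 11, 12, 8]⟩]⟩,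
 ⟨4, 6, 160, [], [⟨1, 159, []⟩], []⟩,
 ⟨7, 6, 137, [12, 11, 4, 12, 13, 3, 1, 0, 2, 1, 3, 2, 0], [], [⟨1, 136, [12, 11, 4, 12, 13]⟩, ⟨1, 8, []⟩, ⟨1, 3, []⟩, ⟨1, 6, []⟩, ⟨1, 5, []⟩, ⟨1, 2, []⟩, ⟨1, 47, [12, 11, 12, 8, 11, 12, 13, 11, 12]⟩, ⟨1, 150, [2, 11, 4, 11, 13, 11, 12, 11]⟩]⟩,
 ⟨4, 6, 162, [], [⟨1, 161, []⟩], []⟩,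
 ⟨7, 6, 137, [0, 13, 11, 4, 12, 3, 1, 0, 2, 1, 3, 2, 0], [], [⟨1, 136, [0, 13, 11, 4, 12]⟩, ⟨1, 5, []⟩, ⟨1, 7, []⟩, ⟨1, 6, []⟩, ⟨1, 8, []⟩, ⟨1, 7, []⟩, ⟨1, 6, []⟩, ⟨1, 4, []⟩, ⟨1, 47, [2, 4, 12, 11, 12, 11, 13]⟩, ⟨1, 42, []⟩, ⟨1, 41, []⟩, ⟨1, 150, [13, 11, 12, 8, 11, 4]⟩]⟩,
 ⟨4, 6, 164, [], [⟨1, 163, []⟩], []⟩,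
 ⟨8, 6, 137, [12, 11, 12, 0, 2, 3, 4, 2, 1, 2, 0, 1, 3, 2, 0], [], [⟨1, 136, [12, 11, 12]⟩, ⟨1, 6, []⟩, ⟨1, 8, []⟩, ⟨1, 4, []⟩, ⟨1, 7, []⟩, ⟨1, 6, []⟩, ⟨1, 3, []⟩, ⟨1, 6, []⟩, ⟨1, 3, []⟩, ⟨1, 47, [2, 11, 4, 11, 12, 7, 11, 13, 11, 4]⟩, ⟨1, 39, []⟩, ⟨1, 42, []⟩, ⟨1, 150, [0, 4, 8, 13, 11, 12, 8, 11, 4, 13]⟩]⟩,
 ⟨8, 6, 137, [11, 13, 0, 2, 3, 4, 2, 1, 2, 0, 1, 3, 2, 0], [], [⟨1, 136, [11, 13]⟩, ⟨1, 7, []⟩, ⟨1, 3, []⟩, ⟨1, 6, []⟩, ⟨1, 5, []⟩, ⟨1, 7, []⟩, ⟨1, 5, []⟩, ⟨1, 47, [7, 11, 2, 4, 12, 11, 12, 13, 11, 4]⟩, ⟨1, 43, []⟩, ⟨1, 41, []⟩, ⟨1, 150, [8, 13, 11, 12, 8, 11, 4, 13, 11, 4]⟩]⟩,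
 ⟨4, 6, 167, [], [⟨1, 166, []⟩], []⟩,
 ⟨8, 6, 137, [0, 4, 13, 0, 2, 3, 4, 2, 1, 2, 0, 1, 3, 2, 0], [], [⟨1, 136, [0, 4, 13]⟩, ⟨1, 8, []⟩, ⟨1, 7, []⟩, ⟨1, 3, []⟩, ⟨1, 6, []⟩, ⟨1, 5, []⟩, ⟨1, 7, []⟩, ⟨1, 5, []⟩, ⟨1, 47, [4, 7, 11, 12, 11, 4, 12, 13, 11]⟩, ⟨1, 43, []⟩, ⟨1, 42, []⟩, ⟨1, 150, [2, 13, 11, 12, 7, 12, 11, 13]⟩]⟩,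
 ⟨8, 6, 137, [8, 12, 11, 12, 0, 2, 3, 4, 2, 1, 2, 0, 1, 3, 2, 0], [], [⟨1, 136, [8, 12, 11, 12]⟩, ⟨1, 6, []⟩, ⟨1, 8, []⟩, ⟨1, 4, []⟩, ⟨1, 7, []⟩, ⟨1, 6, []⟩, ⟨1, 3, []⟩, ⟨1, 6, []⟩, ⟨1, 3, []⟩, ⟨1, 47, [12, 8, 11, 12, 13, 11, 4]⟩, ⟨1, 39, []⟩, ⟨1, 43, []⟩, ⟨1, 150, [2, 4, 8, 12, 11, 12, 7, 11, 4]⟩]⟩,
 ⟨4, 6, 170, [], [⟨1, 169, []⟩], []⟩,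
 ⟨8, 6, 137, [13, 11, 4, 12, 11, 12, 0, 2, 3, 4, 2, 1, 2, 0, 1, 3, 2, 0], [], [⟨1, 136, [13, 11, 4, 12, 11, 12]⟩, ⟨1, 8, []⟩, ⟨1, 7, []⟩, ⟨1, 3, []⟩, ⟨1, 6, []⟩, ⟨1, 5, []⟩, ⟨1, 7, []⟩, ⟨1, 5, []⟩, ⟨1, 47, [8, 12, 8, 11, 4, 12, 11, 13, 11, 4]⟩, ⟨1, 39, []⟩, ⟨1, 43, []⟩, ⟨1, 42, []⟩, ⟨1, 150, [12, 7, 11, 12, 8, 11, 12, 7, 11, 12, 11]⟩]⟩,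
 ⟨4, 6, 172, [], [⟨1, 171, []⟩], []⟩,
 ⟨8, 6, 137, [4, 12, 11, 4, 11, 12, 0, 2, 3, 4, 2, 1, 2, 0, 1, 3, 2, 0], [], [⟨1, 136, [4, 12, 11, 4, 11, 12]⟩, ⟨1, 6, []⟩, ⟨1, 8, []⟩, ⟨1, 4, []⟩, ⟨1, 7, []⟩, ⟨1, 6, []⟩, ⟨1, 3, []⟩, ⟨1, 6, []⟩, ⟨1, 3, []⟩, ⟨1, 47, [4, 12, 8, 11, 2, 12, 8, 13, 11]⟩, ⟨1, 39, []⟩, ⟨1, 43, []⟩, ⟨1, 42, []⟩, ⟨1, 41, []⟩, ⟨1, 150, [2, 4, 7, 12, 11, 4, 11, 12, 11]⟩]⟩,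
 ⟨4, 6, 174, [], [⟨1, 173, []⟩], []⟩,
 ⟨10, 6, 137, [0, 4, 13, 0, 2, 3, 2, 0], [], [⟨1, 136, [0, 4, 13]⟩, ⟨1, 2, []⟩, ⟨1, 133, [13, 11]⟩, ⟨1, 168, [11, 13, 11, 4, 11, 13]⟩]⟩,
 ⟨12, 6, 137, [4, 11, 12, 0, 2, 3, 1, 0, 2, 1, 2, 4, 3, 2, 0, 2, 0], [], [⟨1, 136, [4, 11, 12]⟩, ⟨1, 5, []⟩, ⟨1, 7, []⟩, ⟨1, 3, []⟩, ⟨1, 6, []⟩, ⟨1, 4, []⟩, ⟨1, 7, []⟩, ⟨1, 4, []⟩, ⟨1, 1, []⟩, ⟨1, 133, [0, 13, 11, 12, 7, 11, 4, 13, 11]⟩, ⟨1, 167, [0, 11, 13, 11, 12, 11, 4, 13, 11]⟩]⟩,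
 ⟨4, 6, 177, [], [⟨1, 176, []⟩], []⟩,
 ⟨12, 6, 137, [12, 13, 11, 4, 0, 2, 3, 1, 0, 2, 1, 2, 4, 3, 2, 0, 2, 0], [], [⟨1, 136, [12, 13, 11, 4]⟩, ⟨1, 7, []⟩, ⟨1, 3, []⟩, ⟨1, 6, []⟩, ⟨1, 3, []⟩, ⟨1, 6, []⟩, ⟨1, 5, []⟩, ⟨1, 7, []⟩, ⟨1, 2, []⟩, ⟨1, 133, [0, 4, 12, 8, 11, 4, 13, 11]⟩, ⟨1, 134, []⟩, ⟨1, 135, []⟩, ⟨1, 167, [13, 11, 4, 12, 8, 11, 4, 13, 11]⟩]⟩,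
 ⟨4, 6, 179, [], [⟨1, 178, []⟩], []⟩,
 ⟨12, 6, 137, [0, 12, 13, 11, 4, 12, 0, 2, 3, 1, 0, 2, 1, 2, 4, 3, 2, 0, 2, 0], [], [⟨1, 136, [0, 12, 13, 11, 4, 12]⟩, ⟨1, 6, []⟩, ⟨1, 7, []⟩, ⟨1, 2, []⟩, ⟨1, 133, [2, 4, 12, 7, 11, 12, 7, 11, 12, 7]⟩, ⟨1, 135, []⟩, ⟨1, 175, [11, 12, 8, 11, 12, 11, 12, 7, 12]⟩]⟩,
 ⟨4, 6, 181, [], [⟨1, 180, []⟩], []⟩,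
 ⟨12, 6, 137, [2, 4, 0, 2, 3, 1, 0, 2, 1, 2, 4, 3, 2, 0, 2, 0], [], [⟨1, 136, [2, 4]⟩, ⟨1, 5, []⟩, ⟨1, 7, []⟩, ⟨1, 6, []⟩, ⟨1, 7, []⟩, ⟨1, 4, []⟩, ⟨1, 1, []⟩, ⟨1, 133, [2, 4, 11]⟩, ⟨1, 167, [13, 11, 12, 7, 12, 11, 4, 13]⟩]⟩,
 ⟨4, 6, 183, [], [⟨1, 182, []⟩], []⟩,
 ⟨12, 6, 137, [11, 4, 11, 12, 11, 13, 11, 4, 0, 2, 3, 1, 0, 2, 1, 2, 4, 3, 2, 0, 2, 0], [], [⟨1, 136, [11, 4, 11, 12, 11, 13, 11, 4]⟩, ⟨1, 7, []⟩, ⟨1, 3, []⟩, ⟨1, 29, [11, 2, 12, 8, 13, 11, 12, 8, 11, 13]⟩, ⟨1, 25, []⟩, ⟨1, 22, []⟩, ⟨1, 25, []⟩, ⟨1, 22, []⟩, ⟨1, 25, []⟩, ⟨1, 22, []⟩, ⟨1, 22, []⟩, ⟨1, 36, []⟩, ⟨1, 36, []⟩, ⟨1, 55, [11, 12, 7, 11, 4, 11, 12, 11,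 12]⟩]⟩,
 ⟨4, 6, 185, [], [⟨1, 184, []⟩], []⟩,
 ⟨15, 6, 137, [0, 2, 5, 2, 0], [], [⟨1, 136, []⟩, ⟨1, 4, []⟩, ⟨1, 133, [7]⟩]⟩,
 ⟨4, 6, 187, [], [⟨1, 186, []⟩], []⟩,
 ⟨17, 6, 137, [8, 12, 7, 5, 5, 3, 6, 6, 2, 0], [], [⟨1, 136, [8, 12, 7]⟩, ⟨1, 5, []⟩, ⟨1, 3, []⟩, ⟨1, 85, [0, 4, 8, 12, 11]⟩, ⟨1, 87, []⟩, ⟨1, 86, []⟩, ⟨1, 90, []⟩, ⟨1, 90, []⟩, ⟨1, 105, [2, 12, 7, 12, 11, 12, 7, 11]⟩]⟩,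
 ⟨4, 6, 189, [], [⟨1, 188, []⟩], []⟩,
 ⟨17, 6, 137, [11, 4, 13, 5, 5, 3, 6, 6, 2, 0], [], [⟨1, 136, [11, 4, 13]⟩, ⟨1, 8, []⟩, ⟨1, 6, []⟩, ⟨1, 5, []⟩, ⟨1, 7, []⟩, ⟨1, 5, []⟩, ⟨1, 1, []⟩, ⟨1, 85, [2, 11, 12, 7, 11]⟩, ⟨1, 87, []⟩, ⟨1, 86, []⟩, ⟨1, 90, []⟩, ⟨1, 90, []⟩, ⟨1, 109, [7, 11, 4, 11, 4, 12, 13, 11, 4, 11, 13]⟩]⟩,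
 ⟨4, 6, 191, [], [⟨1, 190, []⟩], []⟩]
theorem chk2 : and2 (D.chkL PF2 145) (Nat.beq (Nat.add 145 PF2.length) 192) = true := by decide +kernel

def PF3 : List DPf := [⟨17, 6, 137, [7, 12, 8, 13, 5, 5, 3, 6, 6, 2, 0], [], [⟨1, 136, [7, 12, 8, 13]⟩, ⟨1, 6, []⟩, ⟨1, 7, []⟩, ⟨1, 1, []⟩, ⟨1, 75, [0, 4, 7, 12, 8, 11]⟩, ⟨1, 76, []⟩, ⟨1, 78, []⟩, ⟨1, 77, []⟩, ⟨1, 81, []⟩, ⟨1, 81, []⟩, ⟨1, 104, [2, 12, 7, 12, 13, 11, 4, 12, 11, 13]⟩]⟩,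
 ⟨4, 6, 193, [], [⟨1, 192, []⟩], []⟩,
 ⟨17, 6, 137, [11, 12, 7, 12, 13, 5, 5, 3, 6, 6, 2, 0], [], [⟨1, 136, [11, 12, 7, 12, 13]⟩, ⟨1, 8, []⟩, ⟨1, 6, []⟩, ⟨1, 7, []⟩, ⟨1, 3, []⟩, ⟨1, 1, []⟩, ⟨1, 85, [0, 11, 12, 8, 11, 4, 11]⟩, ⟨1, 87, []⟩, ⟨1, 86, []⟩, ⟨1, 90, []⟩, ⟨1, 86, []⟩, ⟨1, 90, []⟩, ⟨1, 110, [2, 7, 11, 12, 8, 12, 11, 4, 12]⟩]⟩,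
 ⟨4, 6, 195, [], [⟨1, 194, []⟩], []⟩,
 ⟨17, 6, 137, [12, 7, 13, 5, 5, 3, 6, 6, 2, 0], [], [⟨1, 136, [12, 7, 13]⟩, ⟨1, 6, []⟩, ⟨1, 5, []⟩, ⟨1, 7, []⟩, ⟨1, 3, []⟩, ⟨1, 1, []⟩, ⟨1, 85, [0, 4, 12, 7, 11]⟩, ⟨1, 87, []⟩, ⟨1, 86, []⟩, ⟨1, 90, []⟩, ⟨1, 90, []⟩, ⟨1, 107, [11, 2, 4, 11, 12, 8, 11, 4, 12]⟩]⟩,
 ⟨4, 6, 197, [], [⟨1, 196, []⟩], []⟩,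
 ⟨17, 6, 137, [8, 13, 5, 5, 3, 6, 6, 2, 0], [], [⟨1, 136, [8, 13]⟩, ⟨1, 6, []⟩, ⟨1, 5, []⟩, ⟨1, 7, []⟩, ⟨1, 1, []⟩, ⟨1, 85, [0, 8, 12, 7, 11]⟩, ⟨1, 87, []⟩, ⟨1, 86, []⟩, ⟨1, 90, []⟩, ⟨1, 90, []⟩, ⟨1, 103, [2, 12, 11, 4, 11, 12, 7, 11, 12, 11]⟩]⟩,
 ⟨4, 6, 199, [], [⟨1, 198, []⟩], []⟩,
 ⟨17, 6, 137, [8, 11, 4, 12, 13, 5, 5, 3, 6, 6, 2, 0], [], [⟨1, 136, [8, 11, 4, 12, 13]⟩, ⟨1, 8, []⟩, ⟨1, 6, []⟩, ⟨1, 7, []⟩, ⟨1, 3, []⟩, ⟨1, 1, []⟩, ⟨1, 75, [0, 11, 4, 12, 7, 11, 12, 11]⟩, ⟨1, 78, []⟩, ⟨1, 77, []⟩, ⟨1, 81, []⟩, ⟨1, 81, []⟩, ⟨1, 77, []⟩, ⟨1, 102, [8, 13, 11, 2, 4, 12, 11, 4, 13]⟩]⟩,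
 ⟨4, 6, 201, [], [⟨1, 200, []⟩], []⟩,
 ⟨17, 6, 137, [12, 7, 5, 5, 3, 6, 6, 2, 0], [], [⟨1, 136, [12, 7]⟩, ⟨1, 4, []⟩, ⟨1, 7, []⟩, ⟨1, 3, []⟩, ⟨1, 85, [0, 4, 12, 11]⟩, ⟨1, 87, []⟩, ⟨1, 86, []⟩, ⟨1, 90, []⟩, ⟨1, 90, []⟩, ⟨1, 111, [7, 13, 11, 4, 12, 11, 12, 8, 13]⟩]⟩,
 ⟨4, 6, 203, [], [⟨1, 202, []⟩], []⟩,
 ⟨17, 6, 137, [8, 12, 8, 5, 5, 3, 6, 6, 2, 0], [], [⟨1, 136, [8, 12, 8]⟩, ⟨1, 3, []⟩, ⟨1, 75, [0, 4, 8, 11]⟩, ⟨1, 78, []⟩, ⟨1, 77, []⟩, ⟨1, 81, []⟩, ⟨1, 81, []⟩, ⟨1, 106, [11, 12, 7]⟩]⟩,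
 ⟨4, 6, 205, [], [⟨1, 204, []⟩], []⟩,
 ⟨17, 6, 137, [4, 12, 5, 5, 3, 6, 6, 2, 0], [], [⟨1, 136, [4, 12]⟩, ⟨1, 5, []⟩, ⟨1, 7, []⟩, ⟨1, 4, []⟩, ⟨1, 3, []⟩, ⟨1, 85, [0, 7, 12, 8, 11]⟩, ⟨1, 87, []⟩, ⟨1, 108, [2, 8, 11, 4, 11, 12, 11, 4, 11, 12]⟩]⟩,
 ⟨4, 6, 207, [], [⟨1, 206, []⟩], []⟩,
 ⟨17, 6, 137, [11, 12, 8, 13, 5, 5, 3, 6, 6, 2, 0], [], [⟨1, 136, [11, 12, 8, 13]⟩, ⟨1, 8, []⟩, ⟨1, 6, []⟩, ⟨1, 4, []⟩, ⟨1, 7, []⟩, ⟨1, 5, []⟩, ⟨1, 3, []⟩, ⟨1, 1, []⟩, ⟨1, 85, [8, 12, 11, 12, 8, 11, 4, 11]⟩, ⟨1, 87, []⟩, ⟨1, 86, []⟩, ⟨1, 113, [8, 12, 11, 13, 11, 12, 7, 12, 11, 13]⟩]⟩,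
 ⟨4, 6, 209, [], [⟨1, 208, []⟩], []⟩,
 ⟨17, 6, 137, [12, 8, 12, 5, 5, 3, 6, 6, 2, 0], [], [⟨1, 136, [12, 8, 12]⟩, ⟨1, 7, []⟩, ⟨1, 4, []⟩, ⟨1, 85, [0, 12, 8, 12, 11]⟩, ⟨1, 87, []⟩, ⟨1, 86, []⟩, ⟨1, 90, []⟩, ⟨1, 86, []⟩, ⟨1, 90, []⟩, ⟨1, 112, [4, 7, 11, 4, 12, 8, 11, 12, 11]⟩]⟩,
 ⟨4, 6, 211, [], [⟨1, 210, []⟩], []⟩,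
 ⟨7, 2, 32, [7, 12, 3, 1, 0, 2, 1, 3, 2, 0], [], [⟨1, 31, [7, 12]⟩, ⟨1, 8, []⟩, ⟨1, 7, []⟩, ⟨1, 6, []⟩, ⟨1, 7, []⟩, ⟨1, 4, []⟩, ⟨1, 7, []⟩, ⟨1, 6, []⟩, ⟨1, 3, []⟩, ⟨1, 133, [0, 4, 11, 4, 12, 8, 11, 13, 11, 4, 11]⟩, ⟨1, 175, [2, 4, 11, 13, 11, 4, 12, 7, 11]⟩]⟩,
 ⟨4, 2, 213, [], [⟨1, 212, []⟩], []⟩,
 ⟨5, 3, 59, [4, 8, 12, 3, 2, 0], [], [⟨1, 58, [4, 8, 12]⟩, ⟨1, 42, []⟩, ⟨1, 40, []⟩, ⟨1, 156, [0, 4, 13, 11, 12, 7, 11, 13]⟩, ⟨1, 134, []⟩, ⟨1, 180, [0, 4, 8, 12, 11, 12, 7]⟩]⟩,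
 ⟨4, 3, 215, [], [⟨1, 214, []⟩], []⟩,
 ⟨7, 3, 59, [0, 11, 13, 11, 4, 3, 1, 0, 2, 1, 3, 2, 0], [], [⟨1, 58, [0, 11, 13, 11, 4]⟩, ⟨1, 46, []⟩, ⟨1, 46, []⟩, ⟨1, 68, []⟩, ⟨1, 146, [4, 11, 12, 13, 11, 4, 11, 4, 12, 8, 13]⟩, ⟨1, 175, [4, 12, 7, 11, 4, 13, 11, 12]⟩]⟩,
 ⟨4, 3, 217, [], [⟨1, 216, []⟩], []⟩,
 ⟨6, 4, 92, [7, 11, 12, 13, 0, 2, 4, 3, 2, 0], [], [⟨1, 91, [7, 11, 12, 13]⟩, ⟨1, 90, []⟩, ⟨1, 90, []⟩, ⟨1, 207, [8, 11, 12, 11, 12, 7, 12, 11]⟩, ⟨1, 167, [12, 7, 12, 11]⟩]⟩,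
 ⟨4, 4, 219, [], [⟨1, 218, []⟩], []⟩,
 ⟨6, 4, 92, [4, 12, 0, 2, 4, 3, 2, 0], [], [⟨1, 91, [4, 12]⟩, ⟨1, 90, []⟩, ⟨1, 93, [2, 12, 7, 12, 11, 12]⟩, ⟨1, 39, []⟩, ⟨1, 150, [0, 13, 11, 12, 8, 12, 11, 12, 7, 13]⟩]⟩,
 ⟨4, 4, 221, [], [⟨1, 220, []⟩], []⟩,
 ⟨8, 4, 92, [7, 12, 13, 0, 2, 3, 4, 2, 1, 2, 0, 1, 3, 2, 0], [], [⟨1, 91, [7, 12, 13]⟩, ⟨1, 86, []⟩, ⟨1, 90, []⟩, ⟨1, 90, []⟩, ⟨1, 101, [0, 13, 11, 4, 12, 11, 12, 13, 11, 4]⟩, ⟨1, 86, []⟩, ⟨1, 87, []⟩, ⟨1, 209, [0, 4, 11, 12, 13, 11, 12, 11, 13]⟩]⟩,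
 ⟨4, 4, 223, [], [⟨1, 222, []⟩], []⟩,
 ⟨5, 5, 101, [4, 8, 12, 3, 2, 0], [], [⟨1, 100, [4, 8, 12]⟩, ⟨1, 87, []⟩, ⟨1, 86, []⟩, ⟨1, 90, []⟩, ⟨1, 90, []⟩, ⟨1, 105, [11, 2, 4, 11, 12, 7, 12, 11, 12]⟩, ⟨1, 81, []⟩, ⟨1, 77, []⟩, ⟨1, 78, []⟩, ⟨1, 220, [7, 12, 8, 11, 12, 7, 11, 12, 7, 11]⟩]⟩,
 ⟨4, 5, 225, [], [⟨1, 224, []⟩], []⟩,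
 ⟨5, 5, 101, [4, 12, 3, 2, 0], [], [⟨1, 100, [4, 12]⟩, ⟨1, 87, []⟩, ⟨1, 86, []⟩, ⟨1, 90, []⟩, ⟨1, 90, []⟩, ⟨1, 97, [2, 8, 11, 12, 7, 11, 4, 12, 11, 12]⟩, ⟨1, 39, []⟩, ⟨1, 42, []⟩, ⟨1, 156, [0, 4, 11, 4, 12, 13, 11, 4, 11, 13]⟩]⟩,
 ⟨4, 5, 227, [], [⟨1, 226, []⟩], []⟩,
 ⟨8, 5, 101, [2, 0, 2, 3, 4, 2, 1, 2, 0, 1, 3, 2, 0], [], [⟨1, 100, [2]⟩, ⟨1, 87, []⟩, ⟨1, 86, []⟩, ⟨1, 101, [2, 8, 11, 12, 11, 4, 12, 8, 13]⟩, ⟨1, 139, [0, 12, 7, 11, 12, 13, 11, 12, 11]⟩]⟩,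
 ⟨4, 5, 229, [], [⟨1, 228, []⟩], []⟩,
 ⟨8, 5, 101, [7, 12, 13, 0, 2, 3, 4, 2, 1, 2, 0, 1, 3, 2, 0], [], [⟨1, 100, [7, 12, 13]⟩, ⟨1, 86, []⟩, ⟨1, 101, [2, 8, 12, 11, 4, 12, 7, 13]⟩, ⟨1, 86, []⟩, ⟨1, 87, []⟩, ⟨1, 90, []⟩, ⟨1, 86, []⟩, ⟨1, 201, [8, 12, 11, 2, 13, 11, 4, 12, 11, 13]⟩]⟩,
 ⟨4, 5, 231, [], [⟨1, 230, []⟩], []⟩,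
 ⟨8, 5, 101, [11, 13, 0, 2, 3, 4, 2, 1, 2, 0, 1, 3, 2, 0], [], [⟨1, 100, [11, 13]⟩, ⟨1, 101, [2, 4, 7, 11, 13]⟩, ⟨1, 86, []⟩, ⟨1, 87, []⟩, ⟨1, 90, []⟩, ⟨1, 86, []⟩, ⟨1, 205, [0, 8, 11, 12, 7, 11, 12, 8, 11, 12, 11, 4]⟩]⟩,
 ⟨4, 5, 233, [], [⟨1, 232, []⟩], []⟩,
 ⟨7, 3, 49, [4, 11, 12, 11, 13, 11, 4, 3, 1, 0, 2, 1, 3, 2, 0], [], [⟨1, 48, [4, 11, 12, 11, 13, 11, 4]⟩, ⟨1, 6, []⟩, ⟨1, 8, []⟩, ⟨1, 5, []⟩, ⟨1, 7, []⟩, ⟨1, 3, []⟩, ⟨1, 6, []⟩, ⟨1, 7, []⟩, ⟨1, 3, []⟩, ⟨1, 2, []⟩, ⟨1, 133, [8, 11, 4, 11, 4, 12, 11, 13, 11]⟩, ⟨1, 134, []⟩, ⟨1, 135, []⟩, ⟨1, 167, [0, 4, 8, 11, 13, 11, 4, 12, 11, 4]⟩]⟩,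
 ⟨4, 3, 235, [], [⟨1, 234, []⟩], []⟩,
 ⟨7, 3, 49, [0, 8, 11, 4, 13, 11, 12, 3, 1, 0, 2, 1, 3, 2, 0], [], [⟨1, 48, [0, 8, 11, 4, 13, 11, 12]⟩, ⟨1, 7, []⟩, ⟨1, 6, []⟩, ⟨1, 5, []⟩, ⟨1, 7, []⟩, ⟨1, 3, []⟩, ⟨1, 6, []⟩, ⟨1, 7, []⟩, ⟨1, 85, [8, 11, 4, 11, 13, 11, 4, 11, 12, 7, 13]⟩, ⟨1, 87, []⟩, ⟨1, 86, []⟩, ⟨1, 90, []⟩, ⟨1, 90, []⟩, ⟨1, 232, [0, 4, 8, 12, 11, 13, 11, 12, 11]⟩]⟩,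
 ⟨4, 3, 237, [], [⟨1, 236, []⟩], []⟩,
 ⟨7, 3, 49, [0, 12, 11, 13, 11, 4, 3, 1, 0, 2, 1, 3, 2, 0], [], [⟨1, 48, [0, 12, 11, 13, 11, 4]⟩, ⟨1, 6, []⟩, ⟨1, 8, []⟩, ⟨1, 7, []⟩, ⟨1, 47, [4, 8, 12, 11, 12, 7, 11, 12, 13]⟩, ⟨1, 43, []⟩, ⟨1, 42, []⟩, ⟨1, 150, [0, 12, 8, 11, 12, 8, 11, 12, 7, 13]⟩]⟩,
 ⟨4, 3, 239, [], [⟨1, 238, []⟩], []⟩,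
 ⟨8, 3, 64, [8, 13, 11, 4, 11, 12, 0, 2, 3, 4, 2, 1, 2, 0, 1, 3, 2, 0], [], [⟨1, 63, [8, 13, 11, 4, 11, 12]⟩, ⟨1, 83, [11, 2, 4, 13, 11, 4, 12, 7, 11]⟩, ⟨1, 76, []⟩, ⟨1, 77, []⟩, ⟨1, 78, []⟩, ⟨1, 81, []⟩, ⟨1, 81, []⟩, ⟨1, 77, []⟩, ⟨1, 81, []⟩, ⟨1, 126, []⟩, ⟨1, 218, [12, 11, 13, 11, 12, 8, 11]⟩]⟩,
 ⟨4, 3, 241, [], [⟨1, 240, []⟩], []⟩,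
 ⟨8, 3, 64, [7, 11, 4, 11, 12, 13, 0, 2, 3, 4, 2, 1, 2, 0, 1, 3, 2, 0], [], [⟨1, 63, [7, 11, 4, 11, 12, 13]⟩, ⟨1, 39, []⟩, ⟨1, 43, []⟩, ⟨1, 40, []⟩, ⟨1, 83, [4, 12, 13, 11, 4, 11, 12, 8]⟩, ⟨1, 76, []⟩, ⟨1, 78, []⟩, ⟨1, 81, []⟩, ⟨1, 81, []⟩, ⟨1, 126, []⟩, ⟨1, 218, [12, 11, 2, 12, 7, 12, 11, 4, 13, 11]⟩]⟩,
 ⟨4, 3, 243, [], [⟨1, 242, []⟩], []⟩]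
theorem chk3 : and2 (D.chkL PF3 192) (Nat.beq (Nat.add 192 PF3.length) 244) = true := by decide +kernel

def PF4 : List DPf := [⟨9, 5, 94, [4, 11, 4, 0, 2, 4, 1, 0, 2, 1, 3, 2, 0], [], [⟨1, 93, [4, 11, 4]⟩, ⟨1, 65, [8, 11, 12, 11, 13, 11, 4, 11, 13]⟩, ⟨1, 43, []⟩, ⟨1, 42, []⟩, ⟨1, 41, []⟩, ⟨1, 46, []⟩, ⟨1, 46, []⟩, ⟨1, 68, []⟩, ⟨1, 68, []⟩, ⟨1, 240, [11, 12, 11, 4, 13, 11, 4]⟩]⟩,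
 ⟨4, 5, 245, [], [⟨1, 244, []⟩], []⟩,
 ⟨15, 5, 94, [7, 0, 2, 5, 2, 0], [], [⟨1, 93, [7]⟩, ⟨1, 42, []⟩, ⟨1, 41, []⟩, ⟨1, 46, []⟩, ⟨1, 46, []⟩, ⟨1, 68, []⟩, ⟨1, 68, []⟩, ⟨1, 158, [2, 7, 12, 7, 13, 11, 12, 8, 11, 12, 7, 13]⟩]⟩,
 ⟨4, 5, 247, [], [⟨1, 246, []⟩], []⟩,
 ⟨8, 3, 95, [2, 12, 0, 2, 3, 4, 2, 1, 2, 0, 1, 3, 2, 0], [], [⟨1, 94, [2, 12]⟩, ⟨1, 86, []⟩, ⟨1, 90, []⟩, ⟨1, 90, []⟩, ⟨1, 92, [11, 13, 11, 4, 12, 8, 11, 4, 13]⟩, ⟨1, 78, []⟩, ⟨1, 77, []⟩, ⟨1, 81, []⟩, ⟨1, 81, []⟩, ⟨1, 77, []⟩, ⟨1, 222, [2, 7, 12, 11, 4, 11, 12, 8]⟩]⟩,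
 ⟨4, 3, 249, [], [⟨1, 248, []⟩], []⟩,
 ⟨9, 3, 95, [8, 12, 8, 11, 4, 12, 0, 2, 4, 1, 0, 2, 1, 3, 2, 0], [], [⟨1, 94, [8, 12, 8, 11, 4, 12]⟩, ⟨1, 86, []⟩, ⟨1, 90, []⟩, ⟨1, 90, []⟩, ⟨1, 92, [11, 12, 7, 12, 13, 11, 12, 11, 4, 11]⟩, ⟨1, 76, []⟩, ⟨1, 81, []⟩, ⟨1, 81, []⟩, ⟨1, 77, []⟩, ⟨1, 81, []⟩, ⟨1, 126, []⟩, ⟨1, 189, [11, 12, 7, 13, 11, 12, 8, 11, 4]⟩]⟩,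
 ⟨4, 3, 251, [], [⟨1, 250, []⟩], []⟩,
 ⟨10, 3, 95, [7, 11, 13, 11, 4, 12, 0, 2, 3, 2, 0], [], [⟨1, 94, [7, 11, 13, 11, 4, 12]⟩, ⟨1, 86, []⟩, ⟨1, 87, []⟩, ⟨1, 86, []⟩, ⟨1, 90, []⟩, ⟨1, 90, []⟩, ⟨1, 90, []⟩, ⟨1, 129, [8, 12, 7, 11, 2, 12, 8, 11, 12, 8, 11]⟩, ⟨1, 39, []⟩, ⟨1, 43, []⟩, ⟨1, 42, []⟩, ⟨1, 41, []⟩, ⟨1, 46, []⟩, ⟨1, 46, []⟩, ⟨1, 68, []⟩, ⟨1, 68, []⟩, ⟨1, 242, [2, 11, 12, 8, 12, 11, 12, 8, 12]⟩]⟩,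
 ⟨4, 3, 253, [], [⟨1, 252, []⟩], []⟩,
 ⟨14, 3, 95, [4, 11, 4, 12, 11, 13, 0, 2, 3, 2, 0, 2, 0], [], [⟨1, 94, [4, 11, 4, 12, 11, 13]⟩, ⟨1, 86, []⟩, ⟨1, 90, []⟩, ⟨1, 90, []⟩, ⟨1, 92, [11, 2, 12, 8, 13, 11, 4, 11]⟩, ⟨1, 76, []⟩, ⟨1, 78, []⟩, ⟨1, 77, []⟩, ⟨1, 81, []⟩, ⟨1, 77, []⟩, ⟨1, 126, []⟩, ⟨1, 189, [12, 8, 11, 4, 11, 4, 13, 11]⟩]⟩,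
 ⟨4, 3, 255, [], [⟨1, 254, []⟩], []⟩,
 ⟨7, 5, 96, [11, 12, 13, 11, 4, 12, 3, 1, 0, 2, 1, 3, 2, 0], [], [⟨1, 95, [11, 12, 13, 11, 4, 12]⟩, ⟨1, 39, []⟩, ⟨1, 42, []⟩, ⟨1, 46, []⟩, ⟨1, 238, [4, 11, 12, 11, 12, 7, 12, 11, 12]⟩, ⟨1, 154, [2, 7, 11, 12, 11, 4, 11, 4, 12, 13]⟩]⟩,
 ⟨4, 5, 257, [], [⟨1, 256, []⟩], []⟩,
 ⟨8, 5, 96, [2, 4, 12, 11, 4, 0, 2, 3, 4, 2, 1, 2, 0, 1, 3, 2, 0], [], [⟨1, 95, [2, 4, 12, 11, 4]⟩, ⟨1, 39, []⟩, ⟨1, 43, []⟩, ⟨1, 42, []⟩, ⟨1, 40, []⟩, ⟨1, 46, []⟩, ⟨1, 68, []⟩, ⟨1, 94, [7, 13, 11, 12, 11, 12, 8]⟩, ⟨1, 86, []⟩, ⟨1, 87, []⟩, ⟨1, 86, []⟩, ⟨1, 244, [0, 12, 7, 13, 11, 12, 8, 11, 12, 13]⟩]⟩,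
 ⟨4, 5, 259, [], [⟨1, 258, []⟩], []⟩,
 ⟨8, 5, 96, [4, 8, 11, 13, 11, 4, 12, 0, 2, 3, 4, 2, 1, 2, 0, 1, 3, 2, 0], [], [⟨1, 95, [4, 8, 11, 13, 11, 4, 12]⟩, ⟨1, 39, []⟩, ⟨1, 42, []⟩, ⟨1, 41, []⟩, ⟨1, 40, []⟩, ⟨1, 238, [8, 11, 12, 7, 11, 12, 7, 11, 12, 7]⟩, ⟨1, 154, [0, 4]⟩]⟩,
 ⟨4, 5, 261, [], [⟨1, 260, []⟩], []⟩,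
 ⟨8, 5, 96, [4, 7, 13, 11, 12, 0, 2, 3, 4, 2, 1, 2, 0, 1, 3, 2, 0], [], [⟨1, 95, [4, 7, 13, 11, 12]⟩, ⟨1, 114, [0, 12, 11, 4, 11, 13, 11, 12, 11, 12]⟩, ⟨1, 87, []⟩, ⟨1, 90, []⟩, ⟨1, 90, []⟩, ⟨1, 86, []⟩, ⟨1, 258, [11, 4, 11, 4, 12, 7, 11, 12, 11]⟩]⟩,
 ⟨4, 5, 263, [], [⟨1, 262, []⟩], []⟩,
 ⟨9, 5, 96, [7, 12, 11, 12, 0, 2, 4, 1, 0, 2, 1, 3, 2, 0], [], [⟨1, 95, [7, 12, 11, 12]⟩, ⟨1, 50, [2, 8, 11, 4, 11, 13, 11, 12, 8, 11]⟩, ⟨1, 20, []⟩, ⟨1, 25, []⟩, ⟨1, 24, []⟩, ⟨1, 23, []⟩, ⟨1, 22, []⟩, ⟨1, 28, []⟩, ⟨1, 28, []⟩, ⟨1, 30, []⟩, ⟨1, 36, []⟩, ⟨1, 36, []⟩, ⟨1, 212, [2, 12, 11, 12, 7, 11, 13, 11, 4, 12]⟩]⟩,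
 ⟨4, 5, 265, [], [⟨1, 264, []⟩], []⟩,
 ⟨9, 5, 96, [11, 12, 11, 12, 0, 2, 4, 1, 0, 2, 1, 3, 2, 0], [], [⟨1, 95, [11, 12, 11, 12]⟩, ⟨1, 50, [4, 8, 11, 4, 11, 12, 13, 11, 4, 11]⟩, ⟨1, 23, []⟩, ⟨1, 22, []⟩, ⟨1, 25, []⟩, ⟨1, 22, []⟩, ⟨1, 25, []⟩, ⟨1, 21, []⟩, ⟨1, 30, []⟩, ⟨1, 36, []⟩, ⟨1, 212, [4, 7, 13, 11, 4, 12, 11, 12, 11, 13, 11]⟩]⟩,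
 ⟨4, 5, 267, [], [⟨1, 266, []⟩], []⟩,
 ⟨9, 5, 96, [12, 11, 12, 0, 2, 4, 1, 0, 2, 1, 3, 2, 0], [], [⟨1, 95, [12, 11, 12]⟩, ⟨1, 50, [0, 8, 11, 4, 11, 12, 11, 4, 11, 13]⟩, ⟨1, 20, []⟩, ⟨1, 25, []⟩, ⟨1, 24, []⟩, ⟨1, 22, []⟩, ⟨1, 25, []⟩, ⟨1, 22, []⟩, ⟨1, 28, []⟩, ⟨1, 28, []⟩, ⟨1, 30, []⟩, ⟨1, 212, [0, 11, 4, 11, 12, 13, 11, 12]⟩]⟩,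
 ⟨4, 5, 269, [], [⟨1, 268, []⟩], []⟩,
 ⟨12, 5, 96, [4, 13, 11, 4, 12, 11, 12, 0, 2, 3, 1, 0, 2, 1, 2, 4, 3, 2, 0, 2, 0], [], [⟨1, 95, [4, 13, 11, 4, 12, 11, 12]⟩, ⟨1, 42, []⟩, ⟨1, 41, []⟩, ⟨1, 40, []⟩, ⟨1, 119, [0, 8, 11, 12, 8, 11]⟩, ⟨1, 87, []⟩, ⟨1, 86, []⟩, ⟨1, 90, []⟩, ⟨1, 258, [4, 12, 7, 11, 2, 13, 11, 4, 11]⟩]⟩,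
 ⟨4, 5, 271, [], [⟨1, 270, []⟩], []⟩,
 ⟨12, 5, 96, [4, 8, 13, 11, 4, 11, 12, 0, 2, 3, 1, 0, 2, 1, 2, 4, 3, 2, 0, 2, 0], [], [⟨1, 95, [4, 8, 13, 11, 4, 11, 12]⟩, ⟨1, 43, []⟩, ⟨1, 42, []⟩, ⟨1, 46, []⟩, ⟨1, 68, []⟩, ⟨1, 68, []⟩, ⟨1, 114, [4, 13, 11, 2, 12, 7, 12, 11, 4, 12]⟩, ⟨1, 87, []⟩, ⟨1, 90, []⟩, ⟨1, 90, []⟩, ⟨1, 86, []⟩, ⟨1, 258, [0, 4, 12, 7, 11, 4, 12, 8, 11]⟩]⟩,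
 ⟨4, 5, 273, [], [⟨1, 272, []⟩], []⟩,
 ⟨12, 5, 96, [8, 12, 11, 4, 12, 0, 2, 3, 1, 0, 2, 1, 2, 4, 3, 2, 0, 2, 0], [], [⟨1, 95, [8, 12, 11, 4, 12]⟩, ⟨1, 39, []⟩, ⟨1, 42, []⟩, ⟨1, 41, []⟩, ⟨1, 46, []⟩, ⟨1, 46, []⟩, ⟨1, 68, []⟩, ⟨1, 119, [2, 7, 12, 8, 11, 4, 13, 11, 12, 11]⟩, ⟨1, 90, []⟩, ⟨1, 90, []⟩, ⟨1, 90, []⟩, ⟨1, 270, [12, 11, 12, 7, 11, 4, 13]⟩]⟩,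
 ⟨4, 5, 275, [], [⟨1, 274, []⟩], []⟩,
 ⟨13, 5, 96, [4, 11, 4, 12, 13, 0, 2, 3, 1, 2, 0, 1, 3, 2, 0], [], [⟨1, 95, [4, 11, 4, 12, 13]⟩, ⟨1, 39, []⟩, ⟨1, 43, []⟩, ⟨1, 42, []⟩, ⟨1, 40, []⟩, ⟨1, 46, []⟩, ⟨1, 46, []⟩, ⟨1, 68, []⟩, ⟨1, 119, [0, 12, 7, 11, 12, 7, 13, 11, 12, 11]⟩, ⟨1, 87, []⟩, ⟨1, 90, []⟩, ⟨1, 90, []⟩, ⟨1, 266, [7, 12, 11, 13, 11, 4, 11, 4]⟩]⟩,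
 ⟨4, 5, 277, [], [⟨1, 276, []⟩], []⟩,
 ⟨13, 5, 96, [2, 11, 12, 0, 2, 3, 1, 2, 0, 1, 3, 2, 0], [], [⟨1, 95, [2, 11, 12]⟩, ⟨1, 39, []⟩, ⟨1, 43, []⟩, ⟨1, 42, []⟩, ⟨1, 40, []⟩, ⟨1, 46, []⟩, ⟨1, 68, []⟩, ⟨1, 94, [11, 4, 12, 7, 11, 12, 8, 12]⟩, ⟨1, 87, []⟩, ⟨1, 90, []⟩, ⟨1, 87, []⟩, ⟨1, 268, [7, 11, 2, 4, 11, 12, 13]⟩]⟩,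
 ⟨4, 5, 279, [], [⟨1, 278, []⟩], []⟩,
 ⟨13, 5, 96, [12, 13, 0, 2, 3, 1, 2, 0, 1, 3, 2, 0], [], [⟨1, 95, [12, 13]⟩, ⟨1, 39, []⟩, ⟨1, 43, []⟩, ⟨1, 42, []⟩, ⟨1, 41, []⟩, ⟨1, 40, []⟩, ⟨1, 46, []⟩, ⟨1, 46, []⟩, ⟨1, 68, []⟩, ⟨1, 119, [11, 2, 4, 12, 7, 11, 12, 7, 11, 13]⟩, ⟨1, 87, []⟩, ⟨1, 86, []⟩, ⟨1, 90, []⟩, ⟨1, 258, [2, 12, 11, 13, 11, 4, 12, 11, 12]⟩]⟩,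
 ⟨4, 5, 281, [], [⟨1, 280, []⟩], []⟩,
 ⟨14, 5, 96, [7, 13, 11, 4, 12, 11, 0, 2, 3, 2, 0, 2, 0], [], [⟨1, 95, [7, 13, 11, 4, 12, 11]⟩, ⟨1, 50, [12, 7, 12, 11, 4, 12, 11, 4, 13]⟩, ⟨1, 22, []⟩, ⟨1, 25, []⟩, ⟨1, 22, []⟩, ⟨1, 22, []⟩, ⟨1, 21, []⟩, ⟨1, 28, []⟩, ⟨1, 36, []⟩, ⟨1, 212, [4, 11, 4, 11, 13, 11, 4, 11, 12, 8]⟩]⟩,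
 ⟨4, 5, 283, [], [⟨1, 282, []⟩], []⟩,
 ⟨16, 5, 96, [7, 0, 2, 6, 2, 0, 2, 0], [], [⟨1, 95, [7]⟩, ⟨1, 39, []⟩, ⟨1, 40, []⟩, ⟨1, 158, [7, 13, 11, 12, 7, 11, 13]⟩]⟩,
 ⟨4, 5, 285, [], [⟨1, 284, []⟩], []⟩,
 ⟨10, 3, 97, [4, 8, 12, 13, 0, 2, 3, 2, 0], [], [⟨1, 96, [4, 8, 12, 13]⟩, ⟨1, 86, []⟩, ⟨1, 90, []⟩, ⟨1, 87, []⟩, ⟨1, 118, [4, 11, 12, 7, 11, 12, 11, 13]⟩, ⟨1, 87, []⟩, ⟨1, 86, []⟩, ⟨1, 90, []⟩, ⟨1, 86, []⟩, ⟨1, 90, []⟩, ⟨1, 228, [0, 11, 13, 11, 12, 8, 11]⟩]⟩,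
 ⟨4, 3, 287, [], [⟨1, 286, []⟩], []⟩,
 ⟨11, 3, 97, [11, 4, 13, 11, 4, 11, 12, 0, 2, 3, 1, 2, 0, 1, 4, 2, 0, 2, 0], [], [⟨1, 96, [11, 4, 13, 11, 4, 11, 12]⟩, ⟨1, 90, []⟩, ⟨1, 86, []⟩, ⟨1, 120, [7, 12, 8, 11, 4, 11]⟩, ⟨1, 42, []⟩, ⟨1, 41, []⟩, ⟨1, 286, [0, 7, 12, 7, 11, 12, 7, 13, 11, 12]⟩]⟩,
 ⟨4, 3, 289, [], [⟨1, 288, []⟩], []⟩,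
 ⟨7, 5, 98, [12, 8, 13, 11, 4, 12, 3, 1, 0, 2, 1, 3, 2, 0], [], [⟨1, 97, [12, 8, 13, 11, 4, 12]⟩, ⟨1, 39, []⟩, ⟨1, 40, []⟩, ⟨1, 46, []⟩, ⟨1, 68, []⟩, ⟨1, 68, []⟩, ⟨1, 238, [8, 12, 11, 12, 7, 11, 12, 11, 4, 12]⟩, ⟨1, 154, [8, 12, 11, 12, 13, 11, 12, 11]⟩]⟩,
 ⟨4, 5, 291, [], [⟨1, 290, []⟩], []⟩]
theorem chk4 : and2 (D.chkL PF4 244) (Nat.beq (Nat.add 244 PF4.length) 292) = true := by decide +kernel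

def PF5 : List DPf := [⟨7, 5, 98, [0, 12, 7, 11, 4, 12, 13, 3, 1, 0, 2, 1, 3, 2, 0], [], [⟨1, 97, [0, 12, 7, 11, 4, 12, 13]⟩, ⟨1, 46, []⟩, ⟨1, 68, []⟩, ⟨1, 119, [0, 12, 13, 11, 4, 12, 7, 11, 12, 8]⟩, ⟨1, 90, []⟩, ⟨1, 90, []⟩, ⟨1, 86, []⟩, ⟨1, 90, []⟩, ⟨1, 274, [4, 8, 12, 7, 13, 11, 2, 12, 8]⟩]⟩,
 ⟨4, 5, 293, [], [⟨1, 292, []⟩], []⟩,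
 ⟨8, 5, 98, [4, 12, 8, 11, 12, 0, 2, 3, 4, 2, 1, 2, 0, 1, 3, 2, 0], [], [⟨1, 97, [4, 12, 8, 11, 12]⟩, ⟨1, 43, []⟩, ⟨1, 42, []⟩, ⟨1, 40, []⟩, ⟨1, 83, [8, 12, 8, 11, 4, 12, 13, 11, 4, 12, 11]⟩, ⟨1, 76, []⟩, ⟨1, 78, []⟩, ⟨1, 77, []⟩, ⟨1, 81, []⟩, ⟨1, 81, []⟩, ⟨1, 126, []⟩, ⟨1, 218, [7, 12, 7, 11, 4, 11, 13, 11, 12]⟩]⟩,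
 ⟨4, 5, 295, [], [⟨1, 294, []⟩], []⟩,
 ⟨8, 5, 98, [2, 4, 7, 12, 11, 4, 0, 2, 3, 4, 2, 1, 2, 0, 1, 3, 2, 0], [], [⟨1, 97, [2, 4, 7, 12, 11, 4]⟩, ⟨1, 43, []⟩, ⟨1, 42, []⟩, ⟨1, 40, []⟩, ⟨1, 83, [4, 11, 13, 11, 4, 11, 4, 12, 8]⟩, ⟨1, 76, []⟩, ⟨1, 77, []⟩, ⟨1, 78, []⟩, ⟨1, 81, []⟩, ⟨1, 81, []⟩, ⟨1, 77, []⟩, ⟨1, 81, []⟩, ⟨1, 126, []⟩, ⟨1, 218, [4, 12, 13, 11, 12, 7, 11, 12, 11, 13]⟩]⟩,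
 ⟨4, 5, 297, [], [⟨1, 296, []⟩], []⟩,
 ⟨10, 5, 98, [7, 13, 11, 4, 11, 12, 0, 2, 3, 2, 0], [], [⟨1, 97, [7, 13, 11, 4, 11, 12]⟩, ⟨1, 39, []⟩, ⟨1, 42, []⟩, ⟨1, 41, []⟩, ⟨1, 68, []⟩, ⟨1, 121, [4, 7, 11, 13, 11, 12, 8, 11, 13]⟩, ⟨1, 90, []⟩, ⟨1, 90, []⟩, ⟨1, 90, []⟩, ⟨1, 86, []⟩, ⟨1, 278, [7, 13, 11, 2, 12, 8, 11, 12, 13, 11]⟩]⟩,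
 ⟨4, 5, 299, [], [⟨1, 298, []⟩], []⟩,
 ⟨10, 5, 98, [11, 12, 11, 13, 11, 4, 12, 0, 2, 3, 2, 0], [], [⟨1, 97, [11, 12, 11, 13, 11, 4, 12]⟩, ⟨1, 39, []⟩, ⟨1, 43, []⟩, ⟨1, 42, []⟩, ⟨1, 40, []⟩, ⟨1, 119, [7, 12, 7, 11, 4, 11, 12, 7, 13]⟩, ⟨1, 86, []⟩, ⟨1, 90, []⟩, ⟨1, 262, [4, 13, 11, 12, 7, 12, 11, 12, 13]⟩]⟩,
 ⟨4, 5, 301, [], [⟨1, 300, []⟩], []⟩,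
 ⟨12, 5, 98, [7, 13, 11, 4, 11, 12, 0, 2, 3, 1, 0, 2, 1, 2, 4, 3, 2, 0, 2, 0], [], [⟨1, 97, [7, 13, 11, 4, 11, 12]⟩, ⟨1, 39, []⟩, ⟨1, 42, []⟩, ⟨1, 41, []⟩, ⟨1, 68, []⟩, ⟨1, 121, [2, 4, 7, 11, 13, 11, 12, 8, 11, 13]⟩, ⟨1, 90, []⟩, ⟨1, 298, [0, 7, 12, 13, 11, 4, 12, 7, 11, 4, 12]⟩]⟩,
 ⟨4, 5, 303, [], [⟨1, 302, []⟩], []⟩,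
 ⟨12, 5, 98, [7, 12, 7, 11, 13, 11, 12, 0, 2, 3, 1, 0, 2, 1, 2, 4, 3, 2, 0, 2, 0], [], [⟨1, 97, [7, 12, 7, 11, 13, 11, 12]⟩, ⟨1, 42, []⟩, ⟨1, 41, []⟩, ⟨1, 46, []⟩, ⟨1, 98, [8, 12, 8, 13, 11]⟩, ⟨1, 298, [11, 2, 13, 11, 12, 7, 11, 13]⟩]⟩,
 ⟨4, 5, 305, [], [⟨1, 304, []⟩], []⟩,
 ⟨13, 5, 98, [11, 4, 0, 2, 3, 1, 2, 0, 1, 3, 2, 0], [], [⟨1, 97, [11, 4]⟩, ⟨1, 39, []⟩, ⟨1, 98, [13, 11, 2, 12, 11, 4, 13, 11]⟩, ⟨1, 87, []⟩, ⟨1, 300, [11, 4, 11, 13, 11, 4, 12, 11, 4, 13]⟩]⟩,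
 ⟨4, 5, 307, [], [⟨1, 306, []⟩], []⟩,
 ⟨13, 5, 98, [12, 11, 4, 12, 0, 2, 3, 1, 2, 0, 1, 3, 2, 0], [], [⟨1, 97, [12, 11, 4, 12]⟩, ⟨1, 39, []⟩, ⟨1, 98, [0, 12, 8, 11, 12, 8, 11, 12, 8, 11]⟩, ⟨1, 87, []⟩, ⟨1, 298, [4, 8, 11, 4, 12, 11, 12]⟩]⟩,
 ⟨4, 5, 309, [], [⟨1, 308, []⟩], []⟩,
 ⟨15, 5, 98, [0, 2, 5, 2, 0], [], [⟨1, 97, []⟩, ⟨1, 39, []⟩, ⟨1, 68, []⟩, ⟨1, 185, [4, 8, 11, 12, 11, 4, 11, 12, 7]⟩]⟩,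
 ⟨4, 5, 311, [], [⟨1, 310, []⟩], []⟩,
 ⟨15, 5, 98, [8, 0, 2, 5, 2, 0], [], [⟨1, 97, [8]⟩, ⟨1, 42, []⟩, ⟨1, 40, []⟩, ⟨1, 156, [2, 7, 11, 12, 13, 11, 4, 11, 12, 13]⟩]⟩,
 ⟨4, 5, 313, [], [⟨1, 312, []⟩], []⟩,
 ⟨8, 3, 99, [7, 11, 12, 0, 2, 3, 4, 2, 1, 2, 0, 1, 3, 2, 0], [], [⟨1, 98, [7, 11, 12]⟩, ⟨1, 86, []⟩, ⟨1, 87, []⟩, ⟨1, 90, []⟩, ⟨1, 99, [8, 12, 7, 13, 11, 4, 11, 12, 8, 13]⟩, ⟨1, 224, [2, 4, 7, 11, 4, 11, 13, 11, 12, 7, 11, 13]⟩]⟩,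
 ⟨4, 3, 315, [], [⟨1, 314, []⟩], []⟩,
 ⟨9, 3, 99, [12, 8, 12, 13, 11, 4, 12, 0, 2, 4, 1, 0, 2, 1, 3, 2, 0], [], [⟨1, 98, [12, 8, 12, 13, 11, 4, 12]⟩, ⟨1, 116, [2, 11, 12, 8, 11, 12, 8, 11, 4, 12]⟩, ⟨1, 86, []⟩, ⟨1, 90, []⟩, ⟨1, 90, []⟩, ⟨1, 86, []⟩, ⟨1, 90, []⟩, ⟨1, 270, [11, 2, 12, 7, 13, 11, 12, 8, 11]⟩]⟩,
 ⟨4, 3, 317, [], [⟨1, 316, []⟩], []⟩,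
 ⟨7, 5, 102, [12, 11, 13, 11, 4, 3, 1, 0, 2, 1, 3, 2, 0], [], [⟨1, 101, [12, 11, 13, 11, 4]⟩, ⟨1, 87, []⟩, ⟨1, 86, []⟩, ⟨1, 90, []⟩, ⟨1, 207, [0, 11, 12, 11, 13, 11, 4, 11, 13]⟩, ⟨1, 167, [12, 7, 11, 2, 12, 13]⟩]⟩,
 ⟨4, 5, 319, [], [⟨1, 318, []⟩], []⟩,
 ⟨7, 5, 102, [13, 11, 12, 7, 11, 12, 3, 1, 0, 2, 1, 3, 2, 0], [], [⟨1, 101, [13, 11, 12, 7, 11, 12]⟩, ⟨1, 86, []⟩, ⟨1, 90, []⟩, ⟨1, 90, []⟩, ⟨1, 111, [12, 8, 11, 4, 11, 12, 11]⟩, ⟨1, 90, []⟩, ⟨1, 87, []⟩, ⟨1, 90, []⟩, ⟨1, 246, [2, 7, 11, 12, 7, 13, 11, 4, 12, 11]⟩]⟩,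
 ⟨4, 5, 321, [], [⟨1, 320, []⟩], []⟩,
 ⟨7, 5, 102, [2, 12, 3, 1, 0, 2, 1, 3, 2, 0], [], [⟨1, 101, [2, 12]⟩, ⟨1, 86, []⟩, ⟨1, 87, []⟩, ⟨1, 86, []⟩, ⟨1, 90, []⟩, ⟨1, 101, [0, 8, 12, 8, 13, 11, 12, 7, 11, 12, 7, 13]⟩, ⟨1, 310, [11, 12, 11, 4, 13, 11, 4, 11, 12, 8]⟩]⟩,
 ⟨4, 5, 323, [], [⟨1, 322, []⟩], []⟩,
 ⟨7, 5, 102, [2, 4, 11, 4, 12, 3, 1, 0, 2, 1, 3, 2, 0], [], [⟨1, 101, [2, 4, 11, 4, 12]⟩, ⟨1, 87, []⟩, ⟨1, 90, []⟩, ⟨1, 90, []⟩, ⟨1, 90, []⟩, ⟨1, 112, [11, 12, 11, 4, 11, 12, 8, 11, 12, 7]⟩, ⟨1, 86, []⟩, ⟨1, 87, []⟩, ⟨1, 90, []⟩, ⟨1, 87, []⟩, ⟨1, 228, [2, 8, 11, 13, 11, 12, 7, 11, 4, 12]⟩]⟩,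
 ⟨4, 5, 325, [], [⟨1, 324, []⟩], []⟩,
 ⟨7, 5, 102, [7, 12, 11, 13, 11, 4, 3, 1, 0, 2, 1, 3, 2, 0], [], [⟨1, 101, [7, 12, 11, 13, 11, 4]⟩, ⟨1, 87, []⟩, ⟨1, 86, []⟩, ⟨1, 90, []⟩, ⟨1, 109, [2, 7, 12, 8, 13, 11, 4, 11, 13]⟩, ⟨1, 86, []⟩, ⟨1, 90, []⟩, ⟨1, 90, []⟩, ⟨1, 232, [0, 12, 8, 11, 12, 7, 13, 11, 4, 11]⟩]⟩,
 ⟨4, 5, 327, [], [⟨1, 326, []⟩], []⟩,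
 ⟨8, 5, 102, [0, 12, 11, 13, 11, 4, 0, 2, 3, 4, 2, 1, 2, 0, 1, 3, 2, 0], [], [⟨1, 101, [0, 12, 11, 13, 11, 4]⟩, ⟨1, 90, []⟩, ⟨1, 90, []⟩, ⟨1, 92, [0, 4, 8, 11, 12, 11, 13, 11, 4, 12]⟩, ⟨1, 77, []⟩, ⟨1, 81, []⟩, ⟨1, 81, []⟩, ⟨1, 77, []⟩, ⟨1, 222, [2, 12, 11, 4, 11, 12, 11]⟩]⟩,
 ⟨4, 5, 329, [], [⟨1, 328, []⟩], []⟩,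
 ⟨8, 5, 102, [2, 4, 7, 12, 11, 4, 0, 2, 3, 4, 2, 1, 2, 0, 1, 3, 2, 0], [], [⟨1, 101, [2, 4, 7, 12, 11, 4]⟩, ⟨1, 111, [4, 11, 12, 11, 13, 11, 12, 11, 12]⟩, ⟨1, 87, []⟩, ⟨1, 90, []⟩, ⟨1, 90, []⟩, ⟨1, 86, []⟩, ⟨1, 296, [13, 11, 4, 11, 12, 11, 13]⟩]⟩,
 ⟨4, 5, 331, [], [⟨1, 330, []⟩], []⟩,
 ⟨8, 5, 102, [0, 7, 12, 11, 13, 11, 4, 0, 2, 3, 4, 2, 1, 2, 0, 1, 3, 2, 0], [], [⟨1, 101, [0, 7, 12, 11, 13, 11, 4]⟩, ⟨1, 90, []⟩, ⟨1, 90, []⟩, ⟨1, 92, [4, 7, 12, 13, 11, 4]⟩, ⟨1, 78, []⟩, ⟨1, 220, [8, 13, 11, 2, 4, 11, 13]⟩]⟩,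
 ⟨4, 5, 333, [], [⟨1, 332, []⟩], []⟩,
 ⟨9, 5, 102, [4, 8, 11, 12, 11, 13, 0, 2, 4, 1, 0, 2, 1, 3, 2, 0], [], [⟨1, 101, [4, 8, 11, 12, 11, 13]⟩, ⟨1, 90, []⟩, ⟨1, 86, []⟩, ⟨1, 90, []⟩, ⟨1, 110, [2, 11, 12, 13, 11, 4, 11, 12, 13]⟩, ⟨1, 86, []⟩, ⟨1, 87, []⟩, ⟨1, 90, []⟩, ⟨1, 86, []⟩, ⟨1, 201, [12, 8, 12, 11, 12, 8, 12, 11, 4, 11]⟩]⟩,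
 ⟨4, 5, 335, [], [⟨1, 334, []⟩], []⟩,
 ⟨9, 5, 102, [12, 7, 13, 11, 4, 12, 0, 2, 4, 1, 0, 2, 1, 3, 2, 0], [], [⟨1, 101, [12, 7, 13, 11, 4, 12]⟩, ⟨1, 86, []⟩, ⟨1, 108, [7, 13, 11, 4, 12, 11, 4, 13, 11]⟩, ⟨1, 90, []⟩, ⟨1, 86, []⟩, ⟨1, 90, []⟩, ⟨1, 203, [8, 11, 12, 7, 11, 12, 7, 11, 12]⟩]⟩,
 ⟨4, 5, 337, [], [⟨1, 336, []⟩], []⟩,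
 ⟨13, 5, 102, [2, 12, 8, 12, 11, 12, 0, 2, 3, 1, 2, 0, 1, 3, 2, 0], [], [⟨1, 101, [2, 12, 8, 12, 11, 12]⟩, ⟨1, 86, []⟩, ⟨1, 87, []⟩, ⟨1, 90, []⟩, ⟨1, 99, [4, 8, 12, 7, 11, 4, 11, 13]⟩, ⟨1, 87, []⟩, ⟨1, 86, []⟩, ⟨1, 90, []⟩, ⟨1, 90, []⟩, ⟨1, 336, [2, 12, 8, 11, 12, 7, 11, 4, 12]⟩]⟩,
 ⟨4, 5, 339, [], [⟨1, 338, []⟩], []⟩,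
 ⟨7, 4, 83, [13, 11, 12, 7, 11, 12, 3, 1, 0, 2, 1, 3, 2, 0], [], [⟨1, 82, [13, 11, 12, 7, 11, 12]⟩, ⟨1, 39, []⟩, ⟨1, 41, []⟩, ⟨1, 46, []⟩, ⟨1, 46, []⟩, ⟨1, 119, [4, 8, 12, 13, 11, 2, 12]⟩, ⟨1, 86, []⟩, ⟨1, 87, []⟩, ⟨1, 90, []⟩, ⟨1, 86, []⟩, ⟨1, 90, []⟩, ⟨1, 294, [0, 4, 11, 4, 12, 7, 11, 13, 11, 4]⟩]⟩]
theorem chk5 : and2 (D.chkL PF5 292) (Nat.beq (Nat.add 292 PF5.length) 341) = true := by decide +kernel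

def PF6 : List DPf := [⟨4, 4, 341, [], [⟨1, 340, []⟩], []⟩,
 ⟨8, 4, 83, [4, 12, 0, 2, 3, 4, 2, 1, 2, 0, 1, 3, 2, 0], [], [⟨1, 82, [4, 12]⟩, ⟨1, 43, []⟩, ⟨1, 42, []⟩, ⟨1, 40, []⟩, ⟨1, 98, [2, 8, 11, 12, 7, 11, 4, 11, 13]⟩, ⟨1, 87, []⟩, ⟨1, 298, [0, 13, 11, 12, 8, 11, 13]⟩]⟩,
 ⟨4, 4, 343, [], [⟨1, 342, []⟩], []⟩,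
 ⟨8, 4, 83, [2, 4, 8, 12, 11, 12, 0, 2, 3, 4, 2, 1, 2, 0, 1, 3, 2, 0], [], [⟨1, 82, [2, 4, 8, 12, 11, 12]⟩, ⟨1, 43, []⟩, ⟨1, 83, [7, 11, 12, 11, 13, 11, 12, 11, 12]⟩, ⟨1, 76, []⟩, ⟨1, 78, []⟩, ⟨1, 81, []⟩, ⟨1, 81, []⟩, ⟨1, 126, []⟩, ⟨1, 218, [12, 8, 12, 13, 11, 2, 4, 11, 12, 11]⟩]⟩,
 ⟨4, 4, 345, [], [⟨1, 344, []⟩], []⟩,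
 ⟨8, 4, 83, [2, 4, 0, 2, 3, 4, 2, 1, 2, 0, 1, 3, 2, 0], [], [⟨1, 82, [2, 4]⟩, ⟨1, 43, []⟩, ⟨1, 83, [2, 4, 11, 4, 13, 11, 4, 12, 11]⟩, ⟨1, 76, []⟩, ⟨1, 77, []⟩, ⟨1, 78, []⟩, ⟨1, 81, []⟩, ⟨1, 81, []⟩, ⟨1, 77, []⟩, ⟨1, 81, []⟩, ⟨1, 126, []⟩, ⟨1, 218, [11, 13, 11, 12, 11, 4, 11, 4]⟩]⟩,
 ⟨4, 4, 347, [], [⟨1, 346, []⟩], []⟩,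
 ⟨11, 4, 83, [7, 11, 12, 13, 0, 2, 3, 1, 2, 0, 1, 4, 2, 0, 2, 0], [], [⟨1, 82, [7, 11, 12, 13]⟩, ⟨1, 39, []⟩, ⟨1, 43, []⟩, ⟨1, 42, []⟩, ⟨1, 46, []⟩, ⟨1, 46, []⟩, ⟨1, 119, [0, 4, 8, 11, 12, 13, 11, 12]⟩, ⟨1, 87, []⟩, ⟨1, 90, []⟩, ⟨1, 86, []⟩, ⟨1, 306, [2, 4, 7, 11, 12, 7, 11, 12, 13, 11]⟩]⟩,
 ⟨4, 4, 349, [], [⟨1, 348, []⟩], []⟩,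
 ⟨12, 4, 83, [8, 12, 13, 0, 2, 3, 1, 0, 2, 1, 2, 4, 3, 2, 0, 2, 0], [], [⟨1, 82, [8, 12, 13]⟩, ⟨1, 39, []⟩, ⟨1, 41, []⟩, ⟨1, 94, [8, 11, 4, 13, 11, 4, 11, 12, 11, 12]⟩, ⟨1, 244, [2, 4, 11, 4, 12, 11, 12, 7]⟩]⟩,
 ⟨4, 4, 351, [], [⟨1, 350, []⟩], []⟩,
 ⟨12, 4, 83, [12, 11, 13, 11, 4, 0, 2, 3, 1, 0, 2, 1, 2, 4, 3, 2, 0, 2, 0], [], [⟨1, 82, [12, 11, 13, 11, 4]⟩, ⟨1, 39, []⟩, ⟨1, 43, []⟩, ⟨1, 41, []⟩, ⟨1, 46, []⟩, ⟨1, 46, []⟩, ⟨1, 83, [2, 8, 12, 8, 11, 4, 11, 12, 8, 13]⟩, ⟨1, 77, []⟩, ⟨1, 344, [2, 11, 4, 12, 11, 12, 7, 12, 13]⟩]⟩,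
 ⟨4, 4, 353, [], [⟨1, 352, []⟩], []⟩,
 ⟨13, 4, 83, [2, 11, 4, 12, 0, 2, 3, 1, 2, 0, 1, 3, 2, 0], [], [⟨1, 82, [2, 11, 4, 12]⟩, ⟨1, 43, []⟩, ⟨1, 42, []⟩, ⟨1, 40, []⟩, ⟨1, 98, [0, 8, 12, 7, 11, 13, 11, 12, 11, 13]⟩, ⟨1, 87, []⟩, ⟨1, 300, [2, 4, 7, 11, 4, 12, 11, 12, 8, 11]⟩]⟩,
 ⟨4, 4, 355, [], [⟨1, 354, []⟩], []⟩,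
 ⟨13, 4, 83, [12, 11, 4, 12, 0, 2, 3, 1, 2, 0, 1, 3, 2, 0], [], [⟨1, 82, [12, 11, 4, 12]⟩, ⟨1, 43, []⟩, ⟨1, 83, [12, 8, 11, 12, 8, 11, 12, 8, 11]⟩, ⟨1, 348, [0, 8, 13, 11, 4, 12, 11, 12, 11]⟩]⟩,
 ⟨4, 4, 357, [], [⟨1, 356, []⟩], []⟩,
 ⟨14, 4, 83, [4, 8, 12, 11, 4, 12, 13, 0, 2, 3, 2, 0, 2, 0], [], [⟨1, 82, [4, 8, 12, 11, 4, 12, 13]⟩, ⟨1, 62, [7, 11, 4, 11, 13, 11, 12]⟩, ⟨1, 39, []⟩, ⟨1, 41, []⟩, ⟨1, 40, []⟩, ⟨1, 68, []⟩, ⟨1, 68, []⟩, ⟨1, 252, [0, 4, 13, 11, 12, 7, 11, 12]⟩]⟩,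
 ⟨4, 4, 359, [], [⟨1, 358, []⟩], []⟩,
 ⟨14, 4, 83, [4, 7, 13, 11, 4, 12, 11, 0, 2, 3, 2, 0, 2, 0], [], [⟨1, 82, [4, 7, 13, 11, 4, 12, 11]⟩, ⟨1, 43, []⟩, ⟨1, 83, [0, 4, 12, 11, 12, 8, 13, 11, 4, 11, 13]⟩, ⟨1, 81, []⟩, ⟨1, 77, []⟩, ⟨1, 81, []⟩, ⟨1, 126, []⟩, ⟨1, 340, [2, 8, 12, 7, 11, 4, 11, 4]⟩]⟩,
 ⟨4, 4, 361, [], [⟨1, 360, []⟩], []⟩,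
 ⟨14, 4, 83, [4, 8, 13, 11, 12, 11, 0, 2, 3, 2, 0, 2, 0], [], [⟨1, 82, [4, 8, 13, 11, 12, 11]⟩, ⟨1, 43, []⟩, ⟨1, 83, [12, 11, 4, 12, 7]⟩, ⟨1, 76, []⟩, ⟨1, 76, []⟩, ⟨1, 78, []⟩, ⟨1, 77, []⟩, ⟨1, 81, []⟩, ⟨1, 126, []⟩, ⟨1, 78, []⟩, ⟨1, 358, [0, 11, 12, 7, 13, 11, 12, 11]⟩]⟩,
 ⟨4, 4, 363, [], [⟨1, 362, []⟩], []⟩,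
 ⟨7, 3, 84, [0, 4, 11, 13, 11, 12, 3, 1, 0, 2, 1, 3, 2, 0], [], [⟨1, 83, [0, 4, 11, 13, 11, 12]⟩, ⟨1, 76, []⟩, ⟨1, 78, []⟩, ⟨1, 77, []⟩, ⟨1, 78, []⟩, ⟨1, 81, []⟩, ⟨1, 81, []⟩, ⟨1, 126, []⟩, ⟨1, 82, [0, 8, 11, 12, 11, 13, 11, 12, 11, 13]⟩, ⟨1, 156, [2, 7, 12, 7, 11, 12, 8, 11, 12, 13]⟩]⟩,
 ⟨4, 3, 365, [], [⟨1, 364, []⟩], []⟩,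
 ⟨7, 3, 84, [0, 13, 11, 12, 3, 1, 0, 2, 1, 3, 2, 0], [], [⟨1, 83, [0, 13, 11, 12]⟩, ⟨1, 78, []⟩, ⟨1, 77, []⟩, ⟨1, 81, []⟩, ⟨1, 77, []⟩, ⟨1, 82, [0, 11, 4, 12, 11, 13, 11, 4, 12, 11, 12]⟩, ⟨1, 39, []⟩, ⟨1, 41, []⟩, ⟨1, 46, []⟩, ⟨1, 46, []⟩, ⟨1, 364, [7, 12, 7, 13, 11, 2, 12, 7, 11, 12, 13]⟩]⟩,
 ⟨4, 3, 367, [], [⟨1, 366, []⟩], []⟩,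
 ⟨7, 3, 84, [8, 11, 12, 13, 11, 12, 3, 1, 0, 2, 1, 3, 2, 0], [], [⟨1, 83, [8, 11, 12, 13, 11, 12]⟩, ⟨1, 77, []⟩, ⟨1, 81, []⟩, ⟨1, 77, []⟩, ⟨1, 126, []⟩, ⟨1, 197, [4, 7, 11, 2, 12, 8, 12, 11, 12]⟩, ⟨1, 135, []⟩, ⟨1, 181, [4, 11, 12, 8, 11, 4, 11, 12, 13]⟩]⟩,
 ⟨4, 3, 369, [], [⟨1, 368, []⟩], []⟩,
 ⟨7, 3, 84, [4, 13, 11, 4, 11, 12, 3, 1, 0, 2, 1, 3, 2, 0], [], [⟨1, 83, [4, 13, 11, 4, 11, 12]⟩, ⟨1, 78, []⟩, ⟨1, 77, []⟩, ⟨1, 78, []⟩, ⟨1, 81, []⟩, ⟨1, 81, []⟩, ⟨1, 77, []⟩, ⟨1, 126, []⟩, ⟨1, 197, [0, 11, 4, 11, 12, 8, 11, 12, 11, 4]⟩, ⟨1, 135, []⟩, ⟨1, 181, [12, 11, 13, 11, 12, 8, 12, 11, 12, 7]⟩]⟩,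
 ⟨4, 3, 371, [], [⟨1, 370, []⟩], []⟩,
 ⟨7, 3, 84, [0, 4, 11, 12, 13, 3, 1, 0, 2, 1, 3, 2, 0], [], [⟨1, 83, [0, 4, 11, 12, 13]⟩, ⟨1, 78, []⟩, ⟨1, 81, []⟩, ⟨1, 81, []⟩, ⟨1, 77, []⟩, ⟨1, 81, []⟩, ⟨1, 126, []⟩, ⟨1, 82, [7, 12, 7, 13, 11, 2, 12, 7]⟩, ⟨1, 43, []⟩, ⟨1, 42, []⟩, ⟨1, 41, []⟩, ⟨1, 46, []⟩, ⟨1, 368, [11, 2, 12, 7, 11, 12, 13, 11]⟩]⟩,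
 ⟨4, 3, 373, [], [⟨1, 372, []⟩], []⟩,
 ⟨8, 3, 84, [0, 11, 12, 13, 11, 4, 0, 2, 3, 4, 2, 1, 2, 0, 1, 3, 2, 0], [], [⟨1, 83, [0, 11, 12, 13, 11, 4]⟩, ⟨1, 77, []⟩, ⟨1, 78, []⟩, ⟨1, 344, [2, 12, 7, 12, 11, 4, 13, 11, 4]⟩, ⟨1, 134, []⟩, ⟨1, 135, []⟩, ⟨1, 134, []⟩, ⟨1, 241, [0, 7, 12, 8, 11, 12, 8, 11, 4]⟩]⟩,
 ⟨8, 3, 84, [11, 12, 13, 11, 12, 0, 2, 3, 4, 2, 1, 2, 0, 1, 3, 2, 0], [], [⟨1, 83, [11, 12, 13, 11, 12]⟩, ⟨1, 76, []⟩, ⟨1, 78, []⟩, ⟨1, 77, []⟩, ⟨1, 81, []⟩, ⟨1, 81, []⟩, ⟨1, 126, []⟩, ⟨1, 218, [7, 12, 8, 11, 12, 7, 11, 12, 8, 12]⟩, ⟨1, 166, [2, 4, 11, 4, 11, 12, 8, 11, 12, 11]⟩]⟩,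
 ⟨4, 3, 376, [], [⟨1, 375, []⟩], []⟩,
 ⟨8, 3, 84, [4, 8, 11, 4, 12, 0, 2, 3, 4, 2, 1, 2, 0, 1, 3, 2, 0], [], [⟨1, 83, [4, 8, 11, 4, 12]⟩, ⟨1, 76, []⟩, ⟨1, 76, []⟩, ⟨1, 77, []⟩, ⟨1, 81, []⟩, ⟨1, 137, [4, 13, 11, 12, 8, 11, 4, 11]⟩, ⟨1, 135, []⟩, ⟨1, 174, [0, 7, 11, 4, 12, 13, 11, 12, 7, 11, 13]⟩]⟩,
 ⟨4, 3, 378, [], [⟨1, 377, []⟩], []⟩,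
 ⟨10, 3, 84, [4, 11, 13, 11, 4, 12, 0, 2, 3, 2, 0], [], [⟨1, 83, [4, 11, 13, 11, 4, 12]⟩, ⟨1, 76, []⟩, ⟨1, 78, []⟩, ⟨1, 77, []⟩, ⟨1, 78, []⟩, ⟨1, 81, []⟩, ⟨1, 77, []⟩, ⟨1, 126, []⟩, ⟨1, 360, [0, 4, 11, 12, 7, 11, 4, 13, 11, 4]⟩, ⟨1, 154, [11, 12, 8, 12, 11, 12, 13, 11, 4]⟩]⟩,
 ⟨4, 3, 380, [], [⟨1, 379, []⟩], []⟩,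
 ⟨13, 3, 84, [0, 13, 11, 12, 0, 2, 3, 1, 2, 0, 1, 3, 2, 0], [], [⟨1, 83, [0, 13, 11, 12]⟩, ⟨1, 76, []⟩, ⟨1, 77, []⟩, ⟨1, 81, []⟩, ⟨1, 81, []⟩, ⟨1, 77, []⟩, ⟨1, 81, []⟩, ⟨1, 126, []⟩, ⟨1, 218, [11, 2, 13, 11, 12, 11]⟩, ⟨1, 166, [11, 12, 7, 11, 12, 11, 12, 7, 12]⟩]⟩,
 ⟨4, 3, 382, [], [⟨1, 381, []⟩], []⟩,
 ⟨7, 4, 85, [4, 12, 11, 12, 3, 1, 0, 2, 1, 3, 2, 0], [], [⟨1, 84, [4, 12, 11, 12]⟩, ⟨1, 76, []⟩, ⟨1, 77, []⟩, ⟨1, 78, []⟩, ⟨1, 81, []⟩, ⟨1, 77, []⟩, ⟨1, 78, []⟩, ⟨1, 126, []⟩, ⟨1, 82, [8, 11, 2, 12, 13, 11, 12, 7, 12]⟩, ⟨1, 43, []⟩, ⟨1, 42, []⟩, ⟨1, 46, []⟩, ⟨1, 368, [13, 11, 4, 11, 4, 13, 11, 4, 12, 7]⟩]⟩,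
 ⟨4, 4, 384, [], [⟨1, 383, []⟩], []⟩,
 ⟨7, 4, 85, [4, 3, 1, 0, 2, 1, 3, 2, 0], [], [⟨1, 84, [4]⟩, ⟨1, 76, []⟩, ⟨1, 77, []⟩, ⟨1, 81, []⟩, ⟨1, 77, []⟩, ⟨1, 81, []⟩, ⟨1, 126, []⟩, ⟨1, 82, [0, 13, 11, 4, 11]⟩, ⟨1, 39, []⟩, ⟨1, 41, []⟩, ⟨1, 46, []⟩, ⟨1, 46, []⟩, ⟨1, 364, [0, 11, 12, 13, 11, 4]⟩]⟩,
 ⟨4, 4, 386, [], [⟨1, 385, []⟩], []⟩,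
 ⟨8, 4, 85, [4, 7, 11, 12, 0, 2, 3, 4, 2, 1, 2, 0, 1, 3, 2, 0], [], [⟨1, 84, [4, 7, 11, 12]⟩, ⟨1, 77, []⟩, ⟨1, 104, [0, 4, 8, 11, 13, 11, 4, 12, 11]⟩, ⟨1, 87, []⟩, ⟨1, 86, []⟩, ⟨1, 90, []⟩, ⟨1, 87, []⟩, ⟨1, 282, [2, 12, 8, 11, 12, 13, 11, 4, 12]⟩]⟩,
 ⟨4, 4, 388, [], [⟨1, 387, []⟩], []⟩]
theorem chk6 : and2 (D.chkL PF6 341) (Nat.beq (Nat.add 341 PF6.length) 389) = true := by decide +kernel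

def PF7 : List DPf := [⟨8, 4, 85, [4, 11, 12, 13, 0, 2, 3, 4, 2, 1, 2, 0, 1, 3, 2, 0], [], [⟨1, 84, [4, 11, 12, 13]⟩, ⟨1, 76, []⟩, ⟨1, 76, []⟩, ⟨1, 137, [0, 12, 7, 12, 11, 12, 7, 12, 11, 4]⟩, ⟨1, 174, [2, 11, 12, 8, 12, 11]⟩]⟩,
 ⟨4, 4, 390, [], [⟨1, 389, []⟩], []⟩,
 ⟨9, 4, 85, [11, 4, 12, 11, 0, 2, 4, 1, 0, 2, 1, 3, 2, 0], [], [⟨1, 84, [11, 4, 12, 11]⟩, ⟨1, 76, []⟩, ⟨1, 76, []⟩, ⟨1, 102, [8, 11, 4, 11, 4]⟩, ⟨1, 141, [0, 7, 11, 4, 13, 11, 4, 12, 11, 12]⟩]⟩,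
 ⟨4, 4, 392, [], [⟨1, 391, []⟩], []⟩,
 ⟨5, 4, 103, [13, 3, 2, 0], [], [⟨1, 102, [13]⟩, ⟨1, 90, []⟩, ⟨1, 90, []⟩, ⟨1, 122, [2, 8, 11, 4, 11, 12, 11, 12, 7, 13]⟩, ⟨1, 39, []⟩, ⟨1, 42, []⟩, ⟨1, 41, []⟩, ⟨1, 40, []⟩, ⟨1, 254, [7, 12, 8, 11, 2, 12, 7, 13, 11, 12]⟩]⟩,
 ⟨4, 4, 394, [], [⟨1, 393, []⟩], []⟩,
 ⟨7, 4, 103, [7, 12, 8, 11, 12, 3, 1, 0, 2, 1, 3, 2, 0], [], [⟨1, 102, [7, 12, 8, 11, 12]⟩, ⟨1, 86, []⟩, ⟨1, 87, []⟩, ⟨1, 86, []⟩, ⟨1, 90, []⟩, ⟨1, 90, []⟩, ⟨1, 90, []⟩, ⟨1, 201, [2, 4, 11, 4, 11, 12, 8]⟩, ⟨1, 134, []⟩, ⟨1, 135, []⟩, ⟨1, 167, [4, 7, 11, 2, 12, 11, 13, 11, 4, 11]⟩]⟩,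
 ⟨4, 4, 396, [], [⟨1, 395, []⟩], []⟩,
 ⟨8, 4, 103, [8, 11, 4, 12, 0, 2, 3, 4, 2, 1, 2, 0, 1, 3, 2, 0], [], [⟨1, 102, [8, 11, 4, 12]⟩, ⟨1, 86, []⟩, ⟨1, 87, []⟩, ⟨1, 90, []⟩, ⟨1, 139, [8, 11, 12, 7, 13, 11, 4, 12, 8]⟩, ⟨1, 134, []⟩, ⟨1, 135, []⟩, ⟨1, 181, [4, 7, 11, 12, 8, 12, 11, 4, 11]⟩]⟩,
 ⟨4, 4, 398, [], [⟨1, 397, []⟩], []⟩,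
 ⟨8, 4, 103, [0, 11, 12, 13, 11, 4, 0, 2, 3, 4, 2, 1, 2, 0, 1, 3, 2, 0], [], [⟨1, 102, [0, 11, 12, 13, 11, 4]⟩, ⟨1, 115, [12, 13, 11, 4, 12, 8, 11, 4, 13]⟩, ⟨1, 46, []⟩, ⟨1, 46, []⟩, ⟨1, 375, [0, 7, 12, 11, 4, 13, 11, 4, 11]⟩]⟩,
 ⟨4, 4, 400, [], [⟨1, 399, []⟩], []⟩,
 ⟨8, 4, 103, [8, 11, 4, 12, 13, 0, 2, 3, 4, 2, 1, 2, 0, 1, 3, 2, 0], [], [⟨1, 102, [8, 11, 4, 12, 13]⟩, ⟨1, 87, []⟩, ⟨1, 90, []⟩, ⟨1, 90, []⟩, ⟨1, 122, [4, 11, 2, 12, 7, 11, 4, 11, 12]⟩, ⟨1, 39, []⟩, ⟨1, 42, []⟩, ⟨1, 46, []⟩, ⟨1, 248, [7, 12, 11, 12, 13, 11, 4, 12, 8]⟩]⟩,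
 ⟨4, 4, 402, [], [⟨1, 401, []⟩], []⟩,
 ⟨8, 4, 103, [4, 8, 11, 13, 11, 4, 12, 0, 2, 3, 4, 2, 1, 2, 0, 1, 3, 2, 0], [], [⟨1, 102, [4, 8, 11, 13, 11, 4, 12]⟩, ⟨1, 87, []⟩, ⟨1, 90, []⟩, ⟨1, 90, []⟩, ⟨1, 122, [0, 11, 12, 8, 11, 12, 8, 13, 11, 12]⟩, ⟨1, 43, []⟩, ⟨1, 42, []⟩, ⟨1, 46, []⟩, ⟨1, 316, [4, 12, 13, 11, 12, 7, 12, 11, 12, 8]⟩]⟩,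
 ⟨4, 4, 404, [], [⟨1, 403, []⟩], []⟩,
 ⟨7, 5, 104, [11, 12, 11, 4, 12, 3, 1, 0, 2, 1, 3, 2, 0], [], [⟨1, 103, [11, 12, 11, 4, 12]⟩, ⟨1, 76, []⟩, ⟨1, 77, []⟩, ⟨1, 81, []⟩, ⟨1, 77, []⟩, ⟨1, 81, []⟩, ⟨1, 81, []⟩, ⟨1, 106, [12, 8, 11, 13, 11, 12, 11, 13]⟩, ⟨1, 310, [0, 11, 12, 13, 11, 4, 11, 12, 8, 12]⟩]⟩,
 ⟨4, 5, 406, [], [⟨1, 405, []⟩], []⟩,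
 ⟨7, 5, 104, [4, 8, 11, 12, 13, 3, 1, 0, 2, 1, 3, 2, 0], [], [⟨1, 103, [4, 8, 11, 12, 13]⟩, ⟨1, 76, []⟩, ⟨1, 76, []⟩, ⟨1, 77, []⟩, ⟨1, 81, []⟩, ⟨1, 81, []⟩, ⟨1, 126, []⟩, ⟨1, 104, [8, 12, 8, 11, 12]⟩, ⟨1, 86, []⟩, ⟨1, 87, []⟩, ⟨1, 203, [8, 12, 8, 11, 2, 4, 11, 12, 8, 13]⟩]⟩,
 ⟨4, 5, 408, [], [⟨1, 407, []⟩], []⟩,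
 ⟨7, 5, 104, [8, 11, 12, 13, 11, 12, 3, 1, 0, 2, 1, 3, 2, 0], [], [⟨1, 103, [8, 11, 12, 13, 11, 12]⟩, ⟨1, 76, []⟩, ⟨1, 76, []⟩, ⟨1, 78, []⟩, ⟨1, 77, []⟩, ⟨1, 81, []⟩, ⟨1, 77, []⟩, ⟨1, 78, []⟩, ⟨1, 126, []⟩, ⟨1, 104, [4, 12, 7]⟩, ⟨1, 86, []⟩, ⟨1, 87, []⟩, ⟨1, 203, [12, 7, 11, 2, 13, 11, 12, 8, 12, 11]⟩]⟩,
 ⟨4, 5, 410, [], [⟨1, 409, []⟩], []⟩,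
 ⟨8, 5, 104, [2, 11, 4, 11, 12, 0, 2, 3, 4, 2, 1, 2, 0, 1, 3, 2, 0], [], [⟨1, 103, [2, 11, 4, 11, 12]⟩, ⟨1, 76, []⟩, ⟨1, 76, []⟩, ⟨1, 82, [4, 11, 4, 12, 7, 11, 4, 11, 13]⟩, ⟨1, 379, [4, 12, 11, 2, 12, 8, 12, 11, 4, 12]⟩]⟩,
 ⟨4, 5, 412, [], [⟨1, 411, []⟩], []⟩,
 ⟨8, 5, 104, [8, 12, 11, 4, 12, 0, 2, 3, 4, 2, 1, 2, 0, 1, 3, 2, 0], [], [⟨1, 103, [8, 12, 11, 4, 12]⟩, ⟨1, 77, []⟩, ⟨1, 81, []⟩, ⟨1, 137, [13, 11, 2, 4, 11, 12, 7, 11, 4]⟩, ⟨1, 135, []⟩, ⟨1, 174, [2, 4, 8, 12, 7, 11, 12, 11, 4, 11]⟩]⟩,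
 ⟨4, 5, 414, [], [⟨1, 413, []⟩], []⟩,
 ⟨8, 5, 104, [12, 8, 12, 11, 4, 12, 0, 2, 3, 4, 2, 1, 2, 0, 1, 3, 2, 0], [], [⟨1, 103, [12, 8, 12, 11, 4, 12]⟩, ⟨1, 76, []⟩, ⟨1, 76, []⟩, ⟨1, 82, [12, 7, 11, 2, 13, 11, 12, 7, 11, 4]⟩, ⟨1, 39, []⟩, ⟨1, 46, []⟩, ⟨1, 46, []⟩, ⟨1, 68, []⟩, ⟨1, 68, []⟩, ⟨1, 381, [7, 11, 2, 12, 8, 12, 11, 4, 12, 11]⟩]⟩,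
 ⟨4, 5, 416, [], [⟨1, 415, []⟩], []⟩,
 ⟨8, 5, 104, [7, 12, 7, 11, 12, 0, 2, 3, 4, 2, 1, 2, 0, 1, 3, 2, 0], [], [⟨1, 103, [7, 12, 7, 11, 12]⟩, ⟨1, 76, []⟩, ⟨1, 76, []⟩, ⟨1, 82, [7, 12, 13, 11, 12, 7, 12, 11, 12]⟩, ⟨1, 39, []⟩, ⟨1, 42, []⟩, ⟨1, 41, []⟩, ⟨1, 40, []⟩, ⟨1, 46, []⟩, ⟨1, 46, []⟩, ⟨1, 379, [4, 7, 11, 2, 12, 13, 11, 4, 12]⟩]⟩,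
 ⟨4, 5, 418, [], [⟨1, 417, []⟩], []⟩,
 ⟨8, 5, 104, [2, 7, 12, 7, 11, 12, 0, 2, 3, 4, 2, 1, 2, 0, 1, 3, 2, 0], [], [⟨1, 103, [2, 7, 12, 7, 11, 12]⟩, ⟨1, 76, []⟩, ⟨1, 76, []⟩, ⟨1, 82, [11, 12, 7, 12, 11, 4, 11, 12, 7, 13]⟩, ⟨1, 43, []⟩, ⟨1, 42, []⟩, ⟨1, 46, []⟩, ⟨1, 368, [8, 12, 7, 11, 4, 12, 8, 13]⟩]⟩,
 ⟨4, 5, 420, [], [⟨1, 419, []⟩], []⟩,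
 ⟨8, 5, 104, [11, 4, 12, 0, 2, 3, 4, 2, 1, 2, 0, 1, 3, 2, 0], [], [⟨1, 103, [11, 4, 12]⟩, ⟨1, 76, []⟩, ⟨1, 76, []⟩, ⟨1, 82, [12, 11, 4, 12, 13, 11, 4, 11, 12, 7]⟩, ⟨1, 39, []⟩, ⟨1, 46, []⟩, ⟨1, 46, []⟩, ⟨1, 364, [8, 11, 12, 11, 12, 13, 11, 12]⟩]⟩,
 ⟨4, 5, 422, [], [⟨1, 421, []⟩], []⟩,
 ⟨9, 5, 104, [11, 12, 11, 12, 0, 2, 4, 1, 0, 2, 1, 3, 2, 0], [], [⟨1, 103, [11, 12, 11, 12]⟩, ⟨1, 76, []⟩, ⟨1, 77, []⟩, ⟨1, 84, [0, 8, 12, 8, 11, 12, 11, 13, 11, 4]⟩, ⟨1, 76, []⟩, ⟨1, 78, []⟩, ⟨1, 77, []⟩, ⟨1, 81, []⟩, ⟨1, 77, []⟩, ⟨1, 81, []⟩, ⟨1, 81, []⟩, ⟨1, 126, []⟩, ⟨1, 356, [2, 4, 12, 8, 11, 12, 11, 13, 11]⟩]⟩,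
 ⟨4, 5, 424, [], [⟨1, 423, []⟩], []⟩,
 ⟨9, 5, 104, [4, 12, 11, 4, 12, 0, 2, 4, 1, 0, 2, 1, 3, 2, 0], [], [⟨1, 103, [4, 12, 11, 4, 12]⟩, ⟨1, 76, []⟩, ⟨1, 77, []⟩, ⟨1, 84, [4, 12, 7, 13, 11, 4, 11, 12]⟩, ⟨1, 76, []⟩, ⟨1, 81, []⟩, ⟨1, 81, []⟩, ⟨1, 126, []⟩, ⟨1, 126, []⟩, ⟨1, 397, [7, 12, 11, 13, 11, 12, 8, 12, 11, 12]⟩]⟩,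
 ⟨4, 5, 426, [], [⟨1, 425, []⟩], []⟩,
 ⟨9, 5, 104, [11, 0, 2, 4, 1, 0, 2, 1, 3, 2, 0], [], [⟨1, 103, [11]⟩, ⟨1, 76, []⟩, ⟨1, 77, []⟩, ⟨1, 84, [2, 12, 11, 12, 7, 11, 13, 11, 12, 11]⟩, ⟨1, 76, []⟩, ⟨1, 77, []⟩, ⟨1, 78, []⟩, ⟨1, 81, []⟩, ⟨1, 81, []⟩, ⟨1, 77, []⟩, ⟨1, 126, []⟩, ⟨1, 344, [2, 8, 12, 7, 11, 4, 12, 11, 13, 11]⟩]⟩,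
 ⟨4, 5, 428, [], [⟨1, 427, []⟩], []⟩,
 ⟨9, 5, 104, [12, 11, 4, 0, 2, 4, 1, 0, 2, 1, 3, 2, 0], [], [⟨1, 103, [12, 11, 4]⟩, ⟨1, 76, []⟩, ⟨1, 76, []⟩, ⟨1, 82, [2, 8, 11, 12, 8, 11, 4, 12, 11]⟩, ⟨1, 39, []⟩, ⟨1, 43, []⟩, ⟨1, 42, []⟩, ⟨1, 46, []⟩, ⟨1, 68, []⟩, ⟨1, 370, [2, 12, 7, 13, 11, 12, 8, 12, 11, 13]⟩]⟩,
 ⟨4, 5, 430, [], [⟨1, 429, []⟩], []⟩,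
 ⟨12, 5, 104, [4, 12, 8, 11, 12, 13, 0, 2, 3, 1, 0, 2, 1, 2, 4, 3, 2, 0, 2, 0], [], [⟨1, 103, [4, 12, 8, 11, 12, 13]⟩, ⟨1, 81, []⟩, ⟨1, 77, []⟩, ⟨1, 102, [0, 12, 7, 11, 4, 11, 12, 11, 4, 13]⟩, ⟨1, 429, [2, 8, 11, 4, 13, 11, 12, 11, 4, 13]⟩]⟩,
 ⟨4, 5, 432, [], [⟨1, 431, []⟩], []⟩,
 ⟨12, 5, 104, [0, 11, 13, 11, 4, 12, 0, 2, 3, 1, 0, 2, 1, 2, 4, 3, 2, 0, 2, 0], [], [⟨1, 103, [0, 11, 13, 11, 4, 12]⟩, ⟨1, 81, []⟩, ⟨1, 77, []⟩, ⟨1, 104, [8, 12, 7, 11, 2, 13, 11, 12, 8, 12]⟩, ⟨1, 86, []⟩, ⟨1, 90, []⟩, ⟨1, 87, []⟩, ⟨1, 282, [8, 11, 4, 13]⟩]⟩,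
 ⟨4, 5, 434, [], [⟨1, 433, []⟩], []⟩,
 ⟨12, 5, 104, [0, 12, 8, 11, 13, 11, 12, 0, 2, 3, 1, 0, 2, 1, 2, 4, 3, 2, 0, 2, 0], [], [⟨1, 103, [0, 12, 8, 11, 13, 11, 12]⟩, ⟨1, 78, []⟩, ⟨1, 81, []⟩, ⟨1, 81, []⟩, ⟨1, 77, []⟩, ⟨1, 81, []⟩, ⟨1, 126, []⟩, ⟨1, 102, [11, 2, 4, 12, 11, 12, 7, 13, 11]⟩, ⟨1, 423, [2, 8]⟩]⟩,
 ⟨4, 5, 436, [], [⟨1, 435, []⟩], []⟩]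
theorem chk7 : and2 (D.chkL PF7 389) (Nat.beq (Nat.add 389 PF7.length) 437) = true := by decide +kernel

def PF8 : List DPf := [⟨12, 5, 104, [0, 11, 4, 12, 13, 11, 4, 12, 0, 2, 3, 1, 0, 2, 1, 2, 4, 3, 2, 0, 2, 0], [], [⟨1, 103, [0, 11, 4, 12, 13, 11, 4, 12]⟩, ⟨1, 76, []⟩, ⟨1, 76, []⟩, ⟨1, 78, []⟩, ⟨1, 77, []⟩, ⟨1, 81, []⟩, ⟨1, 77, []⟩, ⟨1, 78, []⟩, ⟨1, 126, []⟩, ⟨1, 106, [0, 4, 7, 13, 11, 4, 11, 13]⟩, ⟨1, 86, []⟩, ⟨1, 87, []⟩, ⟨1, 90, []⟩, ⟨1, 87, []⟩, ⟨1, 226, [11, 2, 12, 7, 11, 12, 7]⟩]⟩,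
 ⟨4, 5, 438, [], [⟨1, 437, []⟩], []⟩,
 ⟨12, 5, 104, [0, 4, 7, 12, 13, 11, 4, 0, 2, 3, 1, 0, 2, 1, 2, 4, 3, 2, 0, 2, 0], [], [⟨1, 103, [0, 4, 7, 12, 13, 11, 4]⟩, ⟨1, 77, []⟩, ⟨1, 78, []⟩, ⟨1, 81, []⟩, ⟨1, 81, []⟩, ⟨1, 102, [2, 4, 12, 11, 13, 11, 4, 11, 12, 8, 12]⟩, ⟨1, 87, []⟩, ⟨1, 423, [4, 7, 13, 11, 4, 12, 11, 4, 13]⟩]⟩,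
 ⟨4, 5, 440, [], [⟨1, 439, []⟩], []⟩,
 ⟨12, 5, 104, [7, 11, 4, 12, 13, 11, 4, 12, 0, 2, 3, 1, 0, 2, 1, 2, 4, 3, 2, 0, 2, 0], [], [⟨1, 103, [7, 11, 4, 12, 13, 11, 4, 12]⟩, ⟨1, 77, []⟩, ⟨1, 78, []⟩, ⟨1, 81, []⟩, ⟨1, 77, []⟩, ⟨1, 81, []⟩, ⟨1, 81, []⟩, ⟨1, 126, []⟩, ⟨1, 102, [0, 12, 8, 11, 13, 11, 12, 11, 12]⟩, ⟨1, 429, [12, 11, 2, 12, 7]⟩]⟩,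
 ⟨4, 5, 442, [], [⟨1, 441, []⟩], []⟩,
 ⟨12, 5, 104, [11, 4, 12, 11, 4, 0, 2, 3, 1, 0, 2, 1, 2, 4, 3, 2, 0, 2, 0], [], [⟨1, 103, [11, 4, 12, 11, 4]⟩, ⟨1, 76, []⟩, ⟨1, 76, []⟩, ⟨1, 78, []⟩, ⟨1, 126, []⟩, ⟨1, 106, [4, 11, 12, 7, 11, 13, 11]⟩, ⟨1, 87, []⟩, ⟨1, 86, []⟩, ⟨1, 429, [11, 12, 13, 11, 12, 11, 4, 11]⟩]⟩,
 ⟨4, 5, 444, [], [⟨1, 443, []⟩], []⟩,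
 ⟨13, 5, 104, [2, 4, 11, 12, 0, 2, 3, 1, 2, 0, 1, 3, 2, 0], [], [⟨1, 103, [2, 4, 11, 12]⟩, ⟨1, 76, []⟩, ⟨1, 76, []⟩, ⟨1, 82, [8, 12, 8, 11, 4, 12, 11]⟩, ⟨1, 42, []⟩, ⟨1, 41, []⟩, ⟨1, 40, []⟩, ⟨1, 68, []⟩, ⟨1, 375, [4, 11, 4, 11, 12, 7, 11, 12, 8, 12]⟩]⟩,
 ⟨4, 5, 446, [], [⟨1, 445, []⟩], []⟩,
 ⟨13, 5, 104, [2, 12, 8, 12, 11, 12, 0, 2, 3, 1, 2, 0, 1, 3, 2, 0], [], [⟨1, 103, [2, 12, 8, 12, 11, 12]⟩, ⟨1, 77, []⟩, ⟨1, 106, [8, 11, 2, 4, 12, 11, 12, 8, 12]⟩, ⟨1, 86, []⟩, ⟨1, 429, [4, 8, 11, 12, 8, 13, 11, 12, 8, 11, 12]⟩]⟩,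
 ⟨4, 5, 448, [], [⟨1, 447, []⟩], []⟩,
 ⟨13, 5, 104, [11, 12, 0, 2, 3, 1, 2, 0, 1, 3, 2, 0], [], [⟨1, 103, [11, 12]⟩, ⟨1, 77, []⟩, ⟨1, 106, [0, 4, 11, 12, 8, 11, 12, 7, 11, 4]⟩, ⟨1, 86, []⟩, ⟨1, 90, []⟩, ⟨1, 87, []⟩, ⟨1, 90, []⟩, ⟨1, 90, []⟩, ⟨1, 425, [4, 8, 11, 2, 12, 7, 11, 12, 7, 13]⟩]⟩,
 ⟨4, 5, 450, [], [⟨1, 449, []⟩], []⟩,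
 ⟨14, 5, 104, [7, 12, 11, 12, 13, 0, 2, 3, 2, 0, 2, 0], [], [⟨1, 103, [7, 12, 11, 12, 13]⟩, ⟨1, 76, []⟩, ⟨1, 77, []⟩, ⟨1, 84, [2, 4, 8, 11, 12, 11, 13, 11, 12, 7, 11]⟩, ⟨1, 81, []⟩, ⟨1, 81, []⟩, ⟨1, 77, []⟩, ⟨1, 81, []⟩, ⟨1, 126, []⟩, ⟨1, 403, [7, 11, 13, 11, 12, 11, 4, 12, 7, 11]⟩]⟩,
 ⟨4, 5, 452, [], [⟨1, 451, []⟩], []⟩,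
 ⟨7, 5, 111, [4, 7, 12, 13, 3, 1, 0, 2, 1, 3, 2, 0], [], [⟨1, 110, [4, 7, 12, 13]⟩, ⟨1, 90, []⟩, ⟨1, 86, []⟩, ⟨1, 93, [8, 13, 11, 2, 12]⟩, ⟨1, 43, []⟩, ⟨1, 42, []⟩, ⟨1, 40, []⟩, ⟨1, 252, [11, 13, 11, 4, 11, 4]⟩]⟩,
 ⟨4, 5, 454, [], [⟨1, 453, []⟩], []⟩,
 ⟨7, 5, 111, [2, 11, 12, 7, 11, 12, 3, 1, 0, 2, 1, 3, 2, 0], [], [⟨1, 110, [2, 11, 12, 7, 11, 12]⟩, ⟨1, 90, []⟩, ⟨1, 90, []⟩, ⟨1, 122, [4, 7, 11, 4, 13, 11, 12, 8, 12, 11]⟩, ⟨1, 43, []⟩, ⟨1, 42, []⟩, ⟨1, 41, []⟩, ⟨1, 40, []⟩, ⟨1, 46, []⟩, ⟨1, 68, []⟩, ⟨1, 368, [7, 12, 7, 11, 12, 11, 4, 11, 13]⟩]⟩,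
 ⟨4, 5, 456, [], [⟨1, 455, []⟩], []⟩,
 ⟨7, 5, 111, [8, 13, 11, 12, 3, 1, 0, 2, 1, 3, 2, 0], [], [⟨1, 110, [8, 13, 11, 12]⟩, ⟨1, 87, []⟩, ⟨1, 90, []⟩, ⟨1, 86, []⟩, ⟨1, 105, [8, 12, 11, 4, 12, 7, 11, 13]⟩, ⟨1, 76, []⟩, ⟨1, 76, []⟩, ⟨1, 77, []⟩, ⟨1, 81, []⟩, ⟨1, 77, []⟩, ⟨1, 81, []⟩, ⟨1, 126, []⟩, ⟨1, 387, [0, 4, 7, 12, 8, 11, 13, 11, 4]⟩]⟩,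
 ⟨4, 5, 458, [], [⟨1, 457, []⟩], []⟩,
 ⟨8, 5, 111, [7, 12, 7, 11, 13, 11, 12, 0, 2, 3, 4, 2, 1, 2, 0, 1, 3, 2, 0], [], [⟨1, 110, [7, 12, 7, 11, 13, 11, 12]⟩, ⟨1, 86, []⟩, ⟨1, 87, []⟩, ⟨1, 86, []⟩, ⟨1, 90, []⟩, ⟨1, 90, []⟩, ⟨1, 90, []⟩, ⟨1, 117, [2, 11, 4, 11, 12, 8]⟩, ⟨1, 87, []⟩, ⟨1, 90, []⟩, ⟨1, 413, [2, 4, 11, 12, 13, 11]⟩]⟩,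
 ⟨4, 5, 460, [], [⟨1, 459, []⟩], []⟩,
 ⟨8, 5, 111, [7, 12, 8, 11, 12, 0, 2, 3, 4, 2, 1, 2, 0, 1, 3, 2, 0], [], [⟨1, 110, [7, 12, 8, 11, 12]⟩, ⟨1, 103, [2, 8, 11, 4, 13, 11, 12, 8, 11, 12]⟩, ⟨1, 76, []⟩, ⟨1, 77, []⟩, ⟨1, 78, []⟩, ⟨1, 81, []⟩, ⟨1, 385, [4, 11, 13, 11, 12, 11, 4, 13, 11]⟩]⟩,
 ⟨4, 5, 462, [], [⟨1, 461, []⟩], []⟩,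
 ⟨8, 5, 111, [11, 12, 13, 11, 4, 12, 0, 2, 3, 4, 2, 1, 2, 0, 1, 3, 2, 0], [], [⟨1, 110, [11, 12, 13, 11, 4, 12]⟩, ⟨1, 86, []⟩, ⟨1, 87, []⟩, ⟨1, 90, []⟩, ⟨1, 90, []⟩, ⟨1, 90, []⟩, ⟨1, 117, [0, 4, 11, 13, 11, 4, 12, 7, 11, 4, 11]⟩, ⟨1, 90, []⟩, ⟨1, 415, [0, 4, 12, 7, 13, 11, 12, 11, 4]⟩]⟩,
 ⟨4, 5, 464, [], [⟨1, 463, []⟩], []⟩,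
 ⟨8, 5, 111, [8, 12, 11, 13, 11, 4, 0, 2, 3, 4, 2, 1, 2, 0, 1, 3, 2, 0], [], [⟨1, 110, [8, 12, 11, 13, 11, 4]⟩, ⟨1, 86, []⟩, ⟨1, 87, []⟩, ⟨1, 90, []⟩, ⟨1, 90, []⟩, ⟨1, 90, []⟩, ⟨1, 117, [11, 13, 11, 12, 8, 11, 4, 13, 11]⟩, ⟨1, 300, [2, 7, 11, 4, 11, 12, 11, 12]⟩]⟩,
 ⟨4, 5, 466, [], [⟨1, 465, []⟩], []⟩,
 ⟨8, 5, 111, [0, 11, 12, 8, 13, 11, 12, 0, 2, 3, 4, 2, 1, 2, 0, 1, 3, 2, 0], [], [⟨1, 110, [0, 11, 12, 8, 13, 11, 12]⟩, ⟨1, 132, [4, 8, 11, 2, 13, 11, 4, 12, 11]⟩, ⟨1, 87, []⟩, ⟨1, 90, []⟩, ⟨1, 86, []⟩, ⟨1, 90, []⟩, ⟨1, 266, [0, 4, 12, 7, 11, 13, 11, 12, 7, 11, 4, 12]⟩]⟩,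
 ⟨4, 5, 468, [], [⟨1, 467, []⟩], []⟩,
 ⟨8, 5, 111, [7, 12, 11, 13, 11, 4, 12, 0, 2, 3, 4, 2, 1, 2, 0, 1, 3, 2, 0], [], [⟨1, 110, [7, 12, 11, 13, 11, 4, 12]⟩, ⟨1, 132, [0, 12, 8, 11, 13, 11, 12, 7, 11, 4, 12]⟩, ⟨1, 86, []⟩, ⟨1, 87, []⟩, ⟨1, 90, []⟩, ⟨1, 86, []⟩, ⟨1, 211, [2, 7, 11, 13, 11, 12, 8, 11, 12, 7, 11]⟩]⟩,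
 ⟨4, 5, 470, [], [⟨1, 469, []⟩], []⟩,
 ⟨8, 5, 111, [2, 8, 11, 4, 12, 0, 2, 3, 4, 2, 1, 2, 0, 1, 3, 2, 0], [], [⟨1, 110, [2, 8, 11, 4, 12]⟩, ⟨1, 103, [2, 11, 12, 8, 12, 13, 11, 4, 12, 11]⟩, ⟨1, 77, []⟩, ⟨1, 81, []⟩, ⟨1, 77, []⟩, ⟨1, 78, []⟩, ⟨1, 126, []⟩, ⟨1, 389, [8, 11, 13, 11, 4, 11, 4, 13, 11, 12, 7]⟩]⟩,
 ⟨4, 5, 472, [], [⟨1, 471, []⟩], []⟩,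
 ⟨8, 5, 111, [0, 8, 11, 13, 11, 12, 0, 2, 3, 4, 2, 1, 2, 0, 1, 3, 2, 0], [], [⟨1, 110, [0, 8, 11, 13, 11, 12]⟩, ⟨1, 86, []⟩, ⟨1, 87, []⟩, ⟨1, 86, []⟩, ⟨1, 90, []⟩, ⟨1, 90, []⟩, ⟨1, 90, []⟩, ⟨1, 117, [2, 11, 13, 11, 12, 8, 11, 4, 12, 11]⟩, ⟨1, 90, []⟩, ⟨1, 87, []⟩, ⟨1, 90, []⟩, ⟨1, 465, [0, 11, 4, 12, 11, 12, 8, 13]⟩]⟩,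
 ⟨4, 5, 474, [], [⟨1, 473, []⟩], []⟩,
 ⟨8, 5, 111, [2, 8, 11, 4, 11, 12, 0, 2, 3, 4, 2, 1, 2, 0, 1, 3, 2, 0], [], [⟨1, 110, [2, 8, 11, 4, 11, 12]⟩, ⟨1, 103, [0, 12, 8, 12, 13, 11, 12, 11]⟩, ⟨1, 77, []⟩, ⟨1, 81, []⟩, ⟨1, 126, []⟩, ⟨1, 78, []⟩, ⟨1, 362, [0, 4, 12, 8, 13, 11, 4, 11, 12, 13, 11]⟩]⟩,
 ⟨4, 5, 476, [], [⟨1, 475, []⟩], []⟩,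
 ⟨9, 5, 111, [11, 4, 13, 11, 0, 2, 4, 1, 0, 2, 1, 3, 2, 0], [], [⟨1, 110, [11, 4, 13, 11]⟩, ⟨1, 86, []⟩, ⟨1, 87, []⟩, ⟨1, 90, []⟩, ⟨1, 90, []⟩, ⟨1, 90, []⟩, ⟨1, 117, [4, 12, 7, 11, 2, 12, 11, 13, 11]⟩, ⟨1, 86, []⟩, ⟨1, 90, []⟩, ⟨1, 90, []⟩, ⟨1, 86, []⟩, ⟨1, 90, []⟩, ⟨1, 276, [11, 2, 4, 12, 11, 4, 13, 11, 4]⟩]⟩,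
 ⟨4, 5, 478, [], [⟨1, 477, []⟩], []⟩,
 ⟨9, 5, 111, [8, 12, 11, 4, 0, 2, 4, 1, 0, 2, 1, 3, 2, 0], [], [⟨1, 110, [8, 12, 11, 4]⟩, ⟨1, 103, [0, 12, 8, 11, 4, 11, 12]⟩, ⟨1, 77, []⟩, ⟨1, 81, []⟩, ⟨1, 81, []⟩, ⟨1, 77, []⟩, ⟨1, 81, []⟩, ⟨1, 403, [0, 7, 11, 4, 12, 11, 13, 11, 12, 7, 11]⟩]⟩,
 ⟨4, 5, 480, [], [⟨1, 479, []⟩], []⟩,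
 ⟨9, 5, 111, [4, 11, 4, 12, 7, 11, 12, 0, 2, 4, 1, 0, 2, 1, 3, 2, 0], [], [⟨1, 110, [4, 11, 4, 12, 7, 11, 12]⟩, ⟨1, 103, [0, 13, 11, 4, 12, 7, 11, 12, 8, 13]⟩, ⟨1, 78, []⟩, ⟨1, 77, []⟩, ⟨1, 81, []⟩, ⟨1, 81, []⟩, ⟨1, 77, []⟩, ⟨1, 352, [8, 12, 11, 4, 12, 7, 11, 4, 13, 11, 4]⟩]⟩,
 ⟨4, 5, 482, [], [⟨1, 481, []⟩], []⟩]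
theorem chk8 : and2 (D.chkL PF8 437) (Nat.beq (Nat.add 437 PF8.length) 483) = true := by decide +kernel

def PF9 : List DPf := [⟨9, 5, 111, [4, 8, 12, 11, 0, 2, 4, 1, 0, 2, 1, 3, 2, 0], [], [⟨1, 110, [4, 8, 12, 11]⟩, ⟨1, 103, [0, 7, 11, 13, 11, 12, 11, 12, 7, 13, 11]⟩, ⟨1, 76, []⟩, ⟨1, 78, []⟩, ⟨1, 81, []⟩, ⟨1, 77, []⟩, ⟨1, 399, [11, 4, 13, 11, 12, 7, 11, 4, 12, 8]⟩]⟩,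
 ⟨4, 5, 484, [], [⟨1, 483, []⟩], []⟩,
 ⟨10, 5, 111, [13, 11, 12, 11, 4, 0, 2, 3, 2, 0], [], [⟨1, 110, [13, 11, 12, 11, 4]⟩, ⟨1, 86, []⟩, ⟨1, 87, []⟩, ⟨1, 86, []⟩, ⟨1, 90, []⟩, ⟨1, 90, []⟩, ⟨1, 115, [0, 11, 12, 7, 11, 4, 11, 12, 7]⟩, ⟨1, 39, []⟩, ⟨1, 43, []⟩, ⟨1, 40, []⟩, ⟨1, 46, []⟩, ⟨1, 68, []⟩, ⟨1, 68, []⟩, ⟨1, 377, [7, 11, 2, 12, 11, 13, 11, 4, 11, 12]⟩]⟩,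
 ⟨4, 5, 486, [], [⟨1, 485, []⟩], []⟩,
 ⟨13, 5, 111, [12, 11, 12, 13, 11, 4, 0, 2, 3, 1, 2, 0, 1, 3, 2, 0], [], [⟨1, 110, [12, 11, 12, 13, 11, 4]⟩, ⟨1, 87, []⟩, ⟨1, 132, [2, 7, 12, 11, 13, 11, 4, 11, 12, 13]⟩, ⟨1, 86, []⟩, ⟨1, 90, []⟩, ⟨1, 87, []⟩, ⟨1, 469, [8, 12, 8, 11, 12, 11, 4]⟩]⟩,
 ⟨4, 5, 488, [], [⟨1, 487, []⟩], []⟩,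
 ⟨13, 5, 111, [0, 7, 11, 4, 13, 11, 12, 0, 2, 3, 1, 2, 0, 1, 3, 2, 0], [], [⟨1, 110, [0, 7, 11, 4, 13, 11, 12]⟩, ⟨1, 132, [4, 12, 7, 13, 11, 12, 8, 11, 4, 12, 13]⟩, ⟨1, 87, []⟩, ⟨1, 487, [7, 12, 13, 11, 12, 7, 12, 11, 12]⟩]⟩,
 ⟨4, 5, 490, [], [⟨1, 489, []⟩], []⟩,
 ⟨13, 5, 111, [2, 4, 8, 11, 12, 0, 2, 3, 1, 2, 0, 1, 3, 2, 0], [], [⟨1, 110, [2, 4, 8, 11, 12]⟩, ⟨1, 103, [2, 11, 12, 8, 11, 4, 11, 12]⟩, ⟨1, 78, []⟩, ⟨1, 77, []⟩, ⟨1, 78, []⟩, ⟨1, 393, [12, 8, 11, 2, 12, 8, 11, 12, 11, 4]⟩]⟩,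
 ⟨4, 5, 492, [], [⟨1, 491, []⟩], []⟩,
 ⟨7, 5, 112, [4, 8, 11, 12, 3, 1, 0, 2, 1, 3, 2, 0], [], [⟨1, 111, [4, 8, 11, 12]⟩, ⟨1, 87, []⟩, ⟨1, 86, []⟩, ⟨1, 90, []⟩, ⟨1, 90, []⟩, ⟨1, 90, []⟩, ⟨1, 112, [0, 7, 11, 12, 8, 11, 12, 7, 11]⟩, ⟨1, 86, []⟩, ⟨1, 87, []⟩, ⟨1, 90, []⟩, ⟨1, 87, []⟩, ⟨1, 228, [0, 8, 11, 12, 8, 11, 12, 7, 13]⟩]⟩,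
 ⟨4, 5, 494, [], [⟨1, 493, []⟩], []⟩,
 ⟨7, 5, 112, [4, 7, 11, 13, 11, 12, 3, 1, 0, 2, 1, 3, 2, 0], [], [⟨1, 111, [4, 7, 11, 13, 11, 12]⟩, ⟨1, 86, []⟩, ⟨1, 90, []⟩, ⟨1, 90, []⟩, ⟨1, 122, [4, 12, 7, 11, 13, 11, 12, 11, 4]⟩, ⟨1, 39, []⟩, ⟨1, 43, []⟩, ⟨1, 42, []⟩, ⟨1, 46, []⟩, ⟨1, 68, []⟩, ⟨1, 68, []⟩, ⟨1, 314, [2, 12, 7, 11, 12, 11, 12, 8, 13]⟩]⟩,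
 ⟨4, 5, 496, [], [⟨1, 495, []⟩], []⟩,
 ⟨7, 5, 112, [8, 11, 12, 11, 4, 3, 1, 0, 2, 1, 3, 2, 0], [], [⟨1, 111, [8, 11, 12, 11, 4]⟩, ⟨1, 86, []⟩, ⟨1, 90, []⟩, ⟨1, 101, [2, 13, 11, 12, 7, 11, 13]⟩, ⟨1, 310, [2, 7, 11, 4, 13, 11, 12, 11]⟩]⟩,
 ⟨4, 5, 498, [], [⟨1, 497, []⟩], []⟩,
 ⟨8, 5, 112, [2, 8, 12, 11, 4, 0, 2, 3, 4, 2, 1, 2, 0, 1, 3, 2, 0], [], [⟨1, 111, [2, 8, 12, 11, 4]⟩, ⟨1, 90, []⟩, ⟨1, 99, [12, 11, 13, 11, 12, 8, 11, 12, 7, 11]⟩, ⟨1, 86, []⟩, ⟨1, 87, []⟩, ⟨1, 224, [12, 7, 11, 12, 8, 11, 12, 7, 11, 12, 11]⟩]⟩,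
 ⟨4, 5, 500, [], [⟨1, 499, []⟩], []⟩,
 ⟨8, 5, 112, [2, 8, 11, 4, 11, 12, 0, 2, 3, 4, 2, 1, 2, 0, 1, 3, 2, 0], [], [⟨1, 111, [2, 8, 11, 4, 11, 12]⟩, ⟨1, 90, []⟩, ⟨1, 99, [0, 4, 8, 11, 12, 7, 11, 4]⟩, ⟨1, 87, []⟩, ⟨1, 86, []⟩, ⟨1, 90, []⟩, ⟨1, 90, []⟩, ⟨1, 336, [4, 11, 12, 8, 11, 12, 7, 11, 12]⟩]⟩,
 ⟨4, 5, 502, [], [⟨1, 501, []⟩], []⟩,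
 ⟨9, 5, 112, [4, 8, 11, 4, 12, 11, 12, 0, 2, 4, 1, 0, 2, 1, 3, 2, 0], [], [⟨1, 111, [4, 8, 11, 4, 12, 11, 12]⟩, ⟨1, 87, []⟩, ⟨1, 86, []⟩, ⟨1, 90, []⟩, ⟨1, 90, []⟩, ⟨1, 101, [8, 11, 2, 12, 11, 13]⟩, ⟨1, 86, []⟩, ⟨1, 90, []⟩, ⟨1, 90, []⟩, ⟨1, 260, [7, 11, 13, 11, 12, 11, 4, 13, 11]⟩]⟩,
 ⟨4, 5, 504, [], [⟨1, 503, []⟩], []⟩,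
 ⟨9, 5, 112, [4, 11, 4, 11, 0, 2, 4, 1, 0, 2, 1, 3, 2, 0], [], [⟨1, 111, [4, 11, 4, 11]⟩, ⟨1, 87, []⟩, ⟨1, 86, []⟩, ⟨1, 90, []⟩, ⟨1, 90, []⟩, ⟨1, 101, [7, 12, 8, 11, 12, 7, 11, 12, 13, 11]⟩, ⟨1, 90, []⟩, ⟨1, 87, []⟩, ⟨1, 298, [11, 12, 11, 4, 13, 11, 12, 7]⟩]⟩,
 ⟨4, 5, 506, [], [⟨1, 505, []⟩], []⟩,
 ⟨7, 5, 106, [2, 4, 11, 12, 3, 1, 0, 2, 1, 3, 2, 0], [], [⟨1, 105, [2, 4, 11, 12]⟩, ⟨1, 76, []⟩, ⟨1, 81, []⟩, ⟨1, 77, []⟩, ⟨1, 78, []⟩, ⟨1, 126, []⟩, ⟨1, 102, [2, 11, 12, 7, 13, 11, 12, 8, 11, 12]⟩, ⟨1, 87, []⟩, ⟨1, 423, [11, 13, 11, 4, 11, 4]⟩]⟩,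
 ⟨4, 5, 508, [], [⟨1, 507, []⟩], []⟩,
 ⟨7, 5, 106, [0, 4, 7, 11, 12, 13, 3, 1, 0, 2, 1, 3, 2, 0], [], [⟨1, 105, [0, 4, 7, 11, 12, 13]⟩, ⟨1, 76, []⟩, ⟨1, 76, []⟩, ⟨1, 78, []⟩, ⟨1, 81, []⟩, ⟨1, 77, []⟩, ⟨1, 81, []⟩, ⟨1, 126, []⟩, ⟨1, 106, [7, 11, 2, 4, 13, 11, 12]⟩, ⟨1, 90, []⟩, ⟨1, 87, []⟩, ⟨1, 90, []⟩, ⟨1, 449, [0, 4, 12, 8, 11, 12, 13, 11, 12, 11, 13]⟩]⟩,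
 ⟨4, 5, 510, [], [⟨1, 509, []⟩], []⟩,
 ⟨7, 5, 106, [0, 13, 11, 12, 3, 1, 0, 2, 1, 3, 2, 0], [], [⟨1, 105, [0, 13, 11, 12]⟩, ⟨1, 76, []⟩, ⟨1, 76, []⟩, ⟨1, 78, []⟩, ⟨1, 77, []⟩, ⟨1, 81, []⟩, ⟨1, 77, []⟩, ⟨1, 126, []⟩, ⟨1, 106, [12, 13, 11, 12, 8, 12, 11, 12, 11, 13]⟩, ⟨1, 90, []⟩, ⟨1, 87, []⟩, ⟨1, 90, []⟩, ⟨1, 449, [0, 4, 7, 13, 11, 4, 11, 12, 11, 4]⟩]⟩,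
 ⟨4, 5, 512, [], [⟨1, 511, []⟩], []⟩,
 ⟨7, 5, 106, [4, 13, 11, 4, 12, 11, 12, 3, 1, 0, 2, 1, 3, 2, 0], [], [⟨1, 105, [4, 13, 11, 4, 12, 11, 12]⟩, ⟨1, 77, []⟩, ⟨1, 81, []⟩, ⟨1, 102, [4, 8, 11, 12, 8, 11, 4, 11, 13, 11]⟩, ⟨1, 451, [0, 12, 11, 4, 11, 12, 7, 13]⟩]⟩,
 ⟨4, 5, 514, [], [⟨1, 513, []⟩], []⟩,
 ⟨7, 5, 106, [2, 4, 8, 11, 4, 12, 3, 1, 0, 2, 1, 3, 2, 0], [], [⟨1, 105, [2, 4, 8, 11, 4, 12]⟩, ⟨1, 78, []⟩, ⟨1, 81, []⟩, ⟨1, 77, []⟩, ⟨1, 78, []⟩, ⟨1, 126, []⟩, ⟨1, 102, [2, 11, 12, 8, 13, 11, 12, 11, 4]⟩, ⟨1, 87, []⟩, ⟨1, 423, [12, 11, 12, 7, 12, 11, 4, 12, 13]⟩]⟩,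
 ⟨4, 5, 516, [], [⟨1, 515, []⟩], []⟩,
 ⟨7, 5, 106, [4, 11, 4, 12, 13, 3, 1, 0, 2, 1, 3, 2, 0], [], [⟨1, 105, [4, 11, 4, 12, 13]⟩, ⟨1, 76, []⟩, ⟨1, 77, []⟩, ⟨1, 81, []⟩, ⟨1, 77, []⟩, ⟨1, 126, []⟩, ⟨1, 102, [8, 12, 11, 12, 7, 13]⟩, ⟨1, 451, [0, 4, 11, 4, 13, 11, 4, 12, 8, 11, 4]⟩]⟩,
 ⟨4, 5, 518, [], [⟨1, 517, []⟩], []⟩,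
 ⟨7, 5, 106, [11, 4, 12, 8, 11, 12, 3, 1, 0, 2, 1, 3, 2, 0], [], [⟨1, 105, [11, 4, 12, 8, 11, 12]⟩, ⟨1, 77, []⟩, ⟨1, 78, []⟩, ⟨1, 126, []⟩, ⟨1, 106, [2, 12, 7, 11, 12, 11, 12, 7, 12, 13]⟩, ⟨1, 87, []⟩, ⟨1, 86, []⟩, ⟨1, 429, [8, 13, 11, 4, 11, 12, 11, 4]⟩]⟩,
 ⟨4, 5, 520, [], [⟨1, 519, []⟩], []⟩,
 ⟨8, 5, 106, [7, 11, 12, 0, 2, 3, 4, 2, 1, 2, 0, 1, 3, 2, 0], [], [⟨1, 105, [7, 11, 12]⟩, ⟨1, 76, []⟩, ⟨1, 106, [12, 8, 11, 2, 4, 13, 11, 12, 11, 4]⟩, ⟨1, 86, []⟩, ⟨1, 90, []⟩, ⟨1, 90, []⟩, ⟨1, 86, []⟩, ⟨1, 449, [7, 11, 2, 12, 13, 11, 4, 11, 12]⟩]⟩,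
 ⟨4, 5, 522, [], [⟨1, 521, []⟩], []⟩,
 ⟨8, 5, 106, [4, 12, 8, 11, 12, 0, 2, 3, 4, 2, 1, 2, 0, 1, 3, 2, 0], [], [⟨1, 105, [4, 12, 8, 11, 12]⟩, ⟨1, 76, []⟩, ⟨1, 106, [0, 12, 11, 12, 13, 11, 4, 11, 12, 7]⟩, ⟨1, 90, []⟩, ⟨1, 90, []⟩, ⟨1, 90, []⟩, ⟨1, 86, []⟩, ⟨1, 425, [2, 12, 11, 4, 12, 11, 4, 13]⟩]⟩,
 ⟨4, 5, 524, [], [⟨1, 523, []⟩], []⟩,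
 ⟨9, 5, 106, [11, 12, 11, 12, 0, 2, 4, 1, 0, 2, 1, 3, 2, 0], [], [⟨1, 105, [11, 12, 11, 12]⟩, ⟨1, 84, [7, 12, 13, 11, 12, 8, 12, 11, 4]⟩, ⟨1, 78, []⟩, ⟨1, 77, []⟩, ⟨1, 78, []⟩, ⟨1, 81, []⟩, ⟨1, 81, []⟩, ⟨1, 77, []⟩, ⟨1, 126, []⟩, ⟨1, 358, [2, 12, 11, 12, 8, 11, 13, 11, 4]⟩]⟩,
 ⟨4, 5, 526, [], [⟨1, 525, []⟩], []⟩,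
 ⟨9, 5, 106, [12, 11, 12, 0, 2, 4, 1, 0, 2, 1, 3, 2, 0], [], [⟨1, 105, [12, 11, 12]⟩, ⟨1, 84, [0, 8, 12, 13, 11, 4, 12, 7, 11, 12]⟩, ⟨1, 76, []⟩, ⟨1, 76, []⟩, ⟨1, 78, []⟩, ⟨1, 77, []⟩, ⟨1, 78, []⟩, ⟨1, 81, []⟩, ⟨1, 81, []⟩, ⟨1, 360, [4, 12, 11, 2, 4, 12, 7, 13]⟩]⟩,
 ⟨4, 5, 528, [], [⟨1, 527, []⟩], []⟩,
 ⟨12, 5, 106, [0, 8, 12, 13, 11, 12, 0, 2, 3, 1, 0, 2, 1, 2, 4, 3, 2, 0, 2, 0], [], [⟨1, 105, [0, 8, 12, 13, 11, 12]⟩, ⟨1, 76, []⟩, ⟨1, 76, []⟩, ⟨1, 78, []⟩, ⟨1, 77, []⟩, ⟨1, 126, []⟩, ⟨1, 104, [12, 8, 11, 4, 13, 11, 4, 11]⟩, ⟨1, 87, []⟩, ⟨1, 527, [4, 7, 11, 12, 11, 4, 12, 11]⟩]⟩,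
 ⟨4, 5, 530, [], [⟨1, 529, []⟩], []⟩]
theorem chk9 : and2 (D.chkL PF9 483) (Nat.beq (Nat.add 483 PF9.length) 531) = true := by decide +kernel

end H19.Th.DC
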