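import Mathlib
import Cfsg.Agent.H19.Th.DC.B

set_option autoImplicit false
set_option maxRecDepth 100000
set_option Elab.async false
set_option linter.all false

namespace H19.Th.DC
open H29

def PF10 : List DPf := [⟨12, 5, 106, [8, 13, 11, 4, 11, 12, 0, 2, 3, 1, 0, 2, 1, 2, 4, 3, 2, 0, 2, 0], [], [⟨1, 105, [8, 13, 11, 4, 11, 12]⟩, ⟨1, 76, []⟩, ⟨1, 77, []⟩, ⟨1, 81, []⟩, ⟨1, 77, []⟩, ⟨1, 81, []⟩, ⟨1, 81, []⟩, ⟨1, 126, []⟩, ⟨1, 104, [7, 11, 13, 11, 12, 8, 11, 4]⟩, ⟨1, 86, []⟩, ⟨1, 90, []⟩, ⟨1, 87, []⟩, ⟨1, 282, [11, 2, 12, 13, 11, 4, 12, 7]⟩]⟩,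
 ⟨4, 5, 532, [], [⟨1, 531, []⟩], []⟩,
 ⟨13, 5, 106, [2, 12, 8, 11, 4, 12, 0, 2, 3, 1, 2, 0, 1, 3, 2, 0], [], [⟨1, 105, [2, 12, 8, 11, 4, 12]⟩, ⟨1, 76, []⟩, ⟨1, 106, [12, 7, 12, 11, 12, 11, 4]⟩, ⟨1, 87, []⟩, ⟨1, 90, []⟩, ⟨1, 423, [2, 13, 11, 4, 12, 7]⟩]⟩,
 ⟨4, 5, 534, [], [⟨1, 533, []⟩], []⟩,
 ⟨6, 5, 108, [12, 13, 0, 2, 4, 3, 2, 0], [], [⟨1, 107, [12, 13]⟩, ⟨1, 76, []⟩, ⟨1, 78, []⟩, ⟨1, 77, []⟩, ⟨1, 78, []⟩, ⟨1, 81, []⟩, ⟨1, 81, []⟩, ⟨1, 77, []⟩, ⟨1, 81, []⟩, ⟨1, 126, []⟩, ⟨1, 106, [2, 12, 11, 12, 8, 11, 13, 11, 12]⟩, ⟨1, 90, []⟩, ⟨1, 423, [0, 11, 12, 7, 11, 12, 13, 11, 12, 8, 12]⟩]⟩,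
 ⟨4, 5, 536, [], [⟨1, 535, []⟩], []⟩,
 ⟨6, 5, 108, [4, 7, 12, 13, 0, 2, 4, 3, 2, 0], [], [⟨1, 107, [4, 7, 12, 13]⟩, ⟨1, 76, []⟩, ⟨1, 76, []⟩, ⟨1, 77, []⟩, ⟨1, 78, []⟩, ⟨1, 126, []⟩, ⟨1, 106, [2, 12, 11, 12, 11, 13, 11, 4, 12]⟩, ⟨1, 87, []⟩, ⟨1, 86, []⟩, ⟨1, 429, [0, 8, 12, 11, 13, 11, 12, 11, 12, 8]⟩]⟩,
 ⟨4, 5, 538, [], [⟨1, 537, []⟩], []⟩,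
 ⟨7, 5, 108, [0, 11, 13, 3, 1, 0, 2, 1, 3, 2, 0], [], [⟨1, 107, [0, 11, 13]⟩, ⟨1, 78, []⟩, ⟨1, 77, []⟩, ⟨1, 81, []⟩, ⟨1, 106, [2, 4, 11, 4, 13, 11, 4]⟩, ⟨1, 86, []⟩, ⟨1, 87, []⟩, ⟨1, 90, []⟩, ⟨1, 467, [7, 11, 2, 4, 11, 12]⟩]⟩,
 ⟨4, 5, 540, [], [⟨1, 539, []⟩], []⟩,
 ⟨7, 5, 108, [0, 7, 11, 12, 13, 3, 1, 0, 2, 1, 3, 2, 0], [], [⟨1, 107, [0, 7, 11, 12, 13]⟩, ⟨1, 76, []⟩, ⟨1, 77, []⟩, ⟨1, 78, []⟩, ⟨1, 81, []⟩, ⟨1, 126, []⟩, ⟨1, 104, [0, 7, 11, 13, 11, 4, 11, 4, 12, 8, 11]⟩, ⟨1, 86, []⟩, ⟨1, 90, []⟩, ⟨1, 87, []⟩, ⟨1, 90, []⟩, ⟨1, 90, []⟩, ⟨1, 328, [0, 7, 11, 4, 11, 13, 11, 12, 8, 12]⟩]⟩,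
 ⟨4, 5, 542, [], [⟨1, 541, []⟩], []⟩,
 ⟨7, 5, 108, [0, 4, 7, 13, 11, 4, 12, 3, 1, 0, 2, 1, 3, 2, 0], [], [⟨1, 107, [0, 4, 7, 13, 11, 4, 12]⟩, ⟨1, 81, []⟩, ⟨1, 126, []⟩, ⟨1, 91, [0, 12, 7, 11, 13, 11, 4, 12, 11, 4, 11]⟩, ⟨1, 90, []⟩, ⟨1, 90, []⟩, ⟨1, 207, [8, 12, 8, 11, 12, 8, 13, 11, 12, 11]⟩]⟩,
 ⟨4, 5, 544, [], [⟨1, 543, []⟩], []⟩,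
 ⟨7, 5, 108, [11, 13, 3, 1, 0, 2, 1, 3, 2, 0], [], [⟨1, 107, [11, 13]⟩, ⟨1, 81, []⟩, ⟨1, 81, []⟩, ⟨1, 77, []⟩, ⟨1, 106, [4, 11, 2, 4, 13, 11, 4, 12, 11]⟩, ⟨1, 86, []⟩, ⟨1, 87, []⟩, ⟨1, 86, []⟩, ⟨1, 90, []⟩, ⟨1, 467, [0, 7, 13, 11, 4, 11, 12, 11, 4, 13]⟩]⟩,
 ⟨4, 5, 546, [], [⟨1, 545, []⟩], []⟩,
 ⟨7, 5, 108, [13, 11, 4, 12, 3, 1, 0, 2, 1, 3, 2, 0], [], [⟨1, 107, [13, 11, 4, 12]⟩, ⟨1, 76, []⟩, ⟨1, 77, []⟩, ⟨1, 81, []⟩, ⟨1, 91, [2, 4, 7, 13, 11, 4]⟩, ⟨1, 86, []⟩, ⟨1, 90, []⟩, ⟨1, 90, []⟩, ⟨1, 207, [4, 11, 2, 12, 11, 13, 11, 12, 11]⟩]⟩,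
 ⟨4, 5, 548, [], [⟨1, 547, []⟩], []⟩,
 ⟨7, 5, 108, [12, 13, 11, 4, 3, 1, 0, 2, 1, 3, 2, 0], [], [⟨1, 107, [12, 13, 11, 4]⟩, ⟨1, 77, []⟩, ⟨1, 81, []⟩, ⟨1, 77, []⟩, ⟨1, 84, [7, 12, 8, 11, 2, 4, 11, 12, 8]⟩, ⟨1, 77, []⟩, ⟨1, 391, [7, 11, 4, 11, 4, 13, 11, 12, 11, 4]⟩]⟩,
 ⟨4, 5, 550, [], [⟨1, 549, []⟩], []⟩,
 ⟨7, 5, 108, [7, 11, 12, 13, 3, 1, 0, 2, 1, 3, 2, 0], [], [⟨1, 107, [7, 11, 12, 13]⟩, ⟨1, 76, []⟩, ⟨1, 78, []⟩, ⟨1, 77, []⟩, ⟨1, 78, []⟩, ⟨1, 81, []⟩, ⟨1, 81, []⟩, ⟨1, 77, []⟩, ⟨1, 126, []⟩, ⟨1, 104, [12, 7, 11, 12, 8, 12, 11, 4, 13]⟩, ⟨1, 87, []⟩, ⟨1, 86, []⟩, ⟨1, 318, [2, 11, 4, 12, 11, 4, 12, 13, 11]⟩]⟩,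
 ⟨4, 5, 552, [], [⟨1, 551, []⟩], []⟩,
 ⟨8, 5, 108, [2, 11, 4, 11, 12, 0, 2, 3, 4, 2, 1, 2, 0, 1, 3, 2, 0], [], [⟨1, 107, [2, 11, 4, 11, 12]⟩, ⟨1, 76, []⟩, ⟨1, 76, []⟩, ⟨1, 104, [2, 12, 7, 11, 12, 8, 13]⟩, ⟨1, 86, []⟩, ⟨1, 90, []⟩, ⟨1, 87, []⟩, ⟨1, 90, []⟩, ⟨1, 90, []⟩, ⟨1, 328, [2, 7, 11, 13, 11, 12, 8, 11, 12]⟩]⟩,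
 ⟨4, 5, 554, [], [⟨1, 553, []⟩], []⟩,
 ⟨8, 5, 108, [0, 4, 8, 12, 13, 11, 4, 0, 2, 3, 4, 2, 1, 2, 0, 1, 3, 2, 0], [], [⟨1, 107, [0, 4, 8, 12, 13, 11, 4]⟩, ⟨1, 76, []⟩, ⟨1, 76, []⟩, ⟨1, 78, []⟩, ⟨1, 77, []⟩, ⟨1, 78, []⟩, ⟨1, 126, []⟩, ⟨1, 106, [4, 8, 11, 2, 4, 13, 11, 4]⟩, ⟨1, 86, []⟩, ⟨1, 87, []⟩, ⟨1, 90, []⟩, ⟨1, 467, [11, 2, 4, 11, 12, 8, 12, 13, 11]⟩]⟩,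
 ⟨4, 5, 556, [], [⟨1, 555, []⟩], []⟩,
 ⟨8, 5, 108, [8, 11, 4, 12, 0, 2, 3, 4, 2, 1, 2, 0, 1, 3, 2, 0], [], [⟨1, 107, [8, 11, 4, 12]⟩, ⟨1, 77, []⟩, ⟨1, 102, [0, 4, 8, 11, 12, 8, 11, 4, 12, 13]⟩, ⟨1, 87, []⟩, ⟨1, 425, [0, 4, 12, 11, 12, 8, 12, 11, 4, 12]⟩]⟩,
 ⟨4, 5, 558, [], [⟨1, 557, []⟩], []⟩,
 ⟨8, 5, 108, [2, 4, 12, 0, 2, 3, 4, 2, 1, 2, 0, 1, 3, 2, 0], [], [⟨1, 107, [2, 4, 12]⟩, ⟨1, 76, []⟩, ⟨1, 76, []⟩, ⟨1, 104, [2, 8, 11, 12, 7, 11, 4, 13]⟩, ⟨1, 87, []⟩, ⟨1, 525, [7, 12, 13, 11, 4, 11, 12, 8, 13]⟩]⟩,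
 ⟨4, 5, 560, [], [⟨1, 559, []⟩], []⟩,
 ⟨8, 5, 108, [2, 11, 12, 7, 11, 12, 0, 2, 3, 4, 2, 1, 2, 0, 1, 3, 2, 0], [], [⟨1, 107, [2, 11, 12, 7, 11, 12]⟩, ⟨1, 77, []⟩, ⟨1, 102, [7, 12, 8, 13, 11, 2, 12, 8, 11, 12]⟩, ⟨1, 87, []⟩, ⟨1, 451, [4, 8, 11, 4, 12, 11, 12, 7, 12, 11, 12]⟩]⟩,
 ⟨4, 5, 562, [], [⟨1, 561, []⟩], []⟩,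
 ⟨8, 5, 108, [4, 8, 12, 13, 11, 4, 0, 2, 3, 4, 2, 1, 2, 0, 1, 3, 2, 0], [], [⟨1, 107, [4, 8, 12, 13, 11, 4]⟩, ⟨1, 76, []⟩, ⟨1, 76, []⟩, ⟨1, 78, []⟩, ⟨1, 77, []⟩, ⟨1, 78, []⟩, ⟨1, 126, []⟩, ⟨1, 106, [2, 8, 11, 4, 11]⟩, ⟨1, 86, []⟩, ⟨1, 87, []⟩, ⟨1, 90, []⟩, ⟨1, 87, []⟩, ⟨1, 226, [12, 13, 11, 4, 12, 7, 11, 12, 13]⟩]⟩,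
 ⟨4, 5, 564, [], [⟨1, 563, []⟩], []⟩,
 ⟨8, 5, 108, [4, 8, 11, 12, 11, 4, 0, 2, 3, 4, 2, 1, 2, 0, 1, 3, 2, 0], [], [⟨1, 107, [4, 8, 11, 12, 11, 4]⟩, ⟨1, 76, []⟩, ⟨1, 76, []⟩, ⟨1, 77, []⟩, ⟨1, 82, [13, 11, 4, 12, 11, 12, 8]⟩, ⟨1, 39, []⟩, ⟨1, 41, []⟩, ⟨1, 46, []⟩, ⟨1, 46, []⟩, ⟨1, 364, [2, 7, 11, 4, 11, 4, 12, 13, 11, 4, 12]⟩]⟩,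
 ⟨4, 5, 566, [], [⟨1, 565, []⟩], []⟩,
 ⟨8, 5, 108, [0, 12, 13, 11, 12, 0, 2, 3, 4, 2, 1, 2, 0, 1, 3, 2, 0], [], [⟨1, 107, [0, 12, 13, 11, 12]⟩, ⟨1, 76, []⟩, ⟨1, 77, []⟩, ⟨1, 78, []⟩, ⟨1, 81, []⟩, ⟨1, 81, []⟩, ⟨1, 77, []⟩, ⟨1, 81, []⟩, ⟨1, 126, []⟩, ⟨1, 106, [7, 11, 4, 11, 13, 11, 12, 7, 11, 13]⟩, ⟨1, 86, []⟩, ⟨1, 87, []⟩, ⟨1, 90, []⟩, ⟨1, 87, []⟩, ⟨1, 226, [4, 11, 2, 4, 12, 7, 11, 12, 11]⟩]⟩,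
 ⟨4, 5, 568, [], [⟨1, 567, []⟩], []⟩,
 ⟨8, 5, 108, [12, 7, 11, 12, 0, 2, 3, 4, 2, 1, 2, 0, 1, 3, 2, 0], [], [⟨1, 107, [12, 7, 11, 12]⟩, ⟨1, 77, []⟩, ⟨1, 102, [11, 4, 12, 8, 13, 11, 12, 11]⟩, ⟨1, 87, []⟩, ⟨1, 423, [0, 4, 13, 11, 4, 12, 7, 11, 4, 13]⟩]⟩,
 ⟨4, 5, 570, [], [⟨1, 569, []⟩], []⟩,
 ⟨8, 5, 108, [0, 8, 12, 13, 0, 2, 3, 4, 2, 1, 2, 0, 1, 3, 2, 0], [], [⟨1, 107, [0, 8, 12, 13]⟩, ⟨1, 76, []⟩, ⟨1, 76, []⟩, ⟨1, 78, []⟩, ⟨1, 77, []⟩, ⟨1, 78, []⟩, ⟨1, 126, []⟩, ⟨1, 106, [2, 4, 8, 11, 13, 11, 4]⟩, ⟨1, 90, []⟩, ⟨1, 90, []⟩, ⟨1, 90, []⟩, ⟨1, 86, []⟩, ⟨1, 425, [2, 13, 11, 4, 12, 8]⟩]⟩,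
 ⟨4, 5, 572, [], [⟨1, 571, []⟩], []⟩,
 ⟨9, 5, 108, [4, 12, 7, 11, 12, 0, 2, 4, 1, 0, 2, 1, 3, 2, 0], [], [⟨1, 107, [4, 12, 7, 11, 12]⟩, ⟨1, 76, []⟩, ⟨1, 76, []⟩, ⟨1, 77, []⟩, ⟨1, 82, [4, 7, 12, 11, 2, 12, 8, 12]⟩, ⟨1, 41, []⟩, ⟨1, 40, []⟩, ⟨1, 46, []⟩, ⟨1, 68, []⟩, ⟨1, 68, []⟩, ⟨1, 234, [2, 4, 11, 4, 11, 12, 11, 12, 8, 13]⟩]⟩,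
 ⟨4, 5, 574, [], [⟨1, 573, []⟩], []⟩,
 ⟨13, 5, 108, [8, 12, 7, 13, 11, 12, 0, 2, 3, 1, 2, 0, 1, 3, 2, 0], [], [⟨1, 107, [8, 12, 7, 13, 11, 12]⟩, ⟨1, 76, []⟩, ⟨1, 76, []⟩, ⟨1, 77, []⟩, ⟨1, 78, []⟩, ⟨1, 126, []⟩, ⟨1, 106, [0, 11, 4, 13, 11, 4, 11, 12, 7, 11, 13]⟩, ⟨1, 86, []⟩, ⟨1, 87, []⟩, ⟨1, 86, []⟩, ⟨1, 90, []⟩, ⟨1, 467, [2, 12, 8, 12, 11, 12, 7, 11, 13]⟩]⟩,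
 ⟨4, 5, 576, [], [⟨1, 575, []⟩], []⟩,
 ⟨13, 5, 108, [2, 4, 11, 12, 0, 2, 3, 1, 2, 0, 1, 3, 2, 0], [], [⟨1, 107, [2, 4, 11, 12]⟩, ⟨1, 76, []⟩, ⟨1, 76, []⟩, ⟨1, 104, [8, 12, 7, 13, 11, 2, 4, 11, 13]⟩, ⟨1, 90, []⟩, ⟨1, 86, []⟩, ⟨1, 90, []⟩, ⟨1, 505, [0, 4, 12, 7, 11, 4, 13, 11, 4, 12, 11, 12]⟩]⟩,
 ⟨4, 5, 578, [], [⟨1, 577, []⟩], []⟩]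
theorem chk10 : and2 (D.chkL PF10 531) (Nat.beq (Nat.add 531 PF10.length) 579) = true := by decide +kernel

def PF11 : List DPf := [⟨13, 5, 108, [7, 12, 8, 13, 11, 4, 12, 0, 2, 3, 1, 2, 0, 1, 3, 2, 0], [], [⟨1, 107, [7, 12, 8, 13, 11, 4, 12]⟩, ⟨1, 76, []⟩, ⟨1, 76, []⟩, ⟨1, 78, []⟩, ⟨1, 77, []⟩, ⟨1, 78, []⟩, ⟨1, 126, []⟩, ⟨1, 106, [12, 13, 11, 12, 7, 11, 12, 11, 4, 12]⟩, ⟨1, 86, []⟩, ⟨1, 90, []⟩, ⟨1, 90, []⟩, ⟨1, 86, []⟩, ⟨1, 449, [4, 12, 8, 11, 2, 13, 11, 4, 11]⟩]⟩,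
 ⟨4, 5, 580, [], [⟨1, 579, []⟩], []⟩,
 ⟨6, 3, 115, [13, 0, 2, 4, 3, 2, 0], [], [⟨1, 114, [13]⟩, ⟨1, 103, [0, 4, 11, 4, 13, 11, 12, 7]⟩, ⟨1, 77, []⟩, ⟨1, 81, []⟩, ⟨1, 77, []⟩, ⟨1, 78, []⟩, ⟨1, 126, []⟩, ⟨1, 389, [8, 11, 12, 8, 11]⟩]⟩,
 ⟨4, 3, 582, [], [⟨1, 581, []⟩], []⟩,
 ⟨7, 3, 115, [4, 12, 7, 11, 12, 3, 1, 0, 2, 1, 3, 2, 0], [], [⟨1, 114, [4, 12, 7, 11, 12]⟩, ⟨1, 87, []⟩, ⟨1, 90, []⟩, ⟨1, 90, []⟩, ⟨1, 128, [4, 11, 12, 11, 4, 12, 8, 13]⟩, ⟨1, 87, []⟩, ⟨1, 86, []⟩, ⟨1, 90, []⟩, ⟨1, 86, []⟩, ⟨1, 90, []⟩, ⟨1, 485, [4, 7, 12, 11, 12, 7, 11, 12, 13, 11]⟩]⟩,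
 ⟨4, 3, 584, [], [⟨1, 583, []⟩], []⟩,
 ⟨7, 3, 115, [12, 8, 11, 12, 3, 1, 0, 2, 1, 3, 2, 0], [], [⟨1, 114, [12, 8, 11, 12]⟩, ⟨1, 86, []⟩, ⟨1, 87, []⟩, ⟨1, 86, []⟩, ⟨1, 90, []⟩, ⟨1, 87, []⟩, ⟨1, 117, [13, 11, 12, 11, 4, 11, 13]⟩, ⟨1, 90, []⟩, ⟨1, 415, [0, 8, 12, 7, 11, 12, 8, 13, 11]⟩]⟩,
 ⟨4, 3, 586, [], [⟨1, 585, []⟩], []⟩,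
 ⟨7, 3, 115, [0, 7, 12, 13, 11, 4, 3, 1, 0, 2, 1, 3, 2, 0], [], [⟨1, 114, [0, 7, 12, 13, 11, 4]⟩, ⟨1, 87, []⟩, ⟨1, 93, [0, 4, 11, 13, 11, 12, 7, 11]⟩, ⟨1, 43, []⟩, ⟨1, 42, []⟩, ⟨1, 40, []⟩, ⟨1, 46, []⟩, ⟨1, 68, []⟩, ⟨1, 242, [2, 7, 11, 4, 11, 4, 13, 11]⟩]⟩,
 ⟨4, 3, 588, [], [⟨1, 587, []⟩], []⟩,
 ⟨9, 3, 115, [7, 12, 13, 11, 12, 0, 2, 4, 1, 0, 2, 1, 3, 2, 0], [], [⟨1, 114, [7, 12, 13, 11, 12]⟩, ⟨1, 103, [2, 4, 8, 11, 12, 8, 13, 11, 12, 8, 11]⟩, ⟨1, 78, []⟩, ⟨1, 77, []⟩, ⟨1, 78, []⟩, ⟨1, 81, []⟩, ⟨1, 126, []⟩, ⟨1, 344, [4, 7, 11, 2, 13, 11, 4, 12, 11]⟩]⟩,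
 ⟨4, 3, 590, [], [⟨1, 589, []⟩], []⟩,
 ⟨9, 3, 115, [4, 13, 11, 4, 0, 2, 4, 1, 0, 2, 1, 3, 2, 0], [], [⟨1, 114, [4, 13, 11, 4]⟩, ⟨1, 103, [0, 11, 13, 11, 12, 7, 11, 4, 11]⟩, ⟨1, 76, []⟩, ⟨1, 77, []⟩, ⟨1, 126, []⟩, ⟨1, 126, []⟩, ⟨1, 342, [7, 12, 11, 13, 11, 12, 11, 12]⟩]⟩,
 ⟨4, 3, 592, [], [⟨1, 591, []⟩], []⟩,
 ⟨12, 3, 115, [11, 12, 11, 13, 11, 4, 0, 2, 3, 1, 0, 2, 1, 2, 4, 3, 2, 0, 2, 0], [], [⟨1, 114, [11, 12, 11, 13, 11, 4]⟩, ⟨1, 86, []⟩, ⟨1, 87, []⟩, ⟨1, 86, []⟩, ⟨1, 90, []⟩, ⟨1, 128, [12, 7, 12, 11, 2, 12, 7, 12, 11, 4]⟩, ⟨1, 86, []⟩, ⟨1, 90, []⟩, ⟨1, 90, []⟩, ⟨1, 86, []⟩, ⟨1, 523, [2, 8, 12, 11, 4, 11, 13, 11, 12, 11]⟩]⟩,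
 ⟨4, 3, 594, [], [⟨1, 593, []⟩], []⟩,
 ⟨12, 3, 115, [0, 11, 12, 11, 4, 13, 0, 2, 3, 1, 0, 2, 1, 2, 4, 3, 2, 0, 2, 0], [], [⟨1, 114, [0, 11, 12, 11, 4, 13]⟩, ⟨1, 86, []⟩, ⟨1, 90, []⟩, ⟨1, 90, []⟩, ⟨1, 90, []⟩, ⟨1, 107, [11, 13, 11, 4]⟩, ⟨1, 76, []⟩, ⟨1, 76, []⟩, ⟨1, 78, []⟩, ⟨1, 77, []⟩, ⟨1, 81, []⟩, ⟨1, 77, []⟩, ⟨1, 81, []⟩, ⟨1, 401, [11, 12, 11, 12, 8, 12, 13, 11, 12]⟩]⟩,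
 ⟨4, 3, 596, [], [⟨1, 595, []⟩], []⟩,
 ⟨13, 3, 115, [12, 13, 11, 12, 0, 2, 3, 1, 2, 0, 1, 3, 2, 0], [], [⟨1, 114, [12, 13, 11, 12]⟩, ⟨1, 103, [4, 11, 4, 12, 7, 11, 4, 11, 13, 11]⟩, ⟨1, 76, []⟩, ⟨1, 77, []⟩, ⟨1, 78, []⟩, ⟨1, 81, []⟩, ⟨1, 383, [2, 4, 12, 8, 11, 4, 12, 11, 12, 7, 12]⟩]⟩,
 ⟨4, 3, 598, [], [⟨1, 597, []⟩], []⟩,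
 ⟨14, 3, 115, [11, 12, 11, 0, 2, 3, 2, 0, 2, 0], [], [⟨1, 114, [11, 12, 11]⟩, ⟨1, 103, [2, 12, 11, 12, 7, 13, 11, 4, 11]⟩, ⟨1, 76, []⟩, ⟨1, 77, []⟩, ⟨1, 78, []⟩, ⟨1, 81, []⟩, ⟨1, 77, []⟩, ⟨1, 81, []⟩, ⟨1, 81, []⟩, ⟨1, 387, [2, 12, 7, 12, 13, 11, 4, 12, 7, 11, 12]⟩]⟩,
 ⟨4, 3, 600, [], [⟨1, 599, []⟩], []⟩,
 ⟨5, 5, 116, [11, 12, 13, 3, 2, 0], [], [⟨1, 115, [11, 12, 13]⟩, ⟨1, 130, [0, 8, 11, 13, 11, 4, 11, 4, 13, 11]⟩, ⟨1, 86, []⟩, ⟨1, 87, []⟩, ⟨1, 90, []⟩, ⟨1, 90, []⟩, ⟨1, 86, []⟩, ⟨1, 551, [4, 11, 4, 11, 12, 7, 11, 4, 11, 12]⟩]⟩,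
 ⟨4, 5, 602, [], [⟨1, 601, []⟩], []⟩,
 ⟨7, 5, 116, [4, 8, 12, 13, 3, 1, 0, 2, 1, 3, 2, 0], [], [⟨1, 115, [4, 8, 12, 13]⟩, ⟨1, 39, []⟩, ⟨1, 46, []⟩, ⟨1, 46, []⟩, ⟨1, 68, []⟩, ⟨1, 68, []⟩, ⟨1, 83, [0, 4, 7, 11, 12, 7, 13, 11, 12, 7]⟩, ⟨1, 77, []⟩, ⟨1, 78, []⟩, ⟨1, 344, [2, 8, 11, 4, 11, 12, 8, 11, 13, 11]⟩]⟩,
 ⟨4, 5, 604, [], [⟨1, 603, []⟩], []⟩,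
 ⟨7, 5, 116, [2, 7, 12, 7, 11, 12, 3, 1, 0, 2, 1, 3, 2, 0], [], [⟨1, 115, [2, 7, 12, 7, 11, 12]⟩, ⟨1, 42, []⟩, ⟨1, 46, []⟩, ⟨1, 46, []⟩, ⟨1, 68, []⟩, ⟨1, 68, []⟩, ⟨1, 83, [0, 12, 7, 11, 12, 8, 13, 11, 4]⟩, ⟨1, 358, [7, 12, 11, 4, 13, 11, 4, 12, 11, 12]⟩]⟩,
 ⟨4, 5, 606, [], [⟨1, 605, []⟩], []⟩,
 ⟨7, 5, 116, [0, 8, 12, 11, 4, 13, 3, 1, 0, 2, 1, 3, 2, 0], [], [⟨1, 115, [0, 8, 12, 11, 4, 13]⟩, ⟨1, 39, []⟩, ⟨1, 42, []⟩, ⟨1, 46, []⟩, ⟨1, 68, []⟩, ⟨1, 83, [12, 7, 12, 11, 12, 7, 12, 11, 13]⟩, ⟨1, 360, [2, 8, 11, 4, 11, 12, 11, 12, 7, 13]⟩]⟩,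
 ⟨4, 5, 608, [], [⟨1, 607, []⟩], []⟩,
 ⟨7, 5, 116, [4, 7, 12, 8, 13, 11, 12, 3, 1, 0, 2, 1, 3, 2, 0], [], [⟨1, 115, [4, 7, 12, 8, 13, 11, 12]⟩, ⟨1, 39, []⟩, ⟨1, 43, []⟩, ⟨1, 41, []⟩, ⟨1, 46, []⟩, ⟨1, 68, []⟩, ⟨1, 119, [0, 12, 11, 4, 11, 12, 7, 12, 11]⟩, ⟨1, 87, []⟩, ⟨1, 86, []⟩, ⟨1, 90, []⟩, ⟨1, 469, [2, 7, 12, 11, 13, 11, 12, 8, 11, 12]⟩]⟩,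
 ⟨4, 5, 610, [], [⟨1, 609, []⟩], []⟩,
 ⟨7, 5, 116, [0, 4, 13, 11, 12, 3, 1, 0, 2, 1, 3, 2, 0], [], [⟨1, 115, [0, 4, 13, 11, 12]⟩, ⟨1, 39, []⟩, ⟨1, 42, []⟩, ⟨1, 46, []⟩, ⟨1, 46, []⟩, ⟨1, 68, []⟩, ⟨1, 150, [0, 8, 11, 12, 7, 11, 12, 11, 13, 11]⟩, ⟨1, 134, []⟩, ⟨1, 154, [2, 4, 7, 12, 11, 12, 11, 13]⟩]⟩,
 ⟨4, 5, 612, [], [⟨1, 611, []⟩], []⟩,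
 ⟨7, 5, 116, [11, 4, 12, 13, 11, 4, 12, 3, 1, 0, 2, 1, 3, 2, 0], [], [⟨1, 115, [11, 4, 12, 13, 11, 4, 12]⟩, ⟨1, 39, []⟩, ⟨1, 43, []⟩, ⟨1, 46, []⟩, ⟨1, 68, []⟩, ⟨1, 121, [0, 8, 13, 11, 4, 11, 12, 8, 13, 11]⟩, ⟨1, 86, []⟩, ⟨1, 87, []⟩, ⟨1, 86, []⟩, ⟨1, 90, []⟩, ⟨1, 86, []⟩, ⟨1, 90, []⟩, ⟨1, 405, [11, 4, 12, 11, 12, 8, 11, 12, 7, 13]⟩]⟩,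
 ⟨4, 5, 614, [], [⟨1, 613, []⟩], []⟩,
 ⟨7, 5, 116, [12, 7, 11, 12, 3, 1, 0, 2, 1, 3, 2, 0], [], [⟨1, 115, [12, 7, 11, 12]⟩, ⟨1, 39, []⟩, ⟨1, 43, []⟩, ⟨1, 46, []⟩, ⟨1, 46, []⟩, ⟨1, 68, []⟩, ⟨1, 150, [0, 4, 13, 11, 12, 8, 11, 4, 11]⟩, ⟨1, 162, [2, 4, 7, 13]⟩]⟩,
 ⟨4, 5, 616, [], [⟨1, 615, []⟩], []⟩,
 ⟨8, 5, 116, [4, 11, 4, 0, 2, 3, 4, 2, 1, 2, 0, 1, 3, 2, 0], [], [⟨1, 115, [4, 11, 4]⟩, ⟨1, 96, [8, 11, 13, 11, 12, 11, 4, 11, 4]⟩, ⟨1, 86, []⟩, ⟨1, 87, []⟩, ⟨1, 86, []⟩, ⟨1, 282, [0, 4, 11, 13, 11, 4, 11, 4, 13]⟩]⟩,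
 ⟨4, 5, 618, [], [⟨1, 617, []⟩], []⟩,
 ⟨8, 5, 116, [0, 7, 13, 11, 4, 12, 0, 2, 3, 4, 2, 1, 2, 0, 1, 3, 2, 0], [], [⟨1, 115, [0, 7, 13, 11, 4, 12]⟩, ⟨1, 39, []⟩, ⟨1, 43, []⟩, ⟨1, 42, []⟩, ⟨1, 185, [2, 4, 7, 11, 12, 11, 4, 11, 12]⟩, ⟨1, 134, []⟩, ⟨1, 175, [4, 12, 7, 11, 12, 7, 13, 11, 4, 12]⟩]⟩,
 ⟨4, 5, 620, [], [⟨1, 619, []⟩], []⟩,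
 ⟨8, 5, 116, [2, 12, 11, 12, 0, 2, 3, 4, 2, 1, 2, 0, 1, 3, 2, 0], [], [⟨1, 115, [2, 12, 11, 12]⟩, ⟨1, 96, [2, 4, 7, 12, 11, 13, 11, 12, 7, 12]⟩, ⟨1, 268, [12, 7, 13, 11, 2, 12, 8, 11, 12, 7, 13]⟩]⟩,
 ⟨4, 5, 622, [], [⟨1, 621, []⟩], []⟩,
 ⟨9, 5, 116, [4, 11, 12, 13, 0, 2, 4, 1, 0, 2, 1, 3, 2, 0], [], [⟨1, 115, [4, 11, 12, 13]⟩, ⟨1, 130, [8, 13, 11, 2, 4, 12, 11, 13]⟩, ⟨1, 86, []⟩, ⟨1, 87, []⟩, ⟨1, 86, []⟩, ⟨1, 90, []⟩, ⟨1, 90, []⟩, ⟨1, 90, []⟩, ⟨1, 511, [0, 11, 13, 11, 12, 7, 11]⟩]⟩,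
 ⟨4, 5, 624, [], [⟨1, 623, []⟩], []⟩,
 ⟨10, 5, 116, [8, 11, 12, 7, 11, 12, 0, 2, 3, 2, 0], [], [⟨1, 115, [8, 11, 12, 7, 11, 12]⟩, ⟨1, 39, []⟩, ⟨1, 41, []⟩, ⟨1, 40, []⟩, ⟨1, 46, []⟩, ⟨1, 46, []⟩, ⟨1, 68, []⟩, ⟨1, 68, []⟩, ⟨1, 114, [12, 8, 11, 13, 11, 12, 11, 4, 13, 11]⟩, ⟨1, 87, []⟩, ⟨1, 90, []⟩, ⟨1, 90, []⟩, ⟨1, 561, [0, 11, 4, 11, 12, 8, 11, 13, 11, 4, 11]⟩]⟩,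
 ⟨4, 5, 626, [], [⟨1, 625, []⟩], []⟩]
theorem chk11 : and2 (D.chkL PF11 579) (Nat.beq (Nat.add 579 PF11.length) 627) = true := by decide +kernel

def PF12 : List DPf := [⟨10, 5, 116, [8, 12, 13, 11, 4, 0, 2, 3, 2, 0], [], [⟨1, 115, [8, 12, 13, 11, 4]⟩, ⟨1, 39, []⟩, ⟨1, 46, []⟩, ⟨1, 46, []⟩, ⟨1, 68, []⟩, ⟨1, 68, []⟩, ⟨1, 83, [8, 11, 2, 13, 11, 12, 8, 11, 12, 8]⟩, ⟨1, 76, []⟩, ⟨1, 77, []⟩, ⟨1, 126, []⟩, ⟨1, 78, []⟩, ⟨1, 346, [2, 12, 8, 12, 11, 12, 11]⟩]⟩,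
 ⟨4, 5, 628, [], [⟨1, 627, []⟩], []⟩,
 ⟨10, 5, 116, [2, 11, 12, 11, 4, 0, 2, 3, 2, 0], [], [⟨1, 115, [2, 11, 12, 11, 4]⟩, ⟨1, 39, []⟩, ⟨1, 46, []⟩, ⟨1, 46, []⟩, ⟨1, 68, []⟩, ⟨1, 68, []⟩, ⟨1, 94, [7, 11, 12, 8, 11, 12, 13, 11, 12]⟩, ⟨1, 86, []⟩, ⟨1, 87, []⟩, ⟨1, 90, []⟩, ⟨1, 87, []⟩, ⟨1, 611, [7, 12, 11, 4, 12, 7, 11, 4, 13]⟩]⟩,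
 ⟨4, 5, 630, [], [⟨1, 629, []⟩], []⟩,
 ⟨10, 5, 116, [11, 4, 13, 11, 4, 0, 2, 3, 2, 0], [], [⟨1, 115, [11, 4, 13, 11, 4]⟩, ⟨1, 42, []⟩, ⟨1, 83, [0, 12, 11, 4, 12, 7, 13, 11, 12, 8]⟩, ⟨1, 77, []⟩, ⟨1, 78, []⟩, ⟨1, 81, []⟩, ⟨1, 77, []⟩, ⟨1, 340, [4, 11, 2, 4, 13, 11, 4, 12, 8]⟩]⟩,
 ⟨4, 5, 632, [], [⟨1, 631, []⟩], []⟩,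
 ⟨12, 5, 116, [4, 11, 13, 11, 4, 12, 0, 2, 3, 1, 0, 2, 1, 2, 4, 3, 2, 0, 2, 0], [], [⟨1, 115, [4, 11, 13, 11, 4, 12]⟩, ⟨1, 39, []⟩, ⟨1, 42, []⟩, ⟨1, 40, []⟩, ⟨1, 46, []⟩, ⟨1, 124, [0, 4, 8, 12, 13, 11, 4, 12, 7, 11]⟩, ⟨1, 39, []⟩, ⟨1, 41, []⟩, ⟨1, 40, []⟩, ⟨1, 68, []⟩, ⟨1, 583, [8, 12, 11, 2, 4, 12, 8, 13, 11, 12]⟩]⟩,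
 ⟨4, 5, 634, [], [⟨1, 633, []⟩], []⟩,
 ⟨12, 5, 116, [4, 12, 11, 4, 0, 2, 3, 1, 0, 2, 1, 2, 4, 3, 2, 0, 2, 0], [], [⟨1, 115, [4, 12, 11, 4]⟩, ⟨1, 39, []⟩, ⟨1, 43, []⟩, ⟨1, 42, []⟩, ⟨1, 46, []⟩, ⟨1, 46, []⟩, ⟨1, 121, [2, 4, 12, 8, 13, 11, 12, 7]⟩, ⟨1, 86, []⟩, ⟨1, 87, []⟩, ⟨1, 90, []⟩, ⟨1, 533, [2, 4, 7, 11, 12, 13, 11, 12]⟩]⟩,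
 ⟨4, 5, 636, [], [⟨1, 635, []⟩], []⟩,
 ⟨12, 5, 116, [11, 4, 11, 12, 11, 13, 11, 4, 0, 2, 3, 1, 0, 2, 1, 2, 4, 3, 2, 0, 2, 0], [], [⟨1, 115, [11, 4, 11, 12, 11, 13, 11, 4]⟩, ⟨1, 39, []⟩, ⟨1, 42, []⟩, ⟨1, 41, []⟩, ⟨1, 46, []⟩, ⟨1, 94, [2, 7, 12, 7, 11, 12, 8, 12, 13, 11, 12]⟩, ⟨1, 86, []⟩, ⟨1, 87, []⟩, ⟨1, 90, []⟩, ⟨1, 575, [2, 4, 13, 11, 12, 8, 11, 12, 8]⟩]⟩,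
 ⟨4, 5, 638, [], [⟨1, 637, []⟩], []⟩,
 ⟨13, 5, 116, [2, 7, 12, 11, 12, 0, 2, 3, 1, 2, 0, 1, 3, 2, 0], [], [⟨1, 115, [2, 7, 12, 11, 12]⟩, ⟨1, 96, [4, 12, 7, 13, 11, 12, 11]⟩, ⟨1, 87, []⟩, ⟨1, 90, []⟩, ⟨1, 86, []⟩, ⟨1, 193, [0, 12, 8, 13, 11, 12, 11, 12, 7, 12, 13]⟩]⟩,
 ⟨4, 5, 640, [], [⟨1, 639, []⟩], []⟩,
 ⟨15, 5, 116, [7, 0, 2, 5, 2, 0], [], [⟨1, 115, [7]⟩, ⟨1, 43, []⟩, ⟨1, 41, []⟩, ⟨1, 46, []⟩, ⟨1, 68, []⟩, ⟨1, 252, [7, 11, 13, 11, 12, 8, 11, 13]⟩]⟩,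
 ⟨4, 5, 642, [], [⟨1, 641, []⟩], []⟩,
 ⟨17, 5, 116, [12, 5, 5, 3, 6, 6, 2, 0], [], [⟨1, 115, [12]⟩, ⟨1, 43, []⟩, ⟨1, 42, []⟩, ⟨1, 68, []⟩, ⟨1, 68, []⟩, ⟨1, 130, [2, 11, 12, 8, 11, 4, 12, 11, 12, 8]⟩, ⟨1, 87, []⟩, ⟨1, 86, []⟩, ⟨1, 90, []⟩, ⟨1, 90, []⟩, ⟨1, 90, []⟩, ⟨1, 541, [4, 7, 13, 11, 12, 8, 11, 12, 11, 12]⟩]⟩,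
 ⟨4, 5, 644, [], [⟨1, 643, []⟩], []⟩,
 ⟨7, 5, 117, [8, 11, 13, 11, 12, 3, 1, 0, 2, 1, 3, 2, 0], [], [⟨1, 116, [8, 11, 13, 11, 12]⟩, ⟨1, 87, []⟩, ⟨1, 122, [11, 4, 12, 7, 11, 12, 7, 11, 4]⟩, ⟨1, 39, []⟩, ⟨1, 42, []⟩, ⟨1, 46, []⟩, ⟨1, 248, [2, 7, 11, 12, 11, 4, 11, 12, 7]⟩]⟩,
 ⟨4, 5, 646, [], [⟨1, 645, []⟩], []⟩,
 ⟨7, 5, 117, [4, 7, 11, 13, 11, 12, 3, 1, 0, 2, 1, 3, 2, 0], [], [⟨1, 116, [4, 7, 11, 13, 11, 12]⟩, ⟨1, 90, []⟩, ⟨1, 86, []⟩, ⟨1, 90, []⟩, ⟨1, 128, [2, 4, 13, 11, 12, 7, 11, 4, 12, 11, 4]⟩, ⟨1, 87, []⟩, ⟨1, 86, []⟩, ⟨1, 90, []⟩, ⟨1, 86, []⟩, ⟨1, 611, [8, 11, 13, 11, 12, 8, 11, 12, 8]⟩]⟩,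
 ⟨4, 5, 648, [], [⟨1, 647, []⟩], []⟩,
 ⟨8, 5, 117, [8, 13, 11, 12, 11, 4, 0, 2, 3, 4, 2, 1, 2, 0, 1, 3, 2, 0], [], [⟨1, 116, [8, 13, 11, 12, 11, 4]⟩, ⟨1, 90, []⟩, ⟨1, 90, []⟩, ⟨1, 86, []⟩, ⟨1, 90, []⟩, ⟨1, 118, [0, 7, 13, 11, 4, 12, 8, 11, 12, 7]⟩, ⟨1, 90, []⟩, ⟨1, 90, []⟩, ⟨1, 86, []⟩, ⟨1, 90, []⟩, ⟨1, 427, [0, 4, 11, 13, 11, 4, 12, 8, 11, 12]⟩]⟩,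
 ⟨4, 5, 650, [], [⟨1, 649, []⟩], []⟩,
 ⟨8, 5, 117, [0, 4, 8, 12, 13, 0, 2, 3, 4, 2, 1, 2, 0, 1, 3, 2, 0], [], [⟨1, 116, [0, 4, 8, 12, 13]⟩, ⟨1, 90, []⟩, ⟨1, 90, []⟩, ⟨1, 86, []⟩, ⟨1, 90, []⟩, ⟨1, 118, [0, 4, 11, 12, 7, 13, 11, 4, 11, 4]⟩, ⟨1, 86, []⟩, ⟨1, 87, []⟩, ⟨1, 86, []⟩, ⟨1, 413, [2, 12, 11, 4, 11, 4, 12, 13, 11, 12]⟩]⟩,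
 ⟨4, 5, 652, [], [⟨1, 651, []⟩], []⟩,
 ⟨8, 5, 117, [8, 12, 13, 11, 4, 0, 2, 3, 4, 2, 1, 2, 0, 1, 3, 2, 0], [], [⟨1, 116, [8, 12, 13, 11, 4]⟩, ⟨1, 90, []⟩, ⟨1, 90, []⟩, ⟨1, 86, []⟩, ⟨1, 90, []⟩, ⟨1, 118, [4, 11, 2, 12, 7, 11, 4, 13]⟩, ⟨1, 90, []⟩, ⟨1, 90, []⟩, ⟨1, 90, []⟩, ⟨1, 499, [0, 4, 8, 11, 13, 11, 12, 11, 4, 11]⟩]⟩,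
 ⟨4, 5, 654, [], [⟨1, 653, []⟩], []⟩,
 ⟨9, 5, 117, [4, 8, 12, 11, 4, 0, 2, 4, 1, 0, 2, 1, 3, 2, 0], [], [⟨1, 116, [4, 8, 12, 11, 4]⟩, ⟨1, 87, []⟩, ⟨1, 90, []⟩, ⟨1, 86, []⟩, ⟨1, 97, [0, 8, 12, 11, 12, 13, 11, 12]⟩, ⟨1, 39, []⟩, ⟨1, 43, []⟩, ⟨1, 41, []⟩, ⟨1, 46, []⟩, ⟨1, 68, []⟩, ⟨1, 68, []⟩, ⟨1, 286, [2, 12, 13, 11, 4, 11, 12]⟩]⟩,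
 ⟨4, 5, 656, [], [⟨1, 655, []⟩], []⟩,
 ⟨9, 5, 117, [8, 12, 8, 13, 11, 4, 12, 0, 2, 4, 1, 0, 2, 1, 3, 2, 0], [], [⟨1, 116, [8, 12, 8, 13, 11, 4, 12]⟩, ⟨1, 86, []⟩, ⟨1, 87, []⟩, ⟨1, 90, []⟩, ⟨1, 90, []⟩, ⟨1, 90, []⟩, ⟨1, 111, [0, 12, 7, 12, 11, 13, 11, 4]⟩, ⟨1, 86, []⟩, ⟨1, 87, []⟩, ⟨1, 455, [11, 12, 11, 4, 11, 12, 7, 11, 12]⟩]⟩,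
 ⟨4, 5, 658, [], [⟨1, 657, []⟩], []⟩,
 ⟨10, 5, 117, [12, 8, 11, 4, 12, 0, 2, 3, 2, 0], [], [⟨1, 116, [12, 8, 11, 4, 12]⟩, ⟨1, 90, []⟩, ⟨1, 90, []⟩, ⟨1, 90, []⟩, ⟨1, 108, [4, 12, 11, 4, 12, 13, 11, 12, 7, 12]⟩, ⟨1, 86, []⟩, ⟨1, 87, []⟩, ⟨1, 86, []⟩, ⟨1, 90, []⟩, ⟨1, 86, []⟩, ⟨1, 409, [0, 4, 11, 4, 13, 11, 4, 12, 11]⟩]⟩,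
 ⟨4, 5, 660, [], [⟨1, 659, []⟩], []⟩,
 ⟨12, 5, 117, [11, 4, 13, 11, 4, 0, 2, 3, 1, 0, 2, 1, 2, 4, 3, 2, 0, 2, 0], [], [⟨1, 116, [11, 4, 13, 11, 4]⟩, ⟨1, 86, []⟩, ⟨1, 90, []⟩, ⟨1, 90, []⟩, ⟨1, 86, []⟩, ⟨1, 489, [0, 4, 7, 12, 11, 12, 7, 12, 13, 11]⟩, ⟨1, 176, [0, 4, 7, 11, 12, 7, 11, 12, 11, 4]⟩]⟩,
 ⟨4, 5, 662, [], [⟨1, 661, []⟩], []⟩,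
 ⟨12, 5, 117, [12, 7, 11, 12, 13, 0, 2, 3, 1, 0, 2, 1, 2, 4, 3, 2, 0, 2, 0], [], [⟨1, 116, [12, 7, 11, 12, 13]⟩, ⟨1, 86, []⟩, ⟨1, 87, []⟩, ⟨1, 90, []⟩, ⟨1, 127, [4, 8, 11, 4, 13, 11, 4]⟩, ⟨1, 86, []⟩, ⟨1, 87, []⟩, ⟨1, 90, []⟩, ⟨1, 90, []⟩, ⟨1, 86, []⟩, ⟨1, 447, [12, 11, 4, 12, 11, 12, 7, 13, 11]⟩]⟩,
 ⟨4, 5, 664, [], [⟨1, 663, []⟩], []⟩,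
 ⟨13, 5, 117, [4, 13, 11, 12, 11, 4, 0, 2, 3, 1, 2, 0, 1, 3, 2, 0], [], [⟨1, 116, [4, 13, 11, 12, 11, 4]⟩, ⟨1, 86, []⟩, ⟨1, 87, []⟩, ⟨1, 90, []⟩, ⟨1, 90, []⟩, ⟨1, 90, []⟩, ⟨1, 111, [0, 11, 13, 11, 4, 12, 11, 12, 8]⟩, ⟨1, 90, []⟩, ⟨1, 87, []⟩, ⟨1, 90, []⟩, ⟨1, 284, [11, 13, 11, 12, 8, 11, 4, 13, 11, 12]⟩]⟩,
 ⟨4, 5, 666, [], [⟨1, 665, []⟩], []⟩,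
 ⟨7, 5, 118, [0, 8, 11, 4, 12, 13, 3, 1, 0, 2, 1, 3, 2, 0], [], [⟨1, 117, [0, 8, 11, 4, 12, 13]⟩, ⟨1, 90, []⟩, ⟨1, 90, []⟩, ⟨1, 86, []⟩, ⟨1, 128, [7, 12, 8, 13, 11, 4, 11, 4]⟩, ⟨1, 87, []⟩, ⟨1, 90, []⟩, ⟨1, 533, [4, 12, 8, 11, 2, 12, 7, 11, 12, 11]⟩]⟩,
 ⟨4, 5, 668, [], [⟨1, 667, []⟩], []⟩,
 ⟨7, 5, 118, [2, 7, 11, 4, 12, 3, 1, 0, 2, 1, 3, 2, 0], [], [⟨1, 117, [2, 7, 11, 4, 12]⟩, ⟨1, 86, []⟩, ⟨1, 87, []⟩, ⟨1, 90, []⟩, ⟨1, 90, []⟩, ⟨1, 90, []⟩, ⟨1, 110, [0, 4, 8, 11, 12, 8, 11, 12, 8, 13]⟩, ⟨1, 503, [7, 11, 2, 4, 11, 13, 11, 4, 12, 11]⟩]⟩,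
 ⟨4, 5, 670, [], [⟨1, 669, []⟩], []⟩,
 ⟨7, 5, 118, [0, 11, 4, 13, 3, 1, 0, 2, 1, 3, 2, 0], [], [⟨1, 117, [0, 11, 4, 13]⟩, ⟨1, 90, []⟩, ⟨1, 86, []⟩, ⟨1, 90, []⟩, ⟨1, 116, [0, 7, 11, 4, 12, 13, 11, 12, 7, 11, 13]⟩, ⟨1, 86, []⟩, ⟨1, 87, []⟩, ⟨1, 86, []⟩, ⟨1, 90, []⟩, ⟨1, 87, []⟩, ⟨1, 453, [4, 11, 12, 11, 4, 13, 11, 12, 8, 11]⟩]⟩,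
 ⟨4, 5, 672, [], [⟨1, 671, []⟩], []⟩]
theorem chk12 : and2 (D.chkL PF12 627) (Nat.beq (Nat.add 627 PF12.length) 673) = true := by decide +kernel

def PF13 : List DPf := [⟨8, 5, 118, [0, 7, 13, 11, 12, 0, 2, 3, 4, 2, 1, 2, 0, 1, 3, 2, 0], [], [⟨1, 117, [0, 7, 13, 11, 12]⟩, ⟨1, 86, []⟩, ⟨1, 87, []⟩, ⟨1, 86, []⟩, ⟨1, 132, [8, 11, 2, 12, 11, 4, 13]⟩, ⟨1, 87, []⟩, ⟨1, 90, []⟩, ⟨1, 90, []⟩, ⟨1, 86, []⟩, ⟨1, 501, [12, 8, 11, 2, 12, 8, 11, 4, 12, 13]⟩]⟩,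
 ⟨4, 5, 674, [], [⟨1, 673, []⟩], []⟩,
 ⟨8, 5, 118, [0, 8, 11, 13, 11, 12, 0, 2, 3, 4, 2, 1, 2, 0, 1, 3, 2, 0], [], [⟨1, 117, [0, 8, 11, 13, 11, 12]⟩, ⟨1, 657, [2, 8, 11, 4, 12, 11, 12, 7, 13]⟩, ⟨1, 182, [11, 12, 8, 12, 11, 12, 8, 13]⟩]⟩,
 ⟨4, 5, 676, [], [⟨1, 675, []⟩], []⟩,
 ⟨9, 5, 118, [8, 12, 11, 12, 0, 2, 4, 1, 0, 2, 1, 3, 2, 0], [], [⟨1, 117, [8, 12, 11, 12]⟩, ⟨1, 97, [11, 12, 11, 13, 11, 12, 7]⟩, ⟨1, 39, []⟩, ⟨1, 43, []⟩, ⟨1, 68, []⟩, ⟨1, 68, []⟩, ⟨1, 591, [0, 12, 8, 11, 12, 8, 11, 4, 13, 11]⟩]⟩,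
 ⟨4, 5, 678, [], [⟨1, 677, []⟩], []⟩,
 ⟨9, 5, 118, [8, 12, 13, 11, 4, 0, 2, 4, 1, 0, 2, 1, 3, 2, 0], [], [⟨1, 117, [8, 12, 13, 11, 4]⟩, ⟨1, 86, []⟩, ⟨1, 116, [11, 2, 4, 12, 7, 11, 12, 13, 11]⟩, ⟨1, 87, []⟩, ⟨1, 90, []⟩, ⟨1, 87, []⟩, ⟨1, 545, [7, 12, 7, 11, 2, 13, 11]⟩]⟩,
 ⟨4, 5, 680, [], [⟨1, 679, []⟩], []⟩,
 ⟨9, 5, 118, [8, 12, 7, 13, 11, 4, 12, 0, 2, 4, 1, 0, 2, 1, 3, 2, 0], [], [⟨1, 117, [8, 12, 7, 13, 11, 4, 12]⟩, ⟨1, 86, []⟩, ⟨1, 87, []⟩, ⟨1, 86, []⟩, ⟨1, 132, [11, 2, 12, 7, 11, 4, 11, 12, 8, 11]⟩, ⟨1, 90, []⟩, ⟨1, 90, []⟩, ⟨1, 90, []⟩, ⟨1, 493, [2, 7, 12, 11, 13, 11, 4, 12, 11]⟩]⟩,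
 ⟨4, 5, 682, [], [⟨1, 681, []⟩], []⟩,
 ⟨10, 5, 118, [4, 7, 12, 0, 2, 3, 2, 0], [], [⟨1, 117, [4, 7, 12]⟩, ⟨1, 87, []⟩, ⟨1, 90, []⟩, ⟨1, 86, []⟩, ⟨1, 127, [0, 13, 11, 12, 7, 12, 11, 4, 12, 7]⟩, ⟨1, 86, []⟩, ⟨1, 90, []⟩, ⟨1, 86, []⟩, ⟨1, 90, []⟩, ⟨1, 661, [2, 4, 12, 8, 11, 12, 8, 11, 12, 8, 13]⟩]⟩,
 ⟨4, 5, 684, [], [⟨1, 683, []⟩], []⟩,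
 ⟨12, 5, 118, [4, 8, 11, 12, 0, 2, 3, 1, 0, 2, 1, 2, 4, 3, 2, 0, 2, 0], [], [⟨1, 117, [4, 8, 11, 12]⟩, ⟨1, 86, []⟩, ⟨1, 90, []⟩, ⟨1, 86, []⟩, ⟨1, 116, [0, 8, 11, 4, 11, 12, 11, 13, 11]⟩, ⟨1, 90, []⟩, ⟨1, 90, []⟩, ⟨1, 332, [8, 12, 13, 11, 12]⟩]⟩,
 ⟨4, 5, 686, [], [⟨1, 685, []⟩], []⟩,
 ⟨13, 5, 118, [4, 8, 13, 11, 12, 0, 2, 3, 1, 2, 0, 1, 3, 2, 0], [], [⟨1, 117, [4, 8, 13, 11, 12]⟩, ⟨1, 86, []⟩, ⟨1, 116, [12, 8, 13, 11, 4, 11, 12, 8, 11]⟩, ⟨1, 90, []⟩, ⟨1, 90, []⟩, ⟨1, 332, [2, 12, 11, 4, 11, 13, 11, 12]⟩]⟩,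
 ⟨4, 5, 688, [], [⟨1, 687, []⟩], []⟩,
 ⟨13, 5, 118, [0, 12, 7, 13, 11, 12, 0, 2, 3, 1, 2, 0, 1, 3, 2, 0], [], [⟨1, 117, [0, 12, 7, 13, 11, 12]⟩, ⟨1, 86, []⟩, ⟨1, 116, [11, 4, 12, 7, 11, 13, 11, 12, 7, 11]⟩, ⟨1, 86, []⟩, ⟨1, 87, []⟩, ⟨1, 90, []⟩, ⟨1, 90, []⟩, ⟨1, 86, []⟩, ⟨1, 433, [7, 11, 4, 13, 11, 12, 8, 12, 11]⟩]⟩,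
 ⟨4, 5, 690, [], [⟨1, 689, []⟩], []⟩,
 ⟨14, 5, 118, [11, 4, 12, 7, 11, 12, 0, 2, 3, 2, 0, 2, 0], [], [⟨1, 117, [11, 4, 12, 7, 11, 12]⟩, ⟨1, 86, []⟩, ⟨1, 87, []⟩, ⟨1, 86, []⟩, ⟨1, 132, [0, 8, 11, 4, 11, 12, 11, 4]⟩, ⟨1, 87, []⟩, ⟨1, 86, []⟩, ⟨1, 90, []⟩, ⟨1, 86, []⟩, ⟨1, 90, []⟩, ⟨1, 463, [2, 8, 12, 11, 4, 12, 11, 12]⟩]⟩,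
 ⟨4, 5, 692, [], [⟨1, 691, []⟩], []⟩,
 ⟨7, 5, 119, [0, 4, 8, 11, 12, 13, 3, 1, 0, 2, 1, 3, 2, 0], [], [⟨1, 118, [0, 4, 8, 11, 12, 13]⟩, ⟨1, 87, []⟩, ⟨1, 90, []⟩, ⟨1, 90, []⟩, ⟨1, 117, [7, 12, 11, 4, 12, 8, 11, 4, 12]⟩, ⟨1, 87, []⟩, ⟨1, 90, []⟩, ⟨1, 86, []⟩, ⟨1, 90, []⟩, ⟨1, 521, [4, 12, 7, 11, 4, 11]⟩]⟩,
 ⟨4, 5, 694, [], [⟨1, 693, []⟩], []⟩,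
 ⟨7, 5, 119, [8, 11, 12, 13, 11, 4, 3, 1, 0, 2, 1, 3, 2, 0], [], [⟨1, 118, [8, 11, 12, 13, 11, 4]⟩, ⟨1, 86, []⟩, ⟨1, 90, []⟩, ⟨1, 87, []⟩, ⟨1, 90, []⟩, ⟨1, 260, [7, 11, 12, 7, 11, 13, 11, 4]⟩, ⟨1, 135, []⟩, ⟨1, 168, [0, 11, 13, 11, 4, 11, 12, 7, 12, 11]⟩]⟩,
 ⟨4, 5, 696, [], [⟨1, 695, []⟩], []⟩,
 ⟨8, 5, 119, [8, 11, 12, 11, 4, 0, 2, 3, 4, 2, 1, 2, 0, 1, 3, 2, 0], [], [⟨1, 118, [8, 11, 12, 11, 4]⟩, ⟨1, 87, []⟩, ⟨1, 90, []⟩, ⟨1, 87, []⟩, ⟨1, 118, [2, 4, 13, 11, 12, 8, 12, 11, 4]⟩, ⟨1, 86, []⟩, ⟨1, 90, []⟩, ⟨1, 87, []⟩, ⟨1, 90, []⟩, ⟨1, 571, [11, 13, 11, 12, 11, 12]⟩]⟩,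
 ⟨4, 5, 698, [], [⟨1, 697, []⟩], []⟩,
 ⟨8, 5, 119, [2, 8, 11, 4, 12, 0, 2, 3, 4, 2, 1, 2, 0, 1, 3, 2, 0], [], [⟨1, 118, [2, 8, 11, 4, 12]⟩, ⟨1, 87, []⟩, ⟨1, 90, []⟩, ⟨1, 87, []⟩, ⟨1, 118, [0, 4, 7, 11, 13, 11, 12, 7, 11, 4]⟩, ⟨1, 90, []⟩, ⟨1, 86, []⟩, ⟨1, 673, [4, 8, 11, 4, 12, 11, 12, 8, 11]⟩]⟩,
 ⟨4, 5, 700, [], [⟨1, 699, []⟩], []⟩,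
 ⟨9, 5, 119, [4, 8, 12, 11, 0, 2, 4, 1, 0, 2, 1, 3, 2, 0], [], [⟨1, 118, [4, 8, 12, 11]⟩, ⟨1, 87, []⟩, ⟨1, 90, []⟩, ⟨1, 87, []⟩, ⟨1, 118, [8, 13, 11, 4, 12, 11, 4, 13]⟩, ⟨1, 90, []⟩, ⟨1, 86, []⟩, ⟨1, 517, [12, 8, 11, 2, 12, 7, 11, 12, 8, 13]⟩]⟩,
 ⟨4, 5, 702, [], [⟨1, 701, []⟩], []⟩,
 ⟨12, 5, 119, [7, 12, 7, 11, 12, 13, 0, 2, 3, 1, 0, 2, 1, 2, 4, 3, 2, 0, 2, 0], [], [⟨1, 118, [7, 12, 7, 11, 12, 13]⟩, ⟨1, 111, [13, 11, 4, 11, 12, 11]⟩, ⟨1, 86, []⟩, ⟨1, 481, [12, 11, 4, 11, 12, 8, 11, 4]⟩]⟩,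
 ⟨4, 5, 704, [], [⟨1, 703, []⟩], []⟩,
 ⟨13, 5, 119, [11, 4, 12, 11, 4, 0, 2, 3, 1, 2, 0, 1, 3, 2, 0], [], [⟨1, 118, [11, 4, 12, 11, 4]⟩, ⟨1, 90, []⟩, ⟨1, 86, []⟩, ⟨1, 117, [7, 12, 11, 12, 11, 4, 13, 11, 4, 11]⟩, ⟨1, 300, [11, 12, 11, 12, 8, 12, 11, 4, 12]⟩]⟩,
 ⟨4, 5, 706, [], [⟨1, 705, []⟩], []⟩,
 ⟨13, 5, 119, [4, 12, 11, 4, 0, 2, 3, 1, 2, 0, 1, 3, 2, 0], [], [⟨1, 118, [4, 12, 11, 4]⟩, ⟨1, 90, []⟩, ⟨1, 86, []⟩, ⟨1, 117, [12, 13, 11, 2, 12, 7, 12]⟩, ⟨1, 86, []⟩, ⟨1, 87, []⟩, ⟨1, 90, []⟩, ⟨1, 90, []⟩, ⟨1, 499, [4, 8, 11, 2, 12, 8, 11, 12, 13, 11]⟩]⟩,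
 ⟨4, 5, 708, [], [⟨1, 707, []⟩], []⟩,
 ⟨16, 5, 119, [7, 0, 2, 6, 2, 0, 2, 0], [], [⟨1, 118, [7]⟩, ⟨1, 87, []⟩, ⟨1, 90, []⟩, ⟨1, 87, []⟩, ⟨1, 537, [4, 11, 12, 7, 11, 12, 8, 11, 12, 7]⟩]⟩,
 ⟨4, 5, 710, [], [⟨1, 709, []⟩], []⟩,
 ⟨7, 5, 109, [8, 13, 11, 12, 3, 1, 0, 2, 1, 3, 2, 0], [], [⟨1, 108, [8, 13, 11, 12]⟩, ⟨1, 87, []⟩, ⟨1, 112, [7, 11, 13, 11]⟩, ⟨1, 86, []⟩, ⟨1, 87, []⟩, ⟨1, 90, []⟩, ⟨1, 86, []⟩, ⟨1, 90, []⟩, ⟨1, 615, [7, 12, 7, 11, 2, 12, 7, 11, 4, 11]⟩]⟩,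
 ⟨4, 5, 712, [], [⟨1, 711, []⟩], []⟩,
 ⟨8, 5, 109, [11, 4, 11, 12, 0, 2, 3, 4, 2, 1, 2, 0, 1, 3, 2, 0], [], [⟨1, 108, [11, 4, 11, 12]⟩, ⟨1, 103, [0, 4, 11, 4, 12, 8, 13]⟩, ⟨1, 77, []⟩, ⟨1, 81, []⟩, ⟨1, 77, []⟩, ⟨1, 78, []⟩, ⟨1, 126, []⟩, ⟨1, 389, [7, 11, 12, 13, 11, 12, 8, 11, 12, 13]⟩]⟩,
 ⟨4, 5, 714, [], [⟨1, 713, []⟩], []⟩,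
 ⟨8, 5, 109, [2, 11, 4, 12, 0, 2, 3, 4, 2, 1, 2, 0, 1, 3, 2, 0], [], [⟨1, 108, [2, 11, 4, 12]⟩, ⟨1, 103, [7, 12, 7, 11, 2, 4, 12, 13]⟩, ⟨1, 77, []⟩, ⟨1, 78, []⟩, ⟨1, 81, []⟩, ⟨1, 126, []⟩, ⟨1, 78, []⟩, ⟨1, 362, [4, 11, 12, 8, 11, 12]⟩]⟩,
 ⟨4, 5, 716, [], [⟨1, 715, []⟩], []⟩,
 ⟨9, 5, 109, [4, 11, 12, 8, 12, 11, 12, 0, 2, 4, 1, 0, 2, 1, 3, 2, 0], [], [⟨1, 108, [4, 11, 12, 8, 12, 11, 12]⟩, ⟨1, 103, [7, 12, 11, 12, 8, 11, 4, 11, 12, 11]⟩, ⟨1, 76, []⟩, ⟨1, 76, []⟩, ⟨1, 78, []⟩, ⟨1, 77, []⟩, ⟨1, 78, []⟩, ⟨1, 362, [2, 4, 7, 13, 11, 12, 7, 11, 4, 13, 11]⟩]⟩,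
 ⟨4, 5, 718, [], [⟨1, 717, []⟩], []⟩,
 ⟨9, 5, 109, [11, 4, 12, 7, 11, 12, 0, 2, 4, 1, 0, 2, 1, 3, 2, 0], [], [⟨1, 108, [11, 4, 12, 7, 11, 12]⟩, ⟨1, 86, []⟩, ⟨1, 87, []⟩, ⟨1, 90, []⟩, ⟨1, 92, [0, 11, 4, 12, 11, 4, 13, 11, 4, 12, 11]⟩, ⟨1, 78, []⟩, ⟨1, 77, []⟩, ⟨1, 81, []⟩, ⟨1, 77, []⟩, ⟨1, 126, []⟩, ⟨1, 348, [12, 11, 13, 11, 12, 11, 12]⟩]⟩,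
 ⟨4, 5, 720, [], [⟨1, 719, []⟩], []⟩,
 ⟨9, 5, 109, [11, 4, 11, 12, 0, 2, 4, 1, 0, 2, 1, 3, 2, 0], [], [⟨1, 108, [11, 4, 11, 12]⟩, ⟨1, 103, [0, 4, 11, 12, 8]⟩, ⟨1, 76, []⟩, ⟨1, 76, []⟩, ⟨1, 78, []⟩, ⟨1, 77, []⟩, ⟨1, 78, []⟩, ⟨1, 358, [4, 12, 11, 13, 11, 4, 11, 4, 12, 13, 11]⟩]⟩]
theorem chk13 : and2 (D.chkL PF13 673) (Nat.beq (Nat.add 673 PF13.length) 722) = true := by decide +kernel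

def PF14 : List DPf := [⟨4, 5, 722, [], [⟨1, 721, []⟩], []⟩,
 ⟨10, 5, 109, [0, 7, 12, 11, 4, 13, 0, 2, 3, 2, 0], [], [⟨1, 108, [0, 7, 12, 11, 4, 13]⟩, ⟨1, 90, []⟩, ⟨1, 90, []⟩, ⟨1, 86, []⟩, ⟨1, 90, []⟩, ⟨1, 128, [0, 7, 13, 11, 4, 11, 4, 13, 11, 12]⟩, ⟨1, 86, []⟩, ⟨1, 87, []⟩, ⟨1, 86, []⟩, ⟨1, 90, []⟩, ⟨1, 90, []⟩, ⟨1, 90, []⟩, ⟨1, 553, [0, 7, 13, 11, 4, 11, 12, 11, 12, 7, 13]⟩]⟩,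
 ⟨4, 5, 724, [], [⟨1, 723, []⟩], []⟩,
 ⟨12, 5, 109, [13, 11, 12, 11, 4, 0, 2, 3, 1, 0, 2, 1, 2, 4, 3, 2, 0, 2, 0], [], [⟨1, 108, [13, 11, 12, 11, 4]⟩, ⟨1, 86, []⟩, ⟨1, 87, []⟩, ⟨1, 86, []⟩, ⟨1, 90, []⟩, ⟨1, 90, []⟩, ⟨1, 112, [2, 4, 11, 12, 8, 12, 13, 11, 12]⟩, ⟨1, 87, []⟩, ⟨1, 86, []⟩, ⟨1, 715, [8, 12, 13, 11, 4, 12, 11, 12, 13, 11]⟩]⟩,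
 ⟨4, 5, 726, [], [⟨1, 725, []⟩], []⟩,
 ⟨13, 5, 109, [12, 11, 4, 13, 11, 12, 0, 2, 3, 1, 2, 0, 1, 3, 2, 0], [], [⟨1, 108, [12, 11, 4, 13, 11, 12]⟩, ⟨1, 419, [4, 7, 11, 4, 11, 13, 11, 12, 8, 11, 13]⟩, ⟨1, 135, []⟩, ⟨1, 134, []⟩, ⟨1, 179, [8, 11, 2, 12, 8, 11, 13, 11, 4, 12]⟩]⟩,
 ⟨4, 5, 728, [], [⟨1, 727, []⟩], []⟩,
 ⟨8, 5, 110, [2, 4, 11, 4, 12, 0, 2, 3, 4, 2, 1, 2, 0, 1, 3, 2, 0], [], [⟨1, 109, [2, 4, 11, 4, 12]⟩, ⟨1, 86, []⟩, ⟨1, 90, []⟩, ⟨1, 90, []⟩, ⟨1, 97, [11, 12, 13, 11, 12, 8, 11, 12]⟩, ⟨1, 43, []⟩, ⟨1, 41, []⟩, ⟨1, 40, []⟩, ⟨1, 46, []⟩, ⟨1, 316, [0, 4, 12, 11, 4, 13, 11, 4, 11, 12, 8]⟩]⟩,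
 ⟨4, 5, 730, [], [⟨1, 729, []⟩], []⟩,
 ⟨16, 5, 113, [0, 2, 6, 2, 0, 2, 0], [], [⟨1, 112, []⟩, ⟨1, 90, []⟩, ⟨1, 90, []⟩, ⟨1, 336, [2, 8, 13, 11, 12, 11, 13]⟩]⟩,
 ⟨4, 5, 732, [], [⟨1, 731, []⟩], []⟩,
 ⟨7, 5, 114, [0, 4, 7, 13, 11, 12, 3, 1, 0, 2, 1, 3, 2, 0], [], [⟨1, 113, [0, 4, 7, 13, 11, 12]⟩, ⟨1, 87, []⟩, ⟨1, 86, []⟩, ⟨1, 90, []⟩, ⟨1, 86, []⟩, ⟨1, 128, [2, 4, 8, 11, 4, 12, 11, 4, 11]⟩, ⟨1, 87, []⟩, ⟨1, 86, []⟩, ⟨1, 90, []⟩, ⟨1, 86, []⟩, ⟨1, 90, []⟩, ⟨1, 603, [7, 12, 11, 12, 11, 4, 13, 11]⟩]⟩,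
 ⟨4, 5, 734, [], [⟨1, 733, []⟩], []⟩,
 ⟨7, 5, 114, [4, 8, 12, 3, 1, 0, 2, 1, 3, 2, 0], [], [⟨1, 113, [4, 8, 12]⟩, ⟨1, 86, []⟩, ⟨1, 87, []⟩, ⟨1, 86, []⟩, ⟨1, 90, []⟩, ⟨1, 113, [8, 11, 12, 11, 4, 13, 11, 12, 7, 11]⟩, ⟨1, 87, []⟩, ⟨1, 86, []⟩, ⟨1, 90, []⟩, ⟨1, 86, []⟩, ⟨1, 535, [8, 11, 13, 11, 12, 11, 4, 11, 4, 13]⟩]⟩,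
 ⟨4, 5, 736, [], [⟨1, 735, []⟩], []⟩,
 ⟨8, 5, 114, [0, 4, 12, 13, 0, 2, 3, 4, 2, 1, 2, 0, 1, 3, 2, 0], [], [⟨1, 113, [0, 4, 12, 13]⟩, ⟨1, 86, []⟩, ⟨1, 90, []⟩, ⟨1, 90, []⟩, ⟨1, 86, []⟩, ⟨1, 90, []⟩, ⟨1, 120, [11, 12, 13, 11, 12, 8, 11]⟩, ⟨1, 42, []⟩, ⟨1, 41, []⟩, ⟨1, 46, []⟩, ⟨1, 591, [2, 4, 7, 11, 13, 11, 12, 11]⟩]⟩,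
 ⟨4, 5, 738, [], [⟨1, 737, []⟩], []⟩,
 ⟨8, 5, 114, [11, 4, 11, 12, 13, 0, 2, 3, 4, 2, 1, 2, 0, 1, 3, 2, 0], [], [⟨1, 113, [11, 4, 11, 12, 13]⟩, ⟨1, 87, []⟩, ⟨1, 86, []⟩, ⟨1, 90, []⟩, ⟨1, 87, []⟩, ⟨1, 122, [12, 11, 4, 11, 13, 11, 4, 12, 7, 11]⟩, ⟨1, 43, []⟩, ⟨1, 41, []⟩, ⟨1, 46, []⟩, ⟨1, 46, []⟩, ⟨1, 68, []⟩, ⟨1, 379, [4, 13, 11, 4, 12, 7, 11, 12, 8, 11]⟩]⟩,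
 ⟨4, 5, 740, [], [⟨1, 739, []⟩], []⟩,
 ⟨8, 5, 114, [0, 7, 13, 11, 4, 12, 0, 2, 3, 4, 2, 1, 2, 0, 1, 3, 2, 0], [], [⟨1, 113, [0, 7, 13, 11, 4, 12]⟩, ⟨1, 86, []⟩, ⟨1, 87, []⟩, ⟨1, 86, []⟩, ⟨1, 90, []⟩, ⟨1, 87, []⟩, ⟨1, 122, [2, 4, 8, 12, 11, 12, 7, 12, 13]⟩, ⟨1, 39, []⟩, ⟨1, 43, []⟩, ⟨1, 42, []⟩, ⟨1, 46, []⟩, ⟨1, 68, []⟩, ⟨1, 68, []⟩, ⟨1, 314, [11, 2, 4, 11, 12, 7]⟩]⟩,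
 ⟨4, 5, 742, [], [⟨1, 741, []⟩], []⟩,
 ⟨8, 5, 114, [4, 7, 12, 11, 4, 0, 2, 3, 4, 2, 1, 2, 0, 1, 3, 2, 0], [], [⟨1, 113, [4, 7, 12, 11, 4]⟩, ⟨1, 87, []⟩, ⟨1, 86, []⟩, ⟨1, 97, [13, 11, 4, 12, 8, 11, 12, 8]⟩, ⟨1, 43, []⟩, ⟨1, 42, []⟩, ⟨1, 41, []⟩, ⟨1, 46, []⟩, ⟨1, 68, []⟩, ⟨1, 68, []⟩, ⟨1, 234, [4, 11, 2, 13, 11, 4, 12, 7, 11]⟩]⟩,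
 ⟨4, 5, 744, [], [⟨1, 743, []⟩], []⟩,
 ⟨8, 5, 114, [4, 7, 12, 13, 0, 2, 3, 4, 2, 1, 2, 0, 1, 3, 2, 0], [], [⟨1, 113, [4, 7, 12, 13]⟩, ⟨1, 86, []⟩, ⟨1, 87, []⟩, ⟨1, 86, []⟩, ⟨1, 90, []⟩, ⟨1, 87, []⟩, ⟨1, 122, [11, 4, 12, 11, 12, 13, 11, 4, 12, 11, 12]⟩, ⟨1, 43, []⟩, ⟨1, 42, []⟩, ⟨1, 46, []⟩, ⟨1, 316, [11, 12, 7, 11, 13, 11, 4, 12, 11, 12]⟩]⟩,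
 ⟨4, 5, 746, [], [⟨1, 745, []⟩], []⟩,
 ⟨13, 5, 114, [11, 4, 11, 12, 13, 0, 2, 3, 1, 2, 0, 1, 3, 2, 0], [], [⟨1, 113, [11, 4, 11, 12, 13]⟩, ⟨1, 87, []⟩, ⟨1, 86, []⟩, ⟨1, 90, []⟩, ⟨1, 87, []⟩, ⟨1, 122, [7, 12, 8, 11, 2, 12, 7, 11, 12, 11]⟩, ⟨1, 40, []⟩, ⟨1, 46, []⟩, ⟨1, 185, [0, 11, 4, 11, 12, 7, 12, 13, 11, 12]⟩]⟩,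
 ⟨4, 5, 748, [], [⟨1, 747, []⟩], []⟩,
 ⟨5, 5, 128, [11, 4, 12, 13, 3, 2, 0], [], [⟨1, 127, [11, 4, 12, 13]⟩, ⟨1, 86, []⟩, ⟨1, 87, []⟩, ⟨1, 90, []⟩, ⟨1, 90, []⟩, ⟨1, 90, []⟩, ⟨1, 419, [0, 4, 12, 8, 13, 11, 12, 8, 11, 4, 11]⟩, ⟨1, 135, []⟩, ⟨1, 134, []⟩, ⟨1, 179, [7, 13, 11, 12, 8, 11, 4]⟩]⟩,
 ⟨4, 5, 750, [], [⟨1, 749, []⟩], []⟩,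
 ⟨9, 5, 128, [8, 12, 13, 11, 12, 0, 2, 4, 1, 0, 2, 1, 3, 2, 0], [], [⟨1, 127, [8, 12, 13, 11, 12]⟩, ⟨1, 86, []⟩, ⟨1, 87, []⟩, ⟨1, 90, []⟩, ⟨1, 90, []⟩, ⟨1, 90, []⟩, ⟨1, 701, [0, 8, 12, 11, 4, 13, 11, 4]⟩, ⟨1, 135, []⟩, ⟨1, 134, []⟩, ⟨1, 177, [7, 13, 11, 2, 4, 11, 12, 7, 11, 12, 7]⟩]⟩,
 ⟨4, 5, 752, [], [⟨1, 751, []⟩], []⟩,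
 ⟨9, 5, 128, [7, 12, 11, 4, 0, 2, 4, 1, 0, 2, 1, 3, 2, 0], [], [⟨1, 127, [7, 12, 11, 4]⟩, ⟨1, 86, []⟩, ⟨1, 87, []⟩, ⟨1, 90, []⟩, ⟨1, 90, []⟩, ⟨1, 90, []⟩, ⟨1, 122, [13, 11, 4, 12, 7, 11, 12, 8, 12]⟩, ⟨1, 42, []⟩, ⟨1, 46, []⟩, ⟨1, 372, [12, 8, 11, 2, 4, 13, 11, 12, 7, 11, 4]⟩]⟩,
 ⟨4, 5, 754, [], [⟨1, 753, []⟩], []⟩,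
 ⟨9, 5, 128, [4, 12, 8, 11, 4, 12, 0, 2, 4, 1, 0, 2, 1, 3, 2, 0], [], [⟨1, 127, [4, 12, 8, 11, 4, 12]⟩, ⟨1, 86, []⟩, ⟨1, 87, []⟩, ⟨1, 90, []⟩, ⟨1, 90, []⟩, ⟨1, 90, []⟩, ⟨1, 122, [0, 7, 11, 4, 11, 13, 11, 4, 11, 12, 7]⟩, ⟨1, 42, []⟩, ⟨1, 46, []⟩, ⟨1, 46, []⟩, ⟨1, 148, [4, 8, 11, 2, 13, 11, 4, 11, 12, 7]⟩]⟩,
 ⟨4, 5, 756, [], [⟨1, 755, []⟩], []⟩,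
 ⟨10, 5, 128, [0, 4, 8, 12, 13, 11, 4, 0, 2, 3, 2, 0], [], [⟨1, 127, [0, 4, 8, 12, 13, 11, 4]⟩, ⟨1, 87, []⟩, ⟨1, 86, []⟩, ⟨1, 90, []⟩, ⟨1, 128, [0, 8, 11, 4, 12, 11, 13, 11, 4, 11, 4]⟩, ⟨1, 86, []⟩, ⟨1, 90, []⟩, ⟨1, 90, []⟩, ⟨1, 90, []⟩, ⟨1, 703, [2, 11, 12, 11, 4, 12, 13]⟩]⟩,
 ⟨4, 5, 758, [], [⟨1, 757, []⟩], []⟩,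
 ⟨10, 5, 128, [13, 11, 4, 0, 2, 3, 2, 0], [], [⟨1, 127, [13, 11, 4]⟩, ⟨1, 86, []⟩, ⟨1, 87, []⟩, ⟨1, 90, []⟩, ⟨1, 90, []⟩, ⟨1, 86, []⟩, ⟨1, 128, [2, 12, 11, 4, 12, 8, 11, 13, 11, 12]⟩, ⟨1, 86, []⟩, ⟨1, 87, []⟩, ⟨1, 86, []⟩, ⟨1, 727, [7, 13, 11, 4, 11, 12, 7, 11]⟩]⟩,
 ⟨4, 5, 760, [], [⟨1, 759, []⟩], []⟩,
 ⟨10, 5, 128, [2, 4, 11, 4, 11, 12, 0, 2, 3, 2, 0], [], [⟨1, 127, [2, 4, 11, 4, 11, 12]⟩, ⟨1, 86, []⟩, ⟨1, 87, []⟩, ⟨1, 90, []⟩, ⟨1, 86, []⟩, ⟨1, 109, [4, 11, 4, 11, 12, 11, 13, 11, 12, 8]⟩, ⟨1, 86, []⟩, ⟨1, 90, []⟩, ⟨1, 90, []⟩, ⟨1, 90, []⟩, ⟨1, 86, []⟩, ⟨1, 631, [0, 12, 8, 11, 4, 13, 11, 12, 7, 11, 4]⟩]⟩,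
 ⟨4, 5, 762, [], [⟨1, 761, []⟩], []⟩,
 ⟨12, 5, 128, [7, 12, 8, 13, 11, 12, 0, 2, 3, 1, 0, 2, 1, 2, 4, 3, 2, 0, 2, 0], [], [⟨1, 127, [7, 12, 8, 13, 11, 12]⟩, ⟨1, 86, []⟩, ⟨1, 87, []⟩, ⟨1, 90, []⟩, ⟨1, 86, []⟩, ⟨1, 118, [8, 11, 2, 12, 8, 11, 4, 13, 11]⟩, ⟨1, 86, []⟩, ⟨1, 87, []⟩, ⟨1, 90, []⟩, ⟨1, 86, []⟩, ⟨1, 623, [2, 13, 11, 4, 12, 11, 12, 8, 12, 13]⟩]⟩,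
 ⟨4, 5, 764, [], [⟨1, 763, []⟩], []⟩,
 ⟨16, 5, 128, [0, 2, 6, 2, 0, 2, 0], [], [⟨1, 127, []⟩, ⟨1, 87, []⟩, ⟨1, 86, []⟩, ⟨1, 701, [2, 11, 13, 11, 4, 12, 7, 11, 13]⟩]⟩,
 ⟨4, 5, 766, [], [⟨1, 765, []⟩], []⟩,
 ⟨10, 5, 129, [4, 8, 11, 12, 13, 0, 2, 3, 2, 0], [], [⟨1, 128, [4, 8, 11, 12, 13]⟩, ⟨1, 86, []⟩, ⟨1, 90, []⟩, ⟨1, 90, []⟩, ⟨1, 90, []⟩, ⟨1, 112, [0, 7, 12, 11, 4, 11, 13, 11, 4, 12, 8]⟩, ⟨1, 86, []⟩, ⟨1, 87, []⟩, ⟨1, 86, []⟩, ⟨1, 90, []⟩, ⟨1, 90, []⟩, ⟨1, 90, []⟩, ⟨1, 455, [2, 12, 11, 13, 11, 12, 7, 11, 4]⟩]⟩,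
 ⟨4, 5, 768, [], [⟨1, 767, []⟩], []⟩,
 ⟨12, 5, 129, [8, 11, 13, 11, 12, 0, 2, 3, 1, 0, 2, 1, 2, 4, 3, 2, 0, 2, 0], [], [⟨1, 128, [8, 11, 13, 11, 12]⟩, ⟨1, 86, []⟩, ⟨1, 87, []⟩, ⟨1, 90, []⟩, ⟨1, 90, []⟩, ⟨1, 90, []⟩, ⟨1, 109, [4, 11, 4, 12, 7, 11, 12, 8, 12, 13]⟩, ⟨1, 719, [8, 11]⟩]⟩,
 ⟨4, 5, 770, [], [⟨1, 769, []⟩], []⟩]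
theorem chk14 : and2 (D.chkL PF14 722) (Nat.beq (Nat.add 722 PF14.length) 771) = true := by decide +kernel

def PF15 : List DPf := [⟨12, 5, 129, [0, 11, 13, 0, 2, 3, 1, 0, 2, 1, 2, 4, 3, 2, 0, 2, 0], [], [⟨1, 128, [0, 11, 13]⟩, ⟨1, 86, []⟩, ⟨1, 90, []⟩, ⟨1, 90, []⟩, ⟨1, 117, [4, 12, 7, 11, 12, 8, 12, 13, 11, 4]⟩, ⟨1, 657, [2, 8, 11, 4, 11, 4, 13, 11, 12, 11, 13]⟩]⟩,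
 ⟨4, 5, 772, [], [⟨1, 771, []⟩], []⟩,
 ⟨7, 5, 133, [12, 13, 3, 1, 0, 2, 1, 3, 2, 0], [], [⟨1, 132, [12, 13]⟩, ⟨1, 86, []⟩, ⟨1, 87, []⟩, ⟨1, 90, []⟩, ⟨1, 90, []⟩, ⟨1, 90, []⟩, ⟨1, 127, [2, 4, 11, 12, 11, 12]⟩, ⟨1, 86, []⟩, ⟨1, 90, []⟩, ⟨1, 90, []⟩, ⟨1, 86, []⟩, ⟨1, 90, []⟩, ⟨1, 276, [12, 7, 11, 12, 8, 11, 12, 7]⟩]⟩,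
 ⟨4, 5, 774, [], [⟨1, 773, []⟩], []⟩,
 ⟨8, 5, 133, [2, 4, 8, 12, 0, 2, 3, 4, 2, 1, 2, 0, 1, 3, 2, 0], [], [⟨1, 132, [2, 4, 8, 12]⟩, ⟨1, 87, []⟩, ⟨1, 86, []⟩, ⟨1, 90, []⟩, ⟨1, 87, []⟩, ⟨1, 116, [11, 12, 8, 11, 12, 7, 11, 4, 13, 11]⟩, ⟨1, 86, []⟩, ⟨1, 90, []⟩, ⟨1, 86, []⟩, ⟨1, 445, [12, 7, 11, 12, 11, 4, 12, 13]⟩]⟩,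
 ⟨4, 5, 776, [], [⟨1, 775, []⟩], []⟩,
 ⟨5, 3, 122, [8, 12, 13, 3, 2, 0], [], [⟨1, 121, [8, 12, 13]⟩, ⟨1, 86, []⟩, ⟨1, 87, []⟩, ⟨1, 90, []⟩, ⟨1, 90, []⟩, ⟨1, 90, []⟩, ⟨1, 128, [2, 12, 7, 11, 4, 12, 8, 11]⟩, ⟨1, 86, []⟩, ⟨1, 87, []⟩, ⟨1, 90, []⟩, ⟨1, 86, []⟩, ⟨1, 569, [0, 8, 13, 11, 4, 12, 11, 4, 12, 7, 13]⟩]⟩,
 ⟨4, 3, 778, [], [⟨1, 777, []⟩], []⟩,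
 ⟨7, 3, 122, [4, 11, 4, 11, 12, 13, 3, 1, 0, 2, 1, 3, 2, 0], [], [⟨1, 121, [4, 11, 4, 11, 12, 13]⟩, ⟨1, 90, []⟩, ⟨1, 87, []⟩, ⟨1, 90, []⟩, ⟨1, 90, []⟩, ⟨1, 116, [4, 12, 8, 13, 11, 12, 8, 11, 12, 7]⟩, ⟨1, 86, []⟩, ⟨1, 87, []⟩, ⟨1, 90, []⟩, ⟨1, 90, []⟩, ⟨1, 90, []⟩, ⟨1, 709, [12, 7, 12, 11, 12, 8, 13, 11, 12, 11]⟩]⟩,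
 ⟨4, 3, 780, [], [⟨1, 779, []⟩], []⟩,
 ⟨8, 3, 122, [12, 7, 13, 11, 4, 12, 0, 2, 3, 4, 2, 1, 2, 0, 1, 3, 2, 0], [], [⟨1, 121, [12, 7, 13, 11, 4, 12]⟩, ⟨1, 86, []⟩, ⟨1, 87, []⟩, ⟨1, 90, []⟩, ⟨1, 90, []⟩, ⟨1, 90, []⟩, ⟨1, 128, [8, 12, 7, 13, 11, 2, 12, 7, 11]⟩, ⟨1, 757, [11, 12, 11, 12]⟩]⟩,
 ⟨4, 3, 782, [], [⟨1, 781, []⟩], []⟩,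
 ⟨13, 3, 122, [0, 12, 7, 13, 11, 4, 12, 0, 2, 3, 1, 2, 0, 1, 3, 2, 0], [], [⟨1, 121, [0, 12, 7, 13, 11, 4, 12]⟩, ⟨1, 86, []⟩, ⟨1, 87, []⟩, ⟨1, 90, []⟩, ⟨1, 90, []⟩, ⟨1, 90, []⟩, ⟨1, 128, [8, 12, 7, 13, 11, 2, 12, 7, 11, 4, 13]⟩, ⟨1, 87, []⟩, ⟨1, 90, []⟩, ⟨1, 533, [12, 8, 12, 11, 4, 12, 13]⟩]⟩,
 ⟨4, 3, 784, [], [⟨1, 783, []⟩], []⟩,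
 ⟨13, 3, 122, [7, 12, 7, 11, 12, 0, 2, 3, 1, 2, 0, 1, 3, 2, 0], [], [⟨1, 121, [7, 12, 7, 11, 12]⟩, ⟨1, 86, []⟩, ⟨1, 90, []⟩, ⟨1, 90, []⟩, ⟨1, 120, [13, 11, 12, 11, 12, 8, 13, 11]⟩, ⟨1, 39, []⟩, ⟨1, 43, []⟩, ⟨1, 40, []⟩, ⟨1, 46, []⟩, ⟨1, 68, []⟩, ⟨1, 68, []⟩, ⟨1, 288, [12, 13, 11, 2, 12, 8]⟩]⟩,
 ⟨4, 3, 786, [], [⟨1, 785, []⟩], []⟩,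
 ⟨14, 3, 122, [8, 12, 11, 13, 11, 0, 2, 3, 2, 0, 2, 0], [], [⟨1, 121, [8, 12, 11, 13, 11]⟩, ⟨1, 86, []⟩, ⟨1, 87, []⟩, ⟨1, 90, []⟩, ⟨1, 90, []⟩, ⟨1, 90, []⟩, ⟨1, 128, [4, 7, 11, 4, 12, 8, 11, 12, 11]⟩, ⟨1, 86, []⟩, ⟨1, 87, []⟩, ⟨1, 86, []⟩, ⟨1, 90, []⟩, ⟨1, 90, []⟩, ⟨1, 90, []⟩, ⟨1, 320, [7, 12, 8, 11, 4, 11, 12, 11, 12]⟩]⟩,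
 ⟨4, 3, 788, [], [⟨1, 787, []⟩], []⟩,
 ⟨16, 3, 122, [8, 0, 2, 6, 2, 0, 2, 0], [], [⟨1, 121, [8]⟩, ⟨1, 90, []⟩, ⟨1, 87, []⟩, ⟨1, 90, []⟩, ⟨1, 90, []⟩, ⟨1, 495, [4, 7, 12, 8, 11, 2, 13, 11, 12, 7]⟩]⟩,
 ⟨4, 3, 790, [], [⟨1, 789, []⟩], []⟩,
 ⟨7, 5, 123, [4, 8, 12, 7, 11, 12, 3, 1, 0, 2, 1, 3, 2, 0], [], [⟨1, 122, [4, 8, 12, 7, 11, 12]⟩, ⟨1, 39, []⟩, ⟨1, 41, []⟩, ⟨1, 40, []⟩, ⟨1, 46, []⟩, ⟨1, 68, []⟩, ⟨1, 68, []⟩, ⟨1, 119, [0, 11, 4, 12, 13, 11, 4, 12, 8]⟩, ⟨1, 90, []⟩, ⟨1, 661, [12, 7, 12, 11, 2, 12, 7, 12]⟩]⟩,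
 ⟨4, 5, 792, [], [⟨1, 791, []⟩], []⟩,
 ⟨7, 5, 123, [4, 7, 12, 13, 11, 4, 12, 3, 1, 0, 2, 1, 3, 2, 0], [], [⟨1, 122, [4, 7, 12, 13, 11, 4, 12]⟩, ⟨1, 39, []⟩, ⟨1, 46, []⟩, ⟨1, 68, []⟩, ⟨1, 114, [2, 8, 12, 8, 11, 12, 8, 13]⟩, ⟨1, 90, []⟩, ⟨1, 330, [2, 11, 4, 12, 7, 13, 11, 4, 12]⟩]⟩,
 ⟨4, 5, 794, [], [⟨1, 793, []⟩], []⟩,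
 ⟨7, 5, 130, [8, 13, 11, 4, 12, 3, 1, 0, 2, 1, 3, 2, 0], [], [⟨1, 129, [8, 13, 11, 4, 12]⟩, ⟨1, 43, []⟩, ⟨1, 42, []⟩, ⟨1, 68, []⟩, ⟨1, 68, []⟩, ⟨1, 94, [0, 7, 12, 7, 13, 11, 12, 11, 4, 13]⟩, ⟨1, 87, []⟩, ⟨1, 90, []⟩, ⟨1, 86, []⟩, ⟨1, 195, [4, 11, 12, 7, 11, 4, 12, 8, 13]⟩]⟩,
 ⟨4, 5, 796, [], [⟨1, 795, []⟩], []⟩,
 ⟨7, 5, 130, [12, 8, 11, 12, 3, 1, 0, 2, 1, 3, 2, 0], [], [⟨1, 129, [12, 8, 11, 12]⟩, ⟨1, 43, []⟩, ⟨1, 46, []⟩, ⟨1, 46, []⟩, ⟨1, 68, []⟩, ⟨1, 68, []⟩, ⟨1, 130, [7, 12, 11, 12, 8, 11, 4]⟩, ⟨1, 86, []⟩, ⟨1, 87, []⟩, ⟨1, 90, []⟩, ⟨1, 90, []⟩, ⟨1, 86, []⟩, ⟨1, 551, [7, 12, 8, 11, 2, 13, 11, 4, 11, 12]⟩]⟩,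
 ⟨4, 5, 798, [], [⟨1, 797, []⟩], []⟩,
 ⟨8, 5, 130, [8, 12, 11, 12, 0, 2, 3, 4, 2, 1, 2, 0, 1, 3, 2, 0], [], [⟨1, 129, [8, 12, 11, 12]⟩, ⟨1, 114, [11, 2, 4, 12, 7, 11, 12, 7, 13, 11]⟩, ⟨1, 627, [2, 4, 11, 12, 7, 11, 12, 7, 11, 12]⟩]⟩,
 ⟨4, 5, 800, [], [⟨1, 799, []⟩], []⟩,
 ⟨8, 5, 130, [0, 12, 13, 0, 2, 3, 4, 2, 1, 2, 0, 1, 3, 2, 0], [], [⟨1, 129, [0, 12, 13]⟩, ⟨1, 43, []⟩, ⟨1, 40, []⟩, ⟨1, 68, []⟩, ⟨1, 119, [4, 13, 11, 2, 4, 12, 8, 11, 12, 13]⟩, ⟨1, 87, []⟩, ⟨1, 90, []⟩, ⟨1, 90, []⟩, ⟨1, 266, [12, 7, 11, 13]⟩]⟩,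
 ⟨4, 5, 802, [], [⟨1, 801, []⟩], []⟩,
 ⟨9, 5, 130, [8, 12, 13, 11, 4, 11, 0, 2, 4, 1, 0, 2, 1, 3, 2, 0], [], [⟨1, 129, [8, 12, 13, 11, 4, 11]⟩, ⟨1, 39, []⟩, ⟨1, 42, []⟩, ⟨1, 46, []⟩, ⟨1, 46, []⟩, ⟨1, 68, []⟩, ⟨1, 96, [8, 13]⟩, ⟨1, 90, []⟩, ⟨1, 87, []⟩, ⟨1, 90, []⟩, ⟨1, 90, []⟩, ⟨1, 324, [11, 12, 7, 11, 4, 13, 11, 12, 8]⟩]⟩,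
 ⟨4, 5, 804, [], [⟨1, 803, []⟩], []⟩,
 ⟨16, 5, 132, [8, 0, 2, 6, 2, 0, 2, 0], [], [⟨1, 131, [8]⟩, ⟨1, 86, []⟩, ⟨1, 90, []⟩, ⟨1, 87, []⟩, ⟨1, 90, []⟩, ⟨1, 90, []⟩, ⟨1, 747, [4, 12, 11, 2, 4, 12, 8, 13, 11, 12]⟩]⟩,
 ⟨4, 5, 806, [], [⟨1, 805, []⟩], []⟩,
 ⟨16, 5, 132, [0, 2, 6, 2, 0, 2, 0], [], [⟨1, 131, []⟩, ⟨1, 90, []⟩, ⟨1, 87, []⟩, ⟨1, 90, []⟩, ⟨1, 256, [2, 13, 11, 12, 8, 11, 4, 13, 11]⟩]⟩,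
 ⟨4, 5, 808, [], [⟨1, 807, []⟩], []⟩,
 ⟨5, 6, 137, [4, 8, 12, 3, 2, 0], [], [⟨1, 136, [4, 8, 12]⟩, ⟨1, 7, []⟩, ⟨1, 4, []⟩, ⟨1, 3, []⟩, ⟨1, 85, [7, 12, 7, 11, 2, 4]⟩, ⟨1, 90, []⟩, ⟨1, 87, []⟩, ⟨1, 228, [4, 8, 13, 11, 12, 11, 4, 12, 13, 11]⟩]⟩,
 ⟨4, 6, 810, [], [⟨1, 809, []⟩], []⟩,
 ⟨5, 6, 137, [8, 11, 12, 13, 3, 2, 0], [], [⟨1, 136, [8, 11, 12, 13]⟩, ⟨1, 8, []⟩, ⟨1, 6, []⟩, ⟨1, 3, []⟩, ⟨1, 1, []⟩, ⟨1, 85, [7, 11, 2, 12, 8, 11, 12, 7, 11, 4]⟩, ⟨1, 87, []⟩, ⟨1, 86, []⟩, ⟨1, 90, []⟩, ⟨1, 90, []⟩, ⟨1, 310, [0, 4, 13, 11, 12, 11, 12, 13]⟩]⟩,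
 ⟨4, 6, 812, [], [⟨1, 811, []⟩], []⟩,
 ⟨7, 6, 137, [0, 7, 11, 4, 12, 13, 3, 1, 0, 2, 1, 3, 2, 0], [], [⟨1, 136, [0, 7, 11, 4, 12, 13]⟩, ⟨1, 8, []⟩, ⟨1, 6, []⟩, ⟨1, 7, []⟩, ⟨1, 6, []⟩, ⟨1, 5, []⟩, ⟨1, 7, []⟩, ⟨1, 4, []⟩, ⟨1, 85, [7, 11, 4, 13, 11, 4, 11, 12, 7, 13]⟩, ⟨1, 90, []⟩, ⟨1, 87, []⟩, ⟨1, 228, [12, 7, 13, 11, 4, 11, 12, 7]⟩]⟩,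
 ⟨4, 6, 814, [], [⟨1, 813, []⟩], []⟩,
 ⟨7, 6, 137, [0, 4, 13, 11, 4, 11, 12, 3, 1, 0, 2, 1, 3, 2, 0], [], [⟨1, 136, [0, 4, 13, 11, 4, 11, 12]⟩, ⟨1, 8, []⟩, ⟨1, 3, []⟩, ⟨1, 6, []⟩, ⟨1, 7, []⟩, ⟨1, 3, []⟩, ⟨1, 6, []⟩, ⟨1, 5, []⟩, ⟨1, 7, []⟩, ⟨1, 2, []⟩, ⟨1, 85, [12, 8, 13, 11, 12, 11, 4, 11]⟩, ⟨1, 87, []⟩, ⟨1, 90, []⟩, ⟨1, 246, [2, 4, 12, 11, 4, 13, 11, 12, 7, 11]⟩]⟩,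
 ⟨4, 6, 816, [], [⟨1, 815, []⟩], []⟩,
 ⟨7, 6, 137, [7, 12, 7, 11, 12, 13, 3, 1, 0, 2, 1, 3, 2, 0], [], [⟨1, 136, [7, 12, 7, 11, 12, 13]⟩, ⟨1, 6, []⟩, ⟨1, 8, []⟩, ⟨1, 6, []⟩, ⟨1, 3, []⟩, ⟨1, 6, []⟩, ⟨1, 7, []⟩, ⟨1, 4, []⟩, ⟨1, 2, []⟩, ⟨1, 85, [0, 4, 7, 13, 11, 12, 11, 12, 7, 13]⟩, ⟨1, 90, []⟩, ⟨1, 87, []⟩, ⟨1, 228, [4, 8, 11, 2, 12, 13]⟩]⟩,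
 ⟨4, 6, 818, [], [⟨1, 817, []⟩], []⟩,
 ⟨7, 6, 137, [4, 7, 12, 11, 12, 3, 1, 0, 2, 1, 3, 2, 0], [], [⟨1, 136, [4, 7, 12, 11, 12]⟩, ⟨1, 5, []⟩, ⟨1, 7, []⟩, ⟨1, 6, []⟩, ⟨1, 7, []⟩, ⟨1, 5, []⟩, ⟨1, 7, []⟩, ⟨1, 1, []⟩, ⟨1, 85, [4, 11, 12, 7, 11, 12, 8, 11, 4, 12]⟩, ⟨1, 90, []⟩, ⟨1, 246, [0, 7, 12, 13, 11, 4, 11, 12, 8, 12]⟩]⟩,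
 ⟨4, 6, 820, [], [⟨1, 819, []⟩], []⟩,
 ⟨7, 6, 137, [8, 11, 12, 3, 1, 0, 2, 1, 3, 2, 0], [], [⟨1, 136, [8, 11, 12]⟩, ⟨1, 3, []⟩, ⟨1, 6, []⟩, ⟨1, 5, []⟩, ⟨1, 7, []⟩, ⟨1, 3, []⟩, ⟨1, 1, []⟩, ⟨1, 133, [11, 12, 7, 11, 12, 8, 11, 4, 12]⟩, ⟨1, 809, [11, 2, 13, 11, 12, 7, 12, 11, 4]⟩]⟩,
 ⟨4, 6, 822, [], [⟨1, 821, []⟩], []⟩]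
theorem chk15 : and2 (D.chkL PF15 771) (Nat.beq (Nat.add 771 PF15.length) 823) = true := by decide +kernel

def PF16 : List DPf := [⟨7, 6, 137, [2, 8, 11, 4, 12, 3, 1, 0, 2, 1, 3, 2, 0], [], [⟨1, 136, [2, 8, 11, 4, 12]⟩, ⟨1, 7, []⟩, ⟨1, 3, []⟩, ⟨1, 6, []⟩, ⟨1, 4, []⟩, ⟨1, 7, []⟩, ⟨1, 4, []⟩, ⟨1, 1, []⟩, ⟨1, 85, [2, 7, 11, 4, 11, 12, 8, 11]⟩, ⟨1, 90, []⟩, ⟨1, 87, []⟩, ⟨1, 228, [4, 12, 7, 11, 12, 11, 4, 13]⟩]⟩,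
 ⟨4, 6, 824, [], [⟨1, 823, []⟩], []⟩,
 ⟨7, 6, 137, [8, 11, 12, 13, 3, 1, 0, 2, 1, 3, 2, 0], [], [⟨1, 136, [8, 11, 12, 13]⟩, ⟨1, 6, []⟩, ⟨1, 8, []⟩, ⟨1, 6, []⟩, ⟨1, 3, []⟩, ⟨1, 6, []⟩, ⟨1, 5, []⟩, ⟨1, 7, []⟩, ⟨1, 2, []⟩, ⟨1, 85, [11, 12, 7, 11, 4, 11, 12, 8, 11]⟩, ⟨1, 87, []⟩, ⟨1, 86, []⟩, ⟨1, 90, []⟩, ⟨1, 90, []⟩, ⟨1, 310, [4, 12, 8, 11, 4, 12, 11, 12, 8, 13]⟩]⟩,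
 ⟨4, 6, 826, [], [⟨1, 825, []⟩], []⟩,
 ⟨7, 6, 137, [8, 11, 13, 11, 4, 12, 3, 1, 0, 2, 1, 3, 2, 0], [], [⟨1, 136, [8, 11, 13, 11, 4, 12]⟩, ⟨1, 6, []⟩, ⟨1, 8, []⟩, ⟨1, 7, []⟩, ⟨1, 3, []⟩, ⟨1, 2, []⟩, ⟨1, 6, []⟩, ⟨1, 7, []⟩, ⟨1, 3, []⟩, ⟨1, 133, [7, 12, 13, 11, 4]⟩, ⟨1, 135, []⟩, ⟨1, 809, [0, 4, 13, 11, 4, 11]⟩]⟩,
 ⟨4, 6, 828, [], [⟨1, 827, []⟩], []⟩,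
 ⟨7, 6, 137, [7, 12, 8, 11, 12, 3, 1, 0, 2, 1, 3, 2, 0], [], [⟨1, 136, [7, 12, 8, 11, 12]⟩, ⟨1, 7, []⟩, ⟨1, 3, []⟩, ⟨1, 6, []⟩, ⟨1, 4, []⟩, ⟨1, 3, []⟩, ⟨1, 1, []⟩, ⟨1, 133, [2, 7, 11, 13, 11, 4, 12, 11, 12, 13]⟩, ⟨1, 135, []⟩, ⟨1, 134, []⟩, ⟨1, 811, [2, 7, 12, 7, 11, 12, 7, 11, 12, 13]⟩]⟩,
 ⟨4, 6, 830, [], [⟨1, 829, []⟩], []⟩,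
 ⟨7, 6, 137, [2, 7, 11, 4, 11, 12, 3, 1, 0, 2, 1, 3, 2, 0], [], [⟨1, 136, [2, 7, 11, 4, 11, 12]⟩, ⟨1, 8, []⟩, ⟨1, 7, []⟩, ⟨1, 6, []⟩, ⟨1, 4, []⟩, ⟨1, 7, []⟩, ⟨1, 1, []⟩, ⟨1, 85, [0, 7, 11, 12, 8, 11, 12, 11, 4, 11]⟩, ⟨1, 87, []⟩, ⟨1, 86, []⟩, ⟨1, 90, []⟩, ⟨1, 90, []⟩, ⟨1, 310, [12, 11, 4, 13, 11, 4, 12, 7, 11, 4]⟩]⟩,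
 ⟨4, 6, 832, [], [⟨1, 831, []⟩], []⟩,
 ⟨7, 6, 137, [0, 4, 11, 13, 11, 12, 3, 1, 0, 2, 1, 3, 2, 0], [], [⟨1, 136, [0, 4, 11, 13, 11, 12]⟩, ⟨1, 7, []⟩, ⟨1, 6, []⟩, ⟨1, 8, []⟩, ⟨1, 4, []⟩, ⟨1, 7, []⟩, ⟨1, 6, []⟩, ⟨1, 4, []⟩, ⟨1, 7, []⟩, ⟨1, 4, []⟩, ⟨1, 85, [0, 8, 11, 12, 8, 11, 12, 8, 13, 11]⟩, ⟨1, 87, []⟩, ⟨1, 90, []⟩, ⟨1, 246, [8, 13, 11, 12, 7, 11, 12, 11, 13, 11]⟩]⟩,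
 ⟨4, 6, 834, [], [⟨1, 833, []⟩], []⟩,
 ⟨7, 6, 137, [0, 4, 7, 13, 11, 4, 12, 3, 1, 0, 2, 1, 3, 2, 0], [], [⟨1, 136, [0, 4, 7, 13, 11, 4, 12]⟩, ⟨1, 6, []⟩, ⟨1, 7, []⟩, ⟨1, 6, []⟩, ⟨1, 4, []⟩, ⟨1, 7, []⟩, ⟨1, 3, []⟩, ⟨1, 133, [2, 7, 11, 4, 11, 12, 8, 11]⟩, ⟨1, 809, [13, 11, 2, 12, 7, 11, 4]⟩]⟩,
 ⟨4, 6, 836, [], [⟨1, 835, []⟩], []⟩,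
 ⟨7, 6, 137, [0, 8, 12, 13, 11, 4, 3, 1, 0, 2, 1, 3, 2, 0], [], [⟨1, 136, [0, 8, 12, 13, 11, 4]⟩, ⟨1, 3, []⟩, ⟨1, 6, []⟩, ⟨1, 3, []⟩, ⟨1, 133, [4, 7, 12, 13, 11, 4, 11]⟩, ⟨1, 134, []⟩, ⟨1, 811, [11, 13, 11, 4, 12, 11, 4]⟩]⟩,
 ⟨4, 6, 838, [], [⟨1, 837, []⟩], []⟩,
 ⟨7, 6, 137, [2, 12, 11, 4, 12, 3, 1, 0, 2, 1, 3, 2, 0], [], [⟨1, 136, [2, 12, 11, 4, 12]⟩, ⟨1, 5, []⟩, ⟨1, 7, []⟩, ⟨1, 6, []⟩, ⟨1, 4, []⟩, ⟨1, 3, []⟩, ⟨1, 1, []⟩, ⟨1, 85, [2, 4, 12, 7, 11, 4, 11, 12, 8, 11]⟩, ⟨1, 87, []⟩, ⟨1, 86, []⟩, ⟨1, 90, []⟩, ⟨1, 90, []⟩, ⟨1, 232, [7, 12, 11, 12, 7, 12, 11, 4, 13]⟩]⟩,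
 ⟨4, 6, 840, [], [⟨1, 839, []⟩], []⟩,
 ⟨7, 6, 137, [12, 8, 12, 11, 12, 3, 1, 0, 2, 1, 3, 2, 0], [], [⟨1, 136, [12, 8, 12, 11, 12]⟩, ⟨1, 7, []⟩, ⟨1, 5, []⟩, ⟨1, 7, []⟩, ⟨1, 6, []⟩, ⟨1, 3, []⟩, ⟨1, 1, []⟩, ⟨1, 85, [0, 7, 13, 11, 4, 11, 12, 8, 12, 13, 11]⟩, ⟨1, 87, []⟩, ⟨1, 86, []⟩, ⟨1, 90, []⟩, ⟨1, 90, []⟩, ⟨1, 232, [2, 12, 7, 11, 13, 11, 4, 11, 12, 7]⟩]⟩,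
 ⟨4, 6, 842, [], [⟨1, 841, []⟩], []⟩,
 ⟨7, 6, 137, [4, 8, 11, 4, 13, 11, 12, 3, 1, 0, 2, 1, 3, 2, 0], [], [⟨1, 136, [4, 8, 11, 4, 13, 11, 12]⟩, ⟨1, 6, []⟩, ⟨1, 8, []⟩, ⟨1, 6, []⟩, ⟨1, 7, []⟩, ⟨1, 3, []⟩, ⟨1, 6, []⟩, ⟨1, 7, []⟩, ⟨1, 2, []⟩, ⟨1, 85, [0, 2, 8, 12, 8]⟩, ⟨1, 87, []⟩, ⟨1, 86, []⟩, ⟨1, 90, []⟩, ⟨1, 90, []⟩, ⟨1, 310, [11, 2, 4, 11, 12, 11, 4, 13]⟩]⟩,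
 ⟨4, 6, 844, [], [⟨1, 843, []⟩], []⟩,
 ⟨7, 6, 137, [11, 4, 13, 11, 12, 3, 1, 0, 2, 1, 3, 2, 0], [], [⟨1, 136, [11, 4, 13, 11, 12]⟩, ⟨1, 8, []⟩, ⟨1, 6, []⟩, ⟨1, 7, []⟩, ⟨1, 4, []⟩, ⟨1, 7, []⟩, ⟨1, 6, []⟩, ⟨1, 3, []⟩, ⟨1, 85, [8, 11, 2, 4, 11, 12, 8]⟩, ⟨1, 87, []⟩, ⟨1, 86, []⟩, ⟨1, 90, []⟩, ⟨1, 90, []⟩, ⟨1, 232, [0, 11, 12, 8, 12, 11, 12, 8, 12, 13]⟩]⟩,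
 ⟨4, 6, 846, [], [⟨1, 845, []⟩], []⟩,
 ⟨7, 6, 137, [0, 7, 11, 4, 13, 11, 12, 3, 1, 0, 2, 1, 3, 2, 0], [], [⟨1, 136, [0, 7, 11, 4, 13, 11, 12]⟩, ⟨1, 6, []⟩, ⟨1, 8, []⟩, ⟨1, 6, []⟩, ⟨1, 7, []⟩, ⟨1, 6, []⟩, ⟨1, 5, []⟩, ⟨1, 3, []⟩, ⟨1, 2, []⟩, ⟨1, 133, [2, 4, 8, 11, 4, 12, 11, 12, 8, 12, 11]⟩, ⟨1, 135, []⟩, ⟨1, 134, []⟩, ⟨1, 811, [4, 8, 12, 13, 11, 4, 11, 12, 7]⟩]⟩,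
 ⟨4, 6, 848, [], [⟨1, 847, []⟩], []⟩,
 ⟨17, 6, 137, [7, 11, 13, 5, 5, 3, 6, 6, 2, 0], [], [⟨1, 136, [7, 11, 13]⟩, ⟨1, 7, []⟩, ⟨1, 6, []⟩, ⟨1, 4, []⟩, ⟨1, 7, []⟩, ⟨1, 4, []⟩, ⟨1, 2, []⟩, ⟨1, 29, [0, 7, 11, 12, 13, 11, 12, 7]⟩, ⟨1, 22, []⟩, ⟨1, 22, []⟩, ⟨1, 25, []⟩, ⟨1, 22, []⟩, ⟨1, 22, []⟩, ⟨1, 25, []⟩, ⟨1, 30, []⟩, ⟨1, 22, []⟩, ⟨1, 212, [0, 4, 12, 7, 13, 11, 12, 8, 11, 4, 12, 13]⟩]⟩,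
 ⟨17, 6, 137, [8, 11, 13, 5, 5, 3, 6, 6, 2, 0], [], [⟨1, 136, [8, 11, 13]⟩, ⟨1, 8, []⟩, ⟨1, 6, []⟩, ⟨1, 1, []⟩, ⟨1, 38, [2, 11, 12, 11, 12, 7]⟩, ⟨1, 43, []⟩, ⟨1, 40, []⟩, ⟨1, 214, [2, 4, 8, 12, 11, 4, 11, 12, 7]⟩]⟩,
 ⟨17, 6, 137, [11, 13, 5, 5, 3, 6, 6, 2, 0], [], [⟨1, 136, [11, 13]⟩, ⟨1, 7, []⟩, ⟨1, 6, []⟩, ⟨1, 3, []⟩, ⟨1, 6, []⟩, ⟨1, 3, []⟩, ⟨1, 2, []⟩, ⟨1, 47, [0, 11, 13, 11, 12, 8, 11, 12, 7, 11, 13]⟩, ⟨1, 43, []⟩, ⟨1, 42, []⟩, ⟨1, 46, []⟩, ⟨1, 46, []⟩, ⟨1, 68, []⟩, ⟨1, 68, []⟩, ⟨1, 216, [2, 4, 11, 12, 11, 4, 11, 12, 7]⟩]⟩,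
 ⟨5, 6, 139, [4, 12, 3, 2, 0], [], [⟨1, 138, [4, 12]⟩, ⟨1, 76, []⟩, ⟨1, 78, []⟩, ⟨1, 77, []⟩, ⟨1, 81, []⟩, ⟨1, 81, []⟩, ⟨1, 77, []⟩, ⟨1, 82, [4, 7, 13, 11, 12, 11, 12, 7, 13, 11]⟩, ⟨1, 43, []⟩, ⟨1, 42, []⟩, ⟨1, 68, []⟩, ⟨1, 185, [7, 11, 12, 13, 11, 4, 12, 11, 13]⟩]⟩,
 ⟨4, 6, 853, [], [⟨1, 852, []⟩], []⟩,
 ⟨5, 6, 139, [11, 13, 3, 2, 0], [], [⟨1, 138, [11, 13]⟩, ⟨1, 76, []⟩, ⟨1, 84, [2, 4, 7, 11]⟩, ⟨1, 76, []⟩, ⟨1, 76, []⟩, ⟨1, 77, []⟩, ⟨1, 81, []⟩, ⟨1, 218, [4, 7, 11, 12, 11, 12, 7, 12, 11, 4]⟩]⟩,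
 ⟨4, 6, 855, [], [⟨1, 854, []⟩], []⟩,
 ⟨5, 6, 139, [13, 3, 2, 0], [], [⟨1, 138, [13]⟩, ⟨1, 77, []⟩, ⟨1, 81, []⟩, ⟨1, 81, []⟩, ⟨1, 104, [0, 4, 7, 11, 12, 8, 11, 12, 8, 11]⟩, ⟨1, 86, []⟩, ⟨1, 87, []⟩, ⟨1, 90, []⟩, ⟨1, 87, []⟩, ⟨1, 226, [4, 12, 7, 11, 4, 12, 11, 12, 8, 11]⟩]⟩,
 ⟨4, 6, 857, [], [⟨1, 856, []⟩], []⟩,
 ⟨7, 6, 139, [2, 4, 12, 11, 4, 12, 3, 1, 0, 2, 1, 3, 2, 0], [], [⟨1, 138, [2, 4, 12, 11, 4, 12]⟩, ⟨1, 76, []⟩, ⟨1, 78, []⟩, ⟨1, 77, []⟩, ⟨1, 391, [4, 7, 11, 12, 11, 4, 12, 11]⟩, ⟨1, 849, [2, 12, 8, 11, 4, 11, 4, 13, 11, 12]⟩]⟩,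
 ⟨4, 6, 859, [], [⟨1, 858, []⟩], []⟩,
 ⟨7, 6, 139, [4, 7, 12, 3, 1, 0, 2, 1, 3, 2, 0], [], [⟨1, 138, [4, 7, 12]⟩, ⟨1, 76, []⟩, ⟨1, 76, []⟩, ⟨1, 77, []⟩, ⟨1, 81, []⟩, ⟨1, 81, []⟩, ⟨1, 126, []⟩, ⟨1, 106, [7, 12, 13, 11, 4, 12, 11, 12, 8]⟩, ⟨1, 90, []⟩, ⟨1, 423, [2, 7, 11, 4, 12, 8, 11, 12, 8]⟩]⟩,
 ⟨4, 6, 861, [], [⟨1, 860, []⟩], []⟩,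
 ⟨7, 6, 139, [4, 12, 11, 4, 11, 12, 3, 1, 0, 2, 1, 3, 2, 0], [], [⟨1, 138, [4, 12, 11, 4, 11, 12]⟩, ⟨1, 78, []⟩, ⟨1, 77, []⟩, ⟨1, 197, [0, 12, 7, 11, 12, 8, 12, 11, 12, 8]⟩, ⟨1, 134, []⟩, ⟨1, 851, [13, 11, 12, 11, 12, 8, 12]⟩]⟩,
 ⟨4, 6, 863, [], [⟨1, 862, []⟩], []⟩,
 ⟨7, 6, 139, [0, 4, 12, 8, 13, 11, 12, 3, 1, 0, 2, 1, 3, 2, 0], [], [⟨1, 138, [0, 4, 12, 8, 13, 11, 12]⟩, ⟨1, 77, []⟩, ⟨1, 81, []⟩, ⟨1, 81, []⟩, ⟨1, 218, [2, 7, 11, 4, 12, 8, 11, 12, 8, 11]⟩, ⟨1, 855, [4, 13, 11, 4, 12, 11, 4]⟩]⟩,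
 ⟨4, 6, 865, [], [⟨1, 864, []⟩], []⟩,
 ⟨7, 6, 139, [0, 11, 12, 11, 4, 13, 3, 1, 0, 2, 1, 3, 2, 0], [], [⟨1, 138, [0, 11, 12, 11, 4, 13]⟩, ⟨1, 78, []⟩, ⟨1, 77, []⟩, ⟨1, 81, []⟩, ⟨1, 77, []⟩, ⟨1, 81, []⟩, ⟨1, 126, []⟩, ⟨1, 106, [4, 12, 13, 11, 12, 7, 12, 11, 12, 8]⟩, ⟨1, 87, []⟩, ⟨1, 86, []⟩, ⟨1, 429, [0, 8, 11, 12, 13, 11, 12, 8, 11, 13]⟩]⟩,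
 ⟨4, 6, 867, [], [⟨1, 866, []⟩], []⟩,
 ⟨7, 6, 139, [2, 12, 11, 12, 3, 1, 0, 2, 1, 3, 2, 0], [], [⟨1, 138, [2, 12, 11, 12]⟩, ⟨1, 78, []⟩, ⟨1, 77, []⟩, ⟨1, 81, []⟩, ⟨1, 197, [2, 13, 11, 12, 8, 11, 4, 12, 13]⟩, ⟨1, 134, []⟩, ⟨1, 851, [11, 2, 12, 11, 13, 11, 12, 8, 11, 12]⟩]⟩,
 ⟨4, 6, 869, [], [⟨1, 868, []⟩], []⟩]
theorem chk16 : and2 (D.chkL PF16 823) (Nat.beq (Nat.add 823 PF16.length) 870) = true := by decide +kernel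

def PF17 : List DPf := [⟨7, 6, 139, [2, 4, 11, 4, 3, 1, 0, 2, 1, 3, 2, 0], [], [⟨1, 138, [2, 4, 11, 4]⟩, ⟨1, 78, []⟩, ⟨1, 77, []⟩, ⟨1, 81, []⟩, ⟨1, 137, [0, 11, 4, 13, 11, 4, 11]⟩, ⟨1, 854, [0, 4, 13]⟩]⟩,
 ⟨4, 6, 871, [], [⟨1, 870, []⟩], []⟩,
 ⟨7, 6, 139, [0, 7, 13, 11, 12, 3, 1, 0, 2, 1, 3, 2, 0], [], [⟨1, 138, [0, 7, 13, 11, 12]⟩, ⟨1, 77, []⟩, ⟨1, 81, []⟩, ⟨1, 81, []⟩, ⟨1, 137, [0, 8, 11, 4, 12, 13, 11, 12, 11, 4]⟩, ⟨1, 854, [4, 8, 11, 12, 11, 12, 8, 13]⟩]⟩,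
 ⟨4, 6, 873, [], [⟨1, 872, []⟩], []⟩,
 ⟨8, 6, 139, [0, 11, 13, 11, 4, 12, 0, 2, 3, 4, 2, 1, 2, 0, 1, 3, 2, 0], [], [⟨1, 138, [0, 11, 13, 11, 4, 12]⟩, ⟨1, 76, []⟩, ⟨1, 81, []⟩, ⟨1, 81, []⟩, ⟨1, 77, []⟩, ⟨1, 82, [0, 13, 11, 12, 11, 12, 8, 12, 11, 4, 11]⟩, ⟨1, 39, []⟩, ⟨1, 46, []⟩, ⟨1, 68, []⟩, ⟨1, 68, []⟩, ⟨1, 785, [2, 4, 8, 11, 13, 11, 12, 8, 11]⟩]⟩,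
 ⟨4, 6, 875, [], [⟨1, 874, []⟩], []⟩,
 ⟨8, 6, 139, [2, 11, 12, 11, 4, 0, 2, 3, 4, 2, 1, 2, 0, 1, 3, 2, 0], [], [⟨1, 138, [2, 11, 12, 11, 4]⟩, ⟨1, 76, []⟩, ⟨1, 78, []⟩, ⟨1, 77, []⟩, ⟨1, 81, []⟩, ⟨1, 81, []⟩, ⟨1, 77, []⟩, ⟨1, 82, [2, 11, 12, 7, 12, 11, 12, 7, 12, 13]⟩, ⟨1, 43, []⟩, ⟨1, 42, []⟩, ⟨1, 41, []⟩, ⟨1, 46, []⟩, ⟨1, 368, [12, 11, 2, 13, 11, 4, 12, 8, 11]⟩]⟩,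
 ⟨4, 6, 877, [], [⟨1, 876, []⟩], []⟩,
 ⟨8, 6, 139, [0, 7, 11, 12, 13, 0, 2, 3, 4, 2, 1, 2, 0, 1, 3, 2, 0], [], [⟨1, 138, [0, 7, 11, 12, 13]⟩, ⟨1, 81, []⟩, ⟨1, 81, []⟩, ⟨1, 104, [0, 4, 12, 13, 11, 12, 7, 12, 11, 12]⟩, ⟨1, 87, []⟩, ⟨1, 525, [12, 8, 13, 11, 2, 12, 7, 11, 12, 8, 13]⟩]⟩,
 ⟨4, 6, 879, [], [⟨1, 878, []⟩], []⟩,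
 ⟨8, 6, 139, [11, 4, 13, 0, 2, 3, 4, 2, 1, 2, 0, 1, 3, 2, 0], [], [⟨1, 138, [11, 4, 13]⟩, ⟨1, 81, []⟩, ⟨1, 81, []⟩, ⟨1, 77, []⟩, ⟨1, 102, [7, 13, 11, 12, 8, 11]⟩, ⟨1, 87, []⟩, ⟨1, 425, [8, 11, 13, 11, 12, 7, 11, 13]⟩]⟩,
 ⟨4, 6, 881, [], [⟨1, 880, []⟩], []⟩,
 ⟨8, 6, 139, [2, 7, 11, 4, 11, 12, 0, 2, 3, 4, 2, 1, 2, 0, 1, 3, 2, 0], [], [⟨1, 138, [2, 7, 11, 4, 11, 12]⟩, ⟨1, 76, []⟩, ⟨1, 78, []⟩, ⟨1, 77, []⟩, ⟨1, 81, []⟩, ⟨1, 81, []⟩, ⟨1, 106, [0, 8, 12, 13, 11, 4, 12, 8, 11, 12]⟩, ⟨1, 90, []⟩, ⟨1, 423, [12, 8, 12, 13, 11, 2, 4, 11, 12, 8]⟩]⟩,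
 ⟨4, 6, 883, [], [⟨1, 882, []⟩], []⟩,
 ⟨8, 6, 139, [0, 8, 12, 13, 0, 2, 3, 4, 2, 1, 2, 0, 1, 3, 2, 0], [], [⟨1, 138, [0, 8, 12, 13]⟩, ⟨1, 76, []⟩, ⟨1, 77, []⟩, ⟨1, 81, []⟩, ⟨1, 81, []⟩, ⟨1, 77, []⟩, ⟨1, 82, [0, 11, 12, 8, 11, 12, 13, 11, 12, 7, 11]⟩, ⟨1, 39, []⟩, ⟨1, 42, []⟩, ⟨1, 41, []⟩, ⟨1, 40, []⟩, ⟨1, 46, []⟩, ⟨1, 46, []⟩, ⟨1, 379, [7, 12, 11, 12, 13, 11, 4, 12, 8]⟩]⟩,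
 ⟨4, 6, 885, [], [⟨1, 884, []⟩], []⟩,
 ⟨8, 6, 139, [7, 11, 12, 13, 0, 2, 3, 4, 2, 1, 2, 0, 1, 3, 2, 0], [], [⟨1, 138, [7, 11, 12, 13]⟩, ⟨1, 81, []⟩, ⟨1, 81, []⟩, ⟨1, 104, [12, 11, 2, 13, 11, 12, 7, 11, 4, 12]⟩, ⟨1, 90, []⟩, ⟨1, 90, []⟩, ⟨1, 90, []⟩, ⟨1, 86, []⟩, ⟨1, 328, [2, 8, 11, 4, 12, 13]⟩]⟩,
 ⟨4, 6, 887, [], [⟨1, 886, []⟩], []⟩,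
 ⟨8, 6, 139, [0, 12, 7, 13, 11, 4, 12, 0, 2, 3, 4, 2, 1, 2, 0, 1, 3, 2, 0], [], [⟨1, 138, [0, 12, 7, 13, 11, 4, 12]⟩, ⟨1, 76, []⟩, ⟨1, 77, []⟩, ⟨1, 81, []⟩, ⟨1, 81, []⟩, ⟨1, 77, []⟩, ⟨1, 82, [0, 7, 12, 8, 13, 11, 12, 7, 11, 4]⟩, ⟨1, 42, []⟩, ⟨1, 41, []⟩, ⟨1, 40, []⟩, ⟨1, 68, []⟩, ⟨1, 375, [2, 12, 8, 11, 4, 11, 12, 7, 11]⟩]⟩,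
 ⟨4, 6, 889, [], [⟨1, 888, []⟩], []⟩,
 ⟨8, 6, 139, [4, 7, 13, 11, 12, 0, 2, 3, 4, 2, 1, 2, 0, 1, 3, 2, 0], [], [⟨1, 138, [4, 7, 13, 11, 12]⟩, ⟨1, 77, []⟩, ⟨1, 81, []⟩, ⟨1, 81, []⟩, ⟨1, 77, []⟩, ⟨1, 102, [2, 7, 12, 8, 13, 11, 12, 7, 11, 12, 7]⟩, ⟨1, 423, [7, 13, 11, 4, 11, 13]⟩]⟩,
 ⟨4, 6, 891, [], [⟨1, 890, []⟩], []⟩,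
 ⟨8, 6, 139, [12, 11, 13, 11, 4, 12, 0, 2, 3, 4, 2, 1, 2, 0, 1, 3, 2, 0], [], [⟨1, 138, [12, 11, 13, 11, 4, 12]⟩, ⟨1, 76, []⟩, ⟨1, 81, []⟩, ⟨1, 81, []⟩, ⟨1, 77, []⟩, ⟨1, 82, [11, 12, 8, 13, 11, 4, 11, 12]⟩, ⟨1, 42, []⟩, ⟨1, 591, [0, 12, 11, 4, 12, 11, 13, 11, 12, 7]⟩]⟩,
 ⟨4, 6, 893, [], [⟨1, 892, []⟩], []⟩,
 ⟨8, 6, 139, [8, 12, 7, 11, 12, 0, 2, 3, 4, 2, 1, 2, 0, 1, 3, 2, 0], [], [⟨1, 138, [8, 12, 7, 11, 12]⟩, ⟨1, 76, []⟩, ⟨1, 78, []⟩, ⟨1, 77, []⟩, ⟨1, 81, []⟩, ⟨1, 81, []⟩, ⟨1, 106, [2, 12, 8, 11, 4, 13, 11, 12, 11]⟩, ⟨1, 573, [7, 12, 7, 13, 11, 12, 8, 11, 12, 8, 13]⟩]⟩,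
 ⟨4, 6, 895, [], [⟨1, 894, []⟩], []⟩,
 ⟨8, 6, 139, [0, 4, 13, 0, 2, 3, 4, 2, 1, 2, 0, 1, 3, 2, 0], [], [⟨1, 138, [0, 4, 13]⟩, ⟨1, 76, []⟩, ⟨1, 77, []⟩, ⟨1, 81, []⟩, ⟨1, 81, []⟩, ⟨1, 106, [2, 12, 11, 13, 11, 12, 8, 11, 4]⟩, ⟨1, 86, []⟩, ⟨1, 90, []⟩, ⟨1, 87, []⟩, ⟨1, 90, []⟩, ⟨1, 90, []⟩, ⟨1, 425, [12, 8, 12, 11, 4, 11, 13, 11, 4, 12]⟩]⟩,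
 ⟨4, 6, 897, [], [⟨1, 896, []⟩], []⟩,
 ⟨8, 6, 139, [12, 8, 11, 12, 0, 2, 3, 4, 2, 1, 2, 0, 1, 3, 2, 0], [], [⟨1, 138, [12, 8, 11, 12]⟩, ⟨1, 76, []⟩, ⟨1, 78, []⟩, ⟨1, 77, []⟩, ⟨1, 81, []⟩, ⟨1, 81, []⟩, ⟨1, 106, [12, 7, 11, 4, 12, 11, 12, 8, 11, 13]⟩, ⟨1, 90, []⟩, ⟨1, 87, []⟩, ⟨1, 90, []⟩, ⟨1, 449, [12, 7, 11, 2, 4, 12, 13, 11, 12, 8]⟩]⟩,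
 ⟨4, 6, 899, [], [⟨1, 898, []⟩], []⟩,
 ⟨8, 6, 139, [0, 7, 12, 13, 11, 4, 0, 2, 3, 4, 2, 1, 2, 0, 1, 3, 2, 0], [], [⟨1, 138, [0, 7, 12, 13, 11, 4]⟩, ⟨1, 77, []⟩, ⟨1, 81, []⟩, ⟨1, 81, []⟩, ⟨1, 77, []⟩, ⟨1, 102, [4, 8, 12, 11, 4, 12, 11, 13]⟩, ⟨1, 87, []⟩, ⟨1, 429, [12, 11, 12, 7, 12, 11, 12]⟩]⟩,
 ⟨4, 6, 901, [], [⟨1, 900, []⟩], []⟩,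
 ⟨8, 6, 139, [7, 11, 4, 12, 11, 4, 0, 2, 3, 4, 2, 1, 2, 0, 1, 3, 2, 0], [], [⟨1, 138, [7, 11, 4, 12, 11, 4]⟩, ⟨1, 78, []⟩, ⟨1, 77, []⟩, ⟨1, 81, []⟩, ⟨1, 81, []⟩, ⟨1, 104, [4, 8, 13, 11, 12, 11, 4, 12, 8]⟩, ⟨1, 86, []⟩, ⟨1, 318, [11, 12, 11, 12, 8, 12, 11, 13]⟩]⟩,
 ⟨4, 6, 903, [], [⟨1, 902, []⟩], []⟩,
 ⟨8, 6, 139, [4, 7, 12, 13, 11, 4, 12, 0, 2, 3, 4, 2, 1, 2, 0, 1, 3, 2, 0], [], [⟨1, 138, [4, 7, 12, 13, 11, 4, 12]⟩, ⟨1, 77, []⟩, ⟨1, 81, []⟩, ⟨1, 81, []⟩, ⟨1, 104, [8, 11, 12, 8, 13, 11, 12, 11]⟩, ⟨1, 527, [0, 4, 12, 7, 11, 12, 7, 11, 12]⟩]⟩,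
 ⟨4, 6, 905, [], [⟨1, 904, []⟩], []⟩,
 ⟨8, 6, 139, [8, 13, 11, 12, 7, 11, 12, 0, 2, 3, 4, 2, 1, 2, 0, 1, 3, 2, 0], [], [⟨1, 138, [8, 13, 11, 12, 7, 11, 12]⟩, ⟨1, 77, []⟩, ⟨1, 81, []⟩, ⟨1, 81, []⟩, ⟨1, 77, []⟩, ⟨1, 102, [11, 12, 11, 12, 13, 11, 4, 11]⟩, ⟨1, 87, []⟩, ⟨1, 90, []⟩, ⟨1, 86, []⟩, ⟨1, 90, []⟩, ⟨1, 411, [4, 12, 7, 11, 12, 7, 11, 13, 11, 12]⟩]⟩,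
 ⟨4, 6, 907, [], [⟨1, 906, []⟩], []⟩,
 ⟨8, 6, 139, [4, 12, 11, 12, 0, 2, 3, 4, 2, 1, 2, 0, 1, 3, 2, 0], [], [⟨1, 138, [4, 12, 11, 12]⟩, ⟨1, 78, []⟩, ⟨1, 77, []⟩, ⟨1, 81, []⟩, ⟨1, 81, []⟩, ⟨1, 77, []⟩, ⟨1, 102, [2, 11, 4, 11, 4, 13]⟩, ⟨1, 87, []⟩, ⟨1, 451, [7, 11, 4, 11, 4, 13, 11, 12, 7, 11, 13]⟩]⟩,
 ⟨4, 6, 909, [], [⟨1, 908, []⟩], []⟩,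
 ⟨8, 6, 139, [4, 11, 4, 13, 11, 12, 0, 2, 3, 4, 2, 1, 2, 0, 1, 3, 2, 0], [], [⟨1, 138, [4, 11, 4, 13, 11, 12]⟩, ⟨1, 76, []⟩, ⟨1, 81, []⟩, ⟨1, 81, []⟩, ⟨1, 77, []⟩, ⟨1, 82, [4, 11, 2, 4, 12, 8, 11, 12, 11, 13]⟩, ⟨1, 379, [12, 11, 2, 12, 8, 12, 11, 12, 8]⟩]⟩,
 ⟨4, 6, 911, [], [⟨1, 910, []⟩], []⟩,
 ⟨8, 6, 139, [11, 4, 12, 13, 0, 2, 3, 4, 2, 1, 2, 0, 1, 3, 2, 0], [], [⟨1, 138, [11, 4, 12, 13]⟩, ⟨1, 76, []⟩, ⟨1, 81, []⟩, ⟨1, 81, []⟩, ⟨1, 77, []⟩, ⟨1, 82, [0, 7, 12, 7, 11, 4, 13, 11, 4, 11]⟩, ⟨1, 39, []⟩, ⟨1, 46, []⟩, ⟨1, 46, []⟩, ⟨1, 364, [2, 12, 11, 4, 11, 13, 11, 12, 7]⟩]⟩,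
 ⟨4, 6, 913, [], [⟨1, 912, []⟩], []⟩,
 ⟨8, 6, 139, [8, 12, 8, 11, 12, 13, 0, 2, 3, 4, 2, 1, 2, 0, 1, 3, 2, 0], [], [⟨1, 138, [8, 12, 8, 11, 12, 13]⟩, ⟨1, 81, []⟩, ⟨1, 81, []⟩, ⟨1, 104, [4, 7, 12, 8, 13, 11, 4, 11, 12, 7]⟩, ⟨1, 90, []⟩, ⟨1, 86, []⟩, ⟨1, 90, []⟩, ⟨1, 505, [11, 2, 4, 12, 13, 11, 4, 12]⟩]⟩,
 ⟨4, 6, 915, [], [⟨1, 914, []⟩], []⟩,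
 ⟨8, 6, 139, [0, 4, 7, 12, 13, 0, 2, 3, 4, 2, 1, 2, 0, 1, 3, 2, 0], [], [⟨1, 138, [0, 4, 7, 12, 13]⟩, ⟨1, 77, []⟩, ⟨1, 81, []⟩, ⟨1, 81, []⟩, ⟨1, 77, []⟩, ⟨1, 102, [12, 8, 13, 11, 12, 7, 11, 12, 8]⟩, ⟨1, 87, []⟩, ⟨1, 427, [8, 13, 11, 12, 8, 11, 13]⟩]⟩,
 ⟨4, 6, 917, [], [⟨1, 916, []⟩], []⟩]
theorem chk17 : and2 (D.chkL PF17 870) (Nat.beq (Nat.add 870 PF17.length) 918) = true := by decide +kernel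

def PF18 : List DPf := [⟨8, 6, 139, [2, 8, 11, 12, 7, 11, 12, 0, 2, 3, 4, 2, 1, 2, 0, 1, 3, 2, 0], [], [⟨1, 138, [2, 8, 11, 12, 7, 11, 12]⟩, ⟨1, 76, []⟩, ⟨1, 78, []⟩, ⟨1, 77, []⟩, ⟨1, 81, []⟩, ⟨1, 81, []⟩, ⟨1, 106, [11, 4, 11, 12, 8, 13, 11, 4, 11]⟩, ⟨1, 86, []⟩, ⟨1, 429, [4, 8, 11, 12, 13, 11, 4, 11, 12]⟩]⟩,
 ⟨4, 6, 919, [], [⟨1, 918, []⟩], []⟩,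
 ⟨8, 6, 139, [11, 12, 8, 11, 12, 13, 0, 2, 3, 4, 2, 1, 2, 0, 1, 3, 2, 0], [], [⟨1, 138, [11, 12, 8, 11, 12, 13]⟩, ⟨1, 76, []⟩, ⟨1, 77, []⟩, ⟨1, 81, []⟩, ⟨1, 81, []⟩, ⟨1, 77, []⟩, ⟨1, 82, [0, 8, 12, 7, 13, 11, 4, 11, 12]⟩, ⟨1, 39, []⟩, ⟨1, 41, []⟩, ⟨1, 46, []⟩, ⟨1, 46, []⟩, ⟨1, 68, []⟩, ⟨1, 68, []⟩, ⟨1, 381, [7, 12, 7, 13, 11, 12, 11, 4, 13]⟩]⟩,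
 ⟨4, 6, 921, [], [⟨1, 920, []⟩], []⟩,
 ⟨8, 6, 139, [4, 11, 4, 0, 2, 3, 4, 2, 1, 2, 0, 1, 3, 2, 0], [], [⟨1, 138, [4, 11, 4]⟩, ⟨1, 76, []⟩, ⟨1, 78, []⟩, ⟨1, 77, []⟩, ⟨1, 84, [8, 12, 11, 12, 8, 13, 11, 4, 11, 4]⟩, ⟨1, 77, []⟩, ⟨1, 81, []⟩, ⟨1, 81, []⟩, ⟨1, 391, [4, 7, 11, 4, 11, 13, 11, 12, 7, 11, 13]⟩]⟩,
 ⟨4, 6, 923, [], [⟨1, 922, []⟩], []⟩,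
 ⟨8, 6, 139, [7, 12, 11, 4, 12, 13, 0, 2, 3, 4, 2, 1, 2, 0, 1, 3, 2, 0], [], [⟨1, 138, [7, 12, 11, 4, 12, 13]⟩, ⟨1, 76, []⟩, ⟨1, 81, []⟩, ⟨1, 81, []⟩, ⟨1, 106, [12, 7, 11, 4, 13, 11, 4, 11]⟩, ⟨1, 86, []⟩, ⟨1, 87, []⟩, ⟨1, 90, []⟩, ⟨1, 467, [2, 7, 12, 8, 13, 11, 4]⟩]⟩,
 ⟨4, 6, 925, [], [⟨1, 924, []⟩], []⟩,
 ⟨8, 6, 139, [8, 12, 7, 11, 4, 12, 0, 2, 3, 4, 2, 1, 2, 0, 1, 3, 2, 0], [], [⟨1, 138, [8, 12, 7, 11, 4, 12]⟩, ⟨1, 78, []⟩, ⟨1, 77, []⟩, ⟨1, 81, []⟩, ⟨1, 81, []⟩, ⟨1, 104, [8, 11, 13, 11, 4, 11, 12]⟩, ⟨1, 87, []⟩, ⟨1, 86, []⟩, ⟨1, 90, []⟩, ⟨1, 87, []⟩, ⟨1, 282, [8, 13, 11, 4, 11, 4, 12, 11, 13, 11]⟩]⟩,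
 ⟨4, 6, 927, [], [⟨1, 926, []⟩], []⟩,
 ⟨17, 6, 139, [12, 7, 5, 5, 3, 6, 6, 2, 0], [], [⟨1, 138, [12, 7]⟩, ⟨1, 76, []⟩, ⟨1, 76, []⟩, ⟨1, 78, []⟩, ⟨1, 77, []⟩, ⟨1, 81, []⟩, ⟨1, 81, []⟩, ⟨1, 104, [11, 13, 11, 4, 12, 8, 11, 4, 12, 13]⟩, ⟨1, 195, [13, 11, 4, 11, 4, 13, 11]⟩]⟩,
 ⟨4, 6, 929, [], [⟨1, 928, []⟩], []⟩,
 ⟨17, 6, 139, [8, 12, 8, 5, 5, 3, 6, 6, 2, 0], [], [⟨1, 138, [8, 12, 8]⟩, ⟨1, 76, []⟩, ⟨1, 76, []⟩, ⟨1, 78, []⟩, ⟨1, 77, []⟩, ⟨1, 81, []⟩, ⟨1, 81, []⟩, ⟨1, 77, []⟩, ⟨1, 102, [2, 11, 4, 12, 11, 12, 7, 12, 11, 12, 8]⟩, ⟨1, 86, []⟩, ⟨1, 87, []⟩, ⟨1, 90, []⟩, ⟨1, 86, []⟩, ⟨1, 211, [0, 8, 11, 12, 11, 4, 11, 12, 7, 11]⟩]⟩,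
 ⟨4, 6, 931, [], [⟨1, 930, []⟩], []⟩,
 ⟨5, 6, 141, [4, 13, 3, 2, 0], [], [⟨1, 140, [4, 13]⟩, ⟨1, 86, []⟩, ⟨1, 90, []⟩, ⟨1, 90, []⟩, ⟨1, 195, [11, 12, 8, 12, 11, 12, 8, 11, 4, 11]⟩, ⟨1, 134, []⟩, ⟨1, 856, [8, 12, 7, 11, 12, 8, 11, 12, 7]⟩]⟩,
 ⟨4, 6, 933, [], [⟨1, 932, []⟩], []⟩,
 ⟨6, 6, 141, [4, 12, 0, 2, 4, 3, 2, 0], [], [⟨1, 140, [4, 12]⟩, ⟨1, 90, []⟩, ⟨1, 95, [0, 8, 11, 12, 8, 11, 12, 7, 11, 12, 11]⟩, ⟨1, 39, []⟩, ⟨1, 40, []⟩, ⟨1, 46, []⟩, ⟨1, 68, []⟩, ⟨1, 150, [0, 13, 11, 4, 11, 4, 13, 11, 12, 8, 12]⟩]⟩,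
 ⟨4, 6, 935, [], [⟨1, 934, []⟩], []⟩,
 ⟨7, 6, 141, [12, 13, 11, 4, 3, 1, 0, 2, 1, 3, 2, 0], [], [⟨1, 140, [12, 13, 11, 4]⟩, ⟨1, 87, []⟩, ⟨1, 86, []⟩, ⟨1, 90, []⟩, ⟨1, 86, []⟩, ⟨1, 122, [8, 13, 11, 12, 8, 11, 12, 7, 11, 13]⟩, ⟨1, 43, []⟩, ⟨1, 42, []⟩, ⟨1, 41, []⟩, ⟨1, 40, []⟩, ⟨1, 46, []⟩, ⟨1, 68, []⟩, ⟨1, 368, [4, 8, 11, 2, 12, 8, 11, 12, 8, 13]⟩]⟩,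
 ⟨4, 6, 937, [], [⟨1, 936, []⟩], []⟩,
 ⟨7, 6, 141, [2, 4, 8, 11, 12, 3, 1, 0, 2, 1, 3, 2, 0], [], [⟨1, 140, [2, 4, 8, 11, 12]⟩, ⟨1, 87, []⟩, ⟨1, 90, []⟩, ⟨1, 90, []⟩, ⟨1, 117, [13, 11, 2, 4, 12]⟩, ⟨1, 86, []⟩, ⟨1, 87, []⟩, ⟨1, 86, []⟩, ⟨1, 537, [0, 4, 7, 11, 4, 12, 11, 13, 11, 4, 12, 11]⟩]⟩,
 ⟨4, 6, 939, [], [⟨1, 938, []⟩], []⟩,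
 ⟨7, 6, 141, [8, 12, 11, 4, 12, 13, 3, 1, 0, 2, 1, 3, 2, 0], [], [⟨1, 140, [8, 12, 11, 4, 12, 13]⟩, ⟨1, 87, []⟩, ⟨1, 90, []⟩, ⟨1, 90, []⟩, ⟨1, 132, [2, 4, 8, 11, 12, 11, 4, 12, 7, 11]⟩, ⟨1, 87, []⟩, ⟨1, 86, []⟩, ⟨1, 90, []⟩, ⟨1, 86, []⟩, ⟨1, 535, [2, 7, 12, 11, 13, 11, 12, 11]⟩]⟩,
 ⟨4, 6, 941, [], [⟨1, 940, []⟩], []⟩,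
 ⟨7, 6, 141, [2, 4, 12, 11, 4, 12, 3, 1, 0, 2, 1, 3, 2, 0], [], [⟨1, 140, [2, 4, 12, 11, 4, 12]⟩, ⟨1, 90, []⟩, ⟨1, 86, []⟩, ⟨1, 336, [2, 8, 11, 4, 13, 11, 12, 7, 11, 4, 13]⟩, ⟨1, 135, []⟩, ⟨1, 134, []⟩, ⟨1, 849, [2, 12, 11, 4, 11, 13, 11, 12, 8, 12]⟩]⟩,
 ⟨4, 6, 943, [], [⟨1, 942, []⟩], []⟩,
 ⟨7, 6, 141, [4, 12, 11, 4, 11, 12, 3, 1, 0, 2, 1, 3, 2, 0], [], [⟨1, 140, [4, 12, 11, 4, 11, 12]⟩, ⟨1, 90, []⟩, ⟨1, 86, []⟩, ⟨1, 201, [0, 8, 12, 13, 11, 12, 7, 11, 13]⟩, ⟨1, 851, [11, 2, 4, 11, 12, 8, 13, 11, 4, 11, 12]⟩]⟩,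
 ⟨4, 6, 945, [], [⟨1, 944, []⟩], []⟩,
 ⟨7, 6, 141, [2, 4, 11, 4, 11, 12, 3, 1, 0, 2, 1, 3, 2, 0], [], [⟨1, 140, [2, 4, 11, 4, 11, 12]⟩, ⟨1, 87, []⟩, ⟨1, 90, []⟩, ⟨1, 90, []⟩, ⟨1, 90, []⟩, ⟨1, 561, [8, 12, 7, 11, 13, 11, 12, 7]⟩, ⟨1, 134, []⟩, ⟨1, 135, []⟩, ⟨1, 924, [0, 12, 7, 12, 11, 12]⟩]⟩,
 ⟨4, 6, 947, [], [⟨1, 946, []⟩], []⟩,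
 ⟨7, 6, 141, [7, 12, 7, 13, 11, 12, 3, 1, 0, 2, 1, 3, 2, 0], [], [⟨1, 140, [7, 12, 7, 13, 11, 12]⟩, ⟨1, 86, []⟩, ⟨1, 87, []⟩, ⟨1, 90, []⟩, ⟨1, 90, []⟩, ⟨1, 115, [2, 12, 13, 11, 4, 11, 12, 8]⟩, ⟨1, 43, []⟩, ⟨1, 41, []⟩, ⟨1, 46, []⟩, ⟨1, 46, []⟩, ⟨1, 364, [2, 12, 11, 4, 12, 7]⟩]⟩,
 ⟨4, 6, 949, [], [⟨1, 948, []⟩], []⟩,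
 ⟨7, 6, 141, [8, 12, 7, 13, 11, 12, 3, 1, 0, 2, 1, 3, 2, 0], [], [⟨1, 140, [8, 12, 7, 13, 11, 12]⟩, ⟨1, 717, [2, 7, 12, 11, 4, 11, 12, 11, 4]⟩, ⟨1, 135, []⟩, ⟨1, 134, []⟩, ⟨1, 925, [2, 7, 11, 12, 8, 12, 13, 11, 4, 12]⟩]⟩,
 ⟨4, 6, 951, [], [⟨1, 950, []⟩], []⟩,
 ⟨7, 6, 141, [0, 4, 12, 8, 13, 11, 12, 3, 1, 0, 2, 1, 3, 2, 0], [], [⟨1, 140, [0, 4, 12, 8, 13, 11, 12]⟩, ⟨1, 86, []⟩, ⟨1, 310, [2, 8, 11, 4, 11, 4, 13, 11, 12, 8, 11, 13]⟩, ⟨1, 854, [2, 4, 11, 13, 11, 12, 8, 11, 4, 11, 13]⟩]⟩,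
 ⟨4, 6, 953, [], [⟨1, 952, []⟩], []⟩,
 ⟨7, 6, 141, [13, 11, 4, 11, 12, 3, 1, 0, 2, 1, 3, 2, 0], [], [⟨1, 140, [13, 11, 4, 11, 12]⟩, ⟨1, 86, []⟩, ⟨1, 87, []⟩, ⟨1, 90, []⟩, ⟨1, 90, []⟩, ⟨1, 425, [8, 12, 11, 13, 11, 4, 12, 11, 12, 13]⟩, ⟨1, 135, []⟩, ⟨1, 948, [2, 12, 11, 4, 11, 12, 7, 12, 13, 11, 4, 11]⟩]⟩,
 ⟨4, 6, 955, [], [⟨1, 954, []⟩], []⟩,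
 ⟨7, 6, 141, [2, 12, 11, 12, 3, 1, 0, 2, 1, 3, 2, 0], [], [⟨1, 140, [2, 12, 11, 12]⟩, ⟨1, 87, []⟩, ⟨1, 86, []⟩, ⟨1, 207, [4, 8, 11, 12, 7, 11, 4, 11]⟩, ⟨1, 135, []⟩, ⟨1, 134, []⟩, ⟨1, 849, [13, 11, 2, 12, 7, 11, 12, 7]⟩]⟩,
 ⟨4, 6, 957, [], [⟨1, 956, []⟩], []⟩,
 ⟨8, 6, 141, [2, 11, 12, 11, 4, 0, 2, 3, 4, 2, 1, 2, 0, 1, 3, 2, 0], [], [⟨1, 140, [2, 11, 12, 11, 4]⟩, ⟨1, 90, []⟩, ⟨1, 95, [11, 4, 12, 8, 11, 12, 11, 4, 13]⟩, ⟨1, 288, [7, 11, 2, 12, 11, 13, 11, 4, 11]⟩]⟩,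
 ⟨4, 6, 959, [], [⟨1, 958, []⟩], []⟩,
 ⟨8, 6, 141, [12, 8, 11, 4, 12, 13, 0, 2, 3, 4, 2, 1, 2, 0, 1, 3, 2, 0], [], [⟨1, 140, [12, 8, 11, 4, 12, 13]⟩, ⟨1, 90, []⟩, ⟨1, 90, []⟩, ⟨1, 111, [2, 7, 12, 13, 11, 12, 7, 12, 11, 4]⟩, ⟨1, 481, [7, 11, 13, 11, 4, 12, 8, 11, 13]⟩]⟩,
 ⟨4, 6, 961, [], [⟨1, 960, []⟩], []⟩,
 ⟨8, 6, 141, [4, 12, 8, 11, 12, 13, 0, 2, 3, 4, 2, 1, 2, 0, 1, 3, 2, 0], [], [⟨1, 140, [4, 12, 8, 11, 12, 13]⟩, ⟨1, 90, []⟩, ⟨1, 90, []⟩, ⟨1, 103, [0, 7, 12, 13, 11, 12, 8, 12, 11]⟩, ⟨1, 77, []⟩, ⟨1, 81, []⟩, ⟨1, 126, []⟩, ⟨1, 78, []⟩, ⟨1, 362, [13, 11, 12, 7, 12, 11, 12, 13]⟩]⟩,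
 ⟨4, 6, 963, [], [⟨1, 962, []⟩], []⟩,
 ⟨8, 6, 141, [11, 4, 13, 0, 2, 3, 4, 2, 1, 2, 0, 1, 3, 2, 0], [], [⟨1, 140, [11, 4, 13]⟩, ⟨1, 86, []⟩, ⟨1, 108, [11, 2, 4, 12, 11, 12, 13]⟩, ⟨1, 87, []⟩, ⟨1, 90, []⟩, ⟨1, 90, []⟩, ⟨1, 86, []⟩, ⟨1, 729, [0, 4, 7, 11, 12, 8, 13, 11, 12, 8, 11]⟩]⟩,
 ⟨4, 6, 965, [], [⟨1, 964, []⟩], []⟩]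
theorem chk18 : and2 (D.chkL PF18 918) (Nat.beq (Nat.add 918 PF18.length) 966) = true := by decide +kernel

def PF19 : List DPf := [⟨8, 6, 141, [4, 8, 11, 4, 12, 0, 2, 3, 4, 2, 1, 2, 0, 1, 3, 2, 0], [], [⟨1, 140, [4, 8, 11, 4, 12]⟩, ⟨1, 87, []⟩, ⟨1, 86, []⟩, ⟨1, 90, []⟩, ⟨1, 90, []⟩, ⟨1, 103, [0, 11, 12, 7, 11, 12, 8, 11, 12, 13]⟩, ⟨1, 76, []⟩, ⟨1, 76, []⟩, ⟨1, 81, []⟩, ⟨1, 81, []⟩, ⟨1, 126, []⟩, ⟨1, 220, [2, 7, 12, 8, 11, 12, 11, 12, 13, 11]⟩]⟩,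
 ⟨4, 6, 967, [], [⟨1, 966, []⟩], []⟩,
 ⟨8, 6, 141, [0, 8, 12, 13, 0, 2, 3, 4, 2, 1, 2, 0, 1, 3, 2, 0], [], [⟨1, 140, [0, 8, 12, 13]⟩, ⟨1, 87, []⟩, ⟨1, 90, []⟩, ⟨1, 95, [4, 7, 11, 13, 11, 4, 12, 11, 12, 8]⟩, ⟨1, 39, []⟩, ⟨1, 43, []⟩, ⟨1, 42, []⟩, ⟨1, 41, []⟩, ⟨1, 40, []⟩, ⟨1, 46, []⟩, ⟨1, 234, [2, 11, 4, 11, 13, 11, 12, 7, 11, 4]⟩]⟩,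
 ⟨4, 6, 969, [], [⟨1, 968, []⟩], []⟩,
 ⟨8, 6, 141, [0, 4, 12, 13, 0, 2, 3, 4, 2, 1, 2, 0, 1, 3, 2, 0], [], [⟨1, 140, [0, 4, 12, 13]⟩, ⟨1, 86, []⟩, ⟨1, 90, []⟩, ⟨1, 90, []⟩, ⟨1, 103, [11, 12, 8, 11, 4, 11, 12, 11, 13]⟩, ⟨1, 393, [0, 4, 8, 12, 11, 12, 8, 12, 11, 4, 12]⟩]⟩,
 ⟨4, 6, 971, [], [⟨1, 970, []⟩], []⟩,
 ⟨8, 6, 141, [0, 4, 13, 11, 12, 0, 2, 3, 4, 2, 1, 2, 0, 1, 3, 2, 0], [], [⟨1, 140, [0, 4, 13, 11, 12]⟩, ⟨1, 86, []⟩, ⟨1, 90, []⟩, ⟨1, 90, []⟩, ⟨1, 103, [2, 7, 11, 13, 11, 4, 12, 11, 12, 7]⟩, ⟨1, 77, []⟩, ⟨1, 78, []⟩, ⟨1, 81, []⟩, ⟨1, 77, []⟩, ⟨1, 81, []⟩, ⟨1, 126, []⟩, ⟨1, 360, [8, 11, 2, 4, 11, 12, 7, 11, 4, 11]⟩]⟩,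
 ⟨4, 6, 973, [], [⟨1, 972, []⟩], []⟩,
 ⟨8, 6, 141, [4, 8, 11, 4, 11, 12, 0, 2, 3, 4, 2, 1, 2, 0, 1, 3, 2, 0], [], [⟨1, 140, [4, 8, 11, 4, 11, 12]⟩, ⟨1, 87, []⟩, ⟨1, 86, []⟩, ⟨1, 90, []⟩, ⟨1, 90, []⟩, ⟨1, 103, [0, 4, 12, 8, 11, 12, 7, 11, 13]⟩, ⟨1, 76, []⟩, ⟨1, 76, []⟩, ⟨1, 78, []⟩, ⟨1, 77, []⟩, ⟨1, 78, []⟩, ⟨1, 81, []⟩, ⟨1, 77, []⟩, ⟨1, 81, []⟩, ⟨1, 81, []⟩, ⟨1, 126, []⟩, ⟨1, 220, [11, 2, 4, 13, 11, 4, 12, 11]⟩]⟩,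
 ⟨4, 6, 975, [], [⟨1, 974, []⟩], []⟩,
 ⟨8, 6, 141, [0, 12, 7, 13, 11, 4, 12, 0, 2, 3, 4, 2, 1, 2, 0, 1, 3, 2, 0], [], [⟨1, 140, [0, 12, 7, 13, 11, 4, 12]⟩, ⟨1, 87, []⟩, ⟨1, 90, []⟩, ⟨1, 95, [2, 4, 11, 13, 11, 12, 7, 11, 12]⟩, ⟨1, 39, []⟩, ⟨1, 42, []⟩, ⟨1, 41, []⟩, ⟨1, 40, []⟩, ⟨1, 238, [7, 12, 8, 11, 12, 13]⟩]⟩,
 ⟨8, 6, 141, [4, 7, 13, 11, 12, 0, 2, 3, 4, 2, 1, 2, 0, 1, 3, 2, 0], [], [⟨1, 140, [4, 7, 13, 11, 12]⟩, ⟨1, 108, [0, 13, 11, 12, 8, 11, 4, 11, 12, 11]⟩, ⟨1, 87, []⟩, ⟨1, 419, [4, 7, 11, 4, 12, 11, 13, 11, 4, 11, 12, 13]⟩]⟩,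
 ⟨4, 6, 978, [], [⟨1, 977, []⟩], []⟩,
 ⟨8, 6, 141, [0, 7, 12, 13, 11, 4, 0, 2, 3, 4, 2, 1, 2, 0, 1, 3, 2, 0], [], [⟨1, 140, [0, 7, 12, 13, 11, 4]⟩, ⟨1, 108, [4, 8, 13, 11, 4, 11]⟩, ⟨1, 411, [12, 8, 12, 11, 12, 7, 11, 12]⟩]⟩,
 ⟨4, 6, 980, [], [⟨1, 979, []⟩], []⟩,
 ⟨8, 6, 141, [8, 11, 4, 13, 11, 12, 0, 2, 3, 4, 2, 1, 2, 0, 1, 3, 2, 0], [], [⟨1, 140, [8, 11, 4, 13, 11, 12]⟩, ⟨1, 90, []⟩, ⟨1, 90, []⟩, ⟨1, 111, [8, 12, 7, 11, 4, 11, 4, 12, 8, 13]⟩, ⟨1, 86, []⟩, ⟨1, 87, []⟩, ⟨1, 90, []⟩, ⟨1, 90, []⟩, ⟨1, 86, []⟩, ⟨1, 296, [0, 11, 13, 11, 12, 11, 4, 12, 7, 11]⟩]⟩,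
 ⟨4, 6, 982, [], [⟨1, 981, []⟩], []⟩,
 ⟨8, 6, 141, [11, 13, 11, 4, 0, 2, 3, 4, 2, 1, 2, 0, 1, 3, 2, 0], [], [⟨1, 140, [11, 13, 11, 4]⟩, ⟨1, 86, []⟩, ⟨1, 108, [2, 11, 4, 12, 11, 12, 13, 11, 4, 11]⟩, ⟨1, 415, [0, 4, 12, 7, 13, 11, 12, 8, 11, 4, 12, 13]⟩]⟩,
 ⟨4, 6, 984, [], [⟨1, 983, []⟩], []⟩,
 ⟨8, 6, 141, [4, 8, 11, 12, 0, 2, 3, 4, 2, 1, 2, 0, 1, 3, 2, 0], [], [⟨1, 140, [4, 8, 11, 12]⟩, ⟨1, 87, []⟩, ⟨1, 86, []⟩, ⟨1, 90, []⟩, ⟨1, 90, []⟩, ⟨1, 111, [12, 8, 12, 13]⟩, ⟨1, 86, []⟩, ⟨1, 477, [12, 11, 13, 11, 4, 11, 12, 7, 13]⟩]⟩,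
 ⟨4, 6, 986, [], [⟨1, 985, []⟩], []⟩,
 ⟨8, 6, 141, [8, 13, 11, 12, 7, 11, 12, 0, 2, 3, 4, 2, 1, 2, 0, 1, 3, 2, 0], [], [⟨1, 140, [8, 13, 11, 12, 7, 11, 12]⟩, ⟨1, 108, [8, 12, 8, 11, 12, 8, 11, 12, 13]⟩, ⟨1, 421, [4, 8, 11, 12, 13, 11, 4, 11, 4, 12, 13]⟩]⟩,
 ⟨4, 6, 988, [], [⟨1, 987, []⟩], []⟩,
 ⟨8, 6, 141, [4, 12, 11, 12, 0, 2, 3, 4, 2, 1, 2, 0, 1, 3, 2, 0], [], [⟨1, 140, [4, 12, 11, 12]⟩, ⟨1, 87, []⟩, ⟨1, 108, [0, 7, 13, 11, 12, 8, 11, 4, 11, 12, 11]⟩, ⟨1, 86, []⟩, ⟨1, 557, [0, 4, 13, 11, 4, 12, 8, 11, 12]⟩]⟩,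
 ⟨4, 6, 990, [], [⟨1, 989, []⟩], []⟩,
 ⟨8, 6, 141, [12, 13, 0, 2, 3, 4, 2, 1, 2, 0, 1, 3, 2, 0], [], [⟨1, 140, [12, 13]⟩, ⟨1, 86, []⟩, ⟨1, 90, []⟩, ⟨1, 90, []⟩, ⟨1, 111, [7, 11, 12, 13, 11, 4, 11, 4]⟩, ⟨1, 86, []⟩, ⟨1, 483, [0, 7, 13, 11, 12, 8, 11, 13]⟩]⟩,
 ⟨4, 6, 992, [], [⟨1, 991, []⟩], []⟩,
 ⟨8, 6, 141, [0, 4, 7, 12, 13, 0, 2, 3, 4, 2, 1, 2, 0, 1, 3, 2, 0], [], [⟨1, 140, [0, 4, 7, 12, 13]⟩, ⟨1, 108, [0, 4, 8, 13]⟩, ⟨1, 417, [7, 12, 8, 11, 12, 11, 12, 7, 12]⟩]⟩,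
 ⟨4, 6, 994, [], [⟨1, 993, []⟩], []⟩,
 ⟨8, 6, 141, [11, 12, 8, 11, 12, 13, 0, 2, 3, 4, 2, 1, 2, 0, 1, 3, 2, 0], [], [⟨1, 140, [11, 12, 8, 11, 12, 13]⟩, ⟨1, 87, []⟩, ⟨1, 90, []⟩, ⟨1, 95, [0, 8, 12, 11, 13, 11, 12, 7, 11, 12]⟩, ⟨1, 41, []⟩, ⟨1, 286, [4, 12, 8, 11, 12, 8, 11, 12, 11]⟩]⟩,
 ⟨8, 6, 141, [2, 8, 11, 4, 12, 0, 2, 3, 4, 2, 1, 2, 0, 1, 3, 2, 0], [], [⟨1, 140, [2, 8, 11, 4, 12]⟩, ⟨1, 87, []⟩, ⟨1, 86, []⟩, ⟨1, 90, []⟩, ⟨1, 90, []⟩, ⟨1, 111, [0, 8, 11, 12, 7, 11, 12, 8, 13]⟩, ⟨1, 485, [8, 11, 12, 13, 11, 4, 11, 12, 8, 13]⟩]⟩,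
 ⟨4, 6, 997, [], [⟨1, 996, []⟩], []⟩,
 ⟨8, 6, 141, [4, 11, 4, 0, 2, 3, 4, 2, 1, 2, 0, 1, 3, 2, 0], [], [⟨1, 140, [4, 11, 4]⟩, ⟨1, 90, []⟩, ⟨1, 86, []⟩, ⟨1, 101, [0, 12, 13, 11, 4, 12, 7, 11, 12, 13]⟩, ⟨1, 86, []⟩, ⟨1, 87, []⟩, ⟨1, 90, []⟩, ⟨1, 86, []⟩, ⟨1, 334, [4, 7, 11, 12, 11, 4, 12, 8]⟩]⟩,
 ⟨4, 6, 999, [], [⟨1, 998, []⟩], []⟩,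
 ⟨12, 6, 141, [13, 11, 12, 7, 11, 12, 0, 2, 3, 1, 0, 2, 1, 2, 4, 3, 2, 0, 2, 0], [], [⟨1, 140, [13, 11, 12, 7, 11, 12]⟩, ⟨1, 86, []⟩, ⟨1, 90, []⟩, ⟨1, 90, []⟩, ⟨1, 669, [8, 12, 11, 12, 7, 12, 11, 13, 11, 4]⟩, ⟨1, 135, []⟩, ⟨1, 134, []⟩, ⟨1, 981, [8, 11, 12, 8, 13, 11, 4, 12, 11]⟩]⟩,
 ⟨4, 6, 1001, [], [⟨1, 1000, []⟩], []⟩,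
 ⟨12, 6, 141, [0, 12, 7, 11, 4, 12, 13, 0, 2, 3, 1, 0, 2, 1, 2, 4, 3, 2, 0, 2, 0], [], [⟨1, 140, [0, 12, 7, 11, 4, 12, 13]⟩, ⟨1, 86, []⟩, ⟨1, 90, []⟩, ⟨1, 90, []⟩, ⟨1, 86, []⟩, ⟨1, 90, []⟩, ⟨1, 457, [12, 7, 13, 11, 2, 4, 12, 11]⟩, ⟨1, 969, [4, 8, 11, 4, 12, 11, 12, 11, 13, 11, 4]⟩]⟩,
 ⟨4, 6, 1003, [], [⟨1, 1002, []⟩], []⟩,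
 ⟨13, 6, 141, [13, 11, 12, 0, 2, 3, 1, 2, 0, 1, 3, 2, 0], [], [⟨1, 140, [13, 11, 12]⟩, ⟨1, 86, []⟩, ⟨1, 90, []⟩, ⟨1, 90, []⟩, ⟨1, 111, [7, 11, 12, 8, 12, 11, 12, 7, 11]⟩, ⟨1, 87, []⟩, ⟨1, 441, [0, 12, 11, 4, 11]⟩]⟩,
 ⟨4, 6, 1005, [], [⟨1, 1004, []⟩], []⟩,
 ⟨17, 6, 141, [11, 12, 7, 12, 13, 5, 5, 3, 6, 6, 2, 0], [], [⟨1, 140, [11, 12, 7, 12, 13]⟩, ⟨1, 90, []⟩, ⟨1, 90, []⟩, ⟨1, 107, [7, 12, 8, 11, 12, 11, 4, 11, 12, 11]⟩, ⟨1, 76, []⟩, ⟨1, 77, []⟩, ⟨1, 199, [0, 4, 12, 8, 13, 11, 12, 7, 11, 12, 13]⟩]⟩,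
 ⟨4, 6, 1007, [], [⟨1, 1006, []⟩], []⟩,
 ⟨8, 5, 144, [11, 12, 11, 4, 12, 0, 2, 3, 4, 2, 1, 2, 0, 1, 3, 2, 0], [], [⟨1, 143, [11, 12, 11, 4, 12]⟩, ⟨1, 188, [8, 11, 2, 4, 12, 11, 12, 8, 13]⟩, ⟨1, 78, []⟩, ⟨1, 77, []⟩, ⟨1, 78, []⟩, ⟨1, 81, []⟩, ⟨1, 81, []⟩, ⟨1, 126, []⟩, ⟨1, 385, [0, 11, 12, 8, 11, 12, 7, 11, 12, 11]⟩]⟩,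
 ⟨4, 5, 1009, [], [⟨1, 1008, []⟩], []⟩,
 ⟨7, 6, 187, [12, 11, 12, 13, 11, 4, 3, 1, 0, 2, 1, 3, 2, 0], [], [⟨1, 186, [12, 11, 12, 13, 11, 4]⟩, ⟨1, 134, []⟩, ⟨1, 135, []⟩, ⟨1, 376, [7, 12, 8, 13, 11, 12, 7, 11, 12, 7, 13]⟩, ⟨1, 39, []⟩, ⟨1, 46, []⟩, ⟨1, 46, []⟩, ⟨1, 364, [7, 13, 11, 12, 8, 12, 11, 12, 7, 11]⟩]⟩,
 ⟨4, 6, 1011, [], [⟨1, 1010, []⟩], []⟩]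
theorem chk19 : and2 (D.chkL PF19 966) (Nat.beq (Nat.add 966 PF19.length) 1012) = true := by decide +kernel

end H19.Th.DC
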