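import Mathlib
import Cfsg.Agent.H19.Th.DC.B

set_option autoImplicit false
set_option maxRecDepth 100000
set_option Elab.async false
set_option linter.all false

namespace H19.Th.DC
open H29

def PF20 : List DPf := [⟨7, 6, 187, [4, 12, 11, 4, 11, 12, 3, 1, 0, 2, 1, 3, 2, 0], [], [⟨1, 186, [4, 12, 11, 4, 11, 12]⟩, ⟨1, 135, []⟩, ⟨1, 134, []⟩, ⟨1, 933, [0, 7, 11, 12, 7, 11, 4, 11, 12, 8]⟩, ⟨1, 134, []⟩, ⟨1, 850, [0, 4, 11, 12, 11, 4, 13, 11, 12, 7, 11]⟩]⟩,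
 ⟨7, 6, 187, [12, 7, 13, 11, 12, 3, 1, 0, 2, 1, 3, 2, 0], [], [⟨1, 186, [12, 7, 13, 11, 12]⟩, ⟨1, 134, []⟩, ⟨1, 812, [7, 12, 8, 11, 12, 7]⟩, ⟨1, 850, [12, 8, 12, 11, 12, 13, 11, 4, 11, 4]⟩]⟩,
 ⟨4, 6, 1014, [], [⟨1, 1013, []⟩], []⟩,
 ⟨7, 6, 187, [12, 8, 12, 11, 4, 12, 3, 1, 0, 2, 1, 3, 2, 0], [], [⟨1, 186, [12, 8, 12, 11, 4, 12]⟩, ⟨1, 382, [4, 12, 11, 12, 11, 4]⟩, ⟨1, 43, []⟩, ⟨1, 42, []⟩, ⟨1, 41, []⟩, ⟨1, 46, []⟩, ⟨1, 368, [7, 12, 11, 2, 13, 11, 12, 11]⟩]⟩,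
 ⟨4, 6, 1016, [], [⟨1, 1015, []⟩], []⟩,
 ⟨7, 6, 187, [4, 8, 12, 13, 11, 4, 3, 1, 0, 2, 1, 3, 2, 0], [], [⟨1, 186, [4, 8, 12, 13, 11, 4]⟩, ⟨1, 496, [0, 12, 8, 13, 11, 12, 11, 4, 12, 8]⟩, ⟨1, 439, [4, 11, 4, 12, 7, 11, 12, 8, 11, 12]⟩]⟩,
 ⟨4, 6, 1018, [], [⟨1, 1017, []⟩], []⟩,
 ⟨7, 6, 187, [0, 8, 11, 12, 13, 3, 1, 0, 2, 1, 3, 2, 0], [], [⟨1, 186, [0, 8, 11, 12, 13]⟩, ⟨1, 450, [0, 8, 12, 8, 13, 11, 12, 8, 11, 12, 7]⟩, ⟨1, 86, []⟩, ⟨1, 90, []⟩, ⟨1, 87, []⟩, ⟨1, 90, []⟩, ⟨1, 90, []⟩, ⟨1, 537, [0, 12, 11, 4, 12, 11, 13, 11]⟩]⟩,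
 ⟨4, 6, 1020, [], [⟨1, 1019, []⟩], []⟩,
 ⟨7, 6, 187, [4, 12, 7, 13, 11, 12, 3, 1, 0, 2, 1, 3, 2, 0], [], [⟨1, 186, [4, 12, 7, 13, 11, 12]⟩, ⟨1, 134, []⟩, ⟨1, 135, []⟩, ⟨1, 452, [13, 11, 2, 12, 8, 11, 12, 8, 13]⟩, ⟨1, 87, []⟩, ⟨1, 90, []⟩, ⟨1, 87, []⟩, ⟨1, 270, [11, 12, 8, 12, 11, 12, 11, 13]⟩]⟩,
 ⟨4, 6, 1022, [], [⟨1, 1021, []⟩], []⟩,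
 ⟨7, 6, 187, [7, 12, 8, 11, 4, 12, 3, 1, 0, 2, 1, 3, 2, 0], [], [⟨1, 186, [7, 12, 8, 11, 4, 12]⟩, ⟨1, 135, []⟩, ⟨1, 134, []⟩, ⟨1, 638, [11, 2, 12, 11, 4, 13, 11, 12, 8]⟩, ⟨1, 86, []⟩, ⟨1, 90, []⟩, ⟨1, 90, []⟩, ⟨1, 90, []⟩, ⟨1, 535, [4, 11, 2, 13, 11, 12, 7]⟩]⟩,
 ⟨4, 6, 1024, [], [⟨1, 1023, []⟩], []⟩,
 ⟨17, 6, 187, [11, 13, 5, 5, 3, 6, 6, 2, 0], [], [⟨1, 186, [11, 13]⟩, ⟨1, 854, [0, 7, 12, 11, 12, 7]⟩, ⟨1, 134, []⟩, ⟨1, 1013, [2, 4, 7, 11, 12, 11, 4, 12, 8, 11]⟩]⟩,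
 ⟨17, 6, 187, [7, 12, 8, 13, 5, 5, 3, 6, 6, 2, 0], [], [⟨1, 186, [7, 12, 8, 13]⟩, ⟨1, 135, []⟩, ⟨1, 852, [0, 2, 8]⟩, ⟨1, 134, []⟩, ⟨1, 135, []⟩, ⟨1, 1014, [8, 12, 8, 11, 2, 4, 11, 12, 8]⟩]⟩,
 ⟨4, 6, 1027, [], [⟨1, 1026, []⟩], []⟩,
 ⟨7, 6, 143, [4, 12, 11, 4, 11, 12, 3, 1, 0, 2, 1, 3, 2, 0], [], [⟨1, 142, [4, 12, 11, 4, 11, 12]⟩, ⟨1, 90, []⟩, ⟨1, 143, [0, 7, 13, 11, 12, 8, 11]⟩, ⟨1, 134, []⟩, ⟨1, 851, [7, 11, 2, 4, 11, 13]⟩]⟩,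
 ⟨4, 6, 1029, [], [⟨1, 1028, []⟩], []⟩,
 ⟨7, 6, 143, [4, 7, 13, 11, 4, 12, 3, 1, 0, 2, 1, 3, 2, 0], [], [⟨1, 142, [4, 7, 13, 11, 4, 12]⟩, ⟨1, 86, []⟩, ⟨1, 90, []⟩, ⟨1, 86, []⟩, ⟨1, 90, []⟩, ⟨1, 763, [2, 8, 12, 7, 11, 4, 11, 4, 13, 11]⟩, ⟨1, 135, []⟩, ⟨1, 969, [11, 12, 7, 12, 11, 4, 11, 13, 11]⟩]⟩,
 ⟨4, 6, 1031, [], [⟨1, 1030, []⟩], []⟩,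
 ⟨7, 6, 143, [12, 8, 12, 11, 4, 12, 3, 1, 0, 2, 1, 3, 2, 0], [], [⟨1, 142, [12, 8, 12, 11, 4, 12]⟩, ⟨1, 90, []⟩, ⟨1, 87, []⟩, ⟨1, 521, [2, 12, 13, 11, 12, 7, 12]⟩, ⟨1, 134, []⟩, ⟨1, 135, []⟩, ⟨1, 134, []⟩, ⟨1, 959, [0, 4, 7, 13, 11, 12, 8, 12, 11, 12, 13]⟩]⟩,
 ⟨4, 6, 1033, [], [⟨1, 1032, []⟩], []⟩,
 ⟨7, 6, 143, [0, 8, 11, 12, 13, 3, 1, 0, 2, 1, 3, 2, 0], [], [⟨1, 142, [0, 8, 11, 12, 13]⟩, ⟨1, 86, []⟩, ⟨1, 90, []⟩, ⟨1, 90, []⟩, ⟨1, 86, []⟩, ⟨1, 195, [11, 2, 12, 8, 11, 13, 11, 12]⟩, ⟨1, 135, []⟩, ⟨1, 134, []⟩, ⟨1, 1030, [12, 8, 13, 11, 12, 7, 11, 4, 12, 8]⟩]⟩,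
 ⟨4, 6, 1035, [], [⟨1, 1034, []⟩], []⟩,
 ⟨7, 6, 143, [2, 12, 11, 12, 3, 1, 0, 2, 1, 3, 2, 0], [], [⟨1, 142, [2, 12, 11, 12]⟩, ⟨1, 90, []⟩, ⟨1, 87, []⟩, ⟨1, 203, [2, 4, 11, 12, 11, 12, 8]⟩, ⟨1, 135, []⟩, ⟨1, 134, []⟩, ⟨1, 849, [2, 8, 12, 11, 4, 11, 4, 12, 8, 13]⟩]⟩,
 ⟨4, 6, 1037, [], [⟨1, 1036, []⟩], []⟩,
 ⟨7, 6, 143, [7, 11, 4, 11, 12, 13, 3, 1, 0, 2, 1, 3, 2, 0], [], [⟨1, 142, [7, 11, 4, 11, 12, 13]⟩, ⟨1, 87, []⟩, ⟨1, 86, []⟩, ⟨1, 90, []⟩, ⟨1, 90, []⟩, ⟨1, 733, [8, 11, 4, 11, 12, 11, 13, 11]⟩, ⟨1, 135, []⟩, ⟨1, 1032, [2, 11, 4, 12, 11, 12, 7, 13, 11]⟩]⟩,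
 ⟨4, 6, 1039, [], [⟨1, 1038, []⟩], []⟩,
 ⟨7, 6, 143, [0, 11, 4, 12, 13, 11, 4, 12, 3, 1, 0, 2, 1, 3, 2, 0], [], [⟨1, 142, [0, 11, 4, 12, 13, 11, 4, 12]⟩, ⟨1, 86, []⟩, ⟨1, 284, [13, 11, 12, 11, 4, 13, 11, 4]⟩, ⟨1, 851, [0, 13, 11, 4, 12, 7, 11, 4, 11]⟩]⟩,
 ⟨4, 6, 1041, [], [⟨1, 1040, []⟩], []⟩,
 ⟨7, 6, 145, [2, 4, 7, 11, 4, 12, 3, 1, 0, 2, 1, 3, 2, 0], [], [⟨1, 144, [2, 4, 7, 11, 4, 12]⟩, ⟨1, 86, []⟩, ⟨1, 90, []⟩, ⟨1, 87, []⟩, ⟨1, 266, [4, 7, 11, 2, 12, 7, 11, 12, 11, 13]⟩, ⟨1, 969, [0, 7, 11, 13, 11, 4, 11, 12, 13]⟩]⟩,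
 ⟨4, 6, 1043, [], [⟨1, 1042, []⟩], []⟩,
 ⟨7, 6, 145, [8, 12, 11, 4, 12, 13, 3, 1, 0, 2, 1, 3, 2, 0], [], [⟨1, 144, [8, 12, 11, 4, 12, 13]⟩, ⟨1, 87, []⟩, ⟨1, 90, []⟩, ⟨1, 90, []⟩, ⟨1, 86, []⟩, ⟨1, 473, [7, 11, 4, 12, 11, 12, 8]⟩, ⟨1, 135, []⟩, ⟨1, 134, []⟩, ⟨1, 981, [2, 11, 13, 11, 4, 11, 12, 7]⟩]⟩,
 ⟨4, 6, 1045, [], [⟨1, 1044, []⟩], []⟩,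
 ⟨7, 6, 145, [12, 11, 12, 13, 11, 4, 3, 1, 0, 2, 1, 3, 2, 0], [], [⟨1, 144, [12, 11, 12, 13, 11, 4]⟩, ⟨1, 87, []⟩, ⟨1, 86, []⟩, ⟨1, 90, []⟩, ⟨1, 86, []⟩, ⟨1, 90, []⟩, ⟨1, 677, [12, 8, 12, 13, 11, 12, 8, 12, 11]⟩, ⟨1, 135, []⟩, ⟨1, 894, [13, 11, 12, 8, 12, 11, 12, 8, 11, 13]⟩]⟩,
 ⟨4, 6, 1047, [], [⟨1, 1046, []⟩], []⟩,
 ⟨7, 6, 145, [0, 13, 11, 4, 12, 11, 4, 3, 1, 0, 2, 1, 3, 2, 0], [], [⟨1, 144, [0, 13, 11, 4, 12, 11, 4]⟩, ⟨1, 86, []⟩, ⟨1, 90, []⟩, ⟨1, 87, []⟩, ⟨1, 90, []⟩, ⟨1, 90, []⟩, ⟨1, 523, [2, 7, 11, 12, 11, 4, 12, 7, 13]⟩, ⟨1, 1032, [13, 11, 4, 12, 11, 12, 13]⟩]⟩,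
 ⟨7, 6, 145, [7, 12, 11, 4, 13, 3, 1, 0, 2, 1, 3, 2, 0], [], [⟨1, 144, [7, 12, 11, 4, 13]⟩, ⟨1, 86, []⟩, ⟨1, 87, []⟩, ⟨1, 613, [0, 4, 11, 12, 8]⟩, ⟨1, 135, []⟩, ⟨1, 134, []⟩, ⟨1, 959, [4, 8, 12, 13, 11, 4, 12]⟩]⟩,
 ⟨4, 6, 1050, [], [⟨1, 1049, []⟩], []⟩,
 ⟨7, 6, 145, [4, 7, 13, 11, 4, 12, 3, 1, 0, 2, 1, 3, 2, 0], [], [⟨1, 144, [4, 7, 13, 11, 4, 12]⟩, ⟨1, 90, []⟩, ⟨1, 90, []⟩, ⟨1, 86, []⟩, ⟨1, 90, []⟩, ⟨1, 761, [8, 11, 2, 12, 7, 11, 12, 8, 13]⟩, ⟨1, 895, [2, 11, 12, 8, 11, 4, 11]⟩]⟩,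
 ⟨4, 6, 1052, [], [⟨1, 1051, []⟩], []⟩,
 ⟨7, 6, 145, [8, 12, 11, 4, 3, 1, 0, 2, 1, 3, 2, 0], [], [⟨1, 144, [8, 12, 11, 4]⟩, ⟨1, 86, []⟩, ⟨1, 90, []⟩, ⟨1, 90, []⟩, ⟨1, 86, []⟩, ⟨1, 90, []⟩, ⟨1, 280, [4, 8, 11, 2, 4, 13, 11, 12, 7, 11, 12]⟩, ⟨1, 135, []⟩, ⟨1, 924, [7, 12, 11, 13, 11, 12, 7, 11]⟩]⟩,
 ⟨4, 6, 1054, [], [⟨1, 1053, []⟩], []⟩,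
 ⟨7, 6, 145, [0, 11, 4, 12, 13, 11, 4, 12, 3, 1, 0, 2, 1, 3, 2, 0], [], [⟨1, 144, [0, 11, 4, 12, 13, 11, 4, 12]⟩, ⟨1, 86, []⟩, ⟨1, 87, []⟩, ⟨1, 90, []⟩, ⟨1, 230, [2, 4, 12, 11, 12, 8, 11, 4, 11]⟩, ⟨1, 851, [2, 7, 11, 4, 11, 4, 13, 11]⟩]⟩,
 ⟨4, 6, 1056, [], [⟨1, 1055, []⟩], []⟩,
 ⟨5, 6, 188, [4, 3, 2, 0], [], [⟨1, 187, [4]⟩, ⟨1, 928, [8, 11, 4]⟩, ⟨1, 1025, [2, 8, 12, 7, 11, 12, 11, 12, 8]⟩]⟩,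
 ⟨4, 6, 1058, [], [⟨1, 1057, []⟩], []⟩,
 ⟨7, 6, 188, [4, 11, 4, 3, 1, 0, 2, 1, 3, 2, 0], [], [⟨1, 187, [4, 11, 4]⟩, ⟨1, 135, []⟩, ⟨1, 1027, [8, 12, 8, 11, 2, 12, 7, 11, 4, 11]⟩, ⟨1, 134, []⟩, ⟨1, 850, [7, 11, 4, 13, 11, 12, 7, 11, 4, 12]⟩]⟩,
 ⟨4, 6, 1060, [], [⟨1, 1059, []⟩], []⟩]
theorem chk20 : and2 (D.chkL PF20 1012) (Nat.beq (Nat.add 1012 PF20.length) 1061) = true := by decide +kernel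

def PF21 : List DPf := [⟨7, 6, 188, [4, 8, 12, 11, 12, 3, 1, 0, 2, 1, 3, 2, 0], [], [⟨1, 187, [4, 8, 12, 11, 12]⟩, ⟨1, 135, []⟩, ⟨1, 134, []⟩, ⟨1, 1022, [0, 12, 13, 11, 4, 12, 7, 11, 4, 12, 13]⟩, ⟨1, 969, [7, 11, 2, 12, 7, 13, 11, 12, 7, 11]⟩]⟩,
 ⟨4, 6, 1062, [], [⟨1, 1061, []⟩], []⟩,
 ⟨7, 6, 188, [2, 12, 11, 12, 3, 1, 0, 2, 1, 3, 2, 0], [], [⟨1, 187, [2, 12, 11, 12]⟩, ⟨1, 135, []⟩, ⟨1, 134, []⟩, ⟨1, 857, [0, 12, 8, 13, 11, 4, 11, 12, 13]⟩, ⟨1, 134, []⟩, ⟨1, 850, [0, 7, 12, 11, 4, 11, 12, 7, 12, 13]⟩]⟩,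
 ⟨4, 6, 1064, [], [⟨1, 1063, []⟩], []⟩,
 ⟨7, 6, 188, [7, 11, 13, 11, 4, 12, 3, 1, 0, 2, 1, 3, 2, 0], [], [⟨1, 187, [7, 11, 13, 11, 4, 12]⟩, ⟨1, 135, []⟩, ⟨1, 478, [12, 11, 2, 12, 13, 11, 4, 11, 12]⟩, ⟨1, 87, []⟩, ⟨1, 90, []⟩, ⟨1, 617, [0, 4, 12, 8, 11, 13, 11, 4, 11, 12, 13]⟩]⟩,
 ⟨4, 6, 1066, [], [⟨1, 1065, []⟩], []⟩,
 ⟨7, 6, 188, [0, 7, 13, 11, 12, 3, 1, 0, 2, 1, 3, 2, 0], [], [⟨1, 187, [0, 7, 13, 11, 12]⟩, ⟨1, 134, []⟩, ⟨1, 853, [7, 13, 11, 4, 11, 12, 8, 13]⟩, ⟨1, 135, []⟩, ⟨1, 134, []⟩, ⟨1, 1025, [0, 11, 4, 11, 13, 11, 12, 11, 4, 12]⟩]⟩,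
 ⟨8, 6, 188, [0, 11, 13, 11, 4, 12, 0, 2, 3, 4, 2, 1, 2, 0, 1, 3, 2, 0], [], [⟨1, 187, [0, 11, 13, 11, 4, 12]⟩, ⟨1, 134, []⟩, ⟨1, 135, []⟩, ⟨1, 215, [0, 11, 12, 7, 13, 11, 4, 12, 11, 4]⟩, ⟨1, 43, []⟩, ⟨1, 41, []⟩, ⟨1, 46, []⟩, ⟨1, 46, []⟩, ⟨1, 68, []⟩, ⟨1, 589, [0, 11, 13, 11, 12, 8, 11, 4, 11, 4, 13]⟩]⟩,
 ⟨4, 6, 1069, [], [⟨1, 1068, []⟩], []⟩,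
 ⟨8, 6, 188, [2, 11, 12, 11, 4, 0, 2, 3, 4, 2, 1, 2, 0, 1, 3, 2, 0], [], [⟨1, 187, [2, 11, 12, 11, 4]⟩, ⟨1, 215, [8, 12, 8, 11, 13, 11, 4, 11, 12]⟩, ⟨1, 39, []⟩, ⟨1, 43, []⟩, ⟨1, 42, []⟩, ⟨1, 41, []⟩, ⟨1, 68, []⟩, ⟨1, 68, []⟩, ⟨1, 783, [0, 4, 8, 13, 11, 12, 11, 12, 7]⟩]⟩,
 ⟨4, 6, 1071, [], [⟨1, 1070, []⟩], []⟩,
 ⟨8, 6, 188, [12, 8, 11, 4, 12, 13, 0, 2, 3, 4, 2, 1, 2, 0, 1, 3, 2, 0], [], [⟨1, 187, [12, 8, 11, 4, 12, 13]⟩, ⟨1, 200, [12, 11, 13, 11, 12, 11, 4, 12, 8]⟩, ⟨1, 86, []⟩, ⟨1, 87, []⟩, ⟨1, 90, []⟩, ⟨1, 90, []⟩, ⟨1, 90, []⟩, ⟨1, 637, [11, 2, 12, 7, 11, 12, 11, 13, 11, 4]⟩]⟩,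
 ⟨4, 6, 1073, [], [⟨1, 1072, []⟩], []⟩,
 ⟨8, 6, 188, [0, 4, 7, 11, 13, 11, 12, 0, 2, 3, 4, 2, 1, 2, 0, 1, 3, 2, 0], [], [⟨1, 187, [0, 4, 7, 11, 13, 11, 12]⟩, ⟨1, 134, []⟩, ⟨1, 135, []⟩, ⟨1, 210, [11, 2, 13, 11, 4, 12, 11, 4]⟩, ⟨1, 86, []⟩, ⟨1, 87, []⟩, ⟨1, 86, []⟩, ⟨1, 90, []⟩, ⟨1, 90, []⟩, ⟨1, 90, []⟩, ⟨1, 469, [12, 7, 11, 2, 12, 11, 4, 11, 12]⟩]⟩,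
 ⟨4, 6, 1075, [], [⟨1, 1074, []⟩], []⟩,
 ⟨8, 6, 188, [0, 7, 11, 12, 13, 0, 2, 3, 4, 2, 1, 2, 0, 1, 3, 2, 0], [], [⟨1, 187, [0, 7, 11, 12, 13]⟩, ⟨1, 134, []⟩, ⟨1, 135, []⟩, ⟨1, 210, [8, 12, 11, 4, 12, 7, 11, 13]⟩, ⟨1, 86, []⟩, ⟨1, 90, []⟩, ⟨1, 90, []⟩, ⟨1, 260, [0, 8, 11, 4, 11, 13, 11, 4, 11, 13]⟩]⟩,
 ⟨4, 6, 1077, [], [⟨1, 1076, []⟩], []⟩,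
 ⟨8, 6, 188, [4, 12, 8, 11, 12, 13, 0, 2, 3, 4, 2, 1, 2, 0, 1, 3, 2, 0], [], [⟨1, 187, [4, 12, 8, 11, 12, 13]⟩, ⟨1, 208, [11, 12, 11, 4, 12, 8, 11, 13]⟩, ⟨1, 87, []⟩, ⟨1, 86, []⟩, ⟨1, 90, []⟩, ⟨1, 87, []⟩, ⟨1, 711, [0, 7, 11, 12, 7, 11, 12, 13, 11]⟩]⟩,
 ⟨4, 6, 1079, [], [⟨1, 1078, []⟩], []⟩,
 ⟨8, 6, 188, [4, 12, 13, 11, 4, 0, 2, 3, 4, 2, 1, 2, 0, 1, 3, 2, 0], [], [⟨1, 187, [4, 12, 13, 11, 4]⟩, ⟨1, 134, []⟩, ⟨1, 200, [8, 11, 12, 11, 4, 12, 8, 13]⟩, ⟨1, 86, []⟩, ⟨1, 90, []⟩, ⟨1, 441, [4, 7, 11, 12, 13, 11, 4, 12, 8]⟩]⟩,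
 ⟨4, 6, 1081, [], [⟨1, 1080, []⟩], []⟩,
 ⟨8, 6, 188, [11, 13, 0, 2, 3, 4, 2, 1, 2, 0, 1, 3, 2, 0], [], [⟨1, 187, [11, 13]⟩, ⟨1, 850, [2, 4, 7, 11, 13]⟩, ⟨1, 935, [4, 7, 13, 11, 12, 7, 11, 12, 7, 13]⟩]⟩,
 ⟨4, 6, 1083, [], [⟨1, 1082, []⟩], []⟩,
 ⟨8, 6, 188, [0, 8, 12, 13, 0, 2, 3, 4, 2, 1, 2, 0, 1, 3, 2, 0], [], [⟨1, 187, [0, 8, 12, 13]⟩, ⟨1, 135, []⟩, ⟨1, 215, [12, 11, 2, 4, 13, 11, 12, 8, 11]⟩, ⟨1, 39, []⟩, ⟨1, 43, []⟩, ⟨1, 41, []⟩, ⟨1, 46, []⟩, ⟨1, 68, []⟩, ⟨1, 68, []⟩, ⟨1, 781, [4, 12, 8, 11, 13, 11, 4, 11]⟩]⟩,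
 ⟨4, 6, 1085, [], [⟨1, 1084, []⟩], []⟩,
 ⟨8, 6, 188, [0, 4, 12, 13, 0, 2, 3, 4, 2, 1, 2, 0, 1, 3, 2, 0], [], [⟨1, 187, [0, 4, 12, 13]⟩, ⟨1, 134, []⟩, ⟨1, 208, [7, 12, 11, 4, 13, 11, 4, 11, 12]⟩, ⟨1, 87, []⟩, ⟨1, 86, []⟩, ⟨1, 278, [4, 12, 11, 12, 8, 11, 4, 13, 11]⟩]⟩,
 ⟨4, 6, 1087, [], [⟨1, 1086, []⟩], []⟩,
 ⟨8, 6, 188, [0, 4, 13, 11, 12, 0, 2, 3, 4, 2, 1, 2, 0, 1, 3, 2, 0], [], [⟨1, 187, [0, 4, 13, 11, 12]⟩, ⟨1, 134, []⟩, ⟨1, 208, [2, 4, 13, 11, 12, 7, 12, 11]⟩, ⟨1, 90, []⟩, ⟨1, 749, [0, 11, 13, 11, 4, 12, 7, 11, 4, 11, 12]⟩]⟩,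
 ⟨4, 6, 1089, [], [⟨1, 1088, []⟩], []⟩,
 ⟨8, 6, 188, [4, 8, 11, 4, 11, 12, 0, 2, 3, 4, 2, 1, 2, 0, 1, 3, 2, 0], [], [⟨1, 187, [4, 8, 11, 4, 11, 12]⟩, ⟨1, 135, []⟩, ⟨1, 134, []⟩, ⟨1, 208, [4, 11, 2, 13, 11, 4, 12, 8, 11]⟩, ⟨1, 87, []⟩, ⟨1, 90, []⟩, ⟨1, 653, [13, 11, 2, 12, 8, 12]⟩]⟩,
 ⟨4, 6, 1091, [], [⟨1, 1090, []⟩], []⟩,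
 ⟨8, 6, 188, [7, 11, 12, 13, 0, 2, 3, 4, 2, 1, 2, 0, 1, 3, 2, 0], [], [⟨1, 187, [7, 11, 12, 13]⟩, ⟨1, 134, []⟩, ⟨1, 135, []⟩, ⟨1, 210, [8, 12, 11, 12, 7, 11, 4, 11, 13]⟩, ⟨1, 90, []⟩, ⟨1, 87, []⟩, ⟨1, 298, [2, 12, 11, 4, 11, 4, 12, 13, 11, 12, 7]⟩]⟩,
 ⟨4, 6, 1093, [], [⟨1, 1092, []⟩], []⟩,
 ⟨8, 6, 188, [4, 7, 13, 11, 12, 0, 2, 3, 4, 2, 1, 2, 0, 1, 3, 2, 0], [], [⟨1, 187, [4, 7, 13, 11, 12]⟩, ⟨1, 135, []⟩, ⟨1, 928, [4, 11, 12, 11, 13, 11, 4, 11, 12, 7]⟩, ⟨1, 134, []⟩, ⟨1, 1048, [7, 12, 11, 4, 12, 7, 11, 4]⟩]⟩,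
 ⟨4, 6, 1095, [], [⟨1, 1094, []⟩], []⟩,
 ⟨8, 6, 188, [4, 7, 12, 11, 4, 12, 0, 2, 3, 4, 2, 1, 2, 0, 1, 3, 2, 0], [], [⟨1, 187, [4, 7, 12, 11, 4, 12]⟩, ⟨1, 135, []⟩, ⟨1, 134, []⟩, ⟨1, 850, [13, 11, 12, 11, 4, 11, 13, 11]⟩, ⟨1, 135, []⟩, ⟨1, 134, []⟩, ⟨1, 853, [0, 7, 11, 13, 11, 12, 11, 12, 8, 13]⟩]⟩,
 ⟨8, 6, 188, [8, 11, 4, 13, 11, 12, 0, 2, 3, 4, 2, 1, 2, 0, 1, 3, 2, 0], [], [⟨1, 187, [8, 11, 4, 13, 11, 12]⟩, ⟨1, 200, [4, 12, 11, 2, 12, 8, 13, 11, 4, 11]⟩, ⟨1, 86, []⟩, ⟨1, 90, []⟩, ⟨1, 87, []⟩, ⟨1, 90, []⟩, ⟨1, 90, []⟩, ⟨1, 272, [0, 4, 12, 8, 11, 13, 11, 12, 8, 11, 4, 13]⟩]⟩,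
 ⟨4, 6, 1098, [], [⟨1, 1097, []⟩], []⟩,
 ⟨8, 6, 188, [4, 8, 11, 12, 0, 2, 3, 4, 2, 1, 2, 0, 1, 3, 2, 0], [], [⟨1, 187, [4, 8, 11, 12]⟩, ⟨1, 135, []⟩, ⟨1, 134, []⟩, ⟨1, 200, [12, 11, 12, 8, 13, 11, 4, 11, 4]⟩, ⟨1, 87, []⟩, ⟨1, 90, []⟩, ⟨1, 90, []⟩, ⟨1, 765, [2, 4, 12, 11, 4, 11, 12, 11]⟩]⟩,
 ⟨4, 6, 1100, [], [⟨1, 1099, []⟩], []⟩,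
 ⟨8, 6, 188, [0, 4, 8, 11, 12, 13, 0, 2, 3, 4, 2, 1, 2, 0, 1, 3, 2, 0], [], [⟨1, 187, [0, 4, 8, 11, 12, 13]⟩, ⟨1, 208, [0, 8, 11, 13, 11, 4, 11, 4]⟩, ⟨1, 86, []⟩, ⟨1, 90, []⟩, ⟨1, 87, []⟩, ⟨1, 90, []⟩, ⟨1, 90, []⟩, ⟨1, 723, [0, 4, 11, 4, 12, 8, 13, 11, 4, 11]⟩]⟩,
 ⟨4, 6, 1102, [], [⟨1, 1101, []⟩], []⟩,
 ⟨8, 6, 188, [8, 12, 0, 2, 3, 4, 2, 1, 2, 0, 1, 3, 2, 0], [], [⟨1, 187, [8, 12]⟩, ⟨1, 135, []⟩, ⟨1, 134, []⟩, ⟨1, 208, [0, 4, 12, 11, 12, 8, 12, 11, 12, 13]⟩, ⟨1, 90, []⟩, ⟨1, 611, [11, 4, 11, 4, 12, 11, 13, 11, 4, 11]⟩]⟩,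
 ⟨4, 6, 1104, [], [⟨1, 1103, []⟩], []⟩,
 ⟨8, 6, 188, [12, 13, 0, 2, 3, 4, 2, 1, 2, 0, 1, 3, 2, 0], [], [⟨1, 187, [12, 13]⟩, ⟨1, 134, []⟩, ⟨1, 200, [12, 11, 12, 7, 12, 11, 4, 12, 13]⟩, ⟨1, 87, []⟩, ⟨1, 86, []⟩, ⟨1, 90, []⟩, ⟨1, 87, []⟩, ⟨1, 258, [4, 8, 11, 4, 11, 12, 11, 13, 11, 4, 12]⟩]⟩,
 ⟨4, 6, 1106, [], [⟨1, 1105, []⟩], []⟩]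
theorem chk21 : and2 (D.chkL PF21 1061) (Nat.beq (Nat.add 1061 PF21.length) 1107) = true := by decide +kernel

def PF22 : List DPf := [⟨8, 6, 188, [4, 11, 4, 13, 11, 12, 0, 2, 3, 4, 2, 1, 2, 0, 1, 3, 2, 0], [], [⟨1, 187, [4, 11, 4, 13, 11, 12]⟩, ⟨1, 134, []⟩, ⟨1, 135, []⟩, ⟨1, 215, [2, 4, 11, 12, 7, 12, 11, 12, 13]⟩, ⟨1, 39, []⟩, ⟨1, 41, []⟩, ⟨1, 46, []⟩, ⟨1, 68, []⟩, ⟨1, 370, [11, 4, 11, 4, 12, 13, 11, 12, 11, 13]⟩]⟩,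
 ⟨4, 6, 1108, [], [⟨1, 1107, []⟩], []⟩,
 ⟨8, 6, 188, [11, 4, 12, 13, 0, 2, 3, 4, 2, 1, 2, 0, 1, 3, 2, 0], [], [⟨1, 187, [11, 4, 12, 13]⟩, ⟨1, 134, []⟩, ⟨1, 135, []⟩, ⟨1, 215, [12, 7, 11, 4, 11, 13, 11, 4, 11]⟩, ⟨1, 39, []⟩, ⟨1, 43, []⟩, ⟨1, 40, []⟩, ⟨1, 68, []⟩, ⟨1, 370, [7, 11, 2, 4, 11, 12, 8, 11, 13]⟩]⟩,
 ⟨4, 6, 1110, [], [⟨1, 1109, []⟩], []⟩,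
 ⟨8, 6, 188, [8, 11, 12, 11, 4, 0, 2, 3, 4, 2, 1, 2, 0, 1, 3, 2, 0], [], [⟨1, 187, [8, 11, 12, 11, 4]⟩, ⟨1, 135, []⟩, ⟨1, 134, []⟩, ⟨1, 200, [0, 7, 11, 4, 11, 13, 11, 12, 7, 11]⟩, ⟨1, 86, []⟩, ⟨1, 90, []⟩, ⟨1, 87, []⟩, ⟨1, 90, []⟩, ⟨1, 531, [0, 12, 11, 4, 12, 8, 11, 13, 11, 4, 11]⟩]⟩,
 ⟨4, 6, 1112, [], [⟨1, 1111, []⟩], []⟩,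
 ⟨8, 6, 188, [0, 4, 7, 12, 13, 0, 2, 3, 4, 2, 1, 2, 0, 1, 3, 2, 0], [], [⟨1, 187, [0, 4, 7, 12, 13]⟩, ⟨1, 135, []⟩, ⟨1, 928, [0, 4, 7, 13]⟩, ⟨1, 135, []⟩, ⟨1, 134, []⟩, ⟨1, 1043, [0, 11, 12, 8, 11, 12, 8]⟩]⟩,
 ⟨4, 6, 1114, [], [⟨1, 1113, []⟩], []⟩,
 ⟨8, 6, 188, [2, 8, 11, 4, 12, 0, 2, 3, 4, 2, 1, 2, 0, 1, 3, 2, 0], [], [⟨1, 187, [2, 8, 11, 4, 12]⟩, ⟨1, 135, []⟩, ⟨1, 134, []⟩, ⟨1, 200, [0, 4, 11, 13, 11, 12, 8, 12, 11]⟩, ⟨1, 90, []⟩, ⟨1, 90, []⟩, ⟨1, 711, [0, 4, 11, 12, 13, 11, 4, 11, 4, 12, 8]⟩]⟩,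
 ⟨4, 6, 1116, [], [⟨1, 1115, []⟩], []⟩,
 ⟨8, 6, 188, [4, 11, 4, 0, 2, 3, 4, 2, 1, 2, 0, 1, 3, 2, 0], [], [⟨1, 187, [4, 11, 4]⟩, ⟨1, 135, []⟩, ⟨1, 134, []⟩, ⟨1, 850, [8, 12, 11, 12, 8, 13, 11, 4, 11, 4]⟩, ⟨1, 1014, [11, 12, 7, 13, 11, 12, 8, 11, 12, 7, 13]⟩]⟩,
 ⟨4, 6, 1118, [], [⟨1, 1117, []⟩], []⟩,
 ⟨8, 6, 188, [7, 12, 11, 4, 12, 13, 0, 2, 3, 4, 2, 1, 2, 0, 1, 3, 2, 0], [], [⟨1, 187, [7, 12, 11, 4, 12, 13]⟩, ⟨1, 134, []⟩, ⟨1, 198, [7, 13, 11, 12, 8, 12, 11, 4]⟩, ⟨1, 76, []⟩, ⟨1, 76, []⟩, ⟨1, 78, []⟩, ⟨1, 77, []⟩, ⟨1, 126, []⟩, ⟨1, 78, []⟩, ⟨1, 387, [2, 4, 7, 11, 13, 11]⟩]⟩,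
 ⟨4, 6, 1120, [], [⟨1, 1119, []⟩], []⟩,
 ⟨13, 6, 188, [13, 11, 12, 0, 2, 3, 1, 2, 0, 1, 3, 2, 0], [], [⟨1, 187, [13, 11, 12]⟩, ⟨1, 134, []⟩, ⟨1, 200, [2, 12, 11, 12, 8, 12, 11, 12, 8]⟩, ⟨1, 87, []⟩, ⟨1, 86, []⟩, ⟨1, 90, []⟩, ⟨1, 87, []⟩, ⟨1, 651, [2, 11, 12, 8, 12, 11, 4, 12, 11, 4]⟩]⟩,
 ⟨4, 6, 1122, [], [⟨1, 1121, []⟩], []⟩,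
 ⟨5, 6, 156, [4, 12, 13, 3, 2, 0], [], [⟨1, 155, [4, 12, 13]⟩, ⟨1, 42, []⟩, ⟨1, 40, []⟩, ⟨1, 46, []⟩, ⟨1, 68, []⟩, ⟨1, 68, []⟩, ⟨1, 252, [0, 12, 8, 11, 12, 13, 11, 4]⟩, ⟨1, 134, []⟩, ⟨1, 1024, [2, 11, 13, 11, 4, 12, 7, 11, 12, 13, 11]⟩]⟩,
 ⟨4, 6, 1124, [], [⟨1, 1123, []⟩], []⟩,
 ⟨5, 6, 156, [7, 11, 4, 12, 13, 3, 2, 0], [], [⟨1, 155, [7, 11, 4, 12, 13]⟩, ⟨1, 43, []⟩, ⟨1, 42, []⟩, ⟨1, 40, []⟩, ⟨1, 46, []⟩, ⟨1, 68, []⟩, ⟨1, 366, [7, 13, 11, 4, 12, 11, 12, 8, 13]⟩, ⟨1, 134, []⟩, ⟨1, 963, [2, 12, 11, 12, 11, 4, 11, 13, 11]⟩]⟩,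
 ⟨4, 6, 1126, [], [⟨1, 1125, []⟩], []⟩,
 ⟨5, 6, 156, [4, 7, 12, 13, 3, 2, 0], [], [⟨1, 155, [4, 7, 12, 13]⟩, ⟨1, 42, []⟩, ⟨1, 41, []⟩, ⟨1, 68, []⟩, ⟨1, 581, [4, 11, 12, 7, 11, 12, 8, 11, 12]⟩, ⟨1, 135, []⟩, ⟨1, 134, []⟩, ⟨1, 971, [8, 11, 12, 11, 4, 11, 12, 8, 13]⟩]⟩,
 ⟨4, 6, 1128, [], [⟨1, 1127, []⟩], []⟩,
 ⟨6, 6, 156, [4, 7, 12, 0, 2, 4, 3, 2, 0], [], [⟨1, 155, [4, 7, 12]⟩, ⟨1, 83, [12, 8, 11, 4, 12, 11, 13, 11, 4, 11, 13]⟩, ⟨1, 77, []⟩, ⟨1, 81, []⟩, ⟨1, 218, [4, 11, 13, 11, 4, 11, 12, 8, 13]⟩]⟩,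
 ⟨4, 6, 1130, [], [⟨1, 1129, []⟩], []⟩,
 ⟨7, 6, 156, [12, 11, 4, 11, 12, 3, 1, 0, 2, 1, 3, 2, 0], [], [⟨1, 155, [12, 11, 4, 11, 12]⟩, ⟨1, 43, []⟩, ⟨1, 42, []⟩, ⟨1, 46, []⟩, ⟨1, 46, []⟩, ⟨1, 68, []⟩, ⟨1, 68, []⟩, ⟨1, 364, [0, 8, 13, 11, 4, 11, 4, 13]⟩, ⟨1, 949, [2, 4, 8, 12, 11, 12, 11, 13]⟩]⟩,
 ⟨4, 6, 1132, [], [⟨1, 1131, []⟩], []⟩,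
 ⟨7, 6, 156, [0, 4, 12, 13, 11, 4, 12, 3, 1, 0, 2, 1, 3, 2, 0], [], [⟨1, 155, [0, 4, 12, 13, 11, 4, 12]⟩, ⟨1, 39, []⟩, ⟨1, 40, []⟩, ⟨1, 46, []⟩, ⟨1, 248, [0, 7, 12, 11, 4, 12, 13, 11]⟩, ⟨1, 134, []⟩, ⟨1, 949, [8, 11, 13, 11, 12, 11, 4, 11, 13]⟩]⟩,
 ⟨4, 6, 1134, [], [⟨1, 1133, []⟩], []⟩,
 ⟨7, 6, 156, [2, 4, 8, 11, 12, 3, 1, 0, 2, 1, 3, 2, 0], [], [⟨1, 155, [2, 4, 8, 11, 12]⟩, ⟨1, 41, []⟩, ⟨1, 68, []⟩, ⟨1, 68, []⟩, ⟨1, 119, [0, 4, 12, 8, 13, 11, 12, 7, 11, 12, 13]⟩, ⟨1, 90, []⟩, ⟨1, 86, []⟩, ⟨1, 617, [0, 4, 8, 12, 7, 11, 12, 13, 11, 12]⟩]⟩,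
 ⟨4, 6, 1136, [], [⟨1, 1135, []⟩], []⟩,
 ⟨7, 6, 156, [12, 11, 12, 13, 11, 4, 3, 1, 0, 2, 1, 3, 2, 0], [], [⟨1, 155, [12, 11, 12, 13, 11, 4]⟩, ⟨1, 39, []⟩, ⟨1, 42, []⟩, ⟨1, 41, []⟩, ⟨1, 40, []⟩, ⟨1, 46, []⟩, ⟨1, 119, [2, 11, 12, 13, 11, 4, 12]⟩, ⟨1, 90, []⟩, ⟨1, 87, []⟩, ⟨1, 579, [2, 12, 8, 11, 4, 11, 12, 7, 11, 13]⟩]⟩,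
 ⟨4, 6, 1138, [], [⟨1, 1137, []⟩], []⟩,
 ⟨7, 6, 156, [2, 8, 12, 7, 11, 12, 3, 1, 0, 2, 1, 3, 2, 0], [], [⟨1, 155, [2, 8, 12, 7, 11, 12]⟩, ⟨1, 39, []⟩, ⟨1, 46, []⟩, ⟨1, 68, []⟩, ⟨1, 68, []⟩, ⟨1, 785, [2, 7, 11, 12, 8, 13, 11, 4, 12]⟩, ⟨1, 134, []⟩, ⟨1, 1103, [2, 7, 12, 11, 4, 12, 11, 12, 13]⟩]⟩,
 ⟨4, 6, 1140, [], [⟨1, 1139, []⟩], []⟩,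
 ⟨7, 6, 156, [7, 12, 13, 11, 12, 3, 1, 0, 2, 1, 3, 2, 0], [], [⟨1, 155, [7, 12, 13, 11, 12]⟩, ⟨1, 43, []⟩, ⟨1, 41, []⟩, ⟨1, 40, []⟩, ⟨1, 46, []⟩, ⟨1, 124, [8, 12, 8, 13, 11, 2, 12, 7, 11, 12, 13]⟩, ⟨1, 40, []⟩, ⟨1, 214, [7, 13, 11, 12, 7, 11, 4, 11, 13]⟩]⟩,
 ⟨4, 6, 1142, [], [⟨1, 1141, []⟩], []⟩,
 ⟨7, 6, 156, [4, 12, 8, 11, 12, 3, 1, 0, 2, 1, 3, 2, 0], [], [⟨1, 155, [4, 12, 8, 11, 12]⟩, ⟨1, 40, []⟩, ⟨1, 46, []⟩, ⟨1, 46, []⟩, ⟨1, 68, []⟩, ⟨1, 68, []⟩, ⟨1, 240, [0, 12, 13, 11, 4, 11, 12, 7, 11, 4]⟩, ⟨1, 134, []⟩, ⟨1, 135, []⟩, ⟨1, 1050, [0, 11, 12, 11, 13, 11, 12, 8, 11, 12, 7]⟩]⟩,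
 ⟨4, 6, 1144, [], [⟨1, 1143, []⟩], []⟩,
 ⟨7, 6, 156, [0, 4, 12, 13, 11, 12, 3, 1, 0, 2, 1, 3, 2, 0], [], [⟨1, 155, [0, 4, 12, 13, 11, 12]⟩, ⟨1, 43, []⟩, ⟨1, 42, []⟩, ⟨1, 41, []⟩, ⟨1, 68, []⟩, ⟨1, 68, []⟩, ⟨1, 581, [11, 2, 13, 11, 12, 8, 11, 4, 13]⟩, ⟨1, 134, []⟩, ⟨1, 135, []⟩, ⟨1, 134, []⟩, ⟨1, 949, [0, 12, 7, 11, 13, 11, 12, 11, 12, 7]⟩]⟩,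
 ⟨4, 6, 1146, [], [⟨1, 1145, []⟩], []⟩,
 ⟨7, 6, 156, [4, 8, 11, 12, 3, 1, 0, 2, 1, 3, 2, 0], [], [⟨1, 155, [4, 8, 11, 12]⟩, ⟨1, 41, []⟩, ⟨1, 46, []⟩, ⟨1, 46, []⟩, ⟨1, 68, []⟩, ⟨1, 248, [11, 4, 12, 8, 11, 12, 7, 11, 4, 12, 13]⟩, ⟨1, 134, []⟩, ⟨1, 958, [0, 4, 7, 12, 11, 4, 13, 11]⟩]⟩,
 ⟨4, 6, 1148, [], [⟨1, 1147, []⟩], []⟩,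
 ⟨7, 6, 156, [4, 11, 13, 11, 4, 12, 3, 1, 0, 2, 1, 3, 2, 0], [], [⟨1, 155, [4, 11, 13, 11, 4, 12]⟩, ⟨1, 39, []⟩, ⟨1, 43, []⟩, ⟨1, 42, []⟩, ⟨1, 41, []⟩, ⟨1, 46, []⟩, ⟨1, 46, []⟩, ⟨1, 68, []⟩, ⟨1, 68, []⟩, ⟨1, 94, [2, 4, 13, 11, 12, 11, 4, 11]⟩, ⟨1, 86, []⟩, ⟨1, 87, []⟩, ⟨1, 86, []⟩, ⟨1, 300, [11, 12, 7, 11, 12, 7, 11]⟩]⟩,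
 ⟨4, 6, 1150, [], [⟨1, 1149, []⟩], []⟩,
 ⟨7, 6, 156, [0, 11, 12, 13, 3, 1, 0, 2, 1, 3, 2, 0], [], [⟨1, 155, [0, 11, 12, 13]⟩, ⟨1, 39, []⟩, ⟨1, 68, []⟩, ⟨1, 68, []⟩, ⟨1, 114, [8, 11, 4, 11, 4, 13, 11, 4, 11, 12, 13]⟩, ⟨1, 86, []⟩, ⟨1, 87, []⟩, ⟨1, 90, []⟩, ⟨1, 86, []⟩, ⟨1, 90, []⟩, ⟨1, 559, [4, 7, 12, 8, 11, 4, 12, 11, 4]⟩]⟩,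
 ⟨4, 6, 1152, [], [⟨1, 1151, []⟩], []⟩,
 ⟨7, 6, 156, [4, 11, 4, 12, 13, 11, 4, 3, 1, 0, 2, 1, 3, 2, 0], [], [⟨1, 155, [4, 11, 4, 12, 13, 11, 4]⟩, ⟨1, 46, []⟩, ⟨1, 46, []⟩, ⟨1, 68, []⟩, ⟨1, 68, []⟩, ⟨1, 372, [12, 7, 12, 13, 11, 2, 12, 7, 12]⟩, ⟨1, 135, []⟩, ⟨1, 966, [13, 11, 12, 7, 12, 11, 13]⟩]⟩,
 ⟨4, 6, 1154, [], [⟨1, 1153, []⟩], []⟩,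
 ⟨7, 6, 156, [4, 7, 11, 13, 11, 12, 3, 1, 0, 2, 1, 3, 2, 0], [], [⟨1, 155, [4, 7, 11, 13, 11, 12]⟩, ⟨1, 43, []⟩, ⟨1, 40, []⟩, ⟨1, 46, []⟩, ⟨1, 68, []⟩, ⟨1, 587, [8, 13, 11, 4, 11, 4, 12, 11, 13]⟩, ⟨1, 135, []⟩, ⟨1, 134, []⟩, ⟨1, 1079, [0, 12, 7, 12, 11, 4, 13, 11, 4]⟩]⟩,
 ⟨4, 6, 1156, [], [⟨1, 1155, []⟩], []⟩]
theorem chk22 : and2 (D.chkL PF22 1107) (Nat.beq (Nat.add 1107 PF22.length) 1157) = true := by decide +kernel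

def PF23 : List DPf := [⟨7, 6, 156, [12, 8, 11, 12, 3, 1, 0, 2, 1, 3, 2, 0], [], [⟨1, 155, [12, 8, 11, 12]⟩, ⟨1, 42, []⟩, ⟨1, 40, []⟩, ⟨1, 68, []⟩, ⟨1, 375, [12, 7, 11, 2, 4, 12, 11, 12, 7, 12]⟩, ⟨1, 134, []⟩, ⟨1, 135, []⟩, ⟨1, 134, []⟩, ⟨1, 924, [4, 11, 12, 7, 11, 12, 8, 11, 13]⟩]⟩,
 ⟨4, 6, 1158, [], [⟨1, 1157, []⟩], []⟩,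
 ⟨7, 6, 156, [4, 7, 12, 8, 13, 11, 12, 3, 1, 0, 2, 1, 3, 2, 0], [], [⟨1, 155, [4, 7, 12, 8, 13, 11, 12]⟩, ⟨1, 42, []⟩, ⟨1, 41, []⟩, ⟨1, 40, []⟩, ⟨1, 46, []⟩, ⟨1, 124, [0, 4, 12, 7, 13, 11, 4, 12, 11, 12, 8]⟩, ⟨1, 39, []⟩, ⟨1, 42, []⟩, ⟨1, 40, []⟩, ⟨1, 68, []⟩, ⟨1, 68, []⟩, ⟨1, 288, [11, 12, 8, 12, 11, 4, 12, 11]⟩]⟩,
 ⟨4, 6, 1160, [], [⟨1, 1159, []⟩], []⟩,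
 ⟨7, 6, 156, [2, 4, 8, 12, 11, 4, 3, 1, 0, 2, 1, 3, 2, 0], [], [⟨1, 155, [2, 4, 8, 12, 11, 4]⟩, ⟨1, 39, []⟩, ⟨1, 43, []⟩, ⟨1, 42, []⟩, ⟨1, 41, []⟩, ⟨1, 40, []⟩, ⟨1, 123, [0, 12, 7, 13, 11, 12, 8, 11, 12, 13]⟩, ⟨1, 39, []⟩, ⟨1, 43, []⟩, ⟨1, 46, []⟩, ⟨1, 46, []⟩, ⟨1, 68, []⟩, ⟨1, 68, []⟩, ⟨1, 368, [7, 11, 12, 8, 12, 11, 4, 12, 11, 12]⟩]⟩,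
 ⟨4, 6, 1162, [], [⟨1, 1161, []⟩], []⟩,
 ⟨7, 6, 156, [12, 11, 4, 13, 3, 1, 0, 2, 1, 3, 2, 0], [], [⟨1, 155, [12, 11, 4, 13]⟩, ⟨1, 39, []⟩, ⟨1, 42, []⟩, ⟨1, 41, []⟩, ⟨1, 46, []⟩, ⟨1, 46, []⟩, ⟨1, 68, []⟩, ⟨1, 68, []⟩, ⟨1, 379, [8, 11, 2, 4, 13, 11, 12, 11, 13]⟩, ⟨1, 135, []⟩, ⟨1, 134, []⟩, ⟨1, 1154, [7, 11, 4, 12, 8, 13, 11, 12, 11, 13]⟩]⟩,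
 ⟨4, 6, 1164, [], [⟨1, 1163, []⟩], []⟩,
 ⟨7, 6, 156, [11, 12, 11, 13, 11, 4, 3, 1, 0, 2, 1, 3, 2, 0], [], [⟨1, 155, [11, 12, 11, 13, 11, 4]⟩, ⟨1, 41, []⟩, ⟨1, 68, []⟩, ⟨1, 68, []⟩, ⟨1, 83, [8, 11, 4, 11, 12, 13, 11, 12]⟩, ⟨1, 76, []⟩, ⟨1, 78, []⟩, ⟨1, 81, []⟩, ⟨1, 81, []⟩, ⟨1, 126, []⟩, ⟨1, 218, [0, 7, 12, 7, 11, 13, 11, 4, 12, 8]⟩]⟩,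
 ⟨4, 6, 1166, [], [⟨1, 1165, []⟩], []⟩,
 ⟨7, 6, 156, [12, 7, 11, 4, 12, 3, 1, 0, 2, 1, 3, 2, 0], [], [⟨1, 155, [12, 7, 11, 4, 12]⟩, ⟨1, 41, []⟩, ⟨1, 46, []⟩, ⟨1, 46, []⟩, ⟨1, 124, [12, 7, 13, 11, 12, 7, 11]⟩, ⟨1, 46, []⟩, ⟨1, 68, []⟩, ⟨1, 68, []⟩, ⟨1, 364, [7, 11, 2, 12, 13, 11, 12]⟩]⟩,
 ⟨4, 6, 1168, [], [⟨1, 1167, []⟩], []⟩,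
 ⟨7, 6, 156, [4, 13, 3, 1, 0, 2, 1, 3, 2, 0], [], [⟨1, 155, [4, 13]⟩, ⟨1, 39, []⟩, ⟨1, 41, []⟩, ⟨1, 68, []⟩, ⟨1, 377, [4, 12, 8, 13, 11, 4, 12, 11, 13]⟩, ⟨1, 134, []⟩, ⟨1, 1154, [7, 11, 4, 13, 11, 4, 12, 8]⟩]⟩,
 ⟨4, 6, 1170, [], [⟨1, 1169, []⟩], []⟩,
 ⟨7, 6, 156, [0, 13, 11, 12, 7, 11, 12, 3, 1, 0, 2, 1, 3, 2, 0], [], [⟨1, 155, [0, 13, 11, 12, 7, 11, 12]⟩, ⟨1, 39, []⟩, ⟨1, 43, []⟩, ⟨1, 41, []⟩, ⟨1, 46, []⟩, ⟨1, 123, [0, 11, 12, 7, 11]⟩, ⟨1, 39, []⟩, ⟨1, 43, []⟩, ⟨1, 40, []⟩, ⟨1, 68, []⟩, ⟨1, 68, []⟩, ⟨1, 286, [11, 4, 12, 13, 11, 4, 12, 7]⟩]⟩,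
 ⟨4, 6, 1172, [], [⟨1, 1171, []⟩], []⟩,
 ⟨7, 6, 156, [11, 4, 13, 11, 4, 12, 11, 12, 3, 1, 0, 2, 1, 3, 2, 0], [], [⟨1, 155, [11, 4, 13, 11, 4, 12, 11, 12]⟩, ⟨1, 39, []⟩, ⟨1, 46, []⟩, ⟨1, 46, []⟩, ⟨1, 68, []⟩, ⟨1, 240, [2, 12, 8, 12, 11, 4, 12, 11, 13, 11]⟩, ⟨1, 134, []⟩, ⟨1, 135, []⟩, ⟨1, 949, [0, 8, 12, 11, 13, 11, 4, 11, 4, 13]⟩]⟩,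
 ⟨4, 6, 1174, [], [⟨1, 1173, []⟩], []⟩,
 ⟨7, 6, 156, [8, 12, 7, 11, 4, 12, 3, 1, 0, 2, 1, 3, 2, 0], [], [⟨1, 155, [8, 12, 7, 11, 4, 12]⟩, ⟨1, 42, []⟩, ⟨1, 41, []⟩, ⟨1, 40, []⟩, ⟨1, 46, []⟩, ⟨1, 46, []⟩, ⟨1, 68, []⟩, ⟨1, 368, [2, 4, 7, 12, 11, 12, 7, 11, 12, 13]⟩, ⟨1, 134, []⟩, ⟨1, 135, []⟩, ⟨1, 1156, [8, 13, 11, 4, 12, 11, 4, 11]⟩]⟩,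
 ⟨4, 6, 1176, [], [⟨1, 1175, []⟩], []⟩,
 ⟨7, 6, 156, [2, 8, 11, 4, 11, 12, 3, 1, 0, 2, 1, 3, 2, 0], [], [⟨1, 155, [2, 8, 11, 4, 11, 12]⟩, ⟨1, 43, []⟩, ⟨1, 42, []⟩, ⟨1, 41, []⟩, ⟨1, 68, []⟩, ⟨1, 114, [7, 13, 11, 2, 4, 12, 8, 11, 12, 8]⟩, ⟨1, 86, []⟩, ⟨1, 87, []⟩, ⟨1, 475, [11, 2, 12, 7, 11, 4, 12, 13]⟩]⟩,
 ⟨4, 6, 1178, [], [⟨1, 1177, []⟩], []⟩,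
 ⟨7, 6, 156, [2, 8, 12, 3, 1, 0, 2, 1, 3, 2, 0], [], [⟨1, 155, [2, 8, 12]⟩, ⟨1, 39, []⟩, ⟨1, 42, []⟩, ⟨1, 41, []⟩, ⟨1, 46, []⟩, ⟨1, 46, []⟩, ⟨1, 68, []⟩, ⟨1, 589, [2, 12, 11, 4, 12, 7, 11, 13, 11, 4]⟩, ⟨1, 134, []⟩, ⟨1, 948, [8, 12, 8, 11, 13, 11, 4, 11, 12, 13]⟩]⟩,
 ⟨4, 6, 1180, [], [⟨1, 1179, []⟩], []⟩,
 ⟨7, 6, 156, [0, 8, 12, 7, 11, 12, 13, 3, 1, 0, 2, 1, 3, 2, 0], [], [⟨1, 155, [0, 8, 12, 7, 11, 12, 13]⟩, ⟨1, 39, []⟩, ⟨1, 42, []⟩, ⟨1, 40, []⟩, ⟨1, 46, []⟩, ⟨1, 46, []⟩, ⟨1, 372, [2, 7, 13, 11, 12, 8, 12]⟩, ⟨1, 1075, [11, 2, 12, 8, 11, 12, 7, 11, 13]⟩]⟩,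
 ⟨4, 6, 1182, [], [⟨1, 1181, []⟩], []⟩,
 ⟨8, 6, 156, [2, 11, 12, 0, 2, 3, 4, 2, 1, 2, 0, 1, 3, 2, 0], [], [⟨1, 155, [2, 11, 12]⟩, ⟨1, 39, []⟩, ⟨1, 42, []⟩, ⟨1, 98, [13, 11, 12, 7, 12, 11, 12, 8]⟩, ⟨1, 300, [11, 12, 8, 13, 11, 12, 7, 11, 12, 13]⟩]⟩,
 ⟨4, 6, 1184, [], [⟨1, 1183, []⟩], []⟩,
 ⟨8, 6, 156, [0, 8, 12, 13, 11, 12, 0, 2, 3, 4, 2, 1, 2, 0, 1, 3, 2, 0], [], [⟨1, 155, [0, 8, 12, 13, 11, 12]⟩, ⟨1, 43, []⟩, ⟨1, 42, []⟩, ⟨1, 40, []⟩, ⟨1, 68, []⟩, ⟨1, 68, []⟩, ⟨1, 368, [2, 11, 12, 11, 12, 7, 13]⟩, ⟨1, 134, []⟩, ⟨1, 135, []⟩, ⟨1, 1156, [0, 7, 11, 4, 12, 8, 13, 11, 12, 11]⟩]⟩,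
 ⟨4, 6, 1186, [], [⟨1, 1185, []⟩], []⟩,
 ⟨8, 6, 156, [4, 12, 13, 11, 4, 0, 2, 3, 4, 2, 1, 2, 0, 1, 3, 2, 0], [], [⟨1, 155, [4, 12, 13, 11, 4]⟩, ⟨1, 39, []⟩, ⟨1, 43, []⟩, ⟨1, 42, []⟩, ⟨1, 242, [2, 4, 12, 11, 13, 11, 12, 8]⟩, ⟨1, 134, []⟩, ⟨1, 135, []⟩, ⟨1, 1180, [0, 4, 8, 13, 11, 12, 7, 11, 12, 7]⟩]⟩,
 ⟨4, 6, 1188, [], [⟨1, 1187, []⟩], []⟩,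
 ⟨8, 6, 156, [0, 8, 12, 13, 0, 2, 3, 4, 2, 1, 2, 0, 1, 3, 2, 0], [], [⟨1, 155, [0, 8, 12, 13]⟩, ⟨1, 39, []⟩, ⟨1, 42, []⟩, ⟨1, 40, []⟩, ⟨1, 46, []⟩, ⟨1, 68, []⟩, ⟨1, 789, [7, 12, 8, 11, 4, 13, 11, 12, 11, 4]⟩, ⟨1, 1187, [2, 4, 7, 11, 12, 8, 11, 13, 11, 4]⟩]⟩,
 ⟨4, 6, 1190, [], [⟨1, 1189, []⟩], []⟩,
 ⟨8, 6, 156, [12, 7, 13, 11, 12, 0, 2, 3, 4, 2, 1, 2, 0, 1, 3, 2, 0], [], [⟨1, 155, [12, 7, 13, 11, 12]⟩, ⟨1, 39, []⟩, ⟨1, 40, []⟩, ⟨1, 46, []⟩, ⟨1, 46, []⟩, ⟨1, 68, []⟩, ⟨1, 789, [8, 12, 7, 11, 12, 7, 11, 13, 11, 4]⟩, ⟨1, 1007, [8, 11, 4, 13, 11, 4, 12, 11, 12, 8]⟩]⟩,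
 ⟨4, 6, 1192, [], [⟨1, 1191, []⟩], []⟩,
 ⟨8, 6, 156, [8, 12, 7, 11, 12, 0, 2, 3, 4, 2, 1, 2, 0, 1, 3, 2, 0], [], [⟨1, 155, [8, 12, 7, 11, 12]⟩, ⟨1, 83, [0, 4, 7, 11, 13, 11, 12, 11, 12, 8]⟩, ⟨1, 76, []⟩, ⟨1, 78, []⟩, ⟨1, 77, []⟩, ⟨1, 81, []⟩, ⟨1, 81, []⟩, ⟨1, 126, []⟩, ⟨1, 218, [12, 13, 11, 4]⟩]⟩,
 ⟨4, 6, 1194, [], [⟨1, 1193, []⟩], []⟩,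
 ⟨8, 6, 156, [11, 12, 11, 4, 12, 0, 2, 3, 4, 2, 1, 2, 0, 1, 3, 2, 0], [], [⟨1, 155, [11, 12, 11, 4, 12]⟩, ⟨1, 39, []⟩, ⟨1, 43, []⟩, ⟨1, 156, [4, 8, 11, 13, 11, 12, 7, 11, 4]⟩, ⟨1, 1125, [2, 4, 11, 12, 11, 12, 8, 12, 11, 4, 12]⟩]⟩,
 ⟨4, 6, 1196, [], [⟨1, 1195, []⟩], []⟩,
 ⟨8, 6, 156, [11, 12, 0, 2, 3, 4, 2, 1, 2, 0, 1, 3, 2, 0], [], [⟨1, 155, [11, 12]⟩, ⟨1, 39, []⟩, ⟨1, 42, []⟩, ⟨1, 98, [0, 7, 11, 12, 8, 13, 11, 4, 12, 11]⟩, ⟨1, 87, []⟩, ⟨1, 298, [4, 8, 11, 12, 13, 11, 4, 11, 4, 12, 13, 11]⟩]⟩,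
 ⟨4, 6, 1198, [], [⟨1, 1197, []⟩], []⟩,
 ⟨8, 6, 156, [8, 11, 12, 7, 11, 12, 0, 2, 3, 4, 2, 1, 2, 0, 1, 3, 2, 0], [], [⟨1, 155, [8, 11, 12, 7, 11, 12]⟩, ⟨1, 83, [11, 12, 8, 12, 13, 11, 12, 7, 11]⟩, ⟨1, 76, []⟩, ⟨1, 77, []⟩, ⟨1, 78, []⟩, ⟨1, 81, []⟩, ⟨1, 81, []⟩, ⟨1, 77, []⟩, ⟨1, 81, []⟩, ⟨1, 126, []⟩, ⟨1, 218, [12, 8, 11, 2, 12, 13, 11, 12, 7, 12]⟩]⟩,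
 ⟨4, 6, 1200, [], [⟨1, 1199, []⟩], []⟩,
 ⟨8, 6, 156, [7, 12, 11, 4, 0, 2, 3, 4, 2, 1, 2, 0, 1, 3, 2, 0], [], [⟨1, 155, [7, 12, 11, 4]⟩, ⟨1, 83, [12, 8, 11, 4, 12, 11, 4, 13]⟩, ⟨1, 77, []⟩, ⟨1, 344, [2, 4, 8, 11, 4, 12, 11, 12, 13, 11]⟩]⟩,
 ⟨4, 6, 1202, [], [⟨1, 1201, []⟩], []⟩,
 ⟨8, 6, 156, [11, 4, 0, 2, 3, 4, 2, 1, 2, 0, 1, 3, 2, 0], [], [⟨1, 155, [11, 4]⟩, ⟨1, 39, []⟩, ⟨1, 43, []⟩, ⟨1, 156, [11, 2, 13, 11, 12, 11]⟩, ⟨1, 135, []⟩, ⟨1, 1123, [4, 8, 11, 4, 12, 11, 12, 7, 11]⟩]⟩,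
 ⟨4, 6, 1204, [], [⟨1, 1203, []⟩], []⟩]
theorem chk23 : and2 (D.chkL PF23 1157) (Nat.beq (Nat.add 1157 PF23.length) 1205) = true := by decide +kernel

def PF24 : List DPf := [⟨8, 6, 156, [7, 11, 4, 11, 12, 0, 2, 3, 4, 2, 1, 2, 0, 1, 3, 2, 0], [], [⟨1, 155, [7, 11, 4, 11, 12]⟩, ⟨1, 83, [7, 11, 2, 4, 11, 12, 7, 11, 13]⟩, ⟨1, 78, []⟩, ⟨1, 77, []⟩, ⟨1, 81, []⟩, ⟨1, 81, []⟩, ⟨1, 77, []⟩, ⟨1, 81, []⟩, ⟨1, 356, [0, 12, 7, 12, 11, 4, 11, 13, 11, 12]⟩]⟩,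
 ⟨4, 6, 1206, [], [⟨1, 1205, []⟩], []⟩,
 ⟨8, 6, 156, [0, 8, 11, 13, 11, 4, 12, 0, 2, 3, 4, 2, 1, 2, 0, 1, 3, 2, 0], [], [⟨1, 155, [0, 8, 11, 13, 11, 4, 12]⟩, ⟨1, 39, []⟩, ⟨1, 42, []⟩, ⟨1, 41, []⟩, ⟨1, 40, []⟩, ⟨1, 46, []⟩, ⟨1, 68, []⟩, ⟨1, 789, [7, 11, 2, 4, 12, 8, 11, 4, 13]⟩, ⟨1, 135, []⟩, ⟨1, 134, []⟩, ⟨1, 966, [2, 11, 12, 7, 12, 11, 4, 12, 11]⟩]⟩,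
 ⟨4, 6, 1208, [], [⟨1, 1207, []⟩], []⟩,
 ⟨8, 6, 156, [12, 13, 11, 4, 12, 0, 2, 3, 4, 2, 1, 2, 0, 1, 3, 2, 0], [], [⟨1, 155, [12, 13, 11, 4, 12]⟩, ⟨1, 39, []⟩, ⟨1, 42, []⟩, ⟨1, 46, []⟩, ⟨1, 46, []⟩, ⟨1, 68, []⟩, ⟨1, 68, []⟩, ⟨1, 364, [4, 7, 12, 11, 12, 7, 11, 4, 11, 13]⟩, ⟨1, 134, []⟩, ⟨1, 135, []⟩, ⟨1, 134, []⟩, ⟨1, 1024, [7, 12, 7, 13, 11, 12, 8, 11, 4, 13]⟩]⟩,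
 ⟨4, 6, 1210, [], [⟨1, 1209, []⟩], []⟩,
 ⟨8, 6, 156, [0, 8, 13, 11, 4, 12, 0, 2, 3, 4, 2, 1, 2, 0, 1, 3, 2, 0], [], [⟨1, 155, [0, 8, 13, 11, 4, 12]⟩, ⟨1, 39, []⟩, ⟨1, 40, []⟩, ⟨1, 46, []⟩, ⟨1, 46, []⟩, ⟨1, 68, []⟩, ⟨1, 789, [0, 4, 11, 12, 11, 4, 13, 11, 4]⟩, ⟨1, 135, []⟩, ⟨1, 134, []⟩, ⟨1, 966, [2, 11, 12, 8, 11, 12, 11, 4, 12, 8]⟩]⟩,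
 ⟨4, 6, 1212, [], [⟨1, 1211, []⟩], []⟩,
 ⟨8, 6, 156, [4, 11, 12, 11, 4, 0, 2, 3, 4, 2, 1, 2, 0, 1, 3, 2, 0], [], [⟨1, 155, [4, 11, 12, 11, 4]⟩, ⟨1, 39, []⟩, ⟨1, 42, []⟩, ⟨1, 98, [2, 7, 13, 11, 4, 12, 11, 12, 8]⟩, ⟨1, 87, []⟩, ⟨1, 90, []⟩, ⟨1, 90, []⟩, ⟨1, 86, []⟩, ⟨1, 683, [0, 13, 11, 4, 12, 7, 11, 4, 13]⟩]⟩,
 ⟨4, 6, 1214, [], [⟨1, 1213, []⟩], []⟩,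
 ⟨8, 6, 156, [7, 11, 13, 11, 12, 0, 2, 3, 4, 2, 1, 2, 0, 1, 3, 2, 0], [], [⟨1, 155, [7, 11, 13, 11, 12]⟩, ⟨1, 42, []⟩, ⟨1, 68, []⟩, ⟨1, 581, [4, 7, 12, 11, 13, 11, 12, 8, 11]⟩, ⟨1, 134, []⟩, ⟨1, 135, []⟩, ⟨1, 1005, [0, 12, 7, 11, 4, 12, 13, 11]⟩]⟩,
 ⟨4, 6, 1216, [], [⟨1, 1215, []⟩], []⟩,
 ⟨9, 6, 156, [12, 8, 12, 11, 12, 0, 2, 4, 1, 0, 2, 1, 3, 2, 0], [], [⟨1, 155, [12, 8, 12, 11, 12]⟩, ⟨1, 39, []⟩, ⟨1, 42, []⟩, ⟨1, 98, [0, 4, 8, 12, 11, 12, 8, 12]⟩, ⟨1, 86, []⟩, ⟨1, 90, []⟩, ⟨1, 87, []⟩, ⟨1, 90, []⟩, ⟨1, 90, []⟩, ⟨1, 421, [7, 11, 4, 12, 13, 11, 4, 12, 7, 11]⟩]⟩,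
 ⟨4, 6, 1218, [], [⟨1, 1217, []⟩], []⟩,
 ⟨9, 6, 156, [8, 12, 11, 4, 12, 0, 2, 4, 1, 0, 2, 1, 3, 2, 0], [], [⟨1, 155, [8, 12, 11, 4, 12]⟩, ⟨1, 39, []⟩, ⟨1, 43, []⟩, ⟨1, 156, [4, 7, 12, 11, 12, 13, 11, 4, 11, 13]⟩, ⟨1, 134, []⟩, ⟨1, 135, []⟩, ⟨1, 134, []⟩, ⟨1, 905, [2, 4, 8, 11, 13, 11, 12, 8, 11, 4]⟩]⟩,
 ⟨4, 6, 1220, [], [⟨1, 1219, []⟩], []⟩,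
 ⟨12, 6, 156, [13, 0, 2, 3, 1, 0, 2, 1, 2, 4, 3, 2, 0, 2, 0], [], [⟨1, 155, [13]⟩, ⟨1, 39, []⟩, ⟨1, 42, []⟩, ⟨1, 41, []⟩, ⟨1, 46, []⟩, ⟨1, 68, []⟩, ⟨1, 314, [0, 12, 7, 11, 4, 11, 12, 8, 11, 12]⟩, ⟨1, 134, []⟩, ⟨1, 1187, [7, 12, 13, 11, 4, 12, 11, 4, 13, 11]⟩]⟩,
 ⟨4, 6, 1222, [], [⟨1, 1221, []⟩], []⟩,
 ⟨12, 6, 156, [0, 4, 8, 12, 13, 11, 4, 0, 2, 3, 1, 0, 2, 1, 2, 4, 3, 2, 0, 2, 0], [], [⟨1, 155, [0, 4, 8, 12, 13, 11, 4]⟩, ⟨1, 39, []⟩, ⟨1, 43, []⟩, ⟨1, 41, []⟩, ⟨1, 46, []⟩, ⟨1, 46, []⟩, ⟨1, 156, [0, 7, 11, 4, 11, 12, 13]⟩, ⟨1, 135, []⟩, ⟨1, 1219, [11, 12, 11, 4, 11, 4, 12]⟩]⟩,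
 ⟨4, 6, 1224, [], [⟨1, 1223, []⟩], []⟩,
 ⟨12, 6, 156, [0, 12, 7, 11, 4, 12, 13, 0, 2, 3, 1, 0, 2, 1, 2, 4, 3, 2, 0, 2, 0], [], [⟨1, 155, [0, 12, 7, 11, 4, 12, 13]⟩, ⟨1, 39, []⟩, ⟨1, 43, []⟩, ⟨1, 42, []⟩, ⟨1, 46, []⟩, ⟨1, 286, [11, 12, 8, 12, 11, 4, 12, 11]⟩, ⟨1, 134, []⟩, ⟨1, 135, []⟩, ⟨1, 1203, [4, 13, 11, 12, 7, 12, 11, 4, 11, 13]⟩]⟩,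
 ⟨4, 6, 1226, [], [⟨1, 1225, []⟩], []⟩,
 ⟨12, 6, 156, [7, 12, 11, 13, 11, 4, 12, 0, 2, 3, 1, 0, 2, 1, 2, 4, 3, 2, 0, 2, 0], [], [⟨1, 155, [7, 12, 11, 13, 11, 4, 12]⟩, ⟨1, 43, []⟩, ⟨1, 41, []⟩, ⟨1, 68, []⟩, ⟨1, 68, []⟩, ⟨1, 581, [2, 7, 11, 12, 11, 4, 11, 13]⟩, ⟨1, 134, []⟩, ⟨1, 135, []⟩, ⟨1, 1005, [8, 12, 11, 12, 7, 12, 13, 11]⟩]⟩,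
 ⟨4, 6, 1228, [], [⟨1, 1227, []⟩], []⟩,
 ⟨12, 6, 156, [7, 12, 11, 4, 12, 13, 0, 2, 3, 1, 0, 2, 1, 2, 4, 3, 2, 0, 2, 0], [], [⟨1, 155, [7, 12, 11, 4, 12, 13]⟩, ⟨1, 41, []⟩, ⟨1, 40, []⟩, ⟨1, 46, []⟩, ⟨1, 46, []⟩, ⟨1, 783, [4, 12, 7, 11, 12, 8, 11, 12, 7, 11, 12]⟩, ⟨1, 134, []⟩, ⟨1, 973, [4, 11, 2, 13, 11, 12, 7, 11, 4, 11, 12]⟩]⟩,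
 ⟨4, 6, 1230, [], [⟨1, 1229, []⟩], []⟩,
 ⟨12, 6, 156, [0, 8, 12, 7, 13, 11, 12, 0, 2, 3, 1, 0, 2, 1, 2, 4, 3, 2, 0, 2, 0], [], [⟨1, 155, [0, 8, 12, 7, 13, 11, 12]⟩, ⟨1, 39, []⟩, ⟨1, 42, []⟩, ⟨1, 41, []⟩, ⟨1, 781, [0, 12, 11, 4, 12, 8]⟩, ⟨1, 134, []⟩, ⟨1, 135, []⟩, ⟨1, 905, [2, 4, 11, 12, 7, 12, 11, 12, 7, 13]⟩]⟩,
 ⟨4, 6, 1232, [], [⟨1, 1231, []⟩], []⟩,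
 ⟨12, 6, 156, [8, 11, 12, 0, 2, 3, 1, 0, 2, 1, 2, 4, 3, 2, 0, 2, 0], [], [⟨1, 155, [8, 11, 12]⟩, ⟨1, 43, []⟩, ⟨1, 42, []⟩, ⟨1, 46, []⟩, ⟨1, 68, []⟩, ⟨1, 370, [0, 11, 13, 11, 12, 11, 12, 8, 13, 11]⟩, ⟨1, 135, []⟩, ⟨1, 1188, [12, 11, 12, 8, 13, 11, 4, 12]⟩]⟩,
 ⟨4, 6, 1234, [], [⟨1, 1233, []⟩], []⟩,
 ⟨12, 6, 156, [0, 11, 13, 0, 2, 3, 1, 0, 2, 1, 2, 4, 3, 2, 0, 2, 0], [], [⟨1, 155, [0, 11, 13]⟩, ⟨1, 39, []⟩, ⟨1, 42, []⟩, ⟨1, 41, []⟩, ⟨1, 40, []⟩, ⟨1, 46, []⟩, ⟨1, 68, []⟩, ⟨1, 68, []⟩, ⟨1, 316, [4, 8, 11, 13, 11, 12, 7]⟩, ⟨1, 135, []⟩, ⟨1, 134, []⟩, ⟨1, 1154, [4, 7, 12, 11, 4, 12, 8, 13, 11]⟩]⟩,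
 ⟨4, 6, 1236, [], [⟨1, 1235, []⟩], []⟩,
 ⟨12, 6, 156, [4, 7, 12, 11, 12, 0, 2, 3, 1, 0, 2, 1, 2, 4, 3, 2, 0, 2, 0], [], [⟨1, 155, [4, 7, 12, 11, 12]⟩, ⟨1, 39, []⟩, ⟨1, 42, []⟩, ⟨1, 41, []⟩, ⟨1, 40, []⟩, ⟨1, 46, []⟩, ⟨1, 68, []⟩, ⟨1, 366, [2, 4, 12, 7, 11, 4, 12, 8, 11, 4, 12]⟩, ⟨1, 134, []⟩, ⟨1, 135, []⟩, ⟨1, 134, []⟩, ⟨1, 1154, [8, 12, 7, 13, 11, 12, 11, 12, 7, 12]⟩]⟩,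
 ⟨4, 6, 1238, [], [⟨1, 1237, []⟩], []⟩,
 ⟨12, 6, 156, [11, 4, 12, 11, 12, 0, 2, 3, 1, 0, 2, 1, 2, 4, 3, 2, 0, 2, 0], [], [⟨1, 155, [11, 4, 12, 11, 12]⟩, ⟨1, 43, []⟩, ⟨1, 40, []⟩, ⟨1, 46, []⟩, ⟨1, 46, []⟩, ⟨1, 68, []⟩, ⟨1, 789, [4, 12, 11, 12, 8, 13, 11, 4, 11, 4]⟩, ⟨1, 1187, [12, 13, 11, 12, 7, 12, 11, 12]⟩]⟩,
 ⟨4, 6, 1240, [], [⟨1, 1239, []⟩], []⟩,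
 ⟨13, 6, 156, [8, 11, 12, 7, 11, 12, 0, 2, 3, 1, 2, 0, 1, 3, 2, 0], [], [⟨1, 155, [8, 11, 12, 7, 11, 12]⟩, ⟨1, 83, [0, 7, 12, 8, 13, 11, 4, 12, 11, 13]⟩, ⟨1, 78, []⟩, ⟨1, 77, []⟩, ⟨1, 78, []⟩, ⟨1, 348, [0, 8, 12, 11, 4, 11, 12, 13, 11, 4, 11]⟩]⟩,
 ⟨4, 6, 1242, [], [⟨1, 1241, []⟩], []⟩,
 ⟨13, 6, 156, [12, 8, 11, 12, 13, 0, 2, 3, 1, 2, 0, 1, 3, 2, 0], [], [⟨1, 155, [12, 8, 11, 12, 13]⟩, ⟨1, 39, []⟩, ⟨1, 41, []⟩, ⟨1, 40, []⟩, ⟨1, 46, []⟩, ⟨1, 46, []⟩, ⟨1, 68, []⟩, ⟨1, 789, [4, 11, 13, 11, 4, 12, 11, 4, 11]⟩, ⟨1, 134, []⟩, ⟨1, 135, []⟩, ⟨1, 134, []⟩, ⟨1, 1160, [12, 8, 12, 11, 2, 12, 13, 11, 4]⟩]⟩,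
 ⟨4, 6, 1244, [], [⟨1, 1243, []⟩], []⟩,
 ⟨17, 6, 156, [7, 11, 12, 8, 13, 5, 5, 3, 6, 6, 2, 0], [], [⟨1, 155, [7, 11, 12, 8, 13]⟩, ⟨1, 41, []⟩, ⟨1, 46, []⟩, ⟨1, 68, []⟩, ⟨1, 372, [2, 4, 11, 12, 7, 11, 4, 12]⟩, ⟨1, 134, []⟩, ⟨1, 969, [4, 7, 11, 12, 7, 13, 11, 4, 11, 12]⟩]⟩,
 ⟨4, 6, 1246, [], [⟨1, 1245, []⟩], []⟩,
 ⟨17, 6, 156, [7, 11, 13, 5, 5, 3, 6, 6, 2, 0], [], [⟨1, 155, [7, 11, 13]⟩, ⟨1, 42, []⟩, ⟨1, 41, []⟩, ⟨1, 40, []⟩, ⟨1, 46, []⟩, ⟨1, 46, []⟩, ⟨1, 68, []⟩, ⟨1, 364, [7, 11, 2, 12, 13, 11, 4, 12, 8]⟩, ⟨1, 134, []⟩, ⟨1, 1155, [0, 4, 7, 11, 4, 13, 11, 4, 11, 12, 11]⟩]⟩,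
 ⟨4, 6, 1248, [], [⟨1, 1247, []⟩], []⟩]
theorem chk24 : and2 (D.chkL PF24 1205) (Nat.beq (Nat.add 1205 PF24.length) 1249) = true := by decide +kernel

def PF25 : List DPf := [⟨17, 6, 156, [8, 11, 13, 5, 5, 3, 6, 6, 2, 0], [], [⟨1, 155, [8, 11, 13]⟩, ⟨1, 40, []⟩, ⟨1, 46, []⟩, ⟨1, 46, []⟩, ⟨1, 124, [8, 12, 8, 11, 12, 11, 13, 11, 4]⟩, ⟨1, 39, []⟩, ⟨1, 43, []⟩, ⟨1, 41, []⟩, ⟨1, 46, []⟩, ⟨1, 46, []⟩, ⟨1, 68, []⟩, ⟨1, 68, []⟩, ⟨1, 314, [12, 11, 4, 11, 12, 7, 12, 11]⟩]⟩,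
 ⟨4, 6, 1250, [], [⟨1, 1249, []⟩], []⟩,
 ⟨17, 6, 156, [8, 13, 5, 5, 3, 6, 6, 2, 0], [], [⟨1, 155, [8, 13]⟩, ⟨1, 39, []⟩, ⟨1, 43, []⟩, ⟨1, 42, []⟩, ⟨1, 123, [11, 2, 13, 11, 12, 11, 13]⟩, ⟨1, 40, []⟩, ⟨1, 46, []⟩, ⟨1, 68, []⟩, ⟨1, 68, []⟩, ⟨1, 377, [2, 7, 12, 11, 12, 8, 12, 11, 4]⟩]⟩,
 ⟨17, 6, 156, [4, 8, 12, 7, 13, 5, 5, 3, 6, 6, 2, 0], [], [⟨1, 155, [4, 8, 12, 7, 13]⟩, ⟨1, 43, []⟩, ⟨1, 42, []⟩, ⟨1, 41, []⟩, ⟨1, 46, []⟩, ⟨1, 316, [4, 8, 11, 4, 11, 12, 11, 12, 8, 12, 13]⟩, ⟨1, 134, []⟩, ⟨1, 958, [0, 11, 12, 8, 12, 11, 12, 7, 13]⟩]⟩,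
 ⟨4, 6, 1253, [], [⟨1, 1252, []⟩], []⟩,
 ⟨17, 6, 156, [4, 7, 12, 13, 5, 5, 3, 6, 6, 2, 0], [], [⟨1, 155, [4, 7, 12, 13]⟩, ⟨1, 43, []⟩, ⟨1, 42, []⟩, ⟨1, 41, []⟩, ⟨1, 68, []⟩, ⟨1, 68, []⟩, ⟨1, 597, [4, 11, 12, 11, 4, 11, 12, 7, 12]⟩, ⟨1, 134, []⟩, ⟨1, 135, []⟩, ⟨1, 1156, [12, 7, 11, 4, 12, 13, 11, 4, 12, 7]⟩]⟩,
 ⟨4, 6, 1255, [], [⟨1, 1254, []⟩], []⟩,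
 ⟨17, 6, 156, [7, 11, 12, 8, 12, 13, 5, 5, 3, 6, 6, 2, 0], [], [⟨1, 155, [7, 11, 12, 8, 12, 13]⟩, ⟨1, 42, []⟩, ⟨1, 41, []⟩, ⟨1, 40, []⟩, ⟨1, 316, [4, 8, 12, 11, 2, 4, 12, 8]⟩, ⟨1, 134, []⟩, ⟨1, 968, [0, 4, 11, 12, 7, 12, 11, 4, 11, 13]⟩]⟩,
 ⟨4, 6, 1257, [], [⟨1, 1256, []⟩], []⟩,
 ⟨7, 6, 150, [11, 12, 8, 11, 12, 13, 3, 1, 0, 2, 1, 3, 2, 0], [], [⟨1, 149, [11, 12, 8, 11, 12, 13]⟩, ⟨1, 39, []⟩, ⟨1, 42, []⟩, ⟨1, 68, []⟩, ⟨1, 583, [2, 4, 12, 7, 11, 12, 7, 11, 4, 12]⟩, ⟨1, 135, []⟩, ⟨1, 134, []⟩, ⟨1, 1102, [8, 12, 8, 11, 4, 11, 13]⟩]⟩,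
 ⟨4, 6, 1259, [], [⟨1, 1258, []⟩], []⟩,
 ⟨7, 6, 150, [12, 8, 11, 12, 13, 3, 1, 0, 2, 1, 3, 2, 0], [], [⟨1, 149, [12, 8, 11, 12, 13]⟩, ⟨1, 39, []⟩, ⟨1, 43, []⟩, ⟨1, 42, []⟩, ⟨1, 41, []⟩, ⟨1, 40, []⟩, ⟨1, 46, []⟩, ⟨1, 46, []⟩, ⟨1, 68, []⟩, ⟨1, 583, [0, 11, 4, 13, 11, 12, 8, 12]⟩, ⟨1, 134, []⟩, ⟨1, 135, []⟩, ⟨1, 947, [7, 12, 7, 11, 13, 11, 4, 11, 12]⟩]⟩,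
 ⟨4, 6, 1261, [], [⟨1, 1260, []⟩], []⟩,
 ⟨7, 6, 150, [12, 8, 13, 11, 4, 12, 3, 1, 0, 2, 1, 3, 2, 0], [], [⟨1, 149, [12, 8, 13, 11, 4, 12]⟩, ⟨1, 39, []⟩, ⟨1, 43, []⟩, ⟨1, 42, []⟩, ⟨1, 40, []⟩, ⟨1, 46, []⟩, ⟨1, 46, []⟩, ⟨1, 119, [2, 8, 11, 4, 11, 12, 11, 4, 11]⟩, ⟨1, 87, []⟩, ⟨1, 86, []⟩, ⟨1, 90, []⟩, ⟨1, 258, [0, 8, 11, 4, 11, 12, 7, 11, 4]⟩]⟩,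
 ⟨4, 6, 1263, [], [⟨1, 1262, []⟩], []⟩,
 ⟨7, 6, 150, [0, 12, 7, 11, 4, 12, 13, 3, 1, 0, 2, 1, 3, 2, 0], [], [⟨1, 149, [0, 12, 7, 11, 4, 12, 13]⟩, ⟨1, 39, []⟩, ⟨1, 41, []⟩, ⟨1, 785, [0, 4, 11, 12, 13, 11, 12, 7]⟩, ⟨1, 135, []⟩, ⟨1, 906, [4, 12, 11, 4, 11, 12, 7, 13, 11, 4, 11]⟩]⟩,
 ⟨4, 6, 1265, [], [⟨1, 1264, []⟩], []⟩,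
 ⟨7, 6, 150, [0, 4, 8, 11, 12, 13, 3, 1, 0, 2, 1, 3, 2, 0], [], [⟨1, 149, [0, 4, 8, 11, 12, 13]⟩, ⟨1, 39, []⟩, ⟨1, 46, []⟩, ⟨1, 46, []⟩, ⟨1, 68, []⟩, ⟨1, 68, []⟩, ⟨1, 368, [2, 12, 11, 12, 8, 13, 11, 4, 12]⟩, ⟨1, 1016, [2, 11, 4, 13, 11, 4, 12, 8, 11]⟩]⟩,
 ⟨4, 6, 1267, [], [⟨1, 1266, []⟩], []⟩,
 ⟨7, 6, 150, [4, 8, 12, 11, 4, 3, 1, 0, 2, 1, 3, 2, 0], [], [⟨1, 149, [4, 8, 12, 11, 4]⟩, ⟨1, 43, []⟩, ⟨1, 41, []⟩, ⟨1, 40, []⟩, ⟨1, 46, []⟩, ⟨1, 46, []⟩, ⟨1, 68, []⟩, ⟨1, 785, [11, 12, 7, 11, 4, 13]⟩, ⟨1, 134, []⟩, ⟨1, 135, []⟩, ⟨1, 982, [4, 13, 11, 2, 12, 7, 11, 12, 13]⟩]⟩,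
 ⟨4, 6, 1269, [], [⟨1, 1268, []⟩], []⟩,
 ⟨7, 6, 150, [4, 7, 13, 11, 4, 12, 3, 1, 0, 2, 1, 3, 2, 0], [], [⟨1, 149, [4, 7, 13, 11, 4, 12]⟩, ⟨1, 43, []⟩, ⟨1, 41, []⟩, ⟨1, 46, []⟩, ⟨1, 123, [2, 4, 7, 12, 11, 4, 12, 7, 13, 11]⟩, ⟨1, 39, []⟩, ⟨1, 41, []⟩, ⟨1, 46, []⟩, ⟨1, 583, [12, 8, 11, 13, 11, 12, 8, 11, 12, 8]⟩]⟩,
 ⟨4, 6, 1271, [], [⟨1, 1270, []⟩], []⟩,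
 ⟨7, 6, 150, [4, 8, 12, 13, 3, 1, 0, 2, 1, 3, 2, 0], [], [⟨1, 149, [4, 8, 12, 13]⟩, ⟨1, 42, []⟩, ⟨1, 40, []⟩, ⟨1, 124, [4, 12, 13, 11, 4, 11, 12, 8, 13]⟩, ⟨1, 43, []⟩, ⟨1, 40, []⟩, ⟨1, 46, []⟩, ⟨1, 46, []⟩, ⟨1, 68, []⟩, ⟨1, 589, [0, 4, 11, 13, 11, 12, 8]⟩]⟩,
 ⟨4, 6, 1273, [], [⟨1, 1272, []⟩], []⟩,
 ⟨7, 6, 150, [0, 4, 12, 8, 13, 11, 12, 3, 1, 0, 2, 1, 3, 2, 0], [], [⟨1, 149, [0, 4, 12, 8, 13, 11, 12]⟩, ⟨1, 39, []⟩, ⟨1, 43, []⟩, ⟨1, 42, []⟩, ⟨1, 40, []⟩, ⟨1, 583, [11, 13, 11, 4, 12, 7]⟩, ⟨1, 1271, [0, 4, 8, 12, 11, 12, 13]⟩]⟩,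
 ⟨4, 6, 1275, [], [⟨1, 1274, []⟩], []⟩,
 ⟨7, 6, 150, [4, 8, 11, 12, 3, 1, 0, 2, 1, 3, 2, 0], [], [⟨1, 149, [4, 8, 11, 12]⟩, ⟨1, 39, []⟩, ⟨1, 43, []⟩, ⟨1, 42, []⟩, ⟨1, 41, []⟩, ⟨1, 46, []⟩, ⟨1, 46, []⟩, ⟨1, 68, []⟩, ⟨1, 68, []⟩, ⟨1, 286, [0, 7, 11, 13, 11, 12, 11, 13]⟩, ⟨1, 134, []⟩, ⟨1, 135, []⟩, ⟨1, 968, [11, 4, 13, 11, 12, 11, 4, 11]⟩]⟩,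
 ⟨4, 6, 1277, [], [⟨1, 1276, []⟩], []⟩,
 ⟨7, 6, 150, [0, 4, 7, 13, 11, 12, 3, 1, 0, 2, 1, 3, 2, 0], [], [⟨1, 149, [0, 4, 7, 13, 11, 12]⟩, ⟨1, 39, []⟩, ⟨1, 46, []⟩, ⟨1, 46, []⟩, ⟨1, 68, []⟩, ⟨1, 68, []⟩, ⟨1, 781, [7, 11, 2, 12, 11, 4, 13, 11, 4, 12]⟩, ⟨1, 134, []⟩, ⟨1, 135, []⟩, ⟨1, 134, []⟩, ⟨1, 1271, [4, 8, 13, 11, 12, 8]⟩]⟩,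
 ⟨4, 6, 1279, [], [⟨1, 1278, []⟩], []⟩,
 ⟨7, 6, 150, [4, 7, 13, 11, 12, 3, 1, 0, 2, 1, 3, 2, 0], [], [⟨1, 149, [4, 7, 13, 11, 12]⟩, ⟨1, 39, []⟩, ⟨1, 42, []⟩, ⟨1, 41, []⟩, ⟨1, 40, []⟩, ⟨1, 124, [2, 4, 8, 12, 11, 12, 7, 13, 11]⟩, ⟨1, 42, []⟩, ⟨1, 46, []⟩, ⟨1, 46, []⟩, ⟨1, 583, [0, 8, 11, 4, 12, 11, 13, 11, 12, 7, 12]⟩]⟩,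
 ⟨4, 6, 1281, [], [⟨1, 1280, []⟩], []⟩,
 ⟨7, 6, 150, [4, 8, 12, 3, 1, 0, 2, 1, 3, 2, 0], [], [⟨1, 149, [4, 8, 12]⟩, ⟨1, 39, []⟩, ⟨1, 41, []⟩, ⟨1, 40, []⟩, ⟨1, 46, []⟩, ⟨1, 46, []⟩, ⟨1, 68, []⟩, ⟨1, 68, []⟩, ⟨1, 114, [12, 11, 4, 11, 12, 7, 11, 4]⟩, ⟨1, 86, []⟩, ⟨1, 90, []⟩, ⟨1, 90, []⟩, ⟨1, 90, []⟩, ⟨1, 86, []⟩, ⟨1, 439, [4, 8, 11, 2, 13, 11, 4]⟩]⟩,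
 ⟨4, 6, 1283, [], [⟨1, 1282, []⟩], []⟩,
 ⟨7, 6, 150, [4, 7, 11, 12, 13, 3, 1, 0, 2, 1, 3, 2, 0], [], [⟨1, 149, [4, 7, 11, 12, 13]⟩, ⟨1, 43, []⟩, ⟨1, 42, []⟩, ⟨1, 46, []⟩, ⟨1, 46, []⟩, ⟨1, 68, []⟩, ⟨1, 288, [4, 12, 11, 2, 13, 11, 4, 12, 11, 12]⟩, ⟨1, 134, []⟩, ⟨1, 135, []⟩, ⟨1, 134, []⟩, ⟨1, 1167, [0, 8, 12, 7, 11, 12, 8, 12, 13]⟩]⟩,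
 ⟨4, 6, 1285, [], [⟨1, 1284, []⟩], []⟩,
 ⟨7, 6, 150, [4, 12, 7, 13, 11, 12, 3, 1, 0, 2, 1, 3, 2, 0], [], [⟨1, 149, [4, 12, 7, 13, 11, 12]⟩, ⟨1, 39, []⟩, ⟨1, 43, []⟩, ⟨1, 46, []⟩, ⟨1, 46, []⟩, ⟨1, 68, []⟩, ⟨1, 68, []⟩, ⟨1, 364, [2, 13, 11, 4, 12, 8, 11, 12, 11]⟩, ⟨1, 1011, [8, 11, 12, 11, 4, 12, 13, 11, 4, 11]⟩]⟩,
 ⟨4, 6, 1287, [], [⟨1, 1286, []⟩], []⟩,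
 ⟨7, 6, 150, [0, 4, 13, 11, 12, 3, 1, 0, 2, 1, 3, 2, 0], [], [⟨1, 149, [0, 4, 13, 11, 12]⟩, ⟨1, 43, []⟩, ⟨1, 42, []⟩, ⟨1, 41, []⟩, ⟨1, 46, []⟩, ⟨1, 68, []⟩, ⟨1, 68, []⟩, ⟨1, 114, [4, 12, 8, 11, 2, 12, 7, 11, 4, 11]⟩, ⟨1, 86, []⟩, ⟨1, 87, []⟩, ⟨1, 86, []⟩, ⟨1, 90, []⟩, ⟨1, 87, []⟩, ⟨1, 681, [11, 4, 12, 8, 13, 11, 12, 11, 13]⟩]⟩,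
 ⟨4, 6, 1289, [], [⟨1, 1288, []⟩], []⟩,
 ⟨7, 6, 150, [7, 11, 12, 13, 11, 4, 3, 1, 0, 2, 1, 3, 2, 0], [], [⟨1, 149, [7, 11, 12, 13, 11, 4]⟩, ⟨1, 41, []⟩, ⟨1, 40, []⟩, ⟨1, 68, []⟩, ⟨1, 236, [0, 12, 8, 11, 12, 7, 11, 12, 8, 11]⟩, ⟨1, 134, []⟩, ⟨1, 135, []⟩, ⟨1, 1167, [2, 4, 11, 12, 8, 12, 11, 4, 12]⟩]⟩,
 ⟨4, 6, 1291, [], [⟨1, 1290, []⟩], []⟩,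
 ⟨7, 6, 150, [0, 4, 13, 11, 4, 12, 3, 1, 0, 2, 1, 3, 2, 0], [], [⟨1, 149, [0, 4, 13, 11, 4, 12]⟩, ⟨1, 39, []⟩, ⟨1, 43, []⟩, ⟨1, 46, []⟩, ⟨1, 46, []⟩, ⟨1, 119, [0, 4, 12, 7, 11, 12, 13, 11, 4, 11]⟩, ⟨1, 87, []⟩, ⟨1, 86, []⟩, ⟨1, 90, []⟩, ⟨1, 721, [2, 11, 4, 11, 4, 12, 8, 11, 12, 7]⟩]⟩,
 ⟨4, 6, 1293, [], [⟨1, 1292, []⟩], []⟩,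
 ⟨7, 6, 150, [0, 8, 12, 7, 13, 11, 12, 3, 1, 0, 2, 1, 3, 2, 0], [], [⟨1, 149, [0, 8, 12, 7, 13, 11, 12]⟩, ⟨1, 46, []⟩, ⟨1, 68, []⟩, ⟨1, 240, [2, 7, 12, 8, 11, 4, 12, 11, 4, 11]⟩, ⟨1, 134, []⟩, ⟨1, 135, []⟩, ⟨1, 906, [0, 4, 11, 4, 12, 13, 11, 4, 11, 12, 11]⟩]⟩,
 ⟨4, 6, 1295, [], [⟨1, 1294, []⟩], []⟩]
theorem chk25 : and2 (D.chkL PF25 1249) (Nat.beq (Nat.add 1249 PF25.length) 1296) = true := by decide +kernel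

def PF26 : List DPf := [⟨7, 6, 150, [2, 8, 12, 3, 1, 0, 2, 1, 3, 2, 0], [], [⟨1, 149, [2, 8, 12]⟩, ⟨1, 39, []⟩, ⟨1, 43, []⟩, ⟨1, 40, []⟩, ⟨1, 585, [2, 7, 11, 12, 11, 12, 8, 13, 11, 4]⟩, ⟨1, 135, []⟩, ⟨1, 925, [0, 7, 13, 11, 12, 8, 12, 11, 4, 12, 13]⟩]⟩,
 ⟨4, 6, 1297, [], [⟨1, 1296, []⟩], []⟩,
 ⟨7, 6, 150, [8, 13, 11, 12, 11, 4, 3, 1, 0, 2, 1, 3, 2, 0], [], [⟨1, 149, [8, 13, 11, 12, 11, 4]⟩, ⟨1, 39, []⟩, ⟨1, 43, []⟩, ⟨1, 41, []⟩, ⟨1, 46, []⟩, ⟨1, 46, []⟩, ⟨1, 121, [2, 8, 12, 7, 11, 12, 8, 11]⟩, ⟨1, 90, []⟩, ⟨1, 90, []⟩, ⟨1, 90, []⟩, ⟨1, 86, []⟩, ⟨1, 651, [0, 7, 12, 11, 13, 11, 12, 11, 4]⟩]⟩,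
 ⟨4, 6, 1299, [], [⟨1, 1298, []⟩], []⟩,
 ⟨8, 6, 150, [12, 7, 13, 11, 12, 0, 2, 3, 4, 2, 1, 2, 0, 1, 3, 2, 0], [], [⟨1, 149, [12, 7, 13, 11, 12]⟩, ⟨1, 39, []⟩, ⟨1, 248, [2, 12, 11, 12, 7, 12, 11, 4, 12, 13]⟩, ⟨1, 134, []⟩, ⟨1, 135, []⟩, ⟨1, 1075, [12, 7, 12, 11, 2, 4, 12, 11, 13]⟩]⟩,
 ⟨4, 6, 1301, [], [⟨1, 1300, []⟩], []⟩,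
 ⟨8, 6, 150, [8, 12, 7, 11, 12, 0, 2, 3, 4, 2, 1, 2, 0, 1, 3, 2, 0], [], [⟨1, 149, [8, 12, 7, 11, 12]⟩, ⟨1, 39, []⟩, ⟨1, 94, [12, 11, 13, 11, 12, 8, 11, 4]⟩, ⟨1, 87, []⟩, ⟨1, 86, []⟩, ⟨1, 90, []⟩, ⟨1, 86, []⟩, ⟨1, 90, []⟩, ⟨1, 541, [2, 4, 12, 7, 11, 12, 8]⟩]⟩,
 ⟨4, 6, 1303, [], [⟨1, 1302, []⟩], []⟩,
 ⟨8, 6, 150, [0, 7, 12, 13, 11, 4, 0, 2, 3, 4, 2, 1, 2, 0, 1, 3, 2, 0], [], [⟨1, 149, [0, 7, 12, 13, 11, 4]⟩, ⟨1, 39, []⟩, ⟨1, 41, []⟩, ⟨1, 238, [2, 8, 12, 11, 4, 12, 7, 11, 13]⟩, ⟨1, 1262, [13, 11, 4, 12, 8, 11, 13]⟩]⟩,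
 ⟨4, 6, 1305, [], [⟨1, 1304, []⟩], []⟩,
 ⟨8, 6, 150, [2, 7, 11, 4, 12, 0, 2, 3, 4, 2, 1, 2, 0, 1, 3, 2, 0], [], [⟨1, 149, [2, 7, 11, 4, 12]⟩, ⟨1, 39, []⟩, ⟨1, 94, [4, 12, 11, 12, 13, 11, 4, 11, 12, 7]⟩, ⟨1, 86, []⟩, ⟨1, 90, []⟩, ⟨1, 90, []⟩, ⟨1, 90, []⟩, ⟨1, 525, [2, 11, 12, 7, 11, 13, 11, 4]⟩]⟩,
 ⟨4, 6, 1307, [], [⟨1, 1306, []⟩], []⟩,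
 ⟨8, 6, 150, [8, 11, 12, 11, 4, 0, 2, 3, 4, 2, 1, 2, 0, 1, 3, 2, 0], [], [⟨1, 149, [8, 11, 12, 11, 4]⟩, ⟨1, 39, []⟩, ⟨1, 43, []⟩, ⟨1, 42, []⟩, ⟨1, 41, []⟩, ⟨1, 46, []⟩, ⟨1, 46, []⟩, ⟨1, 68, []⟩, ⟨1, 68, []⟩, ⟨1, 96, [8, 12, 7, 11, 4, 13, 11, 4, 12, 11]⟩, ⟨1, 86, []⟩, ⟨1, 87, []⟩, ⟨1, 86, []⟩, ⟨1, 266, [12, 11, 13, 11, 12, 11, 12, 13]⟩]⟩,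
 ⟨4, 6, 1309, [], [⟨1, 1308, []⟩], []⟩,
 ⟨8, 6, 150, [7, 12, 11, 4, 0, 2, 3, 4, 2, 1, 2, 0, 1, 3, 2, 0], [], [⟨1, 149, [7, 12, 11, 4]⟩, ⟨1, 39, []⟩, ⟨1, 94, [4, 12, 13, 11, 12, 7, 12, 11]⟩, ⟨1, 87, []⟩, ⟨1, 90, []⟩, ⟨1, 86, []⟩, ⟨1, 90, []⟩, ⟨1, 503, [7, 12, 7, 13, 11, 2, 12, 7, 11, 12]⟩]⟩,
 ⟨4, 6, 1311, [], [⟨1, 1310, []⟩], []⟩,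
 ⟨8, 6, 150, [2, 8, 11, 12, 7, 11, 12, 0, 2, 3, 4, 2, 1, 2, 0, 1, 3, 2, 0], [], [⟨1, 149, [2, 8, 11, 12, 7, 11, 12]⟩, ⟨1, 39, []⟩, ⟨1, 94, [2, 7, 13, 11, 4, 12, 11, 12, 7, 12]⟩, ⟨1, 87, []⟩, ⟨1, 90, []⟩, ⟨1, 87, []⟩, ⟨1, 268, [2, 7, 11, 4, 11, 13, 11, 12, 7]⟩]⟩,
 ⟨4, 6, 1313, [], [⟨1, 1312, []⟩], []⟩,
 ⟨8, 6, 150, [7, 11, 4, 11, 12, 0, 2, 3, 4, 2, 1, 2, 0, 1, 3, 2, 0], [], [⟨1, 149, [7, 11, 4, 11, 12]⟩, ⟨1, 39, []⟩, ⟨1, 94, [4, 11, 12, 7, 13]⟩, ⟨1, 300, [11, 2, 13, 11, 4, 11, 12, 7, 11]⟩]⟩,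
 ⟨4, 6, 1315, [], [⟨1, 1314, []⟩], []⟩,
 ⟨8, 6, 150, [7, 12, 11, 4, 12, 13, 0, 2, 3, 4, 2, 1, 2, 0, 1, 3, 2, 0], [], [⟨1, 149, [7, 12, 11, 4, 12, 13]⟩, ⟨1, 39, []⟩, ⟨1, 42, []⟩, ⟨1, 41, []⟩, ⟨1, 234, [0, 7, 13, 11, 4, 12, 8, 11, 4]⟩, ⟨1, 1289, [2, 4, 11, 4, 11, 12, 13, 11, 12]⟩]⟩,
 ⟨4, 6, 1317, [], [⟨1, 1316, []⟩], []⟩,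
 ⟨8, 6, 150, [0, 7, 11, 4, 11, 12, 13, 0, 2, 3, 4, 2, 1, 2, 0, 1, 3, 2, 0], [], [⟨1, 149, [0, 7, 11, 4, 11, 12, 13]⟩, ⟨1, 39, []⟩, ⟨1, 43, []⟩, ⟨1, 41, []⟩, ⟨1, 40, []⟩, ⟨1, 234, [2, 4, 12, 8, 13, 11, 12, 7, 11, 12]⟩, ⟨1, 135, []⟩, ⟨1, 134, []⟩, ⟨1, 1047, [4, 7, 11, 12, 8, 11, 13, 11, 4, 12]⟩]⟩,
 ⟨4, 6, 1319, [], [⟨1, 1318, []⟩], []⟩,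
 ⟨12, 6, 150, [0, 8, 13, 11, 4, 12, 0, 2, 3, 1, 0, 2, 1, 2, 4, 3, 2, 0, 2, 0], [], [⟨1, 149, [0, 8, 13, 11, 4, 12]⟩, ⟨1, 39, []⟩, ⟨1, 43, []⟩, ⟨1, 42, []⟩, ⟨1, 46, []⟩, ⟨1, 46, []⟩, ⟨1, 777, [8, 12, 11, 4, 12, 13, 11, 12, 7]⟩, ⟨1, 135, []⟩, ⟨1, 1298, [0, 7, 12, 11, 12, 13, 11]⟩]⟩,
 ⟨4, 6, 1321, [], [⟨1, 1320, []⟩], []⟩,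
 ⟨12, 6, 150, [4, 8, 11, 13, 11, 4, 12, 0, 2, 3, 1, 0, 2, 1, 2, 4, 3, 2, 0, 2, 0], [], [⟨1, 149, [4, 8, 11, 13, 11, 4, 12]⟩, ⟨1, 42, []⟩, ⟨1, 41, []⟩, ⟨1, 40, []⟩, ⟨1, 46, []⟩, ⟨1, 254, [4, 11, 12, 8, 11, 12, 7, 13, 11]⟩, ⟨1, 135, []⟩, ⟨1, 134, []⟩, ⟨1, 1295, [0, 11, 12, 7, 11, 4, 11, 13]⟩]⟩,
 ⟨4, 6, 1323, [], [⟨1, 1322, []⟩], []⟩,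
 ⟨12, 6, 150, [8, 11, 13, 11, 4, 12, 0, 2, 3, 1, 0, 2, 1, 2, 4, 3, 2, 0, 2, 0], [], [⟨1, 149, [8, 11, 13, 11, 4, 12]⟩, ⟨1, 39, []⟩, ⟨1, 41, []⟩, ⟨1, 40, []⟩, ⟨1, 46, []⟩, ⟨1, 46, []⟩, ⟨1, 121, [0, 11, 12, 8, 13, 11, 4, 12, 11, 12]⟩, ⟨1, 86, []⟩, ⟨1, 87, []⟩, ⟨1, 86, []⟩, ⟨1, 90, []⟩, ⟨1, 86, []⟩, ⟨1, 641, [0, 13, 11, 12, 8, 12]⟩]⟩,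
 ⟨4, 6, 1325, [], [⟨1, 1324, []⟩], []⟩,
 ⟨12, 6, 150, [12, 8, 12, 11, 4, 12, 0, 2, 3, 1, 0, 2, 1, 2, 4, 3, 2, 0, 2, 0], [], [⟨1, 149, [12, 8, 12, 11, 4, 12]⟩, ⟨1, 39, []⟩, ⟨1, 42, []⟩, ⟨1, 46, []⟩, ⟨1, 68, []⟩, ⟨1, 787, [7, 12, 11, 12, 11, 4, 11, 13, 11, 4]⟩, ⟨1, 894, [4, 7, 11, 12, 8, 11, 12, 7, 11, 13]⟩]⟩,
 ⟨4, 6, 1327, [], [⟨1, 1326, []⟩], []⟩,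
 ⟨12, 6, 150, [4, 12, 7, 13, 11, 12, 0, 2, 3, 1, 0, 2, 1, 2, 4, 3, 2, 0, 2, 0], [], [⟨1, 149, [4, 12, 7, 13, 11, 12]⟩, ⟨1, 39, []⟩, ⟨1, 43, []⟩, ⟨1, 46, []⟩, ⟨1, 123, [11, 12, 7, 12, 11, 4, 12, 7, 13]⟩, ⟨1, 39, []⟩, ⟨1, 41, []⟩, ⟨1, 68, []⟩, ⟨1, 787, [2, 8, 12, 7, 11, 13, 11, 12, 11, 13]⟩]⟩,
 ⟨4, 6, 1329, [], [⟨1, 1328, []⟩], []⟩,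
 ⟨17, 6, 150, [7, 11, 12, 8, 13, 5, 5, 3, 6, 6, 2, 0], [], [⟨1, 149, [7, 11, 12, 8, 13]⟩, ⟨1, 43, []⟩, ⟨1, 41, []⟩, ⟨1, 46, []⟩, ⟨1, 68, []⟩, ⟨1, 68, []⟩, ⟨1, 375, [4, 8, 12, 11, 12, 7, 13]⟩, ⟨1, 134, []⟩, ⟨1, 135, []⟩, ⟨1, 134, []⟩, ⟨1, 1309, [2, 8, 11, 12, 7, 13, 11, 12, 11]⟩]⟩,
 ⟨4, 6, 1331, [], [⟨1, 1330, []⟩], []⟩,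
 ⟨17, 6, 150, [7, 11, 12, 8, 12, 13, 5, 5, 3, 6, 6, 2, 0], [], [⟨1, 149, [7, 11, 12, 8, 12, 13]⟩, ⟨1, 39, []⟩, ⟨1, 41, []⟩, ⟨1, 581, [7, 11, 4, 11, 13, 11, 4, 12, 11]⟩, ⟨1, 135, []⟩, ⟨1, 134, []⟩, ⟨1, 1308, [12, 7, 11, 12, 8, 13]⟩]⟩,
 ⟨4, 6, 1333, [], [⟨1, 1332, []⟩], []⟩,
 ⟨5, 6, 162, [4, 8, 12, 13, 3, 2, 0], [], [⟨1, 161, [4, 8, 12, 13]⟩, ⟨1, 566, [0, 12, 11, 4, 11, 12, 8, 11, 13]⟩, ⟨1, 90, []⟩, ⟨1, 87, []⟩, ⟨1, 559, [12, 7, 11, 2, 4, 12, 13, 11, 4, 12]⟩]⟩,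
 ⟨4, 6, 1335, [], [⟨1, 1334, []⟩], []⟩,
 ⟨7, 6, 162, [12, 11, 13, 11, 4, 12, 3, 1, 0, 2, 1, 3, 2, 0], [], [⟨1, 161, [12, 11, 13, 11, 4, 12]⟩, ⟨1, 134, []⟩, ⟨1, 309, [8, 12, 11, 4, 12, 11, 13, 11, 4, 12]⟩, ⟨1, 87, []⟩, ⟨1, 86, []⟩, ⟨1, 90, []⟩, ⟨1, 87, []⟩, ⟨1, 673, [8, 12, 13, 11, 12, 8, 11, 4, 11]⟩]⟩,
 ⟨4, 6, 1337, [], [⟨1, 1336, []⟩], []⟩,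
 ⟨7, 6, 162, [4, 11, 12, 11, 4, 3, 1, 0, 2, 1, 3, 2, 0], [], [⟨1, 161, [4, 11, 12, 11, 4]⟩, ⟨1, 134, []⟩, ⟨1, 135, []⟩, ⟨1, 253, [0, 12, 13, 11, 4, 11, 4, 12, 13, 11]⟩, ⟨1, 250, [11, 4, 12, 11, 12, 13, 11, 4, 12, 11, 4]⟩]⟩,
 ⟨4, 6, 1339, [], [⟨1, 1338, []⟩], []⟩,
 ⟨7, 6, 162, [7, 11, 12, 13, 3, 1, 0, 2, 1, 3, 2, 0], [], [⟨1, 161, [7, 11, 12, 13]⟩, ⟨1, 134, []⟩, ⟨1, 782, [0, 7, 13, 11, 12, 11, 12, 7, 13, 11]⟩, ⟨1, 39, []⟩, ⟨1, 43, []⟩, ⟨1, 42, []⟩, ⟨1, 41, []⟩, ⟨1, 779, [8, 12, 11, 2, 13, 11, 12]⟩]⟩,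
 ⟨4, 6, 1341, [], [⟨1, 1340, []⟩], []⟩,
 ⟨7, 6, 162, [12, 7, 13, 11, 4, 12, 3, 1, 0, 2, 1, 3, 2, 0], [], [⟨1, 161, [12, 7, 13, 11, 4, 12]⟩, ⟨1, 135, []⟩, ⟨1, 1136, [0, 4, 11, 4, 12, 11, 13, 11, 4]⟩, ⟨1, 135, []⟩, ⟨1, 1075, [0, 4, 7, 13, 11, 4, 12, 8]⟩]⟩,
 ⟨4, 6, 1343, [], [⟨1, 1342, []⟩], []⟩]
theorem chk26 : and2 (D.chkL PF26 1296) (Nat.beq (Nat.add 1296 PF26.length) 1344) = true := by decide +kernel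

def PF27 : List DPf := [⟨7, 6, 162, [4, 7, 12, 13, 3, 1, 0, 2, 1, 3, 2, 0], [], [⟨1, 161, [4, 7, 12, 13]⟩, ⟨1, 335, [2, 11, 12, 7, 12, 13, 11]⟩, ⟨1, 86, []⟩, ⟨1, 90, []⟩, ⟨1, 90, []⟩, ⟨1, 86, []⟩, ⟨1, 577, [4, 12, 8, 13, 11, 12, 11, 4]⟩]⟩,
 ⟨4, 6, 1345, [], [⟨1, 1344, []⟩], []⟩,
 ⟨7, 6, 162, [11, 4, 11, 12, 13, 3, 1, 0, 2, 1, 3, 2, 0], [], [⟨1, 161, [11, 4, 11, 12, 13]⟩, ⟨1, 134, []⟩, ⟨1, 135, []⟩, ⟨1, 684, [4, 11, 4, 12, 11, 12, 8, 11, 13]⟩, ⟨1, 86, []⟩, ⟨1, 87, []⟩, ⟨1, 90, []⟩, ⟨1, 709, [0, 4, 12, 8, 11, 4, 12, 13, 11, 4]⟩]⟩,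
 ⟨4, 6, 1347, [], [⟨1, 1346, []⟩], []⟩,
 ⟨7, 6, 162, [4, 8, 12, 13, 3, 1, 0, 2, 1, 3, 2, 0], [], [⟨1, 161, [4, 8, 12, 13]⟩, ⟨1, 1230, [12, 11, 4, 12, 7, 11, 13, 11, 4, 11]⟩, ⟨1, 134, []⟩, ⟨1, 135, []⟩, ⟨1, 1334, [4, 12, 13, 11, 4, 12, 8]⟩]⟩,
 ⟨4, 6, 1349, [], [⟨1, 1348, []⟩], []⟩,
 ⟨7, 6, 162, [7, 11, 12, 3, 1, 0, 2, 1, 3, 2, 0], [], [⟨1, 161, [7, 11, 12]⟩, ⟨1, 134, []⟩, ⟨1, 135, []⟩, ⟨1, 926, [4, 13, 11, 12, 7, 11, 12, 7, 11, 13]⟩, ⟨1, 1136, [2, 7, 12, 8, 11, 13, 11, 12, 8]⟩]⟩,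
 ⟨4, 6, 1351, [], [⟨1, 1350, []⟩], []⟩,
 ⟨7, 6, 162, [8, 12, 7, 13, 11, 12, 3, 1, 0, 2, 1, 3, 2, 0], [], [⟨1, 161, [8, 12, 7, 13, 11, 12]⟩, ⟨1, 135, []⟩, ⟨1, 746, [2, 12, 11, 12, 13, 11, 4, 11, 12, 8]⟩, ⟨1, 90, []⟩, ⟨1, 87, []⟩, ⟨1, 90, []⟩, ⟨1, 545, [0, 12, 8, 12, 11, 13, 11, 12, 8]⟩]⟩,
 ⟨4, 6, 1353, [], [⟨1, 1352, []⟩], []⟩,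
 ⟨7, 6, 162, [0, 8, 12, 11, 4, 13, 3, 1, 0, 2, 1, 3, 2, 0], [], [⟨1, 161, [0, 8, 12, 11, 4, 13]⟩, ⟨1, 134, []⟩, ⟨1, 135, []⟩, ⟨1, 652, [11, 4, 12, 11, 12, 7, 11, 12, 11, 12]⟩, ⟨1, 653, [4, 12, 11, 12, 8, 11, 4, 11, 13]⟩]⟩,
 ⟨4, 6, 1355, [], [⟨1, 1354, []⟩], []⟩,
 ⟨7, 6, 162, [0, 11, 4, 12, 13, 11, 4, 3, 1, 0, 2, 1, 3, 2, 0], [], [⟨1, 161, [0, 11, 4, 12, 13, 11, 4]⟩, ⟨1, 135, []⟩, ⟨1, 134, []⟩, ⟨1, 750, [0, 8, 11, 12, 11, 4, 11, 12, 7, 11]⟩, ⟨1, 86, []⟩, ⟨1, 90, []⟩, ⟨1, 86, []⟩, ⟨1, 739, [0, 12, 7, 13, 11, 12, 11, 4, 12, 11]⟩]⟩,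
 ⟨4, 6, 1357, [], [⟨1, 1356, []⟩], []⟩,
 ⟨7, 6, 162, [11, 12, 13, 3, 1, 0, 2, 1, 3, 2, 0], [], [⟨1, 161, [11, 12, 13]⟩, ⟨1, 134, []⟩, ⟨1, 1279, [0, 7, 11, 4, 13, 11, 12, 8, 11, 4, 12]⟩, ⟨1, 134, []⟩, ⟨1, 1205, [11, 2, 12, 8, 12, 11, 13, 11, 12]⟩]⟩,
 ⟨4, 6, 1359, [], [⟨1, 1358, []⟩], []⟩,
 ⟨7, 6, 162, [7, 12, 11, 4, 3, 1, 0, 2, 1, 3, 2, 0], [], [⟨1, 161, [7, 12, 11, 4]⟩, ⟨1, 135, []⟩, ⟨1, 646, [0, 11, 13, 11, 12, 8, 11, 4, 11]⟩, ⟨1, 87, []⟩, ⟨1, 86, []⟩, ⟨1, 529, [13, 11, 4, 11, 12, 7]⟩]⟩,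
 ⟨4, 6, 1361, [], [⟨1, 1360, []⟩], []⟩,
 ⟨7, 6, 162, [7, 13, 11, 4, 11, 12, 3, 1, 0, 2, 1, 3, 2, 0], [], [⟨1, 161, [7, 13, 11, 4, 11, 12]⟩, ⟨1, 134, []⟩, ⟨1, 135, []⟩, ⟨1, 530, [0, 12, 8, 13, 11, 4, 12, 11]⟩, ⟨1, 86, []⟩, ⟨1, 87, []⟩, ⟨1, 86, []⟩, ⟨1, 90, []⟩, ⟨1, 90, []⟩, ⟨1, 90, []⟩, ⟨1, 509, [0, 4, 7, 11, 12, 13, 11, 4, 12, 7]⟩]⟩,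
 ⟨4, 6, 1363, [], [⟨1, 1362, []⟩], []⟩,
 ⟨8, 6, 162, [2, 11, 12, 0, 2, 3, 4, 2, 1, 2, 0, 1, 3, 2, 0], [], [⟨1, 161, [2, 11, 12]⟩, ⟨1, 135, []⟩, ⟨1, 134, []⟩, ⟨1, 893, [7, 12, 11, 4, 13, 11]⟩, ⟨1, 135, []⟩, ⟨1, 1206, [7, 11, 12, 8, 11, 4, 11]⟩]⟩,
 ⟨4, 6, 1365, [], [⟨1, 1364, []⟩], []⟩,
 ⟨8, 6, 162, [12, 7, 13, 11, 12, 0, 2, 3, 4, 2, 1, 2, 0, 1, 3, 2, 0], [], [⟨1, 161, [12, 7, 13, 11, 12]⟩, ⟨1, 566, [2, 4, 8, 12, 7, 13, 11, 4]⟩, ⟨1, 90, []⟩, ⟨1, 90, []⟩, ⟨1, 90, []⟩, ⟨1, 641, [12, 7, 12, 11, 2, 13, 11, 4, 11]⟩]⟩,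
 ⟨4, 6, 1367, [], [⟨1, 1366, []⟩], []⟩,
 ⟨8, 6, 162, [11, 12, 0, 2, 3, 4, 2, 1, 2, 0, 1, 3, 2, 0], [], [⟨1, 161, [11, 12]⟩, ⟨1, 135, []⟩, ⟨1, 134, []⟩, ⟨1, 893, [4, 7, 11, 4, 11, 13, 11, 4, 11, 12, 13]⟩, ⟨1, 134, []⟩, ⟨1, 135, []⟩, ⟨1, 841, [7, 11, 4, 11, 12, 8, 12, 11, 12]⟩]⟩,
 ⟨4, 6, 1369, [], [⟨1, 1368, []⟩], []⟩,
 ⟨8, 6, 162, [2, 4, 11, 4, 12, 0, 2, 3, 4, 2, 1, 2, 0, 1, 3, 2, 0], [], [⟨1, 161, [2, 4, 11, 4, 12]⟩, ⟨1, 135, []⟩, ⟨1, 134, []⟩, ⟨1, 893, [2, 4, 7, 12, 11, 12, 11, 4]⟩, ⟨1, 134, []⟩, ⟨1, 135, []⟩, ⟨1, 852, [0, 12, 8, 11, 13, 11, 4]⟩]⟩,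
 ⟨4, 6, 1371, [], [⟨1, 1370, []⟩], []⟩,
 ⟨8, 6, 162, [11, 4, 12, 11, 12, 0, 2, 3, 4, 2, 1, 2, 0, 1, 3, 2, 0], [], [⟨1, 161, [11, 4, 12, 11, 12]⟩, ⟨1, 164, [0, 4, 11, 13, 11, 4, 12, 8, 11, 4]⟩, ⟨1, 135, []⟩, ⟨1, 1215, [2, 11, 12, 8, 12, 11, 4, 13, 11, 4]⟩]⟩,
 ⟨4, 6, 1373, [], [⟨1, 1372, []⟩], []⟩,
 ⟨8, 6, 162, [0, 11, 13, 11, 12, 0, 2, 3, 4, 2, 1, 2, 0, 1, 3, 2, 0], [], [⟨1, 161, [0, 11, 13, 11, 12]⟩, ⟨1, 135, []⟩, ⟨1, 134, []⟩, ⟨1, 178, [2, 11, 13, 11, 4, 11, 13]⟩, ⟨1, 166, [0, 4, 11, 4, 13, 11, 12, 7, 11]⟩]⟩,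
 ⟨8, 6, 162, [0, 4, 8, 13, 11, 12, 0, 2, 3, 4, 2, 1, 2, 0, 1, 3, 2, 0], [], [⟨1, 161, [0, 4, 8, 13, 11, 12]⟩, ⟨1, 566, [0, 11, 4, 11, 12, 8, 12, 11]⟩, ⟨1, 86, []⟩, ⟨1, 90, []⟩, ⟨1, 699, [0, 4, 7, 11, 4, 12, 8, 11, 13, 11]⟩]⟩,
 ⟨4, 6, 1376, [], [⟨1, 1375, []⟩], []⟩,
 ⟨8, 6, 162, [4, 8, 13, 11, 12, 0, 2, 3, 4, 2, 1, 2, 0, 1, 3, 2, 0], [], [⟨1, 161, [4, 8, 13, 11, 12]⟩, ⟨1, 566, [0, 13, 11, 4, 11, 12, 8, 12, 11]⟩, ⟨1, 86, []⟩, ⟨1, 90, []⟩, ⟨1, 90, []⟩, ⟨1, 90, []⟩, ⟨1, 86, []⟩, ⟨1, 761, [2, 12, 7, 11, 4, 11, 12, 8, 11, 13]⟩]⟩,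
 ⟨4, 6, 1378, [], [⟨1, 1377, []⟩], []⟩,
 ⟨8, 6, 162, [2, 7, 12, 0, 2, 3, 4, 2, 1, 2, 0, 1, 3, 2, 0], [], [⟨1, 161, [2, 7, 12]⟩, ⟨1, 134, []⟩, ⟨1, 1135, [4, 8, 11, 2, 4, 12, 11, 13, 11, 4]⟩, ⟨1, 134, []⟩, ⟨1, 135, []⟩, ⟨1, 134, []⟩, ⟨1, 1123, [7, 11, 4, 12, 8, 11, 13, 11, 12, 8]⟩]⟩,
 ⟨4, 6, 1380, [], [⟨1, 1379, []⟩], []⟩,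
 ⟨8, 6, 162, [0, 4, 8, 12, 13, 0, 2, 3, 4, 2, 1, 2, 0, 1, 3, 2, 0], [], [⟨1, 161, [0, 4, 8, 12, 13]⟩, ⟨1, 566, [0, 12, 13, 11, 4, 11, 12, 8, 11]⟩, ⟨1, 86, []⟩, ⟨1, 87, []⟩, ⟨1, 90, []⟩, ⟨1, 90, []⟩, ⟨1, 276, [7, 12, 7, 11, 4, 13, 11, 12, 8]⟩]⟩,
 ⟨4, 6, 1382, [], [⟨1, 1381, []⟩], []⟩,
 ⟨9, 6, 162, [8, 12, 8, 11, 4, 12, 0, 2, 4, 1, 0, 2, 1, 3, 2, 0], [], [⟨1, 161, [8, 12, 8, 11, 4, 12]⟩, ⟨1, 135, []⟩, ⟨1, 134, []⟩, ⟨1, 893, [11, 12, 7, 11, 13, 11, 4, 12, 8]⟩, ⟨1, 134, []⟩, ⟨1, 1087, [2, 12, 11, 12, 8, 12, 13, 11]⟩]⟩,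
 ⟨4, 6, 1384, [], [⟨1, 1383, []⟩], []⟩,
 ⟨9, 6, 162, [8, 13, 11, 4, 12, 0, 2, 4, 1, 0, 2, 1, 3, 2, 0], [], [⟨1, 161, [8, 13, 11, 4, 12]⟩, ⟨1, 566, [0, 4, 11, 12, 13, 11, 4, 12, 8, 11, 4]⟩, ⟨1, 86, []⟩, ⟨1, 801, [12, 11, 12, 7, 13, 11, 12, 11, 12]⟩]⟩,
 ⟨4, 6, 1386, [], [⟨1, 1385, []⟩], []⟩,
 ⟨9, 6, 162, [0, 2, 4, 1, 0, 2, 1, 3, 2, 0], [], [⟨1, 161, []⟩, ⟨1, 149, [4, 11, 13, 11, 12, 11, 4, 11, 13]⟩, ⟨1, 39, []⟩, ⟨1, 42, []⟩, ⟨1, 41, []⟩, ⟨1, 46, []⟩, ⟨1, 46, []⟩, ⟨1, 68, []⟩, ⟨1, 777, [4, 12, 8, 11, 12, 7, 11, 12]⟩]⟩,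
 ⟨4, 6, 1388, [], [⟨1, 1387, []⟩], []⟩,
 ⟨9, 6, 162, [12, 8, 12, 11, 12, 0, 2, 4, 1, 0, 2, 1, 3, 2, 0], [], [⟨1, 161, [12, 8, 12, 11, 12]⟩, ⟨1, 135, []⟩, ⟨1, 134, []⟩, ⟨1, 893, [2, 12, 8, 13, 11, 4, 12, 11, 4]⟩, ⟨1, 134, []⟩, ⟨1, 135, []⟩, ⟨1, 874, [8, 12, 8, 11, 2, 4, 11, 12, 13, 11, 4]⟩]⟩,
 ⟨4, 6, 1390, [], [⟨1, 1389, []⟩], []⟩,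
 ⟨9, 6, 162, [11, 12, 7, 12, 11, 12, 0, 2, 4, 1, 0, 2, 1, 3, 2, 0], [], [⟨1, 161, [11, 12, 7, 12, 11, 12]⟩, ⟨1, 135, []⟩, ⟨1, 134, []⟩, ⟨1, 893, [8, 12, 8, 11, 12, 8, 11, 13, 11, 12]⟩, ⟨1, 134, []⟩, ⟨1, 902, [11, 2, 12, 7, 11, 12, 7, 13, 11]⟩]⟩,
 ⟨4, 6, 1392, [], [⟨1, 1391, []⟩], []⟩]
theorem chk27 : and2 (D.chkL PF27 1344) (Nat.beq (Nat.add 1344 PF27.length) 1393) = true := by decide +kernel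

def PF28 : List DPf := [⟨9, 6, 162, [4, 8, 12, 13, 11, 0, 2, 4, 1, 0, 2, 1, 3, 2, 0], [], [⟨1, 161, [4, 8, 12, 13, 11]⟩, ⟨1, 566, [0, 4, 11, 4, 12, 13, 11, 4, 11, 12, 8]⟩, ⟨1, 87, []⟩, ⟨1, 86, []⟩, ⟨1, 90, []⟩, ⟨1, 765, [4, 7, 11, 12, 11, 4, 11, 4]⟩]⟩,
 ⟨4, 6, 1394, [], [⟨1, 1393, []⟩], []⟩,
 ⟨9, 6, 162, [8, 12, 13, 11, 4, 0, 2, 4, 1, 0, 2, 1, 3, 2, 0], [], [⟨1, 161, [8, 12, 13, 11, 4]⟩, ⟨1, 566, [2, 11, 12, 11, 4, 11, 12, 8, 13]⟩, ⟨1, 86, []⟩, ⟨1, 90, []⟩, ⟨1, 611, [4, 12, 11, 12, 8, 13, 11, 12, 8]⟩]⟩,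
 ⟨4, 6, 1396, [], [⟨1, 1395, []⟩], []⟩,
 ⟨9, 6, 162, [4, 11, 4, 12, 11, 12, 0, 2, 4, 1, 0, 2, 1, 3, 2, 0], [], [⟨1, 161, [4, 11, 4, 12, 11, 12]⟩, ⟨1, 149, [2, 8, 12, 8, 13, 11, 12, 8, 11]⟩, ⟨1, 39, []⟩, ⟨1, 43, []⟩, ⟨1, 160, [8, 12, 7, 11, 12, 13]⟩]⟩,
 ⟨9, 6, 162, [12, 8, 11, 12, 11, 12, 0, 2, 4, 1, 0, 2, 1, 3, 2, 0], [], [⟨1, 161, [12, 8, 11, 12, 11, 12]⟩, ⟨1, 135, []⟩, ⟨1, 134, []⟩, ⟨1, 893, [0, 8, 12, 13, 11, 4, 12, 8, 11, 12, 7]⟩, ⟨1, 134, []⟩, ⟨1, 861, [11, 4, 11, 12, 8, 12, 13, 11, 12]⟩]⟩,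
 ⟨4, 6, 1399, [], [⟨1, 1398, []⟩], []⟩,
 ⟨9, 6, 162, [12, 7, 12, 11, 12, 0, 2, 4, 1, 0, 2, 1, 3, 2, 0], [], [⟨1, 161, [12, 7, 12, 11, 12]⟩, ⟨1, 135, []⟩, ⟨1, 134, []⟩, ⟨1, 893, [4, 7, 13, 11, 4, 12, 8, 11, 4]⟩, ⟨1, 134, []⟩, ⟨1, 135, []⟩, ⟨1, 1104, [2, 4, 11, 12, 7, 12, 13, 11, 4, 12]⟩]⟩,
 ⟨4, 6, 1401, [], [⟨1, 1400, []⟩], []⟩,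
 ⟨9, 6, 162, [12, 8, 11, 12, 11, 13, 0, 2, 4, 1, 0, 2, 1, 3, 2, 0], [], [⟨1, 161, [12, 8, 11, 12, 11, 13]⟩, ⟨1, 135, []⟩, ⟨1, 1397, [0, 12, 7, 12, 11, 13, 11, 12, 11]⟩, ⟨1, 983, [0, 7, 11, 13, 11, 12, 7, 11, 12, 8, 13]⟩]⟩,
 ⟨4, 6, 1403, [], [⟨1, 1402, []⟩], []⟩,
 ⟨10, 6, 162, [2, 4, 8, 12, 11, 4, 0, 2, 3, 2, 0], [], [⟨1, 161, [2, 4, 8, 12, 11, 4]⟩, ⟨1, 134, []⟩, ⟨1, 135, []⟩, ⟨1, 452, [8, 12, 11, 12, 8, 12, 11, 4, 12, 13]⟩, ⟨1, 87, []⟩, ⟨1, 86, []⟩, ⟨1, 90, []⟩, ⟨1, 86, []⟩, ⟨1, 521, [7, 11, 12, 8, 11, 12, 11, 4, 12, 13]⟩]⟩,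
 ⟨4, 6, 1405, [], [⟨1, 1404, []⟩], []⟩,
 ⟨12, 6, 162, [4, 11, 13, 11, 4, 12, 0, 2, 3, 1, 0, 2, 1, 2, 4, 3, 2, 0, 2, 0], [], [⟨1, 161, [4, 11, 13, 11, 4, 12]⟩, ⟨1, 134, []⟩, ⟨1, 135, []⟩, ⟨1, 470, [8, 11, 12, 11, 13, 11, 4, 11, 4]⟩, ⟨1, 87, []⟩, ⟨1, 86, []⟩, ⟨1, 90, []⟩, ⟨1, 87, []⟩, ⟨1, 679, [0, 12, 7, 11, 4, 12, 8, 11, 4, 12]⟩]⟩,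
 ⟨4, 6, 1407, [], [⟨1, 1406, []⟩], []⟩,
 ⟨12, 6, 162, [7, 13, 11, 4, 12, 0, 2, 3, 1, 0, 2, 1, 2, 4, 3, 2, 0, 2, 0], [], [⟨1, 161, [7, 13, 11, 4, 12]⟩, ⟨1, 134, []⟩, ⟨1, 135, []⟩, ⟨1, 1308, [4, 11, 4, 13, 11, 4, 11, 12, 13]⟩, ⟨1, 1185, [0, 4, 12, 7, 13, 11, 12, 8, 11, 13]⟩]⟩,
 ⟨4, 6, 1409, [], [⟨1, 1408, []⟩], []⟩,
 ⟨12, 6, 162, [2, 12, 11, 4, 12, 0, 2, 3, 1, 0, 2, 1, 2, 4, 3, 2, 0, 2, 0], [], [⟨1, 161, [2, 12, 11, 4, 12]⟩, ⟨1, 135, []⟩, ⟨1, 134, []⟩, ⟨1, 454, [0, 4, 8, 12, 11, 4, 12, 7, 13, 11]⟩, ⟨1, 90, []⟩, ⟨1, 87, []⟩, ⟨1, 90, []⟩, ⟨1, 415, [0, 11, 12, 7, 11, 12, 8, 11, 4, 11]⟩]⟩,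
 ⟨4, 6, 1411, [], [⟨1, 1410, []⟩], []⟩,
 ⟨12, 6, 162, [0, 7, 12, 13, 11, 4, 0, 2, 3, 1, 0, 2, 1, 2, 4, 3, 2, 0, 2, 0], [], [⟨1, 161, [0, 7, 12, 13, 11, 4]⟩, ⟨1, 1035, [4, 8, 11, 13, 11, 4, 11, 4, 13, 11, 12]⟩, ⟨1, 134, []⟩, ⟨1, 977, [2, 11, 12, 7, 11, 4, 12, 8, 11, 12, 11]⟩]⟩,
 ⟨4, 6, 1413, [], [⟨1, 1412, []⟩], []⟩,
 ⟨12, 6, 162, [4, 8, 12, 13, 11, 4, 0, 2, 3, 1, 0, 2, 1, 2, 4, 3, 2, 0, 2, 0], [], [⟨1, 161, [4, 8, 12, 13, 11, 4]⟩, ⟨1, 914, [4, 7, 12, 8, 11, 12, 13, 11, 4]⟩, ⟨1, 134, []⟩, ⟨1, 135, []⟩, ⟨1, 1123, [2, 4, 11, 12, 7, 11, 13]⟩]⟩,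
 ⟨4, 6, 1415, [], [⟨1, 1414, []⟩], []⟩,
 ⟨12, 6, 162, [12, 7, 11, 4, 12, 0, 2, 3, 1, 0, 2, 1, 2, 4, 3, 2, 0, 2, 0], [], [⟨1, 161, [12, 7, 11, 4, 12]⟩, ⟨1, 134, []⟩, ⟨1, 135, []⟩, ⟨1, 492, [4, 12, 11, 12, 7, 13, 11, 4, 12, 8]⟩, ⟨1, 87, []⟩, ⟨1, 86, []⟩, ⟨1, 90, []⟩, ⟨1, 673, [12, 11, 12, 7, 11, 4, 11, 12, 11]⟩]⟩,
 ⟨4, 6, 1417, [], [⟨1, 1416, []⟩], []⟩,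
 ⟨12, 6, 162, [7, 12, 11, 4, 13, 0, 2, 3, 1, 0, 2, 1, 2, 4, 3, 2, 0, 2, 0], [], [⟨1, 161, [7, 12, 11, 4, 13]⟩, ⟨1, 646, [8, 12, 11, 13, 11, 12, 11, 12]⟩, ⟨1, 86, []⟩, ⟨1, 87, []⟩, ⟨1, 86, []⟩, ⟨1, 90, []⟩, ⟨1, 87, []⟩, ⟨1, 326, [2, 4, 7, 11, 4, 11, 12, 8, 11, 12]⟩]⟩,
 ⟨4, 6, 1419, [], [⟨1, 1418, []⟩], []⟩,
 ⟨12, 6, 162, [4, 7, 12, 11, 4, 0, 2, 3, 1, 0, 2, 1, 2, 4, 3, 2, 0, 2, 0], [], [⟨1, 161, [4, 7, 12, 11, 4]⟩, ⟨1, 134, []⟩, ⟨1, 135, []⟩, ⟨1, 134, []⟩, ⟨1, 1378, [0, 8, 12, 7, 11, 12, 8, 12, 13, 11, 4]⟩, ⟨1, 135, []⟩, ⟨1, 134, []⟩, ⟨1, 1034, [7, 11, 12, 8, 11, 12, 8, 11, 13]⟩]⟩,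
 ⟨4, 6, 1421, [], [⟨1, 1420, []⟩], []⟩,
 ⟨12, 6, 162, [0, 8, 12, 13, 0, 2, 3, 1, 0, 2, 1, 2, 4, 3, 2, 0, 2, 0], [], [⟨1, 161, [0, 8, 12, 13]⟩, ⟨1, 135, []⟩, ⟨1, 293, [7, 11, 4, 12, 11, 12, 7, 12, 11, 4]⟩, ⟨1, 86, []⟩, ⟨1, 90, []⟩, ⟨1, 90, []⟩, ⟨1, 86, []⟩, ⟨1, 90, []⟩, ⟨1, 683, [2, 12, 11, 13, 11, 4, 12, 7, 11, 4]⟩]⟩,
 ⟨4, 6, 1423, [], [⟨1, 1422, []⟩], []⟩,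
 ⟨12, 6, 162, [4, 11, 12, 13, 11, 4, 0, 2, 3, 1, 0, 2, 1, 2, 4, 3, 2, 0, 2, 0], [], [⟨1, 161, [4, 11, 12, 13, 11, 4]⟩, ⟨1, 134, []⟩, ⟨1, 135, []⟩, ⟨1, 1116, [4, 11, 4, 11, 12, 11, 4, 11]⟩, ⟨1, 135, []⟩, ⟨1, 134, []⟩, ⟨1, 1404, [8, 11, 2, 4]⟩]⟩,
 ⟨4, 6, 1425, [], [⟨1, 1424, []⟩], []⟩,
 ⟨12, 6, 162, [7, 12, 11, 4, 12, 13, 0, 2, 3, 1, 0, 2, 1, 2, 4, 3, 2, 0, 2, 0], [], [⟨1, 161, [7, 12, 11, 4, 12, 13]⟩, ⟨1, 135, []⟩, ⟨1, 134, []⟩, ⟨1, 357, [2, 11, 12, 7, 11, 12, 7, 11]⟩, ⟨1, 76, []⟩, ⟨1, 76, []⟩, ⟨1, 78, []⟩, ⟨1, 81, []⟩, ⟨1, 81, []⟩, ⟨1, 77, []⟩, ⟨1, 81, []⟩, ⟨1, 126, []⟩, ⟨1, 389, [4, 12, 7, 13, 11, 4, 12, 11, 12, 11]⟩]⟩,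
 ⟨4, 6, 1427, [], [⟨1, 1426, []⟩], []⟩,
 ⟨12, 6, 162, [0, 8, 12, 7, 13, 11, 12, 0, 2, 3, 1, 0, 2, 1, 2, 4, 3, 2, 0, 2, 0], [], [⟨1, 161, [0, 8, 12, 7, 13, 11, 12]⟩, ⟨1, 134, []⟩, ⟨1, 135, []⟩, ⟨1, 134, []⟩, ⟨1, 349, [0, 4, 12, 7, 11, 4, 12, 11, 13, 11]⟩, ⟨1, 76, []⟩, ⟨1, 76, []⟩, ⟨1, 78, []⟩, ⟨1, 77, []⟩, ⟨1, 78, []⟩, ⟨1, 81, []⟩, ⟨1, 81, []⟩, ⟨1, 77, []⟩, ⟨1, 126, []⟩, ⟨1, 403, [12, 8, 11, 13, 11, 4, 12, 11]⟩]⟩,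
 ⟨4, 6, 1429, [], [⟨1, 1428, []⟩], []⟩,
 ⟨12, 6, 162, [4, 8, 11, 12, 0, 2, 3, 1, 0, 2, 1, 2, 4, 3, 2, 0, 2, 0], [], [⟨1, 161, [4, 8, 11, 12]⟩, ⟨1, 135, []⟩, ⟨1, 774, [4, 11, 12, 7, 11, 12, 8, 12, 11, 12, 11]⟩, ⟨1, 86, []⟩, ⟨1, 90, []⟩, ⟨1, 87, []⟩, ⟨1, 90, []⟩, ⟨1, 90, []⟩, ⟨1, 623, [0, 7, 12, 8, 11, 12, 8, 11, 13]⟩]⟩,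
 ⟨4, 6, 1431, [], [⟨1, 1430, []⟩], []⟩,
 ⟨12, 6, 162, [8, 12, 13, 11, 12, 0, 2, 3, 1, 0, 2, 1, 2, 4, 3, 2, 0, 2, 0], [], [⟨1, 161, [8, 12, 13, 11, 12]⟩, ⟨1, 135, []⟩, ⟨1, 134, []⟩, ⟨1, 704, [8, 11, 12, 8, 11, 13, 11, 4, 12, 11, 13]⟩, ⟨1, 87, []⟩, ⟨1, 86, []⟩, ⟨1, 90, []⟩, ⟨1, 86, []⟩, ⟨1, 90, []⟩, ⟨1, 557, [0, 7, 11, 4, 13, 11, 12, 8, 12, 11]⟩]⟩,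
 ⟨4, 6, 1433, [], [⟨1, 1432, []⟩], []⟩,
 ⟨12, 6, 162, [12, 7, 12, 11, 12, 0, 2, 3, 1, 0, 2, 1, 2, 4, 3, 2, 0, 2, 0], [], [⟨1, 161, [12, 7, 12, 11, 12]⟩, ⟨1, 134, []⟩, ⟨1, 981, [4, 8, 12, 13, 11, 2, 4, 12]⟩, ⟨1, 135, []⟩, ⟨1, 134, []⟩, ⟨1, 1328, [4, 12, 11, 12, 13, 11, 4, 12, 11]⟩]⟩,
 ⟨4, 6, 1435, [], [⟨1, 1434, []⟩], []⟩]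
theorem chk28 : and2 (D.chkL PF28 1393) (Nat.beq (Nat.add 1393 PF28.length) 1436) = true := by decide +kernel

def PF29 : List DPf := [⟨12, 6, 162, [11, 12, 11, 13, 11, 4, 12, 0, 2, 3, 1, 0, 2, 1, 2, 4, 3, 2, 0, 2, 0], [], [⟨1, 161, [11, 12, 11, 13, 11, 4, 12]⟩, ⟨1, 135, []⟩, ⟨1, 134, []⟩, ⟨1, 1394, [4, 11, 4, 12, 11, 12, 13, 11, 4, 12]⟩, ⟨1, 1354, [4, 11, 12, 8, 11, 12, 8, 11, 12, 8]⟩]⟩,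
 ⟨4, 6, 1437, [], [⟨1, 1436, []⟩], []⟩,
 ⟨13, 6, 162, [8, 12, 7, 11, 4, 12, 0, 2, 3, 1, 2, 0, 1, 3, 2, 0], [], [⟨1, 161, [8, 12, 7, 11, 4, 12]⟩, ⟨1, 134, []⟩, ⟨1, 1135, [2, 12, 8, 11, 4, 13, 11, 12, 7]⟩, ⟨1, 927, [12, 11, 12, 8, 12, 13, 11, 12]⟩]⟩,
 ⟨4, 6, 1439, [], [⟨1, 1438, []⟩], []⟩,
 ⟨13, 6, 162, [4, 12, 8, 11, 12, 0, 2, 3, 1, 2, 0, 1, 3, 2, 0], [], [⟨1, 161, [4, 12, 8, 11, 12]⟩, ⟨1, 134, []⟩, ⟨1, 1135, [0, 8, 11, 12, 7, 11, 12, 7, 11, 4, 13]⟩, ⟨1, 134, []⟩, ⟨1, 183, [12, 11, 4, 11, 4, 12, 13, 11, 4, 12, 8]⟩]⟩,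
 ⟨4, 6, 1441, [], [⟨1, 1440, []⟩], []⟩,
 ⟨13, 6, 162, [11, 4, 11, 12, 13, 0, 2, 3, 1, 2, 0, 1, 3, 2, 0], [], [⟨1, 161, [11, 4, 11, 12, 13]⟩, ⟨1, 135, []⟩, ⟨1, 1397, [7, 11, 13, 11, 4, 11, 4, 12, 8, 11]⟩, ⟨1, 134, []⟩, ⟨1, 135, []⟩, ⟨1, 134, []⟩, ⟨1, 1346, [2, 4, 7, 11, 4, 12, 11, 12, 8, 11]⟩]⟩,
 ⟨4, 6, 1443, [], [⟨1, 1442, []⟩], []⟩,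
 ⟨13, 6, 162, [7, 12, 11, 4, 0, 2, 3, 1, 2, 0, 1, 3, 2, 0], [], [⟨1, 161, [7, 12, 11, 4]⟩, ⟨1, 134, []⟩, ⟨1, 135, []⟩, ⟨1, 134, []⟩, ⟨1, 1197, [8, 12, 8, 11, 4, 11, 12, 11]⟩, ⟨1, 134, []⟩, ⟨1, 135, []⟩, ⟨1, 134, []⟩, ⟨1, 883, [0, 4, 12, 8, 13, 11, 12, 7]⟩]⟩,
 ⟨4, 6, 1445, [], [⟨1, 1444, []⟩], []⟩,
 ⟨13, 6, 162, [0, 12, 7, 13, 11, 12, 0, 2, 3, 1, 2, 0, 1, 3, 2, 0], [], [⟨1, 161, [0, 12, 7, 13, 11, 12]⟩, ⟨1, 566, [2, 4, 8, 12, 7, 11, 13, 11]⟩, ⟨1, 87, []⟩, ⟨1, 86, []⟩, ⟨1, 90, []⟩, ⟨1, 86, []⟩, ⟨1, 90, []⟩, ⟨1, 527, [2, 8, 11, 12, 11, 4, 12, 13]⟩]⟩,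
 ⟨4, 6, 1447, [], [⟨1, 1446, []⟩], []⟩,
 ⟨13, 6, 162, [12, 13, 11, 12, 11, 4, 0, 2, 3, 1, 2, 0, 1, 3, 2, 0], [], [⟨1, 161, [12, 13, 11, 12, 11, 4]⟩, ⟨1, 1288, [12, 7, 11, 13, 11, 12, 8, 12, 11, 12, 13]⟩, ⟨1, 134, []⟩, ⟨1, 1365, [12, 7, 12, 11, 12, 7]⟩]⟩,
 ⟨4, 6, 1449, [], [⟨1, 1448, []⟩], []⟩,
 ⟨13, 6, 162, [12, 7, 13, 11, 12, 0, 2, 3, 1, 2, 0, 1, 3, 2, 0], [], [⟨1, 161, [12, 7, 13, 11, 12]⟩, ⟨1, 566, [2, 4, 8, 12, 7, 11, 13]⟩, ⟨1, 86, []⟩, ⟨1, 87, []⟩, ⟨1, 90, []⟩, ⟨1, 87, []⟩, ⟨1, 541, [2, 11, 13, 11, 12, 8, 11, 12, 11]⟩]⟩,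
 ⟨4, 6, 1451, [], [⟨1, 1450, []⟩], []⟩,
 ⟨13, 6, 162, [2, 11, 4, 0, 2, 3, 1, 2, 0, 1, 3, 2, 0], [], [⟨1, 161, [2, 11, 4]⟩, ⟨1, 164, [2, 8, 13, 11, 4, 12, 11, 4, 13]⟩, ⟨1, 134, []⟩, ⟨1, 1408, [2, 4, 13]⟩]⟩,
 ⟨4, 6, 1453, [], [⟨1, 1452, []⟩], []⟩,
 ⟨15, 6, 162, [7, 0, 2, 5, 2, 0], [], [⟨1, 161, [7]⟩, ⟨1, 135, []⟩, ⟨1, 134, []⟩, ⟨1, 1213, [2, 4, 11, 4, 12, 11, 12, 7, 11]⟩]⟩,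
 ⟨4, 6, 1455, [], [⟨1, 1454, []⟩], []⟩,
 ⟨15, 6, 162, [8, 0, 2, 5, 2, 0], [], [⟨1, 161, [8]⟩, ⟨1, 134, []⟩, ⟨1, 1338, [0, 12, 7, 11, 13, 11, 4, 12, 11, 12]⟩]⟩,
 ⟨4, 6, 1457, [], [⟨1, 1456, []⟩], []⟩,
 ⟨17, 6, 162, [8, 12, 13, 5, 5, 3, 6, 6, 2, 0], [], [⟨1, 161, [8, 12, 13]⟩, ⟨1, 134, []⟩, ⟨1, 887, [2, 12, 7, 12, 11, 4, 12]⟩, ⟨1, 135, []⟩, ⟨1, 1074, [7, 11, 4, 11, 12, 8, 11, 4, 12]⟩]⟩,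
 ⟨4, 6, 1459, [], [⟨1, 1458, []⟩], []⟩,
 ⟨17, 6, 162, [4, 12, 13, 5, 5, 3, 6, 6, 2, 0], [], [⟨1, 161, [4, 12, 13]⟩, ⟨1, 134, []⟩, ⟨1, 135, []⟩, ⟨1, 134, []⟩, ⟨1, 979, [8, 12, 7, 11, 4, 12, 13, 11, 4, 12, 7]⟩, ⟨1, 134, []⟩, ⟨1, 938, [0, 11, 4, 11, 12, 7, 12, 13, 11]⟩]⟩,
 ⟨4, 6, 1461, [], [⟨1, 1460, []⟩], []⟩,
 ⟨5, 6, 163, [8, 11, 12, 13, 3, 2, 0], [], [⟨1, 162, [8, 11, 12, 13]⟩, ⟨1, 1383, [2, 8, 12, 8, 11, 12, 8, 11, 12, 11]⟩, ⟨1, 135, []⟩, ⟨1, 134, []⟩, ⟨1, 1173, [0, 7, 11, 12, 11, 13, 11, 12, 11, 12, 7]⟩]⟩,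
 ⟨4, 6, 1463, [], [⟨1, 1462, []⟩], []⟩,
 ⟨5, 6, 163, [4, 12, 3, 2, 0], [], [⟨1, 162, [4, 12]⟩, ⟨1, 134, []⟩, ⟨1, 135, []⟩, ⟨1, 134, []⟩, ⟨1, 690, [0, 11, 12, 7, 11, 13, 11, 12, 8, 12]⟩, ⟨1, 86, []⟩, ⟨1, 90, []⟩, ⟨1, 90, []⟩, ⟨1, 86, []⟩, ⟨1, 725, [2, 8, 11, 4, 13, 11, 12, 7, 11, 13]⟩]⟩,
 ⟨4, 6, 1465, [], [⟨1, 1464, []⟩], []⟩,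
 ⟨5, 6, 163, [4, 13, 3, 2, 0], [], [⟨1, 162, [4, 13]⟩, ⟨1, 616, [0, 4, 7]⟩, ⟨1, 86, []⟩, ⟨1, 87, []⟩, ⟨1, 90, []⟩, ⟨1, 86, []⟩, ⟨1, 302, [2, 4, 11, 12, 7, 12, 11, 13, 11]⟩]⟩,
 ⟨4, 6, 1467, [], [⟨1, 1466, []⟩], []⟩,
 ⟨6, 6, 163, [11, 4, 13, 0, 2, 4, 3, 2, 0], [], [⟨1, 162, [11, 4, 13]⟩, ⟨1, 1393, [4, 13, 11, 4, 12, 7, 11, 4, 13, 11]⟩, ⟨1, 134, []⟩, ⟨1, 1354, [4, 8, 12, 11, 12, 7, 12, 11, 4, 13]⟩]⟩,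
 ⟨4, 6, 1469, [], [⟨1, 1468, []⟩], []⟩,
 ⟨7, 6, 163, [4, 7, 12, 8, 11, 12, 3, 1, 0, 2, 1, 3, 2, 0], [], [⟨1, 162, [4, 7, 12, 8, 11, 12]⟩, ⟨1, 1438, [2, 4, 11, 4, 11]⟩, ⟨1, 135, []⟩, ⟨1, 1135, [0, 7, 12, 13, 11, 4, 11, 4]⟩]⟩,
 ⟨4, 6, 1471, [], [⟨1, 1470, []⟩], []⟩,
 ⟨7, 6, 163, [8, 12, 8, 11, 12, 13, 3, 1, 0, 2, 1, 3, 2, 0], [], [⟨1, 162, [8, 12, 8, 11, 12, 13]⟩, ⟨1, 134, []⟩, ⟨1, 135, []⟩, ⟨1, 134, []⟩, ⟨1, 404, [7, 12, 13, 11, 4, 11, 12, 8, 12]⟩, ⟨1, 76, []⟩, ⟨1, 76, []⟩, ⟨1, 81, []⟩, ⟨1, 126, []⟩, ⟨1, 78, []⟩, ⟨1, 360, [0, 12, 8, 11, 4, 12, 13, 11, 4]⟩]⟩,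
 ⟨4, 6, 1473, [], [⟨1, 1472, []⟩], []⟩,
 ⟨7, 6, 163, [12, 8, 13, 11, 4, 12, 3, 1, 0, 2, 1, 3, 2, 0], [], [⟨1, 162, [12, 8, 13, 11, 4, 12]⟩, ⟨1, 1446, [2, 4, 11, 4, 11]⟩, ⟨1, 134, []⟩, ⟨1, 135, []⟩, ⟨1, 134, []⟩, ⟨1, 834, [4, 7, 11, 2, 12, 11, 13, 11]⟩]⟩,
 ⟨4, 6, 1475, [], [⟨1, 1474, []⟩], []⟩,
 ⟨7, 6, 163, [0, 8, 12, 13, 11, 12, 3, 1, 0, 2, 1, 3, 2, 0], [], [⟨1, 162, [0, 8, 12, 13, 11, 12]⟩, ⟨1, 134, []⟩, ⟨1, 1423, [12, 11, 12, 8, 12, 13, 11, 4, 12, 8]⟩, ⟨1, 135, []⟩, ⟨1, 940, [4, 12, 11, 4, 12, 13, 11, 12, 7, 12]⟩]⟩,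
 ⟨4, 6, 1477, [], [⟨1, 1476, []⟩], []⟩,
 ⟨7, 6, 163, [12, 7, 13, 11, 12, 3, 1, 0, 2, 1, 3, 2, 0], [], [⟨1, 162, [12, 7, 13, 11, 12]⟩, ⟨1, 135, []⟩, ⟨1, 416, [2, 4, 8, 13, 11, 12, 8, 11, 12, 7, 13]⟩, ⟨1, 86, []⟩, ⟨1, 87, []⟩, ⟨1, 90, []⟩, ⟨1, 90, []⟩, ⟨1, 86, []⟩, ⟨1, 290, [11, 12, 7, 13, 11, 12, 8, 11, 4, 13]⟩]⟩,
 ⟨4, 6, 1479, [], [⟨1, 1478, []⟩], []⟩,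
 ⟨7, 6, 163, [8, 11, 12, 7, 11, 12, 3, 1, 0, 2, 1, 3, 2, 0], [], [⟨1, 162, [8, 11, 12, 7, 11, 12]⟩, ⟨1, 135, []⟩, ⟨1, 784, [11, 13, 11, 4, 12, 8]⟩, ⟨1, 39, []⟩, ⟨1, 43, []⟩, ⟨1, 46, []⟩, ⟨1, 68, []⟩, ⟨1, 599, [4, 11, 2, 13, 11, 12, 7, 11, 12, 8]⟩]⟩,
 ⟨4, 6, 1481, [], [⟨1, 1480, []⟩], []⟩,
 ⟨7, 6, 163, [4, 7, 13, 11, 12, 3, 1, 0, 2, 1, 3, 2, 0], [], [⟨1, 162, [4, 7, 13, 11, 12]⟩, ⟨1, 134, []⟩, ⟨1, 135, []⟩, ⟨1, 237, [0, 4, 13, 11, 4, 12, 8, 11, 4, 11]⟩, ⟨1, 39, []⟩, ⟨1, 43, []⟩, ⟨1, 41, []⟩, ⟨1, 40, []⟩, ⟨1, 46, []⟩, ⟨1, 68, []⟩, ⟨1, 252, [0, 8, 12, 7, 11, 4, 11, 12, 7, 11]⟩]⟩,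
 ⟨4, 6, 1483, [], [⟨1, 1482, []⟩], []⟩,
 ⟨7, 6, 163, [0, 12, 13, 11, 4, 3, 1, 0, 2, 1, 3, 2, 0], [], [⟨1, 162, [0, 12, 13, 11, 4]⟩, ⟨1, 135, []⟩, ⟨1, 634, [2, 7, 12, 11, 4, 11, 12, 8]⟩, ⟨1, 86, []⟩, ⟨1, 87, []⟩, ⟨1, 90, []⟩, ⟨1, 90, []⟩, ⟨1, 709, [2, 7, 12, 7, 11, 4, 11, 13, 11, 4, 12]⟩]⟩,
 ⟨4, 6, 1485, [], [⟨1, 1484, []⟩], []⟩,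
 ⟨7, 6, 163, [8, 11, 4, 13, 11, 12, 3, 1, 0, 2, 1, 3, 2, 0], [], [⟨1, 162, [8, 11, 4, 13, 11, 12]⟩, ⟨1, 134, []⟩, ⟨1, 1337, [4, 11, 13, 11, 4, 12, 11, 4, 12, 13]⟩, ⟨1, 134, []⟩, ⟨1, 135, []⟩, ⟨1, 885, [2, 11, 12, 7, 12, 11, 12, 7, 12]⟩]⟩,
 ⟨4, 6, 1487, [], [⟨1, 1486, []⟩], []⟩]
theorem chk29 : and2 (D.chkL PF29 1436) (Nat.beq (Nat.add 1436 PF29.length) 1488) = true := by decide +kernel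

end H19.Th.DC
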