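import Mathlib
import Cfsg.Agent.H19.Th.DC.B

set_option autoImplicit false
set_option maxRecDepth 100000
set_option Elab.async false
set_option linter.all false

namespace H19.Th.DC
open H29

def PF30 : List DPf := [⟨7, 6, 163, [0, 13, 3, 1, 0, 2, 1, 3, 2, 0], [], [⟨1, 162, [0, 13]⟩, ⟨1, 135, []⟩, ⟨1, 841, [4, 11, 4, 13, 11, 12, 7, 12]⟩, ⟨1, 134, []⟩, ⟨1, 866, [12, 7, 12, 11, 12, 13, 11, 12, 7]⟩]⟩,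
 ⟨4, 6, 1489, [], [⟨1, 1488, []⟩], []⟩,
 ⟨7, 6, 163, [2, 11, 4, 12, 3, 1, 0, 2, 1, 3, 2, 0], [], [⟨1, 162, [2, 11, 4, 12]⟩, ⟨1, 134, []⟩, ⟨1, 135, []⟩, ⟨1, 134, []⟩, ⟨1, 562, [12, 7, 11, 12, 8, 12, 11, 13]⟩, ⟨1, 90, []⟩, ⟨1, 87, []⟩, ⟨1, 90, []⟩, ⟨1, 625, [4, 7, 11, 13, 11, 4, 11, 12, 8, 12, 13]⟩]⟩,
 ⟨4, 6, 1491, [], [⟨1, 1490, []⟩], []⟩,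
 ⟨7, 6, 163, [8, 13, 11, 12, 11, 4, 3, 1, 0, 2, 1, 3, 2, 0], [], [⟨1, 162, [8, 13, 11, 12, 11, 4]⟩, ⟨1, 135, []⟩, ⟨1, 134, []⟩, ⟨1, 301, [2, 7, 12, 8, 11, 4, 11, 12, 11]⟩, ⟨1, 86, []⟩, ⟨1, 87, []⟩, ⟨1, 471, [12, 8, 12, 11, 4, 11, 13, 11, 12, 11]⟩]⟩,
 ⟨7, 6, 163, [4, 7, 12, 13, 11, 4, 12, 3, 1, 0, 2, 1, 3, 2, 0], [], [⟨1, 162, [4, 7, 12, 13, 11, 4, 12]⟩, ⟨1, 135, []⟩, ⟨1, 134, []⟩, ⟨1, 646, [2, 4, 12, 8, 11, 12, 11, 4, 11, 4]⟩, ⟨1, 90, []⟩, ⟨1, 671, [4, 8, 11, 12, 11, 12, 8, 12]⟩]⟩,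
 ⟨4, 6, 1494, [], [⟨1, 1493, []⟩], []⟩,
 ⟨7, 6, 163, [8, 13, 11, 12, 7, 11, 12, 3, 1, 0, 2, 1, 3, 2, 0], [], [⟨1, 162, [8, 13, 11, 12, 7, 11, 12]⟩, ⟨1, 134, []⟩, ⟨1, 552, [2, 4, 12, 7, 11, 13, 11, 4, 12, 11]⟩, ⟨1, 90, []⟩, ⟨1, 90, []⟩, ⟨1, 86, []⟩, ⟨1, 485, [0, 12, 7, 12, 13, 11, 12, 11, 4, 13]⟩]⟩,
 ⟨4, 6, 1496, [], [⟨1, 1495, []⟩], []⟩,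
 ⟨7, 6, 163, [4, 11, 12, 3, 1, 0, 2, 1, 3, 2, 0], [], [⟨1, 162, [4, 11, 12]⟩, ⟨1, 135, []⟩, ⟨1, 134, []⟩, ⟨1, 353, [4, 8, 12, 11, 2, 12, 8, 12, 13]⟩, ⟨1, 78, []⟩, ⟨1, 81, []⟩, ⟨1, 77, []⟩, ⟨1, 81, []⟩, ⟨1, 81, []⟩, ⟨1, 126, []⟩, ⟨1, 78, []⟩, ⟨1, 358, [2, 11, 12, 8, 11, 12, 7, 11, 12, 11]⟩]⟩,
 ⟨4, 6, 1498, [], [⟨1, 1497, []⟩], []⟩,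
 ⟨8, 6, 163, [2, 11, 12, 0, 2, 3, 4, 2, 1, 2, 0, 1, 3, 2, 0], [], [⟨1, 162, [2, 11, 12]⟩, ⟨1, 134, []⟩, ⟨1, 135, []⟩, ⟨1, 544, [0, 11, 12, 7, 11, 12, 8, 13, 11, 12, 11, 12]⟩, ⟨1, 86, []⟩, ⟨1, 90, []⟩, ⟨1, 737, [8, 12, 11, 12, 13, 11, 4, 12, 11]⟩]⟩,
 ⟨4, 6, 1500, [], [⟨1, 1499, []⟩], []⟩,
 ⟨8, 6, 163, [12, 7, 13, 11, 12, 0, 2, 3, 4, 2, 1, 2, 0, 1, 3, 2, 0], [], [⟨1, 162, [12, 7, 13, 11, 12]⟩, ⟨1, 1398, [7, 13, 11, 12, 8, 11, 4, 11, 13, 11]⟩, ⟨1, 134, []⟩, ⟨1, 135, []⟩, ⟨1, 134, []⟩, ⟨1, 163, [2, 4, 11, 12, 13, 11, 12, 8, 12]⟩]⟩,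
 ⟨4, 6, 1502, [], [⟨1, 1501, []⟩], []⟩,
 ⟨8, 6, 163, [11, 4, 11, 12, 0, 2, 3, 4, 2, 1, 2, 0, 1, 3, 2, 0], [], [⟨1, 162, [11, 4, 11, 12]⟩, ⟨1, 134, []⟩, ⟨1, 135, []⟩, ⟨1, 134, []⟩, ⟨1, 690, [2, 4, 8, 11, 12, 11, 12, 7]⟩, ⟨1, 86, []⟩, ⟨1, 87, []⟩, ⟨1, 90, []⟩, ⟨1, 90, []⟩, ⟨1, 86, []⟩, ⟨1, 619, [2, 7, 13, 11, 4, 12, 11, 12]⟩]⟩,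
 ⟨4, 6, 1504, [], [⟨1, 1503, []⟩], []⟩,
 ⟨8, 6, 163, [0, 4, 12, 13, 11, 12, 0, 2, 3, 4, 2, 1, 2, 0, 1, 3, 2, 0], [], [⟨1, 162, [0, 4, 12, 13, 11, 12]⟩, ⟨1, 616, [4, 11, 12, 11, 13, 11, 4, 11, 12, 7]⟩, ⟨1, 86, []⟩, ⟨1, 87, []⟩, ⟨1, 90, []⟩, ⟨1, 90, []⟩, ⟨1, 90, []⟩, ⟨1, 613, [4, 7, 13, 11, 2, 12, 8, 12]⟩]⟩,
 ⟨4, 6, 1506, [], [⟨1, 1505, []⟩], []⟩,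
 ⟨8, 6, 163, [13, 11, 4, 12, 11, 12, 0, 2, 3, 4, 2, 1, 2, 0, 1, 3, 2, 0], [], [⟨1, 162, [13, 11, 4, 12, 11, 12]⟩, ⟨1, 616, [2, 12, 11, 4, 12, 7, 13]⟩, ⟨1, 86, []⟩, ⟨1, 87, []⟩, ⟨1, 90, []⟩, ⟨1, 90, []⟩, ⟨1, 86, []⟩, ⟨1, 753, [12, 7, 11, 2, 4, 12, 11, 13, 11]⟩]⟩,
 ⟨4, 6, 1508, [], [⟨1, 1507, []⟩], []⟩,
 ⟨8, 6, 163, [2, 4, 11, 4, 12, 0, 2, 3, 4, 2, 1, 2, 0, 1, 3, 2, 0], [], [⟨1, 162, [2, 4, 11, 4, 12]⟩, ⟨1, 134, []⟩, ⟨1, 135, []⟩, ⟨1, 544, [8, 11, 2, 4, 11, 12, 7, 11, 12, 13]⟩, ⟨1, 87, []⟩, ⟨1, 90, []⟩, ⟨1, 90, []⟩, ⟨1, 459, [4, 8, 12, 7, 11, 4, 11, 13, 11, 12]⟩]⟩,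
 ⟨4, 6, 1510, [], [⟨1, 1509, []⟩], []⟩,
 ⟨8, 6, 163, [8, 11, 12, 7, 11, 12, 0, 2, 3, 4, 2, 1, 2, 0, 1, 3, 2, 0], [], [⟨1, 162, [8, 11, 12, 7, 11, 12]⟩, ⟨1, 134, []⟩, ⟨1, 135, []⟩, ⟨1, 1115, [0, 12, 13, 11, 4, 12, 8, 11, 4]⟩, ⟨1, 134, []⟩, ⟨1, 135, []⟩, ⟨1, 134, []⟩, ⟨1, 1509, [7, 11, 12, 13, 11, 12]⟩]⟩,
 ⟨4, 6, 1512, [], [⟨1, 1511, []⟩], []⟩,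
 ⟨8, 6, 163, [0, 8, 12, 11, 4, 13, 0, 2, 3, 4, 2, 1, 2, 0, 1, 3, 2, 0], [], [⟨1, 162, [0, 8, 12, 11, 4, 13]⟩, ⟨1, 1393, [2, 4, 7, 11, 13, 11, 12, 7, 11]⟩, ⟨1, 833, [4, 11, 2, 4, 12, 7, 13, 11, 4]⟩]⟩,
 ⟨4, 6, 1514, [], [⟨1, 1513, []⟩], []⟩,
 ⟨8, 6, 163, [4, 8, 13, 11, 12, 11, 4, 0, 2, 3, 4, 2, 1, 2, 0, 1, 3, 2, 0], [], [⟨1, 162, [4, 8, 13, 11, 12, 11, 4]⟩, ⟨1, 1391, [4, 7, 12, 11, 13, 11, 4, 11, 12, 8]⟩, ⟨1, 135, []⟩, ⟨1, 990, [2, 8, 12, 7, 11, 4, 12, 8]⟩]⟩,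
 ⟨4, 6, 1516, [], [⟨1, 1515, []⟩], []⟩,
 ⟨8, 6, 163, [11, 12, 8, 11, 12, 13, 0, 2, 3, 4, 2, 1, 2, 0, 1, 3, 2, 0], [], [⟨1, 162, [11, 12, 8, 11, 12, 13]⟩, ⟨1, 1391, [7, 11, 2, 4, 12, 11, 12, 8, 13]⟩, ⟨1, 135, []⟩, ⟨1, 1271, [7, 13, 11, 2, 12, 8, 12, 11]⟩]⟩,
 ⟨4, 6, 1518, [], [⟨1, 1517, []⟩], []⟩,
 ⟨8, 6, 163, [4, 12, 7, 13, 11, 12, 0, 2, 3, 4, 2, 1, 2, 0, 1, 3, 2, 0], [], [⟨1, 162, [4, 12, 7, 13, 11, 12]⟩, ⟨1, 1391, [13, 11, 2, 12, 7, 11, 4]⟩, ⟨1, 134, []⟩, ⟨1, 1358, [0, 8, 11, 4, 11, 12, 7, 11, 12]⟩]⟩,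
 ⟨4, 6, 1520, [], [⟨1, 1519, []⟩], []⟩,
 ⟨8, 6, 163, [0, 8, 12, 7, 13, 11, 12, 0, 2, 3, 4, 2, 1, 2, 0, 1, 3, 2, 0], [], [⟨1, 162, [0, 8, 12, 7, 13, 11, 12]⟩, ⟨1, 134, []⟩, ⟨1, 135, []⟩, ⟨1, 992, [0, 8, 13, 11, 12, 11, 4, 12, 8, 11, 13]⟩, ⟨1, 135, []⟩, ⟨1, 1132, [2, 12, 11, 12, 8, 13, 11, 12]⟩]⟩,
 ⟨4, 6, 1522, [], [⟨1, 1521, []⟩], []⟩,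
 ⟨8, 6, 163, [0, 11, 12, 8, 13, 11, 12, 0, 2, 3, 4, 2, 1, 2, 0, 1, 3, 2, 0], [], [⟨1, 162, [0, 11, 12, 8, 13, 11, 12]⟩, ⟨1, 1389, [4, 8, 11, 4, 13, 11, 12, 11, 4]⟩, ⟨1, 134, []⟩, ⟨1, 972, [2, 8, 11, 12, 8, 11, 12, 8, 11, 13]⟩]⟩,
 ⟨4, 6, 1524, [], [⟨1, 1523, []⟩], []⟩,
 ⟨8, 6, 163, [0, 11, 4, 13, 11, 12, 0, 2, 3, 4, 2, 1, 2, 0, 1, 3, 2, 0], [], [⟨1, 162, [0, 11, 4, 13, 11, 12]⟩, ⟨1, 134, []⟩, ⟨1, 177, [2, 11, 12, 11, 4, 11, 13, 11]⟩, ⟨1, 134, []⟩, ⟨1, 135, []⟩, ⟨1, 1395, [11, 13, 11, 4, 12, 11, 4, 12, 7]⟩]⟩,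
 ⟨4, 6, 1526, [], [⟨1, 1525, []⟩], []⟩,
 ⟨8, 6, 163, [11, 12, 11, 4, 0, 2, 3, 4, 2, 1, 2, 0, 1, 3, 2, 0], [], [⟨1, 162, [11, 12, 11, 4]⟩, ⟨1, 134, []⟩, ⟨1, 135, []⟩, ⟨1, 134, []⟩, ⟨1, 690, [4, 7, 12, 8, 11, 12, 13, 11, 4, 12]⟩, ⟨1, 86, []⟩, ⟨1, 90, []⟩, ⟨1, 87, []⟩, ⟨1, 653, [11, 12, 11, 4, 11, 13, 11, 4, 12]⟩]⟩,
 ⟨8, 6, 163, [12, 13, 11, 12, 0, 2, 3, 4, 2, 1, 2, 0, 1, 3, 2, 0], [], [⟨1, 162, [12, 13, 11, 12]⟩, ⟨1, 1387, [8, 12, 11, 12, 7, 13, 11, 4, 11, 4]⟩, ⟨1, 134, []⟩, ⟨1, 135, []⟩, ⟨1, 134, []⟩, ⟨1, 920, [7, 12, 11, 13, 11, 4, 11, 4, 13]⟩]⟩,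
 ⟨4, 6, 1529, [], [⟨1, 1528, []⟩], []⟩,
 ⟨8, 6, 163, [4, 11, 12, 11, 4, 0, 2, 3, 4, 2, 1, 2, 0, 1, 3, 2, 0], [], [⟨1, 162, [4, 11, 12, 11, 4]⟩, ⟨1, 134, []⟩, ⟨1, 135, []⟩, ⟨1, 544, [2, 7, 12, 8, 13, 11, 4, 12, 11]⟩, ⟨1, 86, []⟩, ⟨1, 87, []⟩, ⟨1, 90, []⟩, ⟨1, 86, []⟩, ⟨1, 691, [0, 7, 12, 8, 11, 4, 11, 12, 8, 13]⟩]⟩,
 ⟨4, 6, 1531, [], [⟨1, 1530, []⟩], []⟩,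
 ⟨8, 6, 163, [7, 11, 13, 11, 12, 0, 2, 3, 4, 2, 1, 2, 0, 1, 3, 2, 0], [], [⟨1, 162, [7, 11, 13, 11, 12]⟩, ⟨1, 1385, [11, 13, 11, 4, 11, 4]⟩, ⟨1, 135, []⟩, ⟨1, 932, [12, 7, 13, 11, 2, 12, 7, 11, 12, 7]⟩]⟩,
 ⟨4, 6, 1533, [], [⟨1, 1532, []⟩], []⟩]
theorem chk30 : and2 (D.chkL PF30 1488) (Nat.beq (Nat.add 1488 PF30.length) 1534) = true := by decide +kernel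

def PF31 : List DPf := [⟨8, 6, 163, [7, 11, 4, 12, 0, 2, 3, 4, 2, 1, 2, 0, 1, 3, 2, 0], [], [⟨1, 162, [7, 11, 4, 12]⟩, ⟨1, 134, []⟩, ⟨1, 135, []⟩, ⟨1, 1115, [0, 8, 11, 12, 8, 11, 12, 11, 13]⟩, ⟨1, 134, []⟩, ⟨1, 135, []⟩, ⟨1, 1226, [8, 12, 8, 11, 13, 11, 4, 11, 12]⟩]⟩,
 ⟨4, 6, 1535, [], [⟨1, 1534, []⟩], []⟩,
 ⟨8, 6, 163, [4, 12, 7, 11, 12, 13, 0, 2, 3, 4, 2, 1, 2, 0, 1, 3, 2, 0], [], [⟨1, 162, [4, 12, 7, 11, 12, 13]⟩, ⟨1, 1385, [4, 12, 11, 12, 11, 13, 11, 4, 11]⟩, ⟨1, 134, []⟩, ⟨1, 1228, [7, 11, 2, 4, 12, 8, 11, 12, 13, 11]⟩]⟩,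
 ⟨4, 6, 1537, [], [⟨1, 1536, []⟩], []⟩,
 ⟨8, 6, 163, [0, 11, 4, 13, 0, 2, 3, 4, 2, 1, 2, 0, 1, 3, 2, 0], [], [⟨1, 162, [0, 11, 4, 13]⟩, ⟨1, 1393, [4, 13, 11, 2, 4, 12, 7, 11]⟩, ⟨1, 134, []⟩, ⟨1, 135, []⟩, ⟨1, 134, []⟩, ⟨1, 1016, [2, 4, 8, 12, 11, 4, 11, 13]⟩]⟩,
 ⟨4, 6, 1539, [], [⟨1, 1538, []⟩], []⟩,
 ⟨8, 6, 163, [4, 12, 7, 11, 13, 11, 12, 0, 2, 3, 4, 2, 1, 2, 0, 1, 3, 2, 0], [], [⟨1, 162, [4, 12, 7, 11, 13, 11, 12]⟩, ⟨1, 1385, [7, 11, 4, 13, 11, 4, 12, 8, 11]⟩, ⟨1, 134, []⟩, ⟨1, 841, [12, 11, 4, 12, 8, 11, 12, 11]⟩]⟩,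
 ⟨4, 6, 1541, [], [⟨1, 1540, []⟩], []⟩,
 ⟨8, 6, 163, [12, 11, 4, 0, 2, 3, 4, 2, 1, 2, 0, 1, 3, 2, 0], [], [⟨1, 162, [12, 11, 4]⟩, ⟨1, 134, []⟩, ⟨1, 135, []⟩, ⟨1, 134, []⟩, ⟨1, 690, [12, 7, 11, 2, 4, 13, 11, 12, 8]⟩, ⟨1, 86, []⟩, ⟨1, 87, []⟩, ⟨1, 90, []⟩, ⟨1, 86, []⟩, ⟨1, 407, [0, 12, 8, 11, 13, 11, 12, 11, 12, 7]⟩]⟩,
 ⟨4, 6, 1543, [], [⟨1, 1542, []⟩], []⟩,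
 ⟨9, 6, 163, [8, 12, 8, 11, 4, 12, 0, 2, 4, 1, 0, 2, 1, 3, 2, 0], [], [⟨1, 162, [8, 12, 8, 11, 4, 12]⟩, ⟨1, 134, []⟩, ⟨1, 135, []⟩, ⟨1, 544, [4, 7, 11, 2, 12, 7, 11]⟩, ⟨1, 87, []⟩, ⟨1, 90, []⟩, ⟨1, 90, []⟩, ⟨1, 86, []⟩, ⟨1, 461, [2, 11, 4, 12, 11, 13, 11, 4, 12]⟩]⟩,
 ⟨4, 6, 1545, [], [⟨1, 1544, []⟩], []⟩,
 ⟨9, 6, 163, [8, 12, 13, 11, 0, 2, 4, 1, 0, 2, 1, 3, 2, 0], [], [⟨1, 162, [8, 12, 13, 11]⟩, ⟨1, 1391, [2, 4, 7, 12, 11, 4, 11, 12, 8, 11]⟩, ⟨1, 134, []⟩, ⟨1, 135, []⟩, ⟨1, 134, []⟩, ⟨1, 1142, [0, 8, 11, 4, 12, 13, 11, 12, 8, 11]⟩]⟩,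
 ⟨4, 6, 1547, [], [⟨1, 1546, []⟩], []⟩,
 ⟨9, 6, 163, [7, 12, 7, 11, 12, 0, 2, 4, 1, 0, 2, 1, 3, 2, 0], [], [⟨1, 162, [7, 12, 7, 11, 12]⟩, ⟨1, 134, []⟩, ⟨1, 135, []⟩, ⟨1, 134, []⟩, ⟨1, 690, [0, 13, 11, 12, 7, 12, 11, 4]⟩, ⟨1, 86, []⟩, ⟨1, 87, []⟩, ⟨1, 509, [2, 4, 12, 11, 13, 11, 4, 12, 8]⟩]⟩,
 ⟨4, 6, 1549, [], [⟨1, 1548, []⟩], []⟩,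
 ⟨9, 6, 163, [4, 11, 12, 8, 12, 11, 12, 0, 2, 4, 1, 0, 2, 1, 3, 2, 0], [], [⟨1, 162, [4, 11, 12, 8, 12, 11, 12]⟩, ⟨1, 134, []⟩, ⟨1, 135, []⟩, ⟨1, 134, []⟩, ⟨1, 690, [2, 12, 7, 12, 11, 4, 11, 13, 11, 4]⟩, ⟨1, 87, []⟩, ⟨1, 86, []⟩, ⟨1, 90, []⟩, ⟨1, 86, []⟩, ⟨1, 328, [2, 11, 12, 8, 11, 12, 8, 11, 4]⟩]⟩,
 ⟨4, 6, 1551, [], [⟨1, 1550, []⟩], []⟩,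
 ⟨9, 6, 163, [4, 7, 11, 12, 11, 13, 0, 2, 4, 1, 0, 2, 1, 3, 2, 0], [], [⟨1, 162, [4, 7, 11, 12, 11, 13]⟩, ⟨1, 616, [4, 11, 12, 13, 11, 4, 11, 4, 12, 13, 11]⟩, ⟨1, 87, []⟩, ⟨1, 86, []⟩, ⟨1, 90, []⟩, ⟨1, 86, []⟩, ⟨1, 437, [2, 7, 11, 4, 12, 8, 13, 11, 4, 12]⟩]⟩,
 ⟨4, 6, 1553, [], [⟨1, 1552, []⟩], []⟩,
 ⟨9, 6, 163, [11, 12, 7, 12, 11, 12, 0, 2, 4, 1, 0, 2, 1, 3, 2, 0], [], [⟨1, 162, [11, 12, 7, 12, 11, 12]⟩, ⟨1, 134, []⟩, ⟨1, 135, []⟩, ⟨1, 544, [12, 13, 11, 12, 8, 12, 11, 12, 13]⟩, ⟨1, 90, []⟩, ⟨1, 90, []⟩, ⟨1, 90, []⟩, ⟨1, 86, []⟩, ⟨1, 483, [0, 13, 11, 12, 8, 12, 11, 12, 11]⟩]⟩,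
 ⟨4, 6, 1555, [], [⟨1, 1554, []⟩], []⟩,
 ⟨9, 6, 163, [12, 7, 11, 12, 0, 2, 4, 1, 0, 2, 1, 3, 2, 0], [], [⟨1, 162, [12, 7, 11, 12]⟩, ⟨1, 134, []⟩, ⟨1, 950, [11, 4, 11, 12, 7, 12, 13, 11, 4, 11, 13]⟩, ⟨1, 1086, [8, 12, 7, 11, 13, 11, 12, 7]⟩]⟩,
 ⟨4, 6, 1557, [], [⟨1, 1556, []⟩], []⟩,
 ⟨10, 6, 163, [8, 13, 11, 4, 12, 0, 2, 3, 2, 0], [], [⟨1, 162, [8, 13, 11, 4, 12]⟩, ⟨1, 135, []⟩, ⟨1, 134, []⟩, ⟨1, 301, [8, 11, 13, 11, 12, 11, 12, 7, 13, 11]⟩, ⟨1, 90, []⟩, ⟨1, 90, []⟩, ⟨1, 86, []⟩, ⟨1, 469, [4, 7, 13, 11, 12, 7, 11, 13]⟩]⟩,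
 ⟨4, 6, 1559, [], [⟨1, 1558, []⟩], []⟩,
 ⟨12, 6, 163, [0, 7, 11, 12, 13, 0, 2, 3, 1, 0, 2, 1, 2, 4, 3, 2, 0, 2, 0], [], [⟨1, 162, [0, 7, 11, 12, 13]⟩, ⟨1, 134, []⟩, ⟨1, 135, []⟩, ⟨1, 1102, [4, 12, 13, 11, 4, 12, 7, 11]⟩, ⟨1, 134, []⟩, ⟨1, 135, []⟩, ⟨1, 134, []⟩, ⟨1, 1453, [13, 11, 12, 11, 12, 7, 13, 11, 12]⟩]⟩,
 ⟨4, 6, 1561, [], [⟨1, 1560, []⟩], []⟩,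
 ⟨12, 6, 163, [2, 4, 0, 2, 3, 1, 0, 2, 1, 2, 4, 3, 2, 0, 2, 0], [], [⟨1, 162, [2, 4]⟩, ⟨1, 134, []⟩, ⟨1, 135, []⟩, ⟨1, 1394, [4, 8, 11, 12, 7, 11, 13, 11, 4, 11]⟩, ⟨1, 1354, [0, 12, 7, 13, 11, 4, 12, 8, 11, 12, 13]⟩]⟩,
 ⟨4, 6, 1563, [], [⟨1, 1562, []⟩], []⟩,
 ⟨12, 6, 163, [2, 7, 12, 7, 11, 12, 0, 2, 3, 1, 0, 2, 1, 2, 4, 3, 2, 0, 2, 0], [], [⟨1, 162, [2, 7, 12, 7, 11, 12]⟩, ⟨1, 135, []⟩, ⟨1, 1407, [11, 12, 7, 11, 4, 12, 8, 11, 12, 13]⟩, ⟨1, 134, []⟩, ⟨1, 135, []⟩, ⟨1, 134, []⟩, ⟨1, 996, [8, 11, 13, 11, 4, 11, 12, 7]⟩]⟩,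
 ⟨12, 6, 163, [8, 11, 12, 0, 2, 3, 1, 0, 2, 1, 2, 4, 3, 2, 0, 2, 0], [], [⟨1, 162, [8, 11, 12]⟩, ⟨1, 1440, [7, 13, 11, 12, 7, 11, 13]⟩, ⟨1, 135, []⟩, ⟨1, 1035, [11, 12, 11, 4, 11, 4, 12, 8, 13, 11]⟩]⟩,
 ⟨4, 6, 1566, [], [⟨1, 1565, []⟩], []⟩,
 ⟨12, 6, 163, [0, 7, 12, 11, 4, 13, 0, 2, 3, 1, 0, 2, 1, 2, 4, 3, 2, 0, 2, 0], [], [⟨1, 162, [0, 7, 12, 11, 4, 13]⟩, ⟨1, 134, []⟩, ⟨1, 135, []⟩, ⟨1, 134, []⟩, ⟨1, 652, [0, 7, 12, 13, 11, 12, 7, 11, 4]⟩, ⟨1, 90, []⟩, ⟨1, 651, [0, 7, 12, 11, 12, 7, 13, 11, 4, 11]⟩]⟩,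
 ⟨13, 6, 163, [8, 11, 12, 7, 11, 12, 0, 2, 3, 1, 2, 0, 1, 3, 2, 0], [], [⟨1, 162, [8, 11, 12, 7, 11, 12]⟩, ⟨1, 134, []⟩, ⟨1, 135, []⟩, ⟨1, 1115, [0, 12, 11, 13, 11, 4, 12, 8, 11, 13]⟩, ⟨1, 135, []⟩, ⟨1, 1304, [0, 12, 11, 4, 12, 7, 13, 11, 12, 8]⟩]⟩,
 ⟨4, 6, 1569, [], [⟨1, 1568, []⟩], []⟩,
 ⟨13, 6, 163, [4, 12, 13, 11, 12, 0, 2, 3, 1, 2, 0, 1, 3, 2, 0], [], [⟨1, 162, [4, 12, 13, 11, 12]⟩, ⟨1, 616, [2, 8, 12, 11, 12, 8, 12, 11, 12]⟩, ⟨1, 87, []⟩, ⟨1, 86, []⟩, ⟨1, 633, [11, 4, 11, 4, 12, 11, 13, 11, 4, 11]⟩]⟩,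
 ⟨4, 6, 1571, [], [⟨1, 1570, []⟩], []⟩,
 ⟨13, 6, 163, [4, 8, 11, 12, 0, 2, 3, 1, 2, 0, 1, 3, 2, 0], [], [⟨1, 162, [4, 8, 11, 12]⟩, ⟨1, 134, []⟩, ⟨1, 950, [11, 2, 4, 11, 12, 7, 11, 12, 8]⟩, ⟨1, 134, []⟩, ⟨1, 135, []⟩, ⟨1, 134, []⟩, ⟨1, 874, [0, 4, 7, 11, 4, 13, 11, 4, 11, 12, 11]⟩]⟩,
 ⟨4, 6, 1573, [], [⟨1, 1572, []⟩], []⟩,
 ⟨13, 6, 163, [12, 13, 11, 4, 12, 0, 2, 3, 1, 2, 0, 1, 3, 2, 0], [], [⟨1, 162, [12, 13, 11, 4, 12]⟩, ⟨1, 616, [4, 11, 12, 11, 12, 7, 12, 11, 4, 12]⟩, ⟨1, 90, []⟩, ⟨1, 90, []⟩, ⟨1, 90, []⟩, ⟨1, 553, [4, 7, 11, 2, 4, 12, 8, 11, 12]⟩]⟩,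
 ⟨4, 6, 1575, [], [⟨1, 1574, []⟩], []⟩,
 ⟨13, 6, 163, [4, 8, 11, 12, 13, 0, 2, 3, 1, 2, 0, 1, 3, 2, 0], [], [⟨1, 162, [4, 8, 11, 12, 13]⟩, ⟨1, 1383, [2, 8, 11, 4, 12, 11, 4, 12, 7]⟩, ⟨1, 134, []⟩, ⟨1, 135, []⟩, ⟨1, 134, []⟩, ⟨1, 1553, [4, 11, 12, 8, 11, 12, 8, 13, 11]⟩]⟩]
theorem chk31 : and2 (D.chkL PF31 1534) (Nat.beq (Nat.add 1534 PF31.length) 1577) = true := by decide +kernel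

def PF32 : List DPf := [⟨13, 6, 163, [4, 11, 4, 11, 12, 0, 2, 3, 1, 2, 0, 1, 3, 2, 0], [], [⟨1, 162, [4, 11, 4, 11, 12]⟩, ⟨1, 134, []⟩, ⟨1, 135, []⟩, ⟨1, 544, [4, 7, 13, 11, 12, 11, 12, 8, 13]⟩, ⟨1, 87, []⟩, ⟨1, 90, []⟩, ⟨1, 90, []⟩, ⟨1, 807, [7, 12, 8, 13, 11, 2, 12, 8, 11, 4, 13]⟩]⟩,
 ⟨4, 6, 1578, [], [⟨1, 1577, []⟩], []⟩,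
 ⟨13, 6, 163, [8, 12, 7, 11, 12, 0, 2, 3, 1, 2, 0, 1, 3, 2, 0], [], [⟨1, 162, [8, 12, 7, 11, 12]⟩, ⟨1, 134, []⟩, ⟨1, 135, []⟩, ⟨1, 1115, [2, 4, 7, 11, 12, 7, 11, 12, 11]⟩, ⟨1, 134, []⟩, ⟨1, 1574, [4, 11, 12, 7, 11, 12, 11, 4, 11, 12]⟩]⟩,
 ⟨4, 6, 1580, [], [⟨1, 1579, []⟩], []⟩,
 ⟨13, 6, 163, [4, 11, 12, 0, 2, 3, 1, 2, 0, 1, 3, 2, 0], [], [⟨1, 162, [4, 11, 12]⟩, ⟨1, 134, []⟩, ⟨1, 135, []⟩, ⟨1, 134, []⟩, ⟨1, 690, [4, 12, 8, 11, 12, 8, 11, 13, 11, 12, 8]⟩, ⟨1, 86, []⟩, ⟨1, 671, [2, 13, 11, 12, 7, 11, 12, 13, 11]⟩]⟩,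
 ⟨4, 6, 1582, [], [⟨1, 1581, []⟩], []⟩,
 ⟨13, 6, 163, [12, 11, 4, 13, 0, 2, 3, 1, 2, 0, 1, 3, 2, 0], [], [⟨1, 162, [12, 11, 4, 13]⟩, ⟨1, 1393, [0, 8, 12, 7, 11, 12, 7, 11, 4, 11, 12]⟩, ⟨1, 134, []⟩, ⟨1, 1243, [13, 11, 12, 7, 11, 12, 7]⟩]⟩,
 ⟨4, 6, 1584, [], [⟨1, 1583, []⟩], []⟩,
 ⟨13, 6, 163, [12, 8, 11, 12, 13, 0, 2, 3, 1, 2, 0, 1, 3, 2, 0], [], [⟨1, 162, [12, 8, 11, 12, 13]⟩, ⟨1, 1383, [11, 12, 11, 4, 11, 4, 12]⟩, ⟨1, 1179, [4, 8, 12, 11, 13, 11, 12, 7, 12, 11]⟩]⟩,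
 ⟨4, 6, 1586, [], [⟨1, 1585, []⟩], []⟩,
 ⟨13, 6, 163, [4, 8, 12, 7, 11, 12, 0, 2, 3, 1, 2, 0, 1, 3, 2, 0], [], [⟨1, 162, [4, 8, 12, 7, 11, 12]⟩, ⟨1, 1404, [8, 12, 7, 13, 11, 12, 8, 11, 12, 8, 13]⟩, ⟨1, 134, []⟩, ⟨1, 135, []⟩, ⟨1, 1056, [12, 8, 11, 4, 13, 11, 12, 8]⟩]⟩,
 ⟨4, 6, 1588, [], [⟨1, 1587, []⟩], []⟩,
 ⟨13, 6, 163, [0, 11, 4, 12, 13, 11, 4, 12, 0, 2, 3, 1, 2, 0, 1, 3, 2, 0], [], [⟨1, 162, [0, 11, 4, 12, 13, 11, 4, 12]⟩, ⟨1, 1395, [4, 8, 11, 13, 11, 12, 8, 11, 4, 13, 11]⟩, ⟨1, 134, []⟩, ⟨1, 135, []⟩, ⟨1, 134, []⟩, ⟨1, 917, [11, 12, 13, 11, 4, 12, 7, 11]⟩]⟩,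
 ⟨4, 6, 1590, [], [⟨1, 1589, []⟩], []⟩,
 ⟨15, 6, 163, [7, 0, 2, 5, 2, 0], [], [⟨1, 162, [7]⟩, ⟨1, 134, []⟩, ⟨1, 135, []⟩, ⟨1, 134, []⟩, ⟨1, 1115, [2, 4, 7, 11, 4, 11, 13, 11, 12, 11, 13]⟩]⟩,
 ⟨4, 6, 1592, [], [⟨1, 1591, []⟩], []⟩,
 ⟨15, 6, 163, [8, 0, 2, 5, 2, 0], [], [⟨1, 162, [8]⟩, ⟨1, 134, []⟩, ⟨1, 987, [4, 12, 8, 11, 12, 8, 11, 12, 8]⟩]⟩,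
 ⟨4, 6, 1594, [], [⟨1, 1593, []⟩], []⟩,
 ⟨17, 6, 163, [8, 11, 12, 7, 13, 5, 5, 3, 6, 6, 2, 0], [], [⟨1, 162, [8, 11, 12, 7, 13]⟩, ⟨1, 134, []⟩, ⟨1, 135, []⟩, ⟨1, 1469, [12, 7, 13, 11, 4, 12, 11, 12, 13]⟩, ⟨1, 1409, [8, 11, 2, 4, 12, 11, 13, 11, 12, 7]⟩]⟩,
 ⟨4, 6, 1596, [], [⟨1, 1595, []⟩], []⟩,
 ⟨17, 6, 163, [4, 8, 5, 5, 3, 6, 6, 2, 0], [], [⟨1, 162, [4, 8]⟩, ⟨1, 135, []⟩, ⟨1, 1097, [8, 12, 8, 13, 11, 12, 8, 11, 13]⟩, ⟨1, 135, []⟩, ⟨1, 134, []⟩, ⟨1, 1245, [4, 13, 11, 2, 12, 7, 11, 12, 11]⟩]⟩,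
 ⟨4, 6, 1598, [], [⟨1, 1597, []⟩], []⟩,
 ⟨6, 6, 164, [4, 7, 12, 13, 0, 2, 4, 3, 2, 0], [], [⟨1, 163, [4, 7, 12, 13]⟩, ⟨1, 1562, [2, 4, 7, 12, 11, 4, 12, 8]⟩, ⟨1, 1355, [7, 12, 11, 12, 8, 11, 12, 13]⟩]⟩,
 ⟨4, 6, 1600, [], [⟨1, 1599, []⟩], []⟩,
 ⟨7, 6, 164, [0, 4, 12, 13, 11, 4, 12, 3, 1, 0, 2, 1, 3, 2, 0], [], [⟨1, 163, [0, 4, 12, 13, 11, 4, 12]⟩, ⟨1, 134, []⟩, ⟨1, 323, [0, 7, 11, 4, 13, 11, 4, 12, 8]⟩, ⟨1, 86, []⟩, ⟨1, 90, []⟩, ⟨1, 739, [0, 12, 7, 11, 4, 12, 8, 13, 11, 4, 11]⟩]⟩,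
 ⟨4, 6, 1602, [], [⟨1, 1601, []⟩], []⟩,
 ⟨7, 6, 164, [4, 11, 12, 11, 4, 3, 1, 0, 2, 1, 3, 2, 0], [], [⟨1, 163, [4, 11, 12, 11, 4]⟩, ⟨1, 135, []⟩, ⟨1, 584, [4, 12, 8, 11, 2, 12, 7, 13, 11]⟩, ⟨1, 41, []⟩, ⟨1, 46, []⟩, ⟨1, 68, []⟩, ⟨1, 68, []⟩, ⟨1, 248, [2, 7, 12, 7, 11, 12, 8, 12]⟩]⟩,
 ⟨4, 6, 1604, [], [⟨1, 1603, []⟩], []⟩,
 ⟨7, 6, 164, [8, 12, 8, 11, 12, 13, 3, 1, 0, 2, 1, 3, 2, 0], [], [⟨1, 163, [8, 12, 8, 11, 12, 13]⟩, ⟨1, 134, []⟩, ⟨1, 388, [11, 12, 11, 4, 13, 11, 4, 11, 13]⟩, ⟨1, 78, []⟩, ⟨1, 77, []⟩, ⟨1, 126, []⟩, ⟨1, 126, []⟩, ⟨1, 342, [2, 12, 11, 4, 12, 8, 13, 11, 4, 12]⟩]⟩,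
 ⟨4, 6, 1606, [], [⟨1, 1605, []⟩], []⟩,
 ⟨7, 6, 164, [11, 12, 8, 11, 12, 13, 3, 1, 0, 2, 1, 3, 2, 0], [], [⟨1, 163, [11, 12, 8, 11, 12, 13]⟩, ⟨1, 135, []⟩, ⟨1, 134, []⟩, ⟨1, 1587, [0, 11, 4, 12, 11, 12, 8, 12, 11]⟩, ⟨1, 134, []⟩, ⟨1, 135, []⟩, ⟨1, 1462, [8, 11, 4, 11, 13, 11, 4]⟩]⟩,
 ⟨4, 6, 1608, [], [⟨1, 1607, []⟩], []⟩,
 ⟨7, 6, 164, [4, 7, 12, 3, 1, 0, 2, 1, 3, 2, 0], [], [⟨1, 163, [4, 7, 12]⟩, ⟨1, 134, []⟩, ⟨1, 600, [8, 12, 11, 4, 13, 11, 12]⟩, ⟨1, 39, []⟩, ⟨1, 43, []⟩, ⟨1, 42, []⟩, ⟨1, 46, []⟩, ⟨1, 46, []⟩, ⟨1, 68, []⟩, ⟨1, 68, []⟩, ⟨1, 250, [7, 11, 4, 11, 12, 8, 13, 11]⟩]⟩,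
 ⟨4, 6, 1610, [], [⟨1, 1609, []⟩], []⟩,
 ⟨7, 6, 164, [0, 4, 8, 11, 12, 13, 3, 1, 0, 2, 1, 3, 2, 0], [], [⟨1, 163, [0, 4, 8, 11, 12, 13]⟩, ⟨1, 313, [11, 4, 12, 11, 12, 8, 13, 11, 12]⟩, ⟨1, 87, []⟩, ⟨1, 90, []⟩, ⟨1, 86, []⟩, ⟨1, 280, [2, 11, 12, 8, 13, 11, 12, 11, 13]⟩]⟩,
 ⟨4, 6, 1612, [], [⟨1, 1611, []⟩], []⟩,
 ⟨7, 6, 164, [4, 7, 12, 13, 3, 1, 0, 2, 1, 3, 2, 0], [], [⟨1, 163, [4, 7, 12, 13]⟩, ⟨1, 135, []⟩, ⟨1, 134, []⟩, ⟨1, 416, [8, 11, 12, 8, 11, 12, 8, 11, 12]⟩, ⟨1, 87, []⟩, ⟨1, 90, []⟩, ⟨1, 90, []⟩, ⟨1, 86, []⟩, ⟨1, 729, [2, 8, 11, 4, 11, 12, 11, 12]⟩]⟩,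
 ⟨4, 6, 1614, [], [⟨1, 1613, []⟩], []⟩,
 ⟨7, 6, 164, [2, 4, 11, 4, 11, 12, 3, 1, 0, 2, 1, 3, 2, 0], [], [⟨1, 163, [2, 4, 11, 4, 11, 12]⟩, ⟨1, 134, []⟩, ⟨1, 135, []⟩, ⟨1, 134, []⟩, ⟨1, 925, [0, 11, 13, 11, 4, 11, 12, 13]⟩, ⟨1, 134, []⟩, ⟨1, 135, []⟩, ⟨1, 134, []⟩, ⟨1, 1015, [11, 4, 12, 13, 11, 12, 8, 11, 4]⟩]⟩,
 ⟨4, 6, 1616, [], [⟨1, 1615, []⟩], []⟩,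
 ⟨7, 6, 164, [4, 11, 13, 11, 12, 3, 1, 0, 2, 1, 3, 2, 0], [], [⟨1, 163, [4, 11, 13, 11, 12]⟩, ⟨1, 134, []⟩, ⟨1, 406, [8, 13, 11, 12, 7, 11, 4, 12]⟩, ⟨1, 87, []⟩, ⟨1, 86, []⟩, ⟨1, 695, [2, 4, 8, 11, 4, 12, 11, 12, 8, 13]⟩]⟩,
 ⟨4, 6, 1618, [], [⟨1, 1617, []⟩], []⟩,
 ⟨7, 6, 164, [0, 4, 12, 13, 11, 12, 3, 1, 0, 2, 1, 3, 2, 0], [], [⟨1, 163, [0, 4, 12, 13, 11, 12]⟩, ⟨1, 134, []⟩, ⟨1, 135, []⟩, ⟨1, 134, []⟩, ⟨1, 548, [2, 13, 11, 4, 12, 7, 11, 12, 13, 11, 4]⟩, ⟨1, 86, []⟩, ⟨1, 87, []⟩, ⟨1, 86, []⟩, ⟨1, 90, []⟩, ⟨1, 87, []⟩, ⟨1, 673, [4, 8, 12, 13, 11, 12, 7, 11, 13]⟩]⟩,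
 ⟨4, 6, 1620, [], [⟨1, 1619, []⟩], []⟩,
 ⟨7, 6, 164, [0, 11, 12, 11, 4, 13, 3, 1, 0, 2, 1, 3, 2, 0], [], [⟨1, 163, [0, 11, 12, 11, 4, 13]⟩, ⟨1, 1034, [7, 13, 11, 4, 11, 4, 12, 8, 13]⟩, ⟨1, 135, []⟩, ⟨1, 1535, [13, 11, 12, 8, 11, 12, 13, 11]⟩]⟩,
 ⟨4, 6, 1622, [], [⟨1, 1621, []⟩], []⟩,
 ⟨7, 6, 164, [2, 11, 12, 7, 11, 12, 3, 1, 0, 2, 1, 3, 2, 0], [], [⟨1, 163, [2, 11, 12, 7, 11, 12]⟩, ⟨1, 134, []⟩, ⟨1, 135, []⟩, ⟨1, 642, [2, 7, 13, 11, 4, 12, 11, 12, 8, 13]⟩, ⟨1, 87, []⟩, ⟨1, 90, []⟩, ⟨1, 86, []⟩, ⟨1, 661, [0, 11, 13, 11, 4, 11, 4, 12, 11]⟩]⟩,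
 ⟨4, 6, 1624, [], [⟨1, 1623, []⟩], []⟩,
 ⟨7, 6, 164, [4, 7, 11, 13, 11, 12, 3, 1, 0, 2, 1, 3, 2, 0], [], [⟨1, 163, [4, 7, 11, 13, 11, 12]⟩, ⟨1, 134, []⟩, ⟨1, 135, []⟩, ⟨1, 134, []⟩, ⟨1, 1278, [11, 4, 11, 13, 11, 4, 11, 12, 8]⟩, ⟨1, 1561, [4, 8, 11, 12, 8, 11, 12, 7, 13]⟩]⟩,
 ⟨4, 6, 1626, [], [⟨1, 1625, []⟩], []⟩]
theorem chk32 : and2 (D.chkL PF32 1577) (Nat.beq (Nat.add 1577 PF32.length) 1627) = true := by decide +kernel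

def PF33 : List DPf := [⟨7, 6, 164, [2, 8, 12, 11, 4, 3, 1, 0, 2, 1, 3, 2, 0], [], [⟨1, 163, [2, 8, 12, 11, 4]⟩, ⟨1, 1030, [4, 8, 12, 11, 13, 11, 4, 12, 11, 12]⟩, ⟨1, 135, []⟩, ⟨1, 134, []⟩, ⟨1, 1106, [12, 8, 13, 11, 12, 7, 11, 4, 12, 8]⟩]⟩,
 ⟨4, 6, 1628, [], [⟨1, 1627, []⟩], []⟩,
 ⟨7, 6, 164, [8, 11, 12, 11, 4, 3, 1, 0, 2, 1, 3, 2, 0], [], [⟨1, 163, [8, 11, 12, 11, 4]⟩, ⟨1, 134, []⟩, ⟨1, 135, []⟩, ⟨1, 134, []⟩, ⟨1, 363, [2, 4, 11, 4, 11, 12, 7, 11, 4, 13]⟩, ⟨1, 76, []⟩, ⟨1, 126, []⟩, ⟨1, 78, []⟩, ⟨1, 348, [4, 8, 11, 13, 11, 4, 12, 11, 4, 12]⟩]⟩,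
 ⟨4, 6, 1630, [], [⟨1, 1629, []⟩], []⟩,
 ⟨7, 6, 164, [2, 4, 8, 12, 11, 4, 3, 1, 0, 2, 1, 3, 2, 0], [], [⟨1, 163, [2, 4, 8, 12, 11, 4]⟩, ⟨1, 135, []⟩, ⟨1, 902, [2, 11, 4, 12, 11, 12, 7, 13]⟩, ⟨1, 134, []⟩, ⟨1, 135, []⟩, ⟨1, 134, []⟩, ⟨1, 1431, [11, 2, 12, 7, 11, 13, 11]⟩]⟩,
 ⟨4, 6, 1632, [], [⟨1, 1631, []⟩], []⟩,
 ⟨7, 6, 164, [0, 11, 4, 12, 13, 11, 4, 3, 1, 0, 2, 1, 3, 2, 0], [], [⟨1, 163, [0, 11, 4, 12, 13, 11, 4]⟩, ⟨1, 1146, [13, 11, 2, 4, 12, 7, 11, 12, 8]⟩, ⟨1, 134, []⟩, ⟨1, 135, []⟩, ⟨1, 134, []⟩, ⟨1, 896, [4, 8, 11, 4, 11, 13, 11, 12, 8]⟩]⟩,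
 ⟨4, 6, 1634, [], [⟨1, 1633, []⟩], []⟩,
 ⟨7, 6, 164, [4, 7, 12, 13, 11, 4, 12, 3, 1, 0, 2, 1, 3, 2, 0], [], [⟨1, 163, [4, 7, 12, 13, 11, 4, 12]⟩, ⟨1, 134, []⟩, ⟨1, 135, []⟩, ⟨1, 134, []⟩, ⟨1, 307, [2, 4, 12, 11, 13, 11, 4, 11, 12, 8, 12]⟩, ⟨1, 86, []⟩, ⟨1, 87, []⟩, ⟨1, 86, []⟩, ⟨1, 90, []⟩, ⟨1, 90, []⟩, ⟨1, 90, []⟩, ⟨1, 717, [11, 2, 12, 7, 11, 12, 7, 13]⟩]⟩,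
 ⟨4, 6, 1636, [], [⟨1, 1635, []⟩], []⟩,
 ⟨7, 6, 164, [7, 13, 11, 4, 11, 12, 3, 1, 0, 2, 1, 3, 2, 0], [], [⟨1, 163, [7, 13, 11, 4, 11, 12]⟩, ⟨1, 135, []⟩, ⟨1, 134, []⟩, ⟨1, 514, [2, 4, 11, 12, 7, 12]⟩, ⟨1, 86, []⟩, ⟨1, 90, []⟩, ⟨1, 87, []⟩, ⟨1, 659, [0, 4, 7, 12, 13, 11, 4]⟩]⟩,
 ⟨4, 6, 1638, [], [⟨1, 1637, []⟩], []⟩,
 ⟨7, 6, 164, [4, 11, 12, 3, 1, 0, 2, 1, 3, 2, 0], [], [⟨1, 163, [4, 11, 12]⟩, ⟨1, 134, []⟩, ⟨1, 177, [0, 7, 11, 12, 11, 4]⟩, ⟨1, 135, []⟩, ⟨1, 1080, [4, 7, 12, 8, 11, 12, 11, 4, 13]⟩]⟩,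
 ⟨4, 6, 1640, [], [⟨1, 1639, []⟩], []⟩,
 ⟨8, 6, 164, [0, 4, 7, 11, 13, 11, 12, 0, 2, 3, 4, 2, 1, 2, 0, 1, 3, 2, 0], [], [⟨1, 163, [0, 4, 7, 11, 13, 11, 12]⟩, ⟨1, 1292, [13, 11, 12, 11, 4, 11, 13, 11]⟩, ⟨1, 135, []⟩, ⟨1, 134, []⟩, ⟨1, 1396, [4, 7, 11, 12, 11, 13, 11]⟩]⟩,
 ⟨4, 6, 1642, [], [⟨1, 1641, []⟩], []⟩,
 ⟨8, 6, 164, [8, 11, 4, 13, 11, 12, 0, 2, 3, 4, 2, 1, 2, 0, 1, 3, 2, 0], [], [⟨1, 163, [8, 11, 4, 13, 11, 12]⟩, ⟨1, 135, []⟩, ⟨1, 134, []⟩, ⟨1, 454, [0, 8, 11, 4, 12, 11, 12, 13, 11, 4]⟩, ⟨1, 86, []⟩, ⟨1, 87, []⟩, ⟨1, 90, []⟩, ⟨1, 437, [11, 12, 8, 12, 13, 11, 12]⟩]⟩,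
 ⟨4, 6, 1644, [], [⟨1, 1643, []⟩], []⟩,
 ⟨8, 6, 164, [4, 8, 11, 12, 0, 2, 3, 4, 2, 1, 2, 0, 1, 3, 2, 0], [], [⟨1, 163, [4, 8, 11, 12]⟩, ⟨1, 135, []⟩, ⟨1, 1216, [0, 11, 13, 11, 12, 8, 12, 11, 12, 13]⟩, ⟨1, 135, []⟩, ⟨1, 1617, [8, 11, 4, 12, 11, 4, 12, 7]⟩]⟩,
 ⟨4, 6, 1646, [], [⟨1, 1645, []⟩], []⟩,
 ⟨8, 6, 164, [0, 4, 12, 13, 11, 12, 0, 2, 3, 4, 2, 1, 2, 0, 1, 3, 2, 0], [], [⟨1, 163, [0, 4, 12, 13, 11, 12]⟩, ⟨1, 134, []⟩, ⟨1, 135, []⟩, ⟨1, 176, [4, 12, 13, 11, 12, 7, 11, 4, 13]⟩, ⟨1, 134, []⟩, ⟨1, 1406, [8, 11, 4, 11, 4, 13, 11, 12, 11, 13]⟩]⟩,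
 ⟨4, 6, 1648, [], [⟨1, 1647, []⟩], []⟩,
 ⟨8, 6, 164, [11, 12, 11, 4, 12, 0, 2, 3, 4, 2, 1, 2, 0, 1, 3, 2, 0], [], [⟨1, 163, [11, 12, 11, 4, 12]⟩, ⟨1, 162, [4, 7, 12, 11, 12, 13, 11, 4, 11, 4]⟩, ⟨1, 1385, [4, 7, 11, 4, 13, 11, 12, 8, 11, 13]⟩]⟩,
 ⟨4, 6, 1650, [], [⟨1, 1649, []⟩], []⟩,
 ⟨8, 6, 164, [4, 12, 11, 12, 0, 2, 3, 4, 2, 1, 2, 0, 1, 3, 2, 0], [], [⟨1, 163, [4, 12, 11, 12]⟩, ⟨1, 162, [4, 11, 4, 12, 11, 13, 11, 4, 12, 11, 12, 7]⟩, ⟨1, 1387, [7, 11, 13, 11, 12, 7, 11, 13]⟩]⟩,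
 ⟨4, 6, 1652, [], [⟨1, 1651, []⟩], []⟩,
 ⟨8, 6, 164, [11, 12, 0, 2, 3, 4, 2, 1, 2, 0, 1, 3, 2, 0], [], [⟨1, 163, [11, 12]⟩, ⟨1, 134, []⟩, ⟨1, 135, []⟩, ⟨1, 134, []⟩, ⟨1, 947, [4, 12, 7, 11, 4, 11, 12, 13, 11, 12]⟩, ⟨1, 134, []⟩, ⟨1, 941, [2, 11, 13, 11, 12, 11]⟩]⟩,
 ⟨4, 6, 1654, [], [⟨1, 1653, []⟩], []⟩,
 ⟨8, 6, 164, [2, 4, 11, 4, 12, 0, 2, 3, 4, 2, 1, 2, 0, 1, 3, 2, 0], [], [⟨1, 163, [2, 4, 11, 4, 12]⟩, ⟨1, 134, []⟩, ⟨1, 135, []⟩, ⟨1, 134, []⟩, ⟨1, 947, [0, 11, 12, 8, 11, 13, 11, 12, 8]⟩, ⟨1, 134, []⟩, ⟨1, 135, []⟩, ⟨1, 134, []⟩, ⟨1, 1621, [12, 7, 11, 2, 12, 8, 13, 11, 12, 11]⟩]⟩,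
 ⟨4, 6, 1656, [], [⟨1, 1655, []⟩], []⟩,
 ⟨8, 6, 164, [8, 11, 12, 11, 4, 0, 2, 3, 4, 2, 1, 2, 0, 1, 3, 2, 0], [], [⟨1, 163, [8, 11, 12, 11, 4]⟩, ⟨1, 135, []⟩, ⟨1, 1216, [11, 12, 11, 12, 8, 13, 11]⟩, ⟨1, 134, []⟩, ⟨1, 135, []⟩, ⟨1, 134, []⟩, ⟨1, 1457, [7, 13, 11, 4, 11, 4, 13]⟩]⟩,
 ⟨4, 6, 1658, [], [⟨1, 1657, []⟩], []⟩,
 ⟨8, 6, 164, [0, 4, 7, 12, 13, 0, 2, 3, 4, 2, 1, 2, 0, 1, 3, 2, 0], [], [⟨1, 163, [0, 4, 7, 12, 13]⟩, ⟨1, 1562, [7, 11, 4, 12, 11, 12, 8, 13]⟩, ⟨1, 135, []⟩, ⟨1, 1096, [0, 7, 12, 7, 11, 4, 11, 13, 11, 4, 11]⟩]⟩,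
 ⟨4, 6, 1660, [], [⟨1, 1659, []⟩], []⟩,
 ⟨8, 6, 164, [4, 11, 4, 11, 12, 0, 2, 3, 4, 2, 1, 2, 0, 1, 3, 2, 0], [], [⟨1, 163, [4, 11, 4, 11, 12]⟩, ⟨1, 134, []⟩, ⟨1, 135, []⟩, ⟨1, 134, []⟩, ⟨1, 947, [0, 7, 12, 11, 4, 12, 11, 13, 11]⟩, ⟨1, 134, []⟩, ⟨1, 1128, [4, 12, 7, 11, 4, 11, 12, 8, 13]⟩]⟩,
 ⟨4, 6, 1662, [], [⟨1, 1661, []⟩], []⟩,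
 ⟨8, 6, 164, [8, 11, 4, 11, 12, 13, 0, 2, 3, 4, 2, 1, 2, 0, 1, 3, 2, 0], [], [⟨1, 163, [8, 11, 4, 11, 12, 13]⟩, ⟨1, 134, []⟩, ⟨1, 135, []⟩, ⟨1, 1283, [2, 12, 7, 11, 4, 11, 12, 13, 11, 4]⟩, ⟨1, 135, []⟩, ⟨1, 1305, [4, 7, 11, 2, 12, 11, 13, 11, 12, 8, 11]⟩]⟩,
 ⟨4, 6, 1664, [], [⟨1, 1663, []⟩], []⟩,
 ⟨8, 6, 164, [0, 8, 11, 13, 11, 4, 12, 0, 2, 3, 4, 2, 1, 2, 0, 1, 3, 2, 0], [], [⟨1, 163, [0, 8, 11, 13, 11, 4, 12]⟩, ⟨1, 135, []⟩, ⟨1, 134, []⟩, ⟨1, 454, [0, 8, 11, 12, 11, 4, 13, 11]⟩, ⟨1, 87, []⟩, ⟨1, 90, []⟩, ⟨1, 90, []⟩, ⟨1, 451, [4, 11, 2, 12, 8, 11, 12, 13]⟩]⟩,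
 ⟨4, 6, 1666, [], [⟨1, 1665, []⟩], []⟩,
 ⟨8, 6, 164, [12, 11, 4, 11, 12, 0, 2, 3, 4, 2, 1, 2, 0, 1, 3, 2, 0], [], [⟨1, 163, [12, 11, 4, 11, 12]⟩, ⟨1, 162, [4, 8, 12, 11, 12, 8, 11, 4, 13]⟩, ⟨1, 1391, [7, 12, 8, 13, 11, 2, 12, 7, 11, 12, 13]⟩]⟩,
 ⟨4, 6, 1668, [], [⟨1, 1667, []⟩], []⟩,
 ⟨8, 6, 164, [2, 8, 11, 4, 12, 0, 2, 3, 4, 2, 1, 2, 0, 1, 3, 2, 0], [], [⟨1, 163, [2, 8, 11, 4, 12]⟩, ⟨1, 135, []⟩, ⟨1, 1216, [4, 12, 11, 13, 11, 4, 11, 4, 12, 8, 13]⟩, ⟨1, 135, []⟩, ⟨1, 1127, [2, 8, 11, 12, 11, 4, 13, 11, 12, 8]⟩]⟩,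
 ⟨8, 6, 164, [8, 13, 11, 12, 0, 2, 3, 4, 2, 1, 2, 0, 1, 3, 2, 0], [], [⟨1, 163, [8, 13, 11, 12]⟩, ⟨1, 134, []⟩, ⟨1, 135, []⟩, ⟨1, 1283, [0, 12, 7, 11, 12, 8, 11, 12, 7, 11, 12]⟩, ⟨1, 1058, [8, 12, 7, 11, 2, 4, 12, 11, 13]⟩]⟩,
 ⟨4, 6, 1671, [], [⟨1, 1670, []⟩], []⟩,
 ⟨8, 6, 164, [12, 13, 11, 12, 11, 4, 0, 2, 3, 4, 2, 1, 2, 0, 1, 3, 2, 0], [], [⟨1, 163, [12, 13, 11, 12, 11, 4]⟩, ⟨1, 134, []⟩, ⟨1, 135, []⟩, ⟨1, 176, [2, 7, 12, 7, 11, 12, 8, 11, 12]⟩, ⟨1, 134, []⟩, ⟨1, 1424, [4, 7, 11, 4, 13, 11, 12, 7, 11, 13]⟩]⟩,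
 ⟨4, 6, 1673, [], [⟨1, 1672, []⟩], []⟩]
theorem chk33 : and2 (D.chkL PF33 1627) (Nat.beq (Nat.add 1627 PF33.length) 1674) = true := by decide +kernel

def PF34 : List DPf := [⟨8, 6, 164, [7, 11, 13, 11, 12, 0, 2, 3, 4, 2, 1, 2, 0, 1, 3, 2, 0], [], [⟨1, 163, [7, 11, 13, 11, 12]⟩, ⟨1, 1292, [0, 2, 4, 13]⟩, ⟨1, 134, []⟩, ⟨1, 1452, [0, 11, 12, 11, 4, 11, 13, 11, 12, 8]⟩]⟩,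
 ⟨4, 6, 1675, [], [⟨1, 1674, []⟩], []⟩,
 ⟨8, 6, 164, [8, 11, 12, 13, 11, 4, 0, 2, 3, 4, 2, 1, 2, 0, 1, 3, 2, 0], [], [⟨1, 163, [8, 11, 12, 13, 11, 4]⟩, ⟨1, 135, []⟩, ⟨1, 134, []⟩, ⟨1, 454, [12, 8, 11, 12, 13, 11, 4, 11, 4, 13]⟩, ⟨1, 86, []⟩, ⟨1, 87, []⟩, ⟨1, 90, []⟩, ⟨1, 324, [2, 12, 7, 13, 11, 4, 12, 11, 12, 7, 13]⟩]⟩,
 ⟨4, 6, 1677, [], [⟨1, 1676, []⟩], []⟩,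
 ⟨8, 6, 164, [0, 12, 8, 11, 4, 12, 13, 0, 2, 3, 4, 2, 1, 2, 0, 1, 3, 2, 0], [], [⟨1, 163, [0, 12, 8, 11, 4, 12, 13]⟩, ⟨1, 135, []⟩, ⟨1, 134, []⟩, ⟨1, 454, [12, 8, 11, 13, 11, 12, 11, 13]⟩, ⟨1, 86, []⟩, ⟨1, 87, []⟩, ⟨1, 86, []⟩, ⟨1, 90, []⟩, ⟨1, 90, []⟩, ⟨1, 691, [2, 8, 12, 11, 12, 11, 4, 11]⟩]⟩,
 ⟨4, 6, 1679, [], [⟨1, 1678, []⟩], []⟩,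
 ⟨8, 6, 164, [4, 12, 7, 11, 12, 13, 0, 2, 3, 4, 2, 1, 2, 0, 1, 3, 2, 0], [], [⟨1, 163, [4, 12, 7, 11, 12, 13]⟩, ⟨1, 1292, [11, 4, 12, 11, 12, 11, 13]⟩, ⟨1, 134, []⟩, ⟨1, 839, [7, 11, 4, 13, 11, 12, 11, 12, 7]⟩]⟩,
 ⟨4, 6, 1681, [], [⟨1, 1680, []⟩], []⟩,
 ⟨8, 6, 164, [4, 12, 7, 11, 13, 11, 12, 0, 2, 3, 4, 2, 1, 2, 0, 1, 3, 2, 0], [], [⟨1, 163, [4, 12, 7, 11, 13, 11, 12]⟩, ⟨1, 1292, [0, 4, 7, 13, 11, 12, 8, 11]⟩, ⟨1, 134, []⟩, ⟨1, 135, []⟩, ⟨1, 134, []⟩, ⟨1, 1202, [8, 11, 4, 11, 12, 11, 12, 8]⟩]⟩,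
 ⟨4, 6, 1683, [], [⟨1, 1682, []⟩], []⟩,
 ⟨9, 6, 164, [4, 11, 12, 11, 13, 0, 2, 4, 1, 0, 2, 1, 3, 2, 0], [], [⟨1, 163, [4, 11, 12, 11, 13]⟩, ⟨1, 134, []⟩, ⟨1, 135, []⟩, ⟨1, 176, [7, 12, 13, 11, 4, 11, 12]⟩, ⟨1, 134, []⟩, ⟨1, 1404, [2, 4, 12, 7, 11, 12, 7, 11, 12, 7, 11]⟩]⟩,
 ⟨4, 6, 1685, [], [⟨1, 1684, []⟩], []⟩,
 ⟨9, 6, 164, [4, 8, 11, 4, 12, 11, 12, 0, 2, 4, 1, 0, 2, 1, 3, 2, 0], [], [⟨1, 163, [4, 8, 11, 4, 12, 11, 12]⟩, ⟨1, 149, [13, 11, 12, 7, 12, 11, 12, 7]⟩, ⟨1, 43, []⟩, ⟨1, 41, []⟩, ⟨1, 68, []⟩, ⟨1, 583, [4, 12, 7, 13, 11, 12, 7, 11, 4]⟩]⟩,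
 ⟨4, 6, 1687, [], [⟨1, 1686, []⟩], []⟩,
 ⟨9, 6, 164, [4, 11, 4, 12, 11, 12, 0, 2, 4, 1, 0, 2, 1, 3, 2, 0], [], [⟨1, 163, [4, 11, 4, 12, 11, 12]⟩, ⟨1, 149, [12, 7, 13]⟩, ⟨1, 39, []⟩, ⟨1, 43, []⟩, ⟨1, 42, []⟩, ⟨1, 40, []⟩, ⟨1, 46, []⟩, ⟨1, 46, []⟩, ⟨1, 68, []⟩, ⟨1, 370, [2, 7, 11, 4, 11, 4, 12, 13, 11]⟩]⟩,
 ⟨4, 6, 1689, [], [⟨1, 1688, []⟩], []⟩,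
 ⟨9, 6, 164, [8, 11, 4, 11, 12, 0, 2, 4, 1, 0, 2, 1, 3, 2, 0], [], [⟨1, 163, [8, 11, 4, 11, 12]⟩, ⟨1, 135, []⟩, ⟨1, 1216, [0, 4, 12, 7, 11, 13, 11, 12, 7, 11, 12]⟩, ⟨1, 134, []⟩, ⟨1, 878, [4, 12, 11, 4, 11, 13, 11, 12, 8, 11]⟩]⟩,
 ⟨4, 6, 1691, [], [⟨1, 1690, []⟩], []⟩,
 ⟨9, 6, 164, [4, 8, 11, 4, 12, 11, 13, 0, 2, 4, 1, 0, 2, 1, 3, 2, 0], [], [⟨1, 163, [4, 8, 11, 4, 12, 11, 13]⟩, ⟨1, 134, []⟩, ⟨1, 135, []⟩, ⟨1, 176, [2, 4, 8, 12, 11, 4, 11, 12, 13]⟩, ⟨1, 134, []⟩, ⟨1, 1334, [2, 12, 11, 12, 8, 11]⟩]⟩,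
 ⟨4, 6, 1693, [], [⟨1, 1692, []⟩], []⟩,
 ⟨9, 6, 164, [8, 11, 4, 12, 13, 0, 2, 4, 1, 0, 2, 1, 3, 2, 0], [], [⟨1, 163, [8, 11, 4, 12, 13]⟩, ⟨1, 135, []⟩, ⟨1, 134, []⟩, ⟨1, 454, [2, 4, 12, 8, 11, 13, 11, 4, 11, 12]⟩, ⟨1, 87, []⟩, ⟨1, 86, []⟩, ⟨1, 90, []⟩, ⟨1, 86, []⟩, ⟨1, 513, [7, 12, 7, 11, 13, 11, 12, 11, 12]⟩]⟩,
 ⟨4, 6, 1695, [], [⟨1, 1694, []⟩], []⟩,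
 ⟨9, 6, 164, [4, 7, 12, 11, 4, 12, 0, 2, 4, 1, 0, 2, 1, 3, 2, 0], [], [⟨1, 163, [4, 7, 12, 11, 4, 12]⟩, ⟨1, 149, [2, 7, 11, 12, 8, 12, 11, 12, 13, 11]⟩, ⟨1, 39, []⟩, ⟨1, 41, []⟩, ⟨1, 68, []⟩, ⟨1, 777, [0, 7, 11, 12, 8, 12, 13, 11, 4, 11, 13]⟩]⟩,
 ⟨4, 6, 1697, [], [⟨1, 1696, []⟩], []⟩,
 ⟨12, 6, 164, [7, 11, 4, 12, 13, 11, 4, 12, 0, 2, 3, 1, 0, 2, 1, 2, 4, 3, 2, 0, 2, 0], [], [⟨1, 163, [7, 11, 4, 12, 13, 11, 4, 12]⟩, ⟨1, 135, []⟩, ⟨1, 644, [0, 8, 12, 8, 11, 4, 13, 11, 4, 11, 13]⟩, ⟨1, 86, []⟩, ⟨1, 87, []⟩, ⟨1, 90, []⟩, ⟨1, 90, []⟩, ⟨1, 90, []⟩, ⟨1, 715, [7, 12, 8, 11, 2, 13, 11, 4, 11]⟩]⟩,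
 ⟨4, 6, 1699, [], [⟨1, 1698, []⟩], []⟩,
 ⟨12, 6, 164, [4, 11, 13, 11, 12, 0, 2, 3, 1, 0, 2, 1, 2, 4, 3, 2, 0, 2, 0], [], [⟨1, 163, [4, 11, 13, 11, 12]⟩, ⟨1, 134, []⟩, ⟨1, 570, [0, 8, 12, 8, 11, 4, 11, 13, 11]⟩, ⟨1, 86, []⟩, ⟨1, 87, []⟩, ⟨1, 90, []⟩, ⟨1, 86, []⟩, ⟨1, 90, []⟩, ⟨1, 405, [8, 11, 4, 12, 11, 13, 11, 12, 7]⟩]⟩,
 ⟨4, 6, 1701, [], [⟨1, 1700, []⟩], []⟩,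
 ⟨12, 6, 164, [4, 11, 4, 11, 12, 13, 0, 2, 3, 1, 0, 2, 1, 2, 4, 3, 2, 0, 2, 0], [], [⟨1, 163, [4, 11, 4, 11, 12, 13]⟩, ⟨1, 134, []⟩, ⟨1, 135, []⟩, ⟨1, 134, []⟩, ⟨1, 660, [7, 11, 4, 12, 8, 13, 11, 4, 11, 13]⟩, ⟨1, 87, []⟩, ⟨1, 425, [0, 4, 7, 12, 11, 12, 7, 12, 11, 4, 11]⟩]⟩,
 ⟨4, 6, 1703, [], [⟨1, 1702, []⟩], []⟩,
 ⟨12, 6, 164, [0, 7, 12, 13, 11, 4, 0, 2, 3, 1, 0, 2, 1, 2, 4, 3, 2, 0, 2, 0], [], [⟨1, 163, [0, 7, 12, 13, 11, 4]⟩, ⟨1, 135, []⟩, ⟨1, 702, [7, 12, 8, 11, 12, 7, 11, 13]⟩, ⟨1, 86, []⟩, ⟨1, 87, []⟩, ⟨1, 90, []⟩, ⟨1, 86, []⟩, ⟨1, 90, []⟩, ⟨1, 791, [4, 12, 11, 4, 11, 12, 7, 13, 11]⟩]⟩,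
 ⟨4, 6, 1705, [], [⟨1, 1704, []⟩], []⟩,
 ⟨12, 6, 164, [0, 8, 11, 12, 13, 11, 12, 0, 2, 3, 1, 0, 2, 1, 2, 4, 3, 2, 0, 2, 0], [], [⟨1, 163, [0, 8, 11, 12, 13, 11, 12]⟩, ⟨1, 134, []⟩, ⟨1, 135, []⟩, ⟨1, 1409, [2, 12, 7, 11, 13, 11, 12, 8, 12, 11]⟩, ⟨1, 134, []⟩, ⟨1, 1637, [4, 12, 11, 4, 12, 13, 11, 4, 12, 11, 13]⟩]⟩,
 ⟨4, 6, 1707, [], [⟨1, 1706, []⟩], []⟩,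
 ⟨12, 6, 164, [0, 8, 11, 12, 13, 0, 2, 3, 1, 0, 2, 1, 2, 4, 3, 2, 0, 2, 0], [], [⟨1, 163, [0, 8, 11, 12, 13]⟩, ⟨1, 134, []⟩, ⟨1, 135, []⟩, ⟨1, 414, [2, 12, 8, 13, 11, 4, 12, 11, 4, 13]⟩, ⟨1, 86, []⟩, ⟨1, 87, []⟩, ⟨1, 86, []⟩, ⟨1, 90, []⟩, ⟨1, 90, []⟩, ⟨1, 471, [7, 11, 4, 12, 11, 4, 13]⟩]⟩,
 ⟨4, 6, 1709, [], [⟨1, 1708, []⟩], []⟩,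
 ⟨12, 6, 164, [0, 8, 12, 7, 13, 11, 12, 0, 2, 3, 1, 0, 2, 1, 2, 4, 3, 2, 0, 2, 0], [], [⟨1, 163, [0, 8, 12, 7, 13, 11, 12]⟩, ⟨1, 134, []⟩, ⟨1, 135, []⟩, ⟨1, 134, []⟩, ⟨1, 1313, [12, 8, 12, 11, 13, 11, 12, 11]⟩, ⟨1, 134, []⟩, ⟨1, 135, []⟩, ⟨1, 134, []⟩, ⟨1, 1000, [0, 8, 11, 4, 11, 12, 13, 11, 4]⟩]⟩,
 ⟨4, 6, 1711, [], [⟨1, 1710, []⟩], []⟩,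
 ⟨12, 6, 164, [11, 4, 11, 12, 11, 13, 11, 4, 0, 2, 3, 1, 0, 2, 1, 2, 4, 3, 2, 0, 2, 0], [], [⟨1, 163, [11, 4, 11, 12, 11, 13, 11, 4]⟩, ⟨1, 134, []⟩, ⟨1, 135, []⟩, ⟨1, 134, []⟩, ⟨1, 301, [8, 12, 11, 2, 12, 7, 12, 11, 13, 11]⟩, ⟨1, 86, []⟩, ⟨1, 87, []⟩, ⟨1, 86, []⟩, ⟨1, 90, []⟩, ⟨1, 86, []⟩, ⟨1, 90, []⟩, ⟨1, 681, [7, 12, 8, 11, 12, 11, 12, 8, 13]⟩]⟩,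
 ⟨4, 6, 1713, [], [⟨1, 1712, []⟩], []⟩,
 ⟨12, 6, 164, [4, 7, 12, 11, 12, 0, 2, 3, 1, 0, 2, 1, 2, 4, 3, 2, 0, 2, 0], [], [⟨1, 163, [4, 7, 12, 11, 12]⟩, ⟨1, 566, [7, 11, 4, 11, 4, 12, 11, 4, 13]⟩, ⟨1, 86, []⟩, ⟨1, 87, []⟩, ⟨1, 86, []⟩, ⟨1, 415, [0, 11, 4, 12, 11, 4, 13]⟩]⟩,
 ⟨4, 6, 1715, [], [⟨1, 1714, []⟩], []⟩,
 ⟨12, 6, 164, [0, 7, 12, 11, 4, 13, 0, 2, 3, 1, 0, 2, 1, 2, 4, 3, 2, 0, 2, 0], [], [⟨1, 163, [0, 7, 12, 11, 4, 13]⟩, ⟨1, 134, []⟩, ⟨1, 444, [0, 7, 11, 12, 8, 11, 4, 11, 13, 11]⟩, ⟨1, 86, []⟩, ⟨1, 87, []⟩, ⟨1, 86, []⟩, ⟨1, 90, []⟩, ⟨1, 90, []⟩, ⟨1, 709, [11, 4, 12, 11, 4, 12, 13, 11, 12, 7]⟩]⟩,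
 ⟨4, 6, 1717, [], [⟨1, 1716, []⟩], []⟩]
theorem chk34 : and2 (D.chkL PF34 1674) (Nat.beq (Nat.add 1674 PF34.length) 1718) = true := by decide +kernel

def PF35 : List DPf := [⟨12, 6, 164, [0, 8, 11, 4, 13, 11, 12, 0, 2, 3, 1, 0, 2, 1, 2, 4, 3, 2, 0, 2, 0], [], [⟨1, 163, [0, 8, 11, 4, 13, 11, 12]⟩, ⟨1, 134, []⟩, ⟨1, 135, []⟩, ⟨1, 907, [0, 12, 11, 13, 11, 12, 8, 11, 4, 13]⟩, ⟨1, 134, []⟩, ⟨1, 1101, [0, 12, 7, 12, 13, 11, 12, 8, 11, 12, 13]⟩]⟩,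
 ⟨4, 6, 1719, [], [⟨1, 1718, []⟩], []⟩,
 ⟨12, 6, 164, [8, 12, 11, 13, 11, 4, 12, 0, 2, 3, 1, 0, 2, 1, 2, 4, 3, 2, 0, 2, 0], [], [⟨1, 163, [8, 12, 11, 13, 11, 4, 12]⟩, ⟨1, 135, []⟩, ⟨1, 134, []⟩, ⟨1, 253, [0, 11, 4, 13, 11, 12, 11, 4, 12, 8]⟩, ⟨1, 43, []⟩, ⟨1, 41, []⟩, ⟨1, 40, []⟩, ⟨1, 46, []⟩, ⟨1, 46, []⟩, ⟨1, 68, []⟩, ⟨1, 68, []⟩, ⟨1, 236, [8, 11, 12, 7, 11, 13, 11, 12, 7]⟩]⟩,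
 ⟨4, 6, 1721, [], [⟨1, 1720, []⟩], []⟩,
 ⟨13, 6, 164, [8, 11, 4, 11, 12, 13, 0, 2, 3, 1, 2, 0, 1, 3, 2, 0], [], [⟨1, 163, [8, 11, 4, 11, 12, 13]⟩, ⟨1, 134, []⟩, ⟨1, 135, []⟩, ⟨1, 1283, [2, 12, 7, 11, 4, 11, 12, 11, 13]⟩, ⟨1, 134, []⟩, ⟨1, 135, []⟩, ⟨1, 134, []⟩, ⟨1, 1682, [13]⟩]⟩,
 ⟨4, 6, 1723, [], [⟨1, 1722, []⟩], []⟩,
 ⟨13, 6, 164, [0, 8, 11, 4, 13, 11, 12, 0, 2, 3, 1, 2, 0, 1, 3, 2, 0], [], [⟨1, 163, [0, 8, 11, 4, 13, 11, 12]⟩, ⟨1, 135, []⟩, ⟨1, 134, []⟩, ⟨1, 454, [8, 11, 4, 11, 12, 11, 12, 13, 11]⟩, ⟨1, 86, []⟩, ⟨1, 90, []⟩, ⟨1, 90, []⟩, ⟨1, 791, [2, 4, 8, 12, 11, 13, 11, 4, 12, 8]⟩]⟩,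
 ⟨4, 6, 1725, [], [⟨1, 1724, []⟩], []⟩,
 ⟨13, 6, 164, [12, 8, 13, 11, 12, 0, 2, 3, 1, 2, 0, 1, 3, 2, 0], [], [⟨1, 163, [12, 8, 13, 11, 12]⟩, ⟨1, 1562, [12, 8, 11, 2, 12, 7, 11, 12, 8, 11, 12]⟩, ⟨1, 1191, [2, 8, 11, 12, 8, 13, 11, 12]⟩]⟩,
 ⟨4, 6, 1727, [], [⟨1, 1726, []⟩], []⟩,
 ⟨13, 6, 164, [8, 11, 12, 13, 11, 4, 0, 2, 3, 1, 2, 0, 1, 3, 2, 0], [], [⟨1, 163, [8, 11, 12, 13, 11, 4]⟩, ⟨1, 135, []⟩, ⟨1, 134, []⟩, ⟨1, 454, [12, 8, 11, 12, 13, 11, 4]⟩, ⟨1, 86, []⟩, ⟨1, 90, []⟩, ⟨1, 609, [4, 8, 11, 12, 8, 13, 11, 4, 12]⟩]⟩,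
 ⟨4, 6, 1729, [], [⟨1, 1728, []⟩], []⟩,
 ⟨13, 6, 164, [0, 12, 7, 13, 11, 12, 0, 2, 3, 1, 2, 0, 1, 3, 2, 0], [], [⟨1, 163, [0, 12, 7, 13, 11, 12]⟩, ⟨1, 134, []⟩, ⟨1, 135, []⟩, ⟨1, 134, []⟩, ⟨1, 1601, [2, 8, 12, 7, 11, 13, 11, 12, 11, 4]⟩, ⟨1, 135, []⟩, ⟨1, 1370, [7, 11, 13, 11, 12, 7, 11, 4, 12, 8, 13]⟩]⟩,
 ⟨4, 6, 1731, [], [⟨1, 1730, []⟩], []⟩,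
 ⟨13, 6, 164, [7, 11, 12, 8, 13, 11, 12, 0, 2, 3, 1, 2, 0, 1, 3, 2, 0], [], [⟨1, 163, [7, 11, 12, 8, 13, 11, 12]⟩, ⟨1, 135, []⟩, ⟨1, 134, []⟩, ⟨1, 454, [4, 12, 11, 13, 11, 12, 7, 11, 12]⟩, ⟨1, 90, []⟩, ⟨1, 90, []⟩, ⟨1, 90, []⟩, ⟨1, 86, []⟩, ⟨1, 475, [2, 4, 11, 13, 11, 4, 12, 7, 11, 13]⟩]⟩,
 ⟨4, 6, 1733, [], [⟨1, 1732, []⟩], []⟩,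
 ⟨13, 6, 164, [8, 13, 11, 12, 7, 11, 12, 0, 2, 3, 1, 2, 0, 1, 3, 2, 0], [], [⟨1, 163, [8, 13, 11, 12, 7, 11, 12]⟩, ⟨1, 1562, [0, 12, 11, 12, 7]⟩, ⟨1, 135, []⟩, ⟨1, 134, []⟩, ⟨1, 1692, [7, 12, 7, 11, 4, 12, 11, 13, 11]⟩]⟩,
 ⟨4, 6, 1735, [], [⟨1, 1734, []⟩], []⟩,
 ⟨17, 6, 164, [7, 11, 12, 8, 13, 5, 5, 3, 6, 6, 2, 0], [], [⟨1, 163, [7, 11, 12, 8, 13]⟩, ⟨1, 134, []⟩, ⟨1, 1671, [7, 12, 13, 11, 12, 7, 11, 12]⟩, ⟨1, 134, []⟩, ⟨1, 135, []⟩, ⟨1, 134, []⟩, ⟨1, 1590, [0, 12, 11, 4, 11, 13, 11, 4, 11]⟩]⟩,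
 ⟨4, 6, 1737, [], [⟨1, 1736, []⟩], []⟩,
 ⟨17, 6, 164, [4, 7, 5, 5, 3, 6, 6, 2, 0], [], [⟨1, 163, [4, 7]⟩, ⟨1, 134, []⟩, ⟨1, 1338, [2, 12, 11, 12, 7, 13, 11, 12, 8]⟩, ⟨1, 134, []⟩, ⟨1, 135, []⟩, ⟨1, 1228, [2, 13, 11, 12, 8, 11, 4]⟩]⟩,
 ⟨4, 6, 1739, [], [⟨1, 1738, []⟩], []⟩,
 ⟨17, 6, 164, [4, 8, 12, 5, 5, 3, 6, 6, 2, 0], [], [⟨1, 163, [4, 8, 12]⟩, ⟨1, 135, []⟩, ⟨1, 134, []⟩, ⟨1, 893, [4, 8, 13, 11, 12, 7, 11, 4, 11]⟩, ⟨1, 134, []⟩, ⟨1, 135, []⟩, ⟨1, 897, [0, 11, 13, 11, 4, 11, 12, 8, 11, 13]⟩]⟩,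
 ⟨4, 6, 1741, [], [⟨1, 1740, []⟩], []⟩,
 ⟨17, 6, 164, [7, 11, 12, 8, 12, 13, 5, 5, 3, 6, 6, 2, 0], [], [⟨1, 163, [7, 11, 12, 8, 12, 13]⟩, ⟨1, 134, []⟩, ⟨1, 135, []⟩, ⟨1, 1168, [11, 12, 8, 11, 13, 11, 4, 11]⟩, ⟨1, 1589, [0, 4, 7, 12, 13, 11, 4, 11, 12, 8]⟩]⟩,
 ⟨4, 6, 1743, [], [⟨1, 1742, []⟩], []⟩,
 ⟨17, 6, 164, [7, 11, 4, 12, 8, 13, 5, 5, 3, 6, 6, 2, 0], [], [⟨1, 163, [7, 11, 4, 12, 8, 13]⟩, ⟨1, 135, []⟩, ⟨1, 134, []⟩, ⟨1, 600, [4, 8, 12, 7, 11, 4, 11, 13, 11, 4, 11]⟩, ⟨1, 39, []⟩, ⟨1, 42, []⟩, ⟨1, 46, []⟩, ⟨1, 46, []⟩, ⟨1, 286, [8, 12, 7, 11, 2]⟩]⟩,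
 ⟨4, 6, 1745, [], [⟨1, 1744, []⟩], []⟩,
 ⟨17, 6, 164, [4, 7, 12, 5, 5, 3, 6, 6, 2, 0], [], [⟨1, 163, [4, 7, 12]⟩, ⟨1, 1552, [11, 12, 8, 11, 12, 7, 11, 12, 8]⟩, ⟨1, 134, []⟩, ⟨1, 135, []⟩, ⟨1, 1227, [11, 4, 11, 13, 11, 12, 7, 11, 12]⟩]⟩,
 ⟨4, 6, 1747, [], [⟨1, 1746, []⟩], []⟩,
 ⟨17, 6, 164, [11, 4, 12, 8, 13, 5, 5, 3, 6, 6, 2, 0], [], [⟨1, 163, [11, 4, 12, 8, 13]⟩, ⟨1, 1685, [11, 4, 11, 12, 7, 12]⟩, ⟨1, 134, []⟩, ⟨1, 1002, [4, 7, 11, 4, 11, 12, 8, 11, 12, 11, 4]⟩]⟩,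
 ⟨4, 6, 1749, [], [⟨1, 1748, []⟩], []⟩,
 ⟨17, 6, 164, [4, 12, 8, 5, 5, 3, 6, 6, 2, 0], [], [⟨1, 163, [4, 12, 8]⟩, ⟨1, 135, []⟩, ⟨1, 1662, [12, 11, 12, 11]⟩, ⟨1, 134, []⟩, ⟨1, 135, []⟩, ⟨1, 833, [0, 4, 7, 12, 8, 11, 4, 12, 13, 11]⟩]⟩,
 ⟨4, 6, 1751, [], [⟨1, 1750, []⟩], []⟩,
 ⟨5, 6, 166, [7, 12, 13, 3, 2, 0], [], [⟨1, 165, [7, 12, 13]⟩, ⟨1, 134, []⟩, ⟨1, 1393, [2, 13, 11, 4, 11, 12, 8, 11, 4]⟩, ⟨1, 134, []⟩, ⟨1, 135, []⟩, ⟨1, 134, []⟩, ⟨1, 1016, [4, 13, 11, 12, 7, 12, 11, 4]⟩]⟩,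
 ⟨4, 6, 1753, [], [⟨1, 1752, []⟩], []⟩,
 ⟨6, 6, 166, [4, 8, 12, 13, 0, 2, 4, 3, 2, 0], [], [⟨1, 165, [4, 8, 12, 13]⟩, ⟨1, 135, []⟩, ⟨1, 134, []⟩, ⟨1, 1196, [4, 7, 13, 11, 12, 7, 11, 4, 12]⟩, ⟨1, 1678, [4, 7, 11, 2, 4, 12, 13, 11, 12, 8]⟩]⟩,
 ⟨4, 6, 1755, [], [⟨1, 1754, []⟩], []⟩,
 ⟨7, 6, 166, [12, 13, 11, 4, 3, 1, 0, 2, 1, 3, 2, 0], [], [⟨1, 165, [12, 13, 11, 4]⟩, ⟨1, 134, []⟩, ⟨1, 135, []⟩, ⟨1, 134, []⟩, ⟨1, 265, [0, 12, 13, 11, 4, 12, 8]⟩, ⟨1, 86, []⟩, ⟨1, 90, []⟩, ⟨1, 90, []⟩, ⟨1, 86, []⟩, ⟨1, 90, []⟩, ⟨1, 413, [7, 12, 8, 11, 12, 8, 13, 11, 12]⟩]⟩,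
 ⟨4, 6, 1757, [], [⟨1, 1756, []⟩], []⟩,
 ⟨7, 6, 166, [0, 4, 11, 12, 13, 3, 1, 0, 2, 1, 3, 2, 0], [], [⟨1, 165, [0, 4, 11, 12, 13]⟩, ⟨1, 134, []⟩, ⟨1, 524, [2, 4, 8, 11, 12, 11]⟩, ⟨1, 90, []⟩, ⟨1, 90, []⟩, ⟨1, 86, []⟩, ⟨1, 264, [4, 7, 11, 2, 12, 7, 11, 13]⟩]⟩,
 ⟨7, 6, 166, [7, 12, 13, 11, 12, 3, 1, 0, 2, 1, 3, 2, 0], [], [⟨1, 165, [7, 12, 13, 11, 12]⟩, ⟨1, 135, []⟩, ⟨1, 134, []⟩, ⟨1, 642, [2, 12, 11, 12, 7, 11, 4, 11]⟩, ⟨1, 87, []⟩, ⟨1, 86, []⟩, ⟨1, 296, [2, 7, 12, 8, 11, 4, 12, 11]⟩]⟩,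
 ⟨4, 6, 1760, [], [⟨1, 1759, []⟩], []⟩,
 ⟨7, 6, 166, [4, 7, 12, 13, 3, 1, 0, 2, 1, 3, 2, 0], [], [⟨1, 165, [4, 7, 12, 13]⟩, ⟨1, 134, []⟩, ⟨1, 135, []⟩, ⟨1, 134, []⟩, ⟨1, 1678, [2, 8, 11, 4, 12, 11, 4, 12, 13]⟩, ⟨1, 1298, [7, 11, 12, 11, 12, 8, 12, 11]⟩]⟩,
 ⟨4, 6, 1762, [], [⟨1, 1761, []⟩], []⟩,
 ⟨7, 6, 166, [4, 3, 1, 0, 2, 1, 3, 2, 0], [], [⟨1, 165, [4]⟩, ⟨1, 135, []⟩, ⟨1, 1394, [2, 4, 7, 12, 8, 11, 12, 8, 11]⟩, ⟨1, 134, []⟩, ⟨1, 135, []⟩, ⟨1, 134, []⟩, ⟨1, 1678, [12, 7, 13, 11, 2, 4, 11, 12, 13]⟩]⟩,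
 ⟨4, 6, 1764, [], [⟨1, 1763, []⟩], []⟩]
theorem chk35 : and2 (D.chkL PF35 1718) (Nat.beq (Nat.add 1718 PF35.length) 1765) = true := by decide +kernel

def PF36 : List DPf := [⟨7, 6, 166, [4, 7, 13, 11, 4, 12, 3, 1, 0, 2, 1, 3, 2, 0], [], [⟨1, 165, [4, 7, 13, 11, 4, 12]⟩, ⟨1, 134, []⟩, ⟨1, 1293, [4, 7, 11, 12, 7, 11, 4, 11, 12, 11]⟩, ⟨1, 1685, [0, 4, 8, 11, 4, 13, 11, 12, 7, 11, 12]⟩]⟩,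
 ⟨4, 6, 1766, [], [⟨1, 1765, []⟩], []⟩,
 ⟨7, 6, 166, [4, 13, 11, 12, 3, 1, 0, 2, 1, 3, 2, 0], [], [⟨1, 165, [4, 13, 11, 12]⟩, ⟨1, 134, []⟩, ⟨1, 135, []⟩, ⟨1, 373, [4, 8, 11, 13, 11, 4, 12, 11, 4, 11]⟩, ⟨1, 39, []⟩, ⟨1, 41, []⟩, ⟨1, 40, []⟩, ⟨1, 68, []⟩, ⟨1, 288, [4, 12, 7, 11, 13, 11, 4, 12, 11, 4]⟩]⟩,
 ⟨4, 6, 1768, [], [⟨1, 1767, []⟩], []⟩,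
 ⟨7, 6, 166, [13, 11, 4, 11, 12, 3, 1, 0, 2, 1, 3, 2, 0], [], [⟨1, 165, [13, 11, 4, 11, 12]⟩, ⟨1, 134, []⟩, ⟨1, 147, [8, 12, 8, 13, 11, 12, 7]⟩, ⟨1, 39, []⟩, ⟨1, 43, []⟩, ⟨1, 42, []⟩, ⟨1, 286, [12, 7, 13, 11, 4, 11, 12, 7, 13, 11]⟩]⟩,
 ⟨4, 6, 1770, [], [⟨1, 1769, []⟩], []⟩,
 ⟨7, 6, 166, [4, 11, 12, 13, 11, 4, 3, 1, 0, 2, 1, 3, 2, 0], [], [⟨1, 165, [4, 11, 12, 13, 11, 4]⟩, ⟨1, 171, [13, 11, 4, 12, 8, 11, 12, 11, 13, 11]⟩, ⟨1, 135, []⟩, ⟨1, 1088, [8, 11, 12, 11, 4, 11, 12, 8, 13]⟩]⟩,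
 ⟨4, 6, 1772, [], [⟨1, 1771, []⟩], []⟩,
 ⟨7, 6, 166, [4, 8, 11, 4, 12, 13, 3, 1, 0, 2, 1, 3, 2, 0], [], [⟨1, 165, [4, 8, 11, 4, 12, 13]⟩, ⟨1, 1134, [11, 4, 11, 12, 7, 12, 11, 12, 7]⟩, ⟨1, 135, []⟩, ⟨1, 134, []⟩, ⟨1, 974, [8, 12, 11, 2, 4, 12]⟩]⟩,
 ⟨4, 6, 1774, [], [⟨1, 1773, []⟩], []⟩,
 ⟨7, 6, 166, [0, 8, 11, 12, 13, 3, 1, 0, 2, 1, 3, 2, 0], [], [⟨1, 165, [0, 8, 11, 12, 13]⟩, ⟨1, 134, []⟩, ⟨1, 135, []⟩, ⟨1, 134, []⟩, ⟨1, 1229, [0, 7, 12, 11, 13]⟩, ⟨1, 135, []⟩, ⟨1, 134, []⟩, ⟨1, 1773, [0, 4, 11, 13, 11, 12, 11, 13]⟩]⟩,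
 ⟨4, 6, 1776, [], [⟨1, 1775, []⟩], []⟩,
 ⟨7, 6, 166, [4, 7, 12, 8, 13, 11, 12, 3, 1, 0, 2, 1, 3, 2, 0], [], [⟨1, 165, [4, 7, 12, 8, 13, 11, 12]⟩, ⟨1, 134, []⟩, ⟨1, 434, [2, 8, 12, 7, 11, 12, 8, 13, 11, 12]⟩, ⟨1, 86, []⟩, ⟨1, 87, []⟩, ⟨1, 338, [2, 11, 4, 11, 12, 8, 12, 13, 11, 4, 11]⟩]⟩,
 ⟨4, 6, 1778, [], [⟨1, 1777, []⟩], []⟩,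
 ⟨7, 6, 166, [4, 11, 12, 7, 11, 12, 13, 3, 1, 0, 2, 1, 3, 2, 0], [], [⟨1, 165, [4, 11, 12, 7, 11, 12, 13]⟩, ⟨1, 161, [0, 8, 12, 8, 11, 4, 12, 13, 11, 12]⟩, ⟨1, 1546, [12, 11, 4, 13, 11, 4, 11, 12]⟩]⟩,
 ⟨4, 6, 1780, [], [⟨1, 1779, []⟩], []⟩,
 ⟨7, 6, 166, [11, 12, 13, 11, 12, 3, 1, 0, 2, 1, 3, 2, 0], [], [⟨1, 165, [11, 12, 13, 11, 12]⟩, ⟨1, 135, []⟩, ⟨1, 817, [4, 12, 7, 11, 13, 11, 12, 8, 12]⟩, ⟨1, 135, []⟩, ⟨1, 1444, [11, 12, 7, 13, 11, 12, 8]⟩]⟩,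
 ⟨4, 6, 1782, [], [⟨1, 1781, []⟩], []⟩,
 ⟨7, 6, 166, [2, 12, 8, 11, 12, 3, 1, 0, 2, 1, 3, 2, 0], [], [⟨1, 165, [2, 12, 8, 11, 12]⟩, ⟨1, 134, []⟩, ⟨1, 135, []⟩, ⟨1, 416, [0, 4, 8, 12, 7, 11, 4, 13, 11]⟩, ⟨1, 86, []⟩, ⟨1, 87, []⟩, ⟨1, 86, []⟩, ⟨1, 90, []⟩, ⟨1, 86, []⟩, ⟨1, 90, []⟩, ⟨1, 569, [2, 8, 11, 13]⟩]⟩,
 ⟨4, 6, 1784, [], [⟨1, 1783, []⟩], []⟩,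
 ⟨7, 6, 166, [7, 13, 11, 4, 11, 12, 3, 1, 0, 2, 1, 3, 2, 0], [], [⟨1, 165, [7, 13, 11, 4, 11, 12]⟩, ⟨1, 134, []⟩, ⟨1, 135, []⟩, ⟨1, 134, []⟩, ⟨1, 652, [13, 11, 4, 11, 12, 11, 12, 7]⟩, ⟨1, 90, []⟩, ⟨1, 651, [7, 11, 2, 12, 8, 11, 4, 12, 13, 11]⟩]⟩,
 ⟨4, 6, 1786, [], [⟨1, 1785, []⟩], []⟩,
 ⟨7, 6, 166, [0, 7, 13, 11, 12, 3, 1, 0, 2, 1, 3, 2, 0], [], [⟨1, 165, [0, 7, 13, 11, 12]⟩, ⟨1, 134, []⟩, ⟨1, 135, []⟩, ⟨1, 1479, [12, 11, 4, 11, 12, 13, 11, 4, 11]⟩, ⟨1, 134, []⟩, ⟨1, 947, [4, 7, 12, 13, 11, 4, 11, 12, 11]⟩]⟩,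
 ⟨4, 6, 1788, [], [⟨1, 1787, []⟩], []⟩,
 ⟨8, 6, 166, [2, 11, 12, 11, 4, 0, 2, 3, 4, 2, 1, 2, 0, 1, 3, 2, 0], [], [⟨1, 165, [2, 11, 12, 11, 4]⟩, ⟨1, 1117, [4, 8, 11, 2, 13, 11, 4, 11, 12, 7]⟩, ⟨1, 134, []⟩, ⟨1, 135, []⟩, ⟨1, 134, []⟩, ⟨1, 1564, [7, 11, 4, 11, 13, 11, 4, 12, 11]⟩]⟩,
 ⟨4, 6, 1790, [], [⟨1, 1789, []⟩], []⟩,
 ⟨8, 6, 166, [7, 12, 8, 13, 11, 12, 0, 2, 3, 4, 2, 1, 2, 0, 1, 3, 2, 0], [], [⟨1, 165, [7, 12, 8, 13, 11, 12]⟩, ⟨1, 135, []⟩, ⟨1, 134, []⟩, ⟨1, 1196, [0, 13, 11, 12, 7, 11, 12, 11, 12, 13]⟩, ⟨1, 134, []⟩, ⟨1, 829, [4, 7, 12, 11, 12, 8, 11, 13]⟩]⟩,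
 ⟨4, 6, 1792, [], [⟨1, 1791, []⟩], []⟩,
 ⟨8, 6, 166, [4, 12, 8, 11, 12, 13, 0, 2, 3, 4, 2, 1, 2, 0, 1, 3, 2, 0], [], [⟨1, 165, [4, 12, 8, 11, 12, 13]⟩, ⟨1, 134, []⟩, ⟨1, 1754, [0, 4, 12, 11, 13, 11, 4, 11, 12, 7]⟩, ⟨1, 134, []⟩, ⟨1, 135, []⟩, ⟨1, 1175, [11, 12, 8, 12, 11, 12, 13, 11, 4]⟩]⟩,
 ⟨4, 6, 1794, [], [⟨1, 1793, []⟩], []⟩,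
 ⟨8, 6, 166, [12, 7, 11, 12, 0, 2, 3, 4, 2, 1, 2, 0, 1, 3, 2, 0], [], [⟨1, 165, [12, 7, 11, 12]⟩, ⟨1, 862, [2, 4, 13, 11, 12, 8, 11, 12, 8]⟩, ⟨1, 135, []⟩, ⟨1, 1418, [0, 12, 7, 12, 13, 11, 12, 7, 11, 12]⟩]⟩,
 ⟨4, 6, 1796, [], [⟨1, 1795, []⟩], []⟩,
 ⟨8, 6, 166, [4, 8, 11, 4, 11, 12, 0, 2, 3, 4, 2, 1, 2, 0, 1, 3, 2, 0], [], [⟨1, 165, [4, 8, 11, 4, 11, 12]⟩, ⟨1, 1056, [0, 11, 12, 7, 11, 4, 11, 12, 13]⟩, ⟨1, 134, []⟩, ⟨1, 135, []⟩, ⟨1, 134, []⟩, ⟨1, 1418, [8, 12, 7, 11, 13, 11, 12, 8, 11, 13]⟩]⟩,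
 ⟨4, 6, 1798, [], [⟨1, 1797, []⟩], []⟩,
 ⟨8, 6, 166, [0, 12, 7, 13, 11, 4, 12, 0, 2, 3, 4, 2, 1, 2, 0, 1, 3, 2, 0], [], [⟨1, 165, [0, 12, 7, 13, 11, 4, 12]⟩, ⟨1, 134, []⟩, ⟨1, 135, []⟩, ⟨1, 134, []⟩, ⟨1, 1196, [0, 8, 11, 12, 7, 11, 12]⟩, ⟨1, 134, []⟩, ⟨1, 971, [0, 11, 12, 8, 12, 11, 12, 13, 11]⟩]⟩,
 ⟨4, 6, 1800, [], [⟨1, 1799, []⟩], []⟩,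
 ⟨8, 6, 166, [7, 12, 8, 11, 12, 0, 2, 3, 4, 2, 1, 2, 0, 1, 3, 2, 0], [], [⟨1, 165, [7, 12, 8, 11, 12]⟩, ⟨1, 862, [7, 11, 2, 12, 8, 11, 12, 8, 13]⟩, ⟨1, 134, []⟩, ⟨1, 135, []⟩, ⟨1, 1370, [11, 12, 13, 11, 4, 12, 11, 12, 8]⟩]⟩,
 ⟨4, 6, 1802, [], [⟨1, 1801, []⟩], []⟩,
 ⟨8, 6, 166, [8, 11, 4, 13, 11, 12, 0, 2, 3, 4, 2, 1, 2, 0, 1, 3, 2, 0], [], [⟨1, 165, [8, 11, 4, 13, 11, 12]⟩, ⟨1, 1754, [8, 12, 11, 12, 8, 11, 4, 13]⟩, ⟨1, 134, []⟩, ⟨1, 135, []⟩, ⟨1, 1347, [11, 12, 7, 11, 12, 11, 4, 12]⟩]⟩,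
 ⟨4, 6, 1804, [], [⟨1, 1803, []⟩], []⟩,
 ⟨8, 6, 166, [7, 11, 4, 12, 11, 4, 0, 2, 3, 4, 2, 1, 2, 0, 1, 3, 2, 0], [], [⟨1, 165, [7, 11, 4, 12, 11, 4]⟩, ⟨1, 1028, [2, 11, 12, 8, 11, 13, 11, 4, 12, 11]⟩, ⟨1, 134, []⟩, ⟨1, 1547, [4, 12, 8, 13, 11, 2, 4, 12, 11, 13]⟩]⟩,
 ⟨4, 6, 1806, [], [⟨1, 1805, []⟩], []⟩,
 ⟨8, 6, 166, [11, 4, 11, 12, 0, 2, 3, 4, 2, 1, 2, 0, 1, 3, 2, 0], [], [⟨1, 165, [11, 4, 11, 12]⟩, ⟨1, 1117, [4, 8, 12, 7, 11, 2, 13, 11, 4, 11]⟩, ⟨1, 135, []⟩, ⟨1, 134, []⟩, ⟨1, 1238, [2, 12, 8, 11, 12, 7, 11, 12, 11, 4]⟩]⟩,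
 ⟨4, 6, 1808, [], [⟨1, 1807, []⟩], []⟩,
 ⟨8, 6, 166, [4, 11, 12, 7, 11, 12, 13, 0, 2, 3, 4, 2, 1, 2, 0, 1, 3, 2, 0], [], [⟨1, 165, [4, 11, 12, 7, 11, 12, 13]⟩, ⟨1, 1393, [7, 12, 8, 13, 11, 12, 7, 11, 12, 7, 13]⟩, ⟨1, 134, []⟩, ⟨1, 1354, [2, 4, 8, 11, 12, 11, 12, 13]⟩]⟩,
 ⟨4, 6, 1810, [], [⟨1, 1809, []⟩], []⟩,
 ⟨8, 6, 166, [4, 12, 11, 12, 0, 2, 3, 4, 2, 1, 2, 0, 1, 3, 2, 0], [], [⟨1, 165, [4, 12, 11, 12]⟩, ⟨1, 135, []⟩, ⟨1, 147, [4, 12, 11, 4, 12, 8, 13, 11, 12, 11]⟩, ⟨1, 39, []⟩, ⟨1, 46, []⟩, ⟨1, 46, []⟩, ⟨1, 236, [11, 4, 13, 11]⟩]⟩,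
 ⟨4, 6, 1812, [], [⟨1, 1811, []⟩], []⟩,
 ⟨8, 6, 166, [2, 8, 12, 11, 4, 0, 2, 3, 4, 2, 1, 2, 0, 1, 3, 2, 0], [], [⟨1, 165, [2, 8, 12, 11, 4]⟩, ⟨1, 862, [11, 12, 7, 11, 12, 8, 13, 11, 12, 11]⟩, ⟨1, 135, []⟩, ⟨1, 134, []⟩, ⟨1, 1600, [2, 11, 4, 11, 12, 8, 11]⟩]⟩,
 ⟨4, 6, 1814, [], [⟨1, 1813, []⟩], []⟩]
theorem chk36 : and2 (D.chkL PF36 1765) (Nat.beq (Nat.add 1765 PF36.length) 1815) = true := by decide +kernel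

def PF37 : List DPf := [⟨8, 6, 166, [12, 8, 11, 12, 13, 0, 2, 3, 4, 2, 1, 2, 0, 1, 3, 2, 0], [], [⟨1, 165, [12, 8, 11, 12, 13]⟩, ⟨1, 134, []⟩, ⟨1, 1754, [8, 11, 4, 11, 12, 11, 12, 8, 13]⟩, ⟨1, 134, []⟩, ⟨1, 135, []⟩, ⟨1, 1259, [0, 11, 13, 11, 4, 12, 8, 11, 12, 7]⟩]⟩,
 ⟨4, 6, 1816, [], [⟨1, 1815, []⟩], []⟩,
 ⟨8, 6, 166, [11, 4, 12, 11, 12, 0, 2, 3, 4, 2, 1, 2, 0, 1, 3, 2, 0], [], [⟨1, 165, [11, 4, 12, 11, 12]⟩, ⟨1, 135, []⟩, ⟨1, 147, [0, 8, 12, 7, 11, 13, 11, 12, 8, 11, 12]⟩, ⟨1, 39, []⟩, ⟨1, 42, []⟩, ⟨1, 41, []⟩, ⟨1, 40, []⟩, ⟨1, 46, []⟩, ⟨1, 777, [2, 4, 7, 12, 11, 4, 11, 12, 8, 13]⟩]⟩,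
 ⟨4, 6, 1818, [], [⟨1, 1817, []⟩], []⟩,
 ⟨8, 6, 166, [2, 12, 11, 4, 0, 2, 3, 4, 2, 1, 2, 0, 1, 3, 2, 0], [], [⟨1, 165, [2, 12, 11, 4]⟩, ⟨1, 1117, [11, 2, 12, 7, 11, 12, 8, 11, 13]⟩, ⟨1, 134, []⟩, ⟨1, 135, []⟩, ⟨1, 963, [11, 4, 11, 12, 13, 11, 4, 11, 13]⟩]⟩,
 ⟨4, 6, 1820, [], [⟨1, 1819, []⟩], []⟩,
 ⟨8, 6, 166, [4, 12, 8, 11, 13, 11, 12, 0, 2, 3, 4, 2, 1, 2, 0, 1, 3, 2, 0], [], [⟨1, 165, [4, 12, 8, 11, 13, 11, 12]⟩, ⟨1, 134, []⟩, ⟨1, 1754, [7, 11, 4, 11, 13]⟩, ⟨1, 134, []⟩, ⟨1, 1691, [0, 4, 7, 11, 13, 11, 12, 11, 4, 12]⟩]⟩,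
 ⟨4, 6, 1822, [], [⟨1, 1821, []⟩], []⟩,
 ⟨8, 6, 166, [8, 12, 11, 4, 13, 0, 2, 3, 4, 2, 1, 2, 0, 1, 3, 2, 0], [], [⟨1, 165, [8, 12, 11, 4, 13]⟩, ⟨1, 134, []⟩, ⟨1, 1752, [0, 7, 12, 13, 11, 4, 11, 4, 12, 7]⟩, ⟨1, 134, []⟩, ⟨1, 135, []⟩, ⟨1, 134, []⟩, ⟨1, 1749, [2, 4, 7, 11, 12, 11, 4, 12, 11]⟩]⟩,
 ⟨4, 6, 1824, [], [⟨1, 1823, []⟩], []⟩,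
 ⟨9, 6, 166, [4, 12, 8, 11, 4, 12, 11, 0, 2, 4, 1, 0, 2, 1, 3, 2, 0], [], [⟨1, 165, [4, 12, 8, 11, 4, 12, 11]⟩, ⟨1, 942, [8, 11, 2, 12]⟩, ⟨1, 134, []⟩, ⟨1, 135, []⟩, ⟨1, 134, []⟩, ⟨1, 1354, [11, 4, 11, 13, 11, 4, 11, 12, 7]⟩]⟩,
 ⟨4, 6, 1826, [], [⟨1, 1825, []⟩], []⟩,
 ⟨9, 6, 166, [11, 4, 13, 11, 0, 2, 4, 1, 0, 2, 1, 3, 2, 0], [], [⟨1, 165, [11, 4, 13, 11]⟩, ⟨1, 134, []⟩, ⟨1, 1752, [8, 12, 11, 12, 8]⟩, ⟨1, 134, []⟩, ⟨1, 135, []⟩, ⟨1, 134, []⟩, ⟨1, 1219, [0, 12, 7, 12, 11, 12, 8, 13, 11, 12]⟩]⟩,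
 ⟨4, 6, 1828, [], [⟨1, 1827, []⟩], []⟩,
 ⟨9, 6, 166, [4, 7, 11, 4, 12, 0, 2, 4, 1, 0, 2, 1, 3, 2, 0], [], [⟨1, 165, [4, 7, 11, 4, 12]⟩, ⟨1, 1028, [4, 8, 12, 7, 11, 12, 8, 11, 12, 11]⟩, ⟨1, 134, []⟩, ⟨1, 1277, [4, 12, 11, 2, 4, 13, 11, 12]⟩]⟩,
 ⟨4, 6, 1830, [], [⟨1, 1829, []⟩], []⟩,
 ⟨9, 6, 166, [12, 13, 11, 4, 12, 0, 2, 4, 1, 0, 2, 1, 3, 2, 0], [], [⟨1, 165, [12, 13, 11, 4, 12]⟩, ⟨1, 1829, [4, 12, 11, 4, 12, 7]⟩, ⟨1, 134, []⟩, ⟨1, 1801, [2, 11, 12, 8, 12, 11, 12, 8, 12, 13]⟩]⟩,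
 ⟨4, 6, 1832, [], [⟨1, 1831, []⟩], []⟩,
 ⟨12, 6, 166, [13, 11, 12, 7, 11, 12, 0, 2, 3, 1, 0, 2, 1, 2, 4, 3, 2, 0, 2, 0], [], [⟨1, 165, [13, 11, 12, 7, 11, 12]⟩, ⟨1, 1803, [2, 4, 8, 11, 4, 13, 11, 12, 11, 13]⟩, ⟨1, 135, []⟩, ⟨1, 134, []⟩, ⟨1, 1824, [2, 4, 11, 12, 11, 4, 12, 8, 11]⟩]⟩,
 ⟨4, 6, 1834, [], [⟨1, 1833, []⟩], []⟩,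
 ⟨12, 6, 166, [2, 12, 11, 4, 12, 0, 2, 3, 1, 0, 2, 1, 2, 4, 3, 2, 0, 2, 0], [], [⟨1, 165, [2, 12, 11, 4, 12]⟩, ⟨1, 134, []⟩, ⟨1, 135, []⟩, ⟨1, 1831, [4, 11, 12, 13, 11, 4, 11, 12, 8]⟩, ⟨1, 135, []⟩, ⟨1, 134, []⟩, ⟨1, 1506, [0, 4, 7, 11, 12, 7, 11, 13, 11, 12, 7]⟩]⟩,
 ⟨4, 6, 1836, [], [⟨1, 1835, []⟩], []⟩,
 ⟨12, 6, 166, [7, 12, 11, 4, 12, 13, 0, 2, 3, 1, 0, 2, 1, 2, 4, 3, 2, 0, 2, 0], [], [⟨1, 165, [7, 12, 11, 4, 12, 13]⟩, ⟨1, 134, []⟩, ⟨1, 135, []⟩, ⟨1, 134, []⟩, ⟨1, 275, [4, 7, 11, 4, 11, 13, 11, 12, 8]⟩, ⟨1, 87, []⟩, ⟨1, 86, []⟩, ⟨1, 571, [0, 4, 7, 11, 12, 13, 11, 12, 11, 13]⟩]⟩,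
 ⟨4, 6, 1838, [], [⟨1, 1837, []⟩], []⟩,
 ⟨12, 6, 166, [8, 12, 11, 4, 0, 2, 3, 1, 0, 2, 1, 2, 4, 3, 2, 0, 2, 0], [], [⟨1, 165, [8, 12, 11, 4]⟩, ⟨1, 134, []⟩, ⟨1, 1807, [2, 4, 8, 11, 4, 11, 13, 11, 12, 7, 11, 13]⟩, ⟨1, 134, []⟩, ⟨1, 1797, [2, 8, 11, 12, 7, 11, 4, 12, 11, 12]⟩]⟩,
 ⟨4, 6, 1840, [], [⟨1, 1839, []⟩], []⟩,
 ⟨12, 6, 166, [8, 11, 4, 12, 0, 2, 3, 1, 0, 2, 1, 2, 4, 3, 2, 0, 2, 0], [], [⟨1, 165, [8, 11, 4, 12]⟩, ⟨1, 134, []⟩, ⟨1, 135, []⟩, ⟨1, 832, [7, 12, 8, 11, 4, 12, 13, 11, 4, 12, 7]⟩, ⟨1, 134, []⟩, ⟨1, 1802, [0, 12, 11, 13, 11, 4, 11, 4, 12, 8]⟩]⟩,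
 ⟨13, 6, 166, [4, 12, 8, 11, 13, 11, 12, 0, 2, 3, 1, 2, 0, 1, 3, 2, 0], [], [⟨1, 165, [4, 12, 8, 11, 13, 11, 12]⟩, ⟨1, 134, []⟩, ⟨1, 1754, [0, 4, 7, 11, 4]⟩, ⟨1, 134, []⟩, ⟨1, 135, []⟩, ⟨1, 134, []⟩, ⟨1, 1830, [4, 8, 13, 11, 4, 12, 11, 12, 8, 11]⟩]⟩,
 ⟨4, 6, 1843, [], [⟨1, 1842, []⟩], []⟩,
 ⟨13, 6, 166, [4, 11, 4, 12, 13, 11, 4, 0, 2, 3, 1, 2, 0, 1, 3, 2, 0], [], [⟨1, 165, [4, 11, 4, 12, 13, 11, 4]⟩, ⟨1, 134, []⟩, ⟨1, 1825, [2, 4, 8, 12, 11, 12, 7, 11, 4, 11]⟩, ⟨1, 1311, [12, 8, 12]⟩]⟩,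
 ⟨4, 6, 1845, [], [⟨1, 1844, []⟩], []⟩,
 ⟨13, 6, 166, [0, 11, 13, 11, 4, 12, 0, 2, 3, 1, 2, 0, 1, 3, 2, 0], [], [⟨1, 165, [0, 11, 13, 11, 4, 12]⟩, ⟨1, 1825, [0, 4, 12, 11, 4, 12]⟩, ⟨1, 134, []⟩, ⟨1, 135, []⟩, ⟨1, 1737, [2, 7, 11, 13, 11, 4]⟩]⟩,
 ⟨4, 6, 1847, [], [⟨1, 1846, []⟩], []⟩,
 ⟨13, 6, 166, [12, 11, 13, 11, 4, 0, 2, 3, 1, 2, 0, 1, 3, 2, 0], [], [⟨1, 165, [12, 11, 13, 11, 4]⟩, ⟨1, 134, []⟩, ⟨1, 1752, [0, 12, 11, 13, 11, 4, 11, 12, 7, 13]⟩, ⟨1, 135, []⟩, ⟨1, 1394, [4, 7, 11, 13, 11, 4, 11, 4, 12, 8, 11]⟩]⟩,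
 ⟨4, 6, 1849, [], [⟨1, 1848, []⟩], []⟩,
 ⟨13, 6, 166, [13, 11, 4, 0, 2, 3, 1, 2, 0, 1, 3, 2, 0], [], [⟨1, 165, [13, 11, 4]⟩, ⟨1, 1829, [7, 11, 12, 11, 13, 11, 4, 11, 12, 13]⟩, ⟨1, 134, []⟩, ⟨1, 135, []⟩, ⟨1, 829, [2, 4, 8, 11, 13, 11, 12, 8, 11]⟩]⟩,
 ⟨4, 6, 1851, [], [⟨1, 1850, []⟩], []⟩,
 ⟨13, 6, 166, [8, 12, 13, 11, 4, 12, 0, 2, 3, 1, 2, 0, 1, 3, 2, 0], [], [⟨1, 165, [8, 12, 13, 11, 4, 12]⟩, ⟨1, 1829, [8, 11, 4, 12, 11, 4, 12]⟩, ⟨1, 135, []⟩, ⟨1, 1411, [0, 13, 11, 12, 8, 11, 12, 7, 13, 11]⟩]⟩,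
 ⟨4, 6, 1853, [], [⟨1, 1852, []⟩], []⟩,
 ⟨13, 6, 166, [4, 8, 12, 13, 11, 4, 12, 0, 2, 3, 1, 2, 0, 1, 3, 2, 0], [], [⟨1, 165, [4, 8, 12, 13, 11, 4, 12]⟩, ⟨1, 134, []⟩, ⟨1, 1829, [2, 4, 8, 12, 11, 12, 11, 4]⟩, ⟨1, 134, []⟩, ⟨1, 135, []⟩, ⟨1, 1112, [8, 12, 8, 11, 2, 12, 11]⟩]⟩,
 ⟨4, 6, 1855, [], [⟨1, 1854, []⟩], []⟩,
 ⟨13, 6, 166, [4, 7, 11, 4, 12, 13, 0, 2, 3, 1, 2, 0, 1, 3, 2, 0], [], [⟨1, 165, [4, 7, 11, 4, 12, 13]⟩, ⟨1, 1827, [0, 12, 8, 13, 11, 12, 7, 11, 12, 7, 13]⟩, ⟨1, 134, []⟩, ⟨1, 1271, [4, 12, 7, 11, 13, 11, 4, 12, 11]⟩]⟩,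
 ⟨4, 6, 1857, [], [⟨1, 1856, []⟩], []⟩,
 ⟨13, 6, 166, [0, 7, 11, 4, 12, 13, 0, 2, 3, 1, 2, 0, 1, 3, 2, 0], [], [⟨1, 165, [0, 7, 11, 4, 12, 13]⟩, ⟨1, 1827, [11, 12, 11, 12, 7]⟩, ⟨1, 134, []⟩, ⟨1, 1157, [12, 8, 11, 4, 12, 11, 13, 11]⟩]⟩,
 ⟨4, 6, 1859, [], [⟨1, 1858, []⟩], []⟩]
theorem chk37 : and2 (D.chkL PF37 1815) (Nat.beq (Nat.add 1815 PF37.length) 1860) = true := by decide +kernel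

def PF38 : List DPf := [⟨13, 6, 166, [4, 13, 11, 4, 11, 12, 0, 2, 3, 1, 2, 0, 1, 3, 2, 0], [], [⟨1, 165, [4, 13, 11, 4, 11, 12]⟩, ⟨1, 1831, [2, 4, 8, 11, 12, 11, 4, 12, 11]⟩, ⟨1, 135, []⟩, ⟨1, 1857, [2, 4, 12, 11, 12, 7, 11, 12, 11, 12]⟩]⟩,
 ⟨4, 6, 1861, [], [⟨1, 1860, []⟩], []⟩,
 ⟨13, 6, 166, [4, 12, 13, 11, 4, 0, 2, 3, 1, 2, 0, 1, 3, 2, 0], [], [⟨1, 165, [4, 12, 13, 11, 4]⟩, ⟨1, 1831, [7, 12, 11, 4, 11, 4, 12, 7]⟩, ⟨1, 134, []⟩, ⟨1, 135, []⟩, ⟨1, 891, [2, 4, 7, 12, 8, 11, 4, 11, 12, 7]⟩]⟩,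
 ⟨4, 6, 1863, [], [⟨1, 1862, []⟩], []⟩,
 ⟨7, 6, 167, [0, 4, 12, 13, 11, 4, 3, 1, 0, 2, 1, 3, 2, 0], [], [⟨1, 166, [0, 4, 12, 13, 11, 4]⟩, ⟨1, 1787, [12, 7, 12, 13, 11, 12, 8, 11, 12, 7]⟩, ⟨1, 134, []⟩, ⟨1, 135, []⟩, ⟨1, 134, []⟩, ⟨1, 1325, [7, 11, 12, 11, 4, 13, 11]⟩]⟩,
 ⟨4, 6, 1865, [], [⟨1, 1864, []⟩], []⟩,
 ⟨7, 6, 167, [8, 12, 8, 11, 12, 13, 3, 1, 0, 2, 1, 3, 2, 0], [], [⟨1, 166, [8, 12, 8, 11, 12, 13]⟩, ⟨1, 135, []⟩, ⟨1, 1802, [2, 8, 12, 11, 4, 12, 11, 12, 7, 12, 11]⟩, ⟨1, 134, []⟩, ⟨1, 135, []⟩, ⟨1, 1460, [4, 7, 13, 11, 12, 8, 11, 4, 12, 13]⟩]⟩,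
 ⟨4, 6, 1867, [], [⟨1, 1866, []⟩], []⟩,
 ⟨7, 6, 167, [8, 12, 7, 11, 12, 3, 1, 0, 2, 1, 3, 2, 0], [], [⟨1, 166, [8, 12, 7, 11, 12]⟩, ⟨1, 134, []⟩, ⟨1, 135, []⟩, ⟨1, 134, []⟩, ⟨1, 1107, [4, 7, 11, 12, 11, 4, 12, 8, 11]⟩, ⟨1, 135, []⟩, ⟨1, 1188, [0, 12, 7, 12, 11, 12, 13, 11, 12]⟩]⟩,
 ⟨4, 6, 1869, [], [⟨1, 1868, []⟩], []⟩,
 ⟨7, 6, 167, [12, 8, 13, 11, 4, 12, 3, 1, 0, 2, 1, 3, 2, 0], [], [⟨1, 166, [12, 8, 13, 11, 4, 12]⟩, ⟨1, 135, []⟩, ⟨1, 482, [2, 12, 7, 11, 12, 11, 4, 11]⟩, ⟨1, 87, []⟩, ⟨1, 663, [0, 7, 13, 11, 4, 11, 4, 13]⟩]⟩,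
 ⟨4, 6, 1871, [], [⟨1, 1870, []⟩], []⟩,
 ⟨7, 6, 167, [8, 11, 13, 11, 12, 3, 1, 0, 2, 1, 3, 2, 0], [], [⟨1, 166, [8, 11, 13, 11, 12]⟩, ⟨1, 1320, [7, 11, 4, 11, 13, 11, 4, 11]⟩, ⟨1, 1662, [0, 12, 7, 11, 4, 12, 13, 11, 4, 12]⟩]⟩,
 ⟨4, 6, 1873, [], [⟨1, 1872, []⟩], []⟩,
 ⟨7, 6, 167, [4, 7, 12, 13, 3, 1, 0, 2, 1, 3, 2, 0], [], [⟨1, 166, [4, 7, 12, 13]⟩, ⟨1, 134, []⟩, ⟨1, 772, [7, 11, 2, 4, 13, 11, 12, 7, 11, 13]⟩, ⟨1, 663, [4, 12, 11, 12, 11, 13, 11, 4, 12]⟩]⟩,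
 ⟨4, 6, 1875, [], [⟨1, 1874, []⟩], []⟩,
 ⟨7, 6, 167, [4, 7, 13, 11, 4, 12, 3, 1, 0, 2, 1, 3, 2, 0], [], [⟨1, 166, [4, 7, 13, 11, 4, 12]⟩, ⟨1, 134, []⟩, ⟨1, 1791, [7, 13, 11, 4, 12]⟩, ⟨1, 134, []⟩, ⟨1, 135, []⟩, ⟨1, 134, []⟩, ⟨1, 1451, [12, 11, 12, 8, 11, 4, 11, 13]⟩]⟩,
 ⟨4, 6, 1877, [], [⟨1, 1876, []⟩], []⟩,
 ⟨7, 6, 167, [11, 4, 12, 3, 1, 0, 2, 1, 3, 2, 0], [], [⟨1, 166, [11, 4, 12]⟩, ⟨1, 135, []⟩, ⟨1, 888, [7, 12, 11, 2, 12]⟩, ⟨1, 134, []⟩, ⟨1, 135, []⟩, ⟨1, 134, []⟩, ⟨1, 924, [7, 12, 13, 11, 12, 11, 13]⟩]⟩,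
 ⟨4, 6, 1879, [], [⟨1, 1878, []⟩], []⟩,
 ⟨7, 6, 167, [2, 7, 12, 3, 1, 0, 2, 1, 3, 2, 0], [], [⟨1, 166, [2, 7, 12]⟩, ⟨1, 134, []⟩, ⟨1, 548, [2, 11, 4, 11, 4, 13, 11, 12, 7, 11, 13]⟩, ⟨1, 535, [8, 11, 13, 11, 4, 12, 11, 4, 11]⟩]⟩,
 ⟨4, 6, 1881, [], [⟨1, 1880, []⟩], []⟩,
 ⟨7, 6, 167, [2, 11, 12, 11, 4, 3, 1, 0, 2, 1, 3, 2, 0], [], [⟨1, 166, [2, 11, 12, 11, 4]⟩, ⟨1, 135, []⟩, ⟨1, 884, [2, 12, 11, 12, 13, 11, 4, 11, 13]⟩, ⟨1, 134, []⟩, ⟨1, 1361, [4, 12, 11, 12, 13, 11, 4, 12, 8]⟩]⟩,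
 ⟨4, 6, 1883, [], [⟨1, 1882, []⟩], []⟩,
 ⟨7, 6, 167, [8, 12, 11, 4, 3, 1, 0, 2, 1, 3, 2, 0], [], [⟨1, 166, [8, 12, 11, 4]⟩, ⟨1, 710, [2, 11, 12, 11, 4, 12, 8, 11]⟩, ⟨1, 90, []⟩, ⟨1, 90, []⟩, ⟨1, 270, [4, 8, 11, 2, 12, 11, 4, 13, 11, 12]⟩]⟩,
 ⟨4, 6, 1885, [], [⟨1, 1884, []⟩], []⟩,
 ⟨7, 6, 167, [0, 8, 11, 13, 11, 4, 12, 3, 1, 0, 2, 1, 3, 2, 0], [], [⟨1, 166, [0, 8, 11, 13, 11, 4, 12]⟩, ⟨1, 134, []⟩, ⟨1, 1324, [7, 11, 4, 11, 13, 11, 4, 11]⟩, ⟨1, 135, []⟩, ⟨1, 1727, [2, 4, 7, 12, 8, 11, 4, 11, 12]⟩]⟩,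
 ⟨4, 6, 1887, [], [⟨1, 1886, []⟩], []⟩,
 ⟨7, 6, 167, [7, 12, 11, 4, 3, 1, 0, 2, 1, 3, 2, 0], [], [⟨1, 166, [7, 12, 11, 4]⟩, ⟨1, 135, []⟩, ⟨1, 134, []⟩, ⟨1, 1068, [2, 13, 11, 12, 8, 11, 12, 13, 11, 12]⟩, ⟨1, 134, []⟩, ⟨1, 948, [4, 11, 12, 7, 12, 11, 4, 11, 13]⟩]⟩,
 ⟨4, 6, 1889, [], [⟨1, 1888, []⟩], []⟩,
 ⟨8, 6, 167, [12, 8, 11, 4, 12, 13, 0, 2, 3, 4, 2, 1, 2, 0, 1, 3, 2, 0], [], [⟨1, 166, [12, 8, 11, 4, 12, 13]⟩, ⟨1, 819, [0, 7, 12, 8, 11, 12, 8, 11, 12, 13]⟩, ⟨1, 135, []⟩, ⟨1, 944, [0, 7, 11, 4, 11, 13, 11, 4, 11]⟩]⟩,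
 ⟨4, 6, 1891, [], [⟨1, 1890, []⟩], []⟩,
 ⟨8, 6, 167, [4, 8, 11, 4, 11, 12, 0, 2, 3, 4, 2, 1, 2, 0, 1, 3, 2, 0], [], [⟨1, 166, [4, 8, 11, 4, 11, 12]⟩, ⟨1, 135, []⟩, ⟨1, 134, []⟩, ⟨1, 200, [4, 12, 13, 11, 12, 7, 12, 11]⟩, ⟨1, 87, []⟩, ⟨1, 86, []⟩, ⟨1, 90, []⟩, ⟨1, 87, []⟩, ⟨1, 651, [0, 4, 7, 11, 12, 7, 11, 12]⟩]⟩,
 ⟨4, 6, 1893, [], [⟨1, 1892, []⟩], []⟩,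
 ⟨8, 6, 167, [7, 11, 4, 12, 11, 4, 0, 2, 3, 4, 2, 1, 2, 0, 1, 3, 2, 0], [], [⟨1, 166, [7, 11, 4, 12, 11, 4]⟩, ⟨1, 206, [0, 12, 13, 11, 12, 7, 12, 11, 4]⟩, ⟨1, 86, []⟩, ⟨1, 90, []⟩, ⟨1, 86, []⟩, ⟨1, 90, []⟩, ⟨1, 719, [8, 12, 7, 13, 11, 2, 4]⟩]⟩,
 ⟨4, 6, 1895, [], [⟨1, 1894, []⟩], []⟩,
 ⟨8, 6, 167, [4, 8, 12, 7, 11, 12, 0, 2, 3, 4, 2, 1, 2, 0, 1, 3, 2, 0], [], [⟨1, 166, [4, 8, 12, 7, 11, 12]⟩, ⟨1, 206, [4, 13, 11, 4, 11, 12, 8]⟩, ⟨1, 90, []⟩, ⟨1, 86, []⟩, ⟨1, 90, []⟩, ⟨1, 771, [2, 4, 11, 4, 12, 8, 11, 12, 7, 11]⟩]⟩,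
 ⟨4, 6, 1897, [], [⟨1, 1896, []⟩], []⟩,
 ⟨8, 6, 167, [0, 8, 12, 7, 13, 11, 12, 0, 2, 3, 4, 2, 1, 2, 0, 1, 3, 2, 0], [], [⟨1, 166, [0, 8, 12, 7, 13, 11, 12]⟩, ⟨1, 134, []⟩, ⟨1, 182, [0, 7, 12, 8, 11, 12, 8, 11, 12, 13]⟩, ⟨1, 134, []⟩, ⟨1, 1136, [0, 8, 12, 8, 11, 13, 11, 12, 11, 13]⟩]⟩,
 ⟨4, 6, 1899, [], [⟨1, 1898, []⟩], []⟩,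
 ⟨8, 6, 167, [2, 4, 8, 11, 4, 12, 0, 2, 3, 4, 2, 1, 2, 0, 1, 3, 2, 0], [], [⟨1, 166, [2, 4, 8, 11, 4, 12]⟩, ⟨1, 135, []⟩, ⟨1, 134, []⟩, ⟨1, 200, [2, 4, 11, 12, 8, 12, 11, 12, 8, 13]⟩, ⟨1, 86, []⟩, ⟨1, 90, []⟩, ⟨1, 441, [12, 11, 2, 4, 12, 13, 11, 12]⟩]⟩,
 ⟨4, 6, 1901, [], [⟨1, 1900, []⟩], []⟩,
 ⟨8, 6, 167, [7, 12, 8, 11, 4, 12, 0, 2, 3, 4, 2, 1, 2, 0, 1, 3, 2, 0], [], [⟨1, 166, [7, 12, 8, 11, 4, 12]⟩, ⟨1, 135, []⟩, ⟨1, 134, []⟩, ⟨1, 200, [0, 11, 12, 7, 13, 11, 12, 8, 11, 4]⟩, ⟨1, 90, []⟩, ⟨1, 90, []⟩, ⟨1, 765, [7, 12, 11, 4, 11, 12, 7, 11, 4]⟩]⟩,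
 ⟨4, 6, 1903, [], [⟨1, 1902, []⟩], []⟩,
 ⟨8, 6, 167, [8, 12, 7, 11, 4, 12, 0, 2, 3, 4, 2, 1, 2, 0, 1, 3, 2, 0], [], [⟨1, 166, [8, 12, 7, 11, 4, 12]⟩, ⟨1, 206, [4, 11, 12, 13, 11, 12, 8, 12, 11]⟩, ⟨1, 90, []⟩, ⟨1, 90, []⟩, ⟨1, 90, []⟩, ⟨1, 86, []⟩, ⟨1, 749, [11, 4, 13, 11, 4, 11, 12, 11, 13]⟩]⟩,
 ⟨4, 6, 1905, [], [⟨1, 1904, []⟩], []⟩,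
 ⟨8, 6, 167, [4, 8, 13, 11, 12, 0, 2, 3, 4, 2, 1, 2, 0, 1, 3, 2, 0], [], [⟨1, 166, [4, 8, 13, 11, 12]⟩, ⟨1, 134, []⟩, ⟨1, 839, [7, 11, 2, 13, 11, 12, 8, 12, 11, 4]⟩, ⟨1, 1224, [2, 11, 12, 7, 11, 4, 11, 12, 8, 12]⟩]⟩,
 ⟨4, 6, 1907, [], [⟨1, 1906, []⟩], []⟩,
 ⟨12, 6, 167, [0, 4, 8, 12, 13, 11, 4, 0, 2, 3, 1, 0, 2, 1, 2, 4, 3, 2, 0, 2, 0], [], [⟨1, 166, [0, 4, 8, 12, 13, 11, 4]⟩, ⟨1, 134, []⟩, ⟨1, 371, [12, 11, 4, 11, 4, 13, 11]⟩, ⟨1, 39, []⟩, ⟨1, 40, []⟩, ⟨1, 68, []⟩, ⟨1, 68, []⟩, ⟨1, 599, [0, 8, 11, 4, 13, 11, 4, 11]⟩]⟩]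
theorem chk38 : and2 (D.chkL PF38 1860) (Nat.beq (Nat.add 1860 PF38.length) 1909) = true := by decide +kernel

def PF39 : List DPf := [⟨4, 6, 1909, [], [⟨1, 1908, []⟩], []⟩,
 ⟨12, 6, 167, [12, 8, 11, 4, 12, 0, 2, 3, 1, 0, 2, 1, 2, 4, 3, 2, 0, 2, 0], [], [⟨1, 166, [12, 8, 11, 4, 12]⟩, ⟨1, 134, []⟩, ⟨1, 544, [8, 13, 11, 12, 7, 11, 13]⟩, ⟨1, 537, [4, 12, 11, 2, 4, 12, 7, 13, 11, 12, 8]⟩]⟩,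
 ⟨4, 6, 1911, [], [⟨1, 1910, []⟩], []⟩,
 ⟨12, 6, 167, [2, 7, 12, 7, 11, 12, 0, 2, 3, 1, 0, 2, 1, 2, 4, 3, 2, 0, 2, 0], [], [⟨1, 166, [2, 7, 12, 7, 11, 12]⟩, ⟨1, 134, []⟩, ⟨1, 135, []⟩, ⟨1, 134, []⟩, ⟨1, 910, [4, 8, 11, 4, 11, 12, 11, 12, 7]⟩, ⟨1, 134, []⟩, ⟨1, 1447, [13, 11, 2, 12, 7, 11, 4, 11, 13]⟩]⟩,
 ⟨4, 6, 1913, [], [⟨1, 1912, []⟩], []⟩,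
 ⟨12, 6, 167, [4, 8, 11, 12, 0, 2, 3, 1, 0, 2, 1, 2, 4, 3, 2, 0, 2, 0], [], [⟨1, 166, [4, 8, 11, 12]⟩, ⟨1, 135, []⟩, ⟨1, 995, [0, 4, 12, 11, 13, 11, 4, 11, 4, 12, 13]⟩, ⟨1, 134, []⟩, ⟨1, 135, []⟩, ⟨1, 968, [7, 11, 4, 12, 11, 12, 8]⟩]⟩,
 ⟨4, 6, 1915, [], [⟨1, 1914, []⟩], []⟩,
 ⟨12, 6, 167, [0, 8, 11, 4, 13, 11, 12, 0, 2, 3, 1, 0, 2, 1, 2, 4, 3, 2, 0, 2, 0], [], [⟨1, 166, [0, 8, 11, 4, 13, 11, 12]⟩, ⟨1, 400, [12, 7, 12, 11, 4, 12, 11, 12, 13]⟩, ⟨1, 76, []⟩, ⟨1, 76, []⟩, ⟨1, 77, []⟩, ⟨1, 126, []⟩, ⟨1, 78, []⟩, ⟨1, 342, [2, 8, 12, 11, 4, 11, 12, 7]⟩]⟩,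
 ⟨4, 6, 1917, [], [⟨1, 1916, []⟩], []⟩,
 ⟨13, 6, 167, [2, 4, 8, 11, 4, 12, 0, 2, 3, 1, 2, 0, 1, 3, 2, 0], [], [⟨1, 166, [2, 4, 8, 11, 4, 12]⟩, ⟨1, 135, []⟩, ⟨1, 134, []⟩, ⟨1, 200, [0, 12, 7, 12, 11, 13, 11, 4, 11, 12, 13]⟩, ⟨1, 90, []⟩, ⟨1, 90, []⟩, ⟨1, 711, [2, 11, 12, 7, 11, 12, 8, 11, 12, 13, 11]⟩]⟩,
 ⟨4, 6, 1919, [], [⟨1, 1918, []⟩], []⟩,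
 ⟨13, 6, 167, [7, 11, 4, 12, 11, 4, 0, 2, 3, 1, 2, 0, 1, 3, 2, 0], [], [⟨1, 166, [7, 11, 4, 12, 11, 4]⟩, ⟨1, 206, [0, 12, 11, 13, 11, 12, 7, 12, 11, 13]⟩, ⟨1, 86, []⟩, ⟨1, 87, []⟩, ⟨1, 86, []⟩, ⟨1, 90, []⟩, ⟨1, 87, []⟩, ⟨1, 637, [8, 11, 4, 12, 11, 4]⟩]⟩,
 ⟨4, 6, 1921, [], [⟨1, 1920, []⟩], []⟩,
 ⟨17, 6, 167, [11, 12, 7, 12, 13, 5, 5, 3, 6, 6, 2, 0], [], [⟨1, 166, [11, 12, 7, 12, 13]⟩, ⟨1, 134, []⟩, ⟨1, 135, []⟩, ⟨1, 134, []⟩, ⟨1, 1074, [2, 4, 8, 11, 12, 11, 4, 12, 8, 11]⟩, ⟨1, 1210, [4, 7, 11, 4, 11, 12, 8, 13, 11, 4]⟩]⟩,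
 ⟨4, 6, 1923, [], [⟨1, 1922, []⟩], []⟩,
 ⟨17, 6, 167, [11, 12, 7, 13, 5, 5, 3, 6, 6, 2, 0], [], [⟨1, 166, [11, 12, 7, 13]⟩, ⟨1, 134, []⟩, ⟨1, 135, []⟩, ⟨1, 134, []⟩, ⟨1, 1092, [8, 11, 12, 11, 12, 8]⟩, ⟨1, 134, []⟩, ⟨1, 135, []⟩, ⟨1, 1209, [4, 12, 11, 12, 8, 11, 12, 7, 13, 11]⟩]⟩,
 ⟨4, 6, 1925, [], [⟨1, 1924, []⟩], []⟩,
 ⟨5, 6, 169, [8, 11, 12, 13, 3, 2, 0], [], [⟨1, 168, [8, 11, 12, 13]⟩, ⟨1, 696, [2, 8, 13, 11, 12, 11, 4, 13]⟩, ⟨1, 86, []⟩, ⟨1, 87, []⟩, ⟨1, 405, [2, 4, 7, 13, 11, 4, 12, 8, 11, 12]⟩]⟩,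
 ⟨4, 6, 1927, [], [⟨1, 1926, []⟩], []⟩,
 ⟨5, 6, 169, [7, 11, 4, 12, 13, 3, 2, 0], [], [⟨1, 168, [7, 11, 4, 12, 13]⟩, ⟨1, 261, [12, 8, 12, 11, 12, 8, 11, 12, 13, 11]⟩, ⟨1, 86, []⟩, ⟨1, 90, []⟩, ⟨1, 90, []⟩, ⟨1, 308, [2, 12, 8, 13, 11, 12, 11, 4, 11, 13]⟩]⟩,
 ⟨4, 6, 1929, [], [⟨1, 1928, []⟩], []⟩,
 ⟨7, 6, 169, [0, 4, 12, 13, 11, 4, 3, 1, 0, 2, 1, 3, 2, 0], [], [⟨1, 168, [0, 4, 12, 13, 11, 4]⟩, ⟨1, 134, []⟩, ⟨1, 135, []⟩, ⟨1, 448, [8, 11, 12, 11, 4, 12, 13, 11]⟩, ⟨1, 90, []⟩, ⟨1, 703, [2, 4, 7, 12, 11, 12, 7, 12, 11]⟩]⟩,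
 ⟨4, 6, 1931, [], [⟨1, 1930, []⟩], []⟩,
 ⟨7, 6, 169, [2, 4, 7, 12, 3, 1, 0, 2, 1, 3, 2, 0], [], [⟨1, 168, [2, 4, 7, 12]⟩, ⟨1, 134, []⟩, ⟨1, 990, [0, 12, 7, 11, 12, 8, 11, 12, 8, 11, 13]⟩, ⟨1, 134, []⟩, ⟨1, 135, []⟩, ⟨1, 134, []⟩, ⟨1, 1679, [0, 13, 11, 4, 11, 12, 7, 11, 12, 11]⟩]⟩,
 ⟨4, 6, 1933, [], [⟨1, 1932, []⟩], []⟩,
 ⟨7, 6, 169, [12, 11, 12, 13, 11, 4, 3, 1, 0, 2, 1, 3, 2, 0], [], [⟨1, 168, [12, 11, 12, 13, 11, 4]⟩, ⟨1, 134, []⟩, ⟨1, 1370, [2, 11, 4, 11, 12, 8, 11, 4, 11]⟩, ⟨1, 134, []⟩, ⟨1, 1348, [0, 12, 11, 12, 8, 12, 11, 13, 11]⟩]⟩,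
 ⟨7, 6, 169, [12, 8, 13, 11, 4, 12, 3, 1, 0, 2, 1, 3, 2, 0], [], [⟨1, 168, [12, 8, 13, 11, 4, 12]⟩, ⟨1, 135, []⟩, ⟨1, 353, [2, 12, 7, 13, 11]⟩, ⟨1, 76, []⟩, ⟨1, 76, []⟩, ⟨1, 77, []⟩, ⟨1, 78, []⟩, ⟨1, 81, []⟩, ⟨1, 344, [4, 12, 8, 11, 12, 8, 13]⟩]⟩,
 ⟨4, 6, 1936, [], [⟨1, 1935, []⟩], []⟩,
 ⟨7, 6, 169, [0, 8, 12, 13, 11, 12, 3, 1, 0, 2, 1, 3, 2, 0], [], [⟨1, 168, [0, 8, 12, 13, 11, 12]⟩, ⟨1, 135, []⟩, ⟨1, 134, []⟩, ⟨1, 1187, [0, 4, 12, 7, 11, 12, 7, 11, 4, 13]⟩, ⟨1, 135, []⟩, ⟨1, 1108, [4, 8, 13, 11, 2, 12, 7, 11]⟩]⟩,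
 ⟨4, 6, 1938, [], [⟨1, 1937, []⟩], []⟩,
 ⟨7, 6, 169, [4, 8, 12, 3, 1, 0, 2, 1, 3, 2, 0], [], [⟨1, 168, [4, 8, 12]⟩, ⟨1, 134, []⟩, ⟨1, 135, []⟩, ⟨1, 134, []⟩, ⟨1, 1699, [2, 7, 11, 4, 12, 11, 4, 11]⟩, ⟨1, 134, []⟩, ⟨1, 1801, [7, 12, 7, 11, 12, 7, 13]⟩]⟩,
 ⟨4, 6, 1940, [], [⟨1, 1939, []⟩], []⟩,
 ⟨7, 6, 169, [4, 7, 11, 12, 13, 3, 1, 0, 2, 1, 3, 2, 0], [], [⟨1, 168, [4, 7, 11, 12, 13]⟩, ⟨1, 472, [11, 4, 11, 12, 8, 11, 13, 11, 12, 7]⟩, ⟨1, 86, []⟩, ⟨1, 87, []⟩, ⟨1, 86, []⟩, ⟨1, 90, []⟩, ⟨1, 797, [2, 11, 12, 7, 11, 12, 8, 12, 11, 12, 11]⟩]⟩,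
 ⟨4, 6, 1942, [], [⟨1, 1941, []⟩], []⟩,
 ⟨7, 6, 169, [0, 8, 11, 12, 13, 3, 1, 0, 2, 1, 3, 2, 0], [], [⟨1, 168, [0, 8, 11, 12, 13]⟩, ⟨1, 135, []⟩, ⟨1, 134, []⟩, ⟨1, 388, [8, 12, 7, 13, 11, 12, 11, 4, 12, 13]⟩, ⟨1, 76, []⟩, ⟨1, 76, []⟩, ⟨1, 78, []⟩, ⟨1, 77, []⟩, ⟨1, 78, []⟩, ⟨1, 81, []⟩, ⟨1, 77, []⟩, ⟨1, 126, []⟩, ⟨1, 348, [11, 12, 7, 12, 11, 12, 7, 11, 4]⟩]⟩,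
 ⟨4, 6, 1944, [], [⟨1, 1943, []⟩], []⟩,
 ⟨7, 6, 169, [12, 11, 4, 12, 3, 1, 0, 2, 1, 3, 2, 0], [], [⟨1, 168, [12, 11, 4, 12]⟩, ⟨1, 135, []⟩, ⟨1, 604, [2, 7, 11, 12, 8, 13, 11, 4, 12, 11]⟩, ⟨1, 90, []⟩, ⟨1, 90, []⟩, ⟨1, 86, []⟩, ⟨1, 569, [4, 11, 4, 12, 7, 11, 12, 8, 11, 13]⟩]⟩,
 ⟨4, 6, 1946, [], [⟨1, 1945, []⟩], []⟩,
 ⟨7, 6, 169, [7, 13, 11, 12, 3, 1, 0, 2, 1, 3, 2, 0], [], [⟨1, 168, [7, 13, 11, 12]⟩, ⟨1, 159, [4, 7, 13, 11]⟩, ⟨1, 41, []⟩, ⟨1, 40, []⟩, ⟨1, 68, []⟩, ⟨1, 68, []⟩, ⟨1, 593, [12, 8, 11, 2, 12, 11, 13, 11]⟩]⟩,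
 ⟨4, 6, 1948, [], [⟨1, 1947, []⟩], []⟩,
 ⟨7, 6, 169, [7, 11, 12, 13, 11, 4, 3, 1, 0, 2, 1, 3, 2, 0], [], [⟨1, 168, [7, 11, 12, 13, 11, 4]⟩, ⟨1, 134, []⟩, ⟨1, 135, []⟩, ⟨1, 134, []⟩, ⟨1, 462, [2, 7, 11, 4, 11, 12, 11, 13, 11]⟩, ⟨1, 86, []⟩, ⟨1, 87, []⟩, ⟨1, 90, []⟩, ⟨1, 90, []⟩, ⟨1, 90, []⟩, ⟨1, 647, [0, 8, 12, 8, 13, 11, 12, 7, 11, 12, 7]⟩]⟩,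
 ⟨4, 6, 1950, [], [⟨1, 1949, []⟩], []⟩,
 ⟨7, 6, 169, [11, 4, 11, 13, 11, 12, 3, 1, 0, 2, 1, 3, 2, 0], [], [⟨1, 168, [11, 4, 11, 13, 11, 12]⟩, ⟨1, 134, []⟩, ⟨1, 135, []⟩, ⟨1, 134, []⟩, ⟨1, 654, [7, 12, 11, 4, 13, 11, 12, 11, 4]⟩, ⟨1, 90, []⟩, ⟨1, 87, []⟩, ⟨1, 799, [8, 11, 12, 7, 13, 11, 4, 11, 4, 12]⟩]⟩,
 ⟨4, 6, 1952, [], [⟨1, 1951, []⟩], []⟩,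
 ⟨7, 6, 169, [7, 12, 11, 4, 3, 1, 0, 2, 1, 3, 2, 0], [], [⟨1, 168, [7, 12, 11, 4]⟩, ⟨1, 134, []⟩, ⟨1, 135, []⟩, ⟨1, 1888, [4, 11, 4, 12, 11, 13]⟩, ⟨1, 135, []⟩, ⟨1, 1172, [2, 7, 11, 4, 11, 12, 7, 11, 12, 8, 11]⟩]⟩,
 ⟨4, 6, 1954, [], [⟨1, 1953, []⟩], []⟩,
 ⟨7, 6, 169, [7, 13, 11, 4, 11, 12, 3, 1, 0, 2, 1, 3, 2, 0], [], [⟨1, 168, [7, 13, 11, 4, 11, 12]⟩, ⟨1, 135, []⟩, ⟨1, 134, []⟩, ⟨1, 1540, [2, 12, 8, 12, 11, 12, 7, 11, 12, 13]⟩, ⟨1, 1149, [0, 12, 8, 11, 4, 11, 12, 7, 11, 12]⟩]⟩,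
 ⟨4, 6, 1956, [], [⟨1, 1955, []⟩], []⟩]
theorem chk39 : and2 (D.chkL PF39 1909) (Nat.beq (Nat.add 1909 PF39.length) 1957) = true := by decide +kernel

end H19.Th.DC
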