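import Mathlib
import Cfsg.Agent.H19.Th.DC.B

set_option autoImplicit false
set_option maxRecDepth 100000
set_option Elab.async false
set_option linter.all false

namespace H19.Th.DC
open H29

def PF40 : List DPf := [⟨8, 6, 169, [12, 8, 11, 4, 12, 13, 0, 2, 3, 4, 2, 1, 2, 0, 1, 3, 2, 0], [], [⟨1, 168, [12, 8, 11, 4, 12, 13]⟩, ⟨1, 134, []⟩, ⟨1, 696, [2, 4, 8, 11, 12, 11, 12, 13]⟩, ⟨1, 86, []⟩, ⟨1, 87, []⟩, ⟨1, 90, []⟩, ⟨1, 543, [0, 4, 11, 4, 12, 8, 13, 11, 12, 11]⟩]⟩,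
 ⟨4, 6, 1958, [], [⟨1, 1957, []⟩], []⟩,
 ⟨8, 6, 169, [0, 4, 7, 11, 13, 11, 12, 0, 2, 3, 4, 2, 1, 2, 0, 1, 3, 2, 0], [], [⟨1, 168, [0, 4, 7, 11, 13, 11, 12]⟩, ⟨1, 134, []⟩, ⟨1, 261, [2, 7, 11, 12, 11, 4]⟩, ⟨1, 86, []⟩, ⟨1, 87, []⟩, ⟨1, 90, []⟩, ⟨1, 90, []⟩, ⟨1, 90, []⟩, ⟨1, 557, [7, 11, 12, 8, 12, 11, 12, 11, 4]⟩]⟩,
 ⟨4, 6, 1960, [], [⟨1, 1959, []⟩], []⟩,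
 ⟨8, 6, 169, [0, 8, 12, 13, 11, 12, 0, 2, 3, 4, 2, 1, 2, 0, 1, 3, 2, 0], [], [⟨1, 168, [0, 8, 12, 13, 11, 12]⟩, ⟨1, 134, []⟩, ⟨1, 135, []⟩, ⟨1, 1928, [0, 12, 11, 4, 12, 8, 11, 13, 11, 4, 11]⟩, ⟨1, 135, []⟩, ⟨1, 134, []⟩, ⟨1, 948, [2, 7, 11, 4, 11, 12, 8, 11, 4, 12]⟩]⟩,
 ⟨4, 6, 1962, [], [⟨1, 1961, []⟩], []⟩,
 ⟨8, 6, 169, [0, 8, 12, 13, 0, 2, 3, 4, 2, 1, 2, 0, 1, 3, 2, 0], [], [⟨1, 168, [0, 8, 12, 13]⟩, ⟨1, 134, []⟩, ⟨1, 135, []⟩, ⟨1, 1926, [0, 8, 11, 4, 11, 13, 11, 12, 8, 11]⟩, ⟨1, 135, []⟩, ⟨1, 134, []⟩, ⟨1, 1520, [4, 12, 11, 4, 11, 13, 11, 12]⟩]⟩,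
 ⟨4, 6, 1964, [], [⟨1, 1963, []⟩], []⟩,
 ⟨8, 6, 169, [4, 7, 13, 11, 12, 0, 2, 3, 4, 2, 1, 2, 0, 1, 3, 2, 0], [], [⟨1, 168, [4, 7, 13, 11, 12]⟩, ⟨1, 135, []⟩, ⟨1, 1077, [11, 12, 13, 11, 4, 11, 4, 13, 11]⟩, ⟨1, 134, []⟩, ⟨1, 135, []⟩, ⟨1, 1588, [4, 7, 11, 2, 12, 8, 12, 11, 12, 13]⟩]⟩,
 ⟨4, 6, 1966, [], [⟨1, 1965, []⟩], []⟩,
 ⟨8, 6, 169, [0, 4, 13, 0, 2, 3, 4, 2, 1, 2, 0, 1, 3, 2, 0], [], [⟨1, 168, [0, 4, 13]⟩, ⟨1, 135, []⟩, ⟨1, 1928, [11, 12, 11, 12, 7, 12, 11, 4, 12, 13]⟩, ⟨1, 135, []⟩, ⟨1, 134, []⟩, ⟨1, 1093, [0, 8, 13, 11, 4, 11, 4, 13]⟩]⟩,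
 ⟨4, 6, 1968, [], [⟨1, 1967, []⟩], []⟩,
 ⟨8, 6, 169, [7, 12, 8, 11, 12, 0, 2, 3, 4, 2, 1, 2, 0, 1, 3, 2, 0], [], [⟨1, 168, [7, 12, 8, 11, 12]⟩, ⟨1, 868, [8, 12, 7, 11, 12, 11, 4, 12, 8, 13]⟩, ⟨1, 134, []⟩, ⟨1, 135, []⟩, ⟨1, 1854, [0, 8, 11, 4, 13, 11, 4, 11, 12, 7]⟩]⟩,
 ⟨4, 6, 1970, [], [⟨1, 1969, []⟩], []⟩,
 ⟨8, 6, 169, [7, 11, 4, 13, 11, 12, 0, 2, 3, 4, 2, 1, 2, 0, 1, 3, 2, 0], [], [⟨1, 168, [7, 11, 4, 13, 11, 12]⟩, ⟨1, 261, [7, 11, 4, 12, 11, 4]⟩, ⟨1, 90, []⟩, ⟨1, 90, []⟩, ⟨1, 90, []⟩, ⟨1, 633, [0, 12, 11, 4, 12, 8, 11, 13, 11, 4]⟩]⟩,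
 ⟨4, 6, 1972, [], [⟨1, 1971, []⟩], []⟩,
 ⟨8, 6, 169, [0, 4, 8, 11, 12, 13, 0, 2, 3, 4, 2, 1, 2, 0, 1, 3, 2, 0], [], [⟨1, 168, [0, 4, 8, 11, 12, 13]⟩, ⟨1, 696, [4, 8, 11, 13]⟩, ⟨1, 86, []⟩, ⟨1, 87, []⟩, ⟨1, 90, []⟩, ⟨1, 621, [8, 11, 12, 7, 11, 12, 11, 4, 12, 13]⟩]⟩,
 ⟨4, 6, 1974, [], [⟨1, 1973, []⟩], []⟩,
 ⟨8, 6, 169, [4, 7, 11, 13, 11, 12, 0, 2, 3, 4, 2, 1, 2, 0, 1, 3, 2, 0], [], [⟨1, 168, [4, 7, 11, 13, 11, 12]⟩, ⟨1, 134, []⟩, ⟨1, 261, [2, 7, 11, 12, 13, 11, 4]⟩, ⟨1, 86, []⟩, ⟨1, 87, []⟩, ⟨1, 86, []⟩, ⟨1, 90, []⟩, ⟨1, 761, [4, 12, 7, 13, 11, 12, 8, 11, 12, 11]⟩]⟩,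
 ⟨8, 6, 169, [4, 12, 11, 12, 0, 2, 3, 4, 2, 1, 2, 0, 1, 3, 2, 0], [], [⟨1, 168, [4, 12, 11, 12]⟩, ⟨1, 135, []⟩, ⟨1, 159, [0, 4, 11, 4, 12, 13, 11, 4, 11, 12, 8]⟩, ⟨1, 43, []⟩, ⟨1, 42, []⟩, ⟨1, 68, []⟩, ⟨1, 68, []⟩, ⟨1, 593, [11, 12, 7, 11, 12, 11, 13, 11, 12]⟩]⟩,
 ⟨4, 6, 1977, [], [⟨1, 1976, []⟩], []⟩,
 ⟨8, 6, 169, [12, 8, 11, 12, 13, 0, 2, 3, 4, 2, 1, 2, 0, 1, 3, 2, 0], [], [⟨1, 168, [12, 8, 11, 12, 13]⟩, ⟨1, 696, [4, 7, 11, 2, 13, 11, 12, 7, 11]⟩, ⟨1, 86, []⟩, ⟨1, 87, []⟩, ⟨1, 90, []⟩, ⟨1, 87, []⟩, ⟨1, 292, [2, 8, 12, 7, 11, 12, 13, 11, 4, 12]⟩]⟩,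
 ⟨4, 6, 1979, [], [⟨1, 1978, []⟩], []⟩,
 ⟨8, 6, 169, [8, 12, 8, 11, 12, 13, 0, 2, 3, 4, 2, 1, 2, 0, 1, 3, 2, 0], [], [⟨1, 168, [8, 12, 8, 11, 12, 13]⟩, ⟨1, 134, []⟩, ⟨1, 261, [11, 12, 8, 13, 11, 4, 11, 12, 8, 11]⟩, ⟨1, 87, []⟩, ⟨1, 86, []⟩, ⟨1, 90, []⟩, ⟨1, 90, []⟩, ⟨1, 90, []⟩, ⟨1, 411, [13, 11, 12, 8, 11, 12, 7, 13, 11, 12]⟩]⟩,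
 ⟨4, 6, 1981, [], [⟨1, 1980, []⟩], []⟩,
 ⟨8, 6, 169, [7, 12, 11, 4, 12, 13, 0, 2, 3, 4, 2, 1, 2, 0, 1, 3, 2, 0], [], [⟨1, 168, [7, 12, 11, 4, 12, 13]⟩, ⟨1, 261, [11, 12, 7, 11, 4, 11, 13, 11]⟩, ⟨1, 87, []⟩, ⟨1, 90, []⟩, ⟨1, 90, []⟩, ⟨1, 282, [13, 11, 4, 11, 12, 8, 12, 13, 11]⟩]⟩,
 ⟨4, 6, 1983, [], [⟨1, 1982, []⟩], []⟩,
 ⟨8, 6, 169, [2, 12, 7, 11, 12, 0, 2, 3, 4, 2, 1, 2, 0, 1, 3, 2, 0], [], [⟨1, 168, [2, 12, 7, 11, 12]⟩, ⟨1, 868, [4, 12, 7, 11, 4, 12, 13]⟩, ⟨1, 134, []⟩, ⟨1, 135, []⟩, ⟨1, 1460, [7, 13, 11, 2, 4, 12, 8, 11, 4]⟩]⟩,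
 ⟨4, 6, 1985, [], [⟨1, 1984, []⟩], []⟩,
 ⟨12, 6, 169, [2, 7, 12, 7, 11, 12, 0, 2, 3, 1, 0, 2, 1, 2, 4, 3, 2, 0, 2, 0], [], [⟨1, 168, [2, 7, 12, 7, 11, 12]⟩, ⟨1, 134, []⟩, ⟨1, 135, []⟩, ⟨1, 1969, [8, 12, 7, 11, 12, 7, 11, 4, 12, 8]⟩, ⟨1, 134, []⟩, ⟨1, 135, []⟩, ⟨1, 1281, [11, 12, 7, 11, 4, 11, 12, 7, 13]⟩]⟩,
 ⟨4, 6, 1987, [], [⟨1, 1986, []⟩], []⟩,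
 ⟨12, 6, 169, [11, 4, 11, 12, 11, 13, 11, 4, 0, 2, 3, 1, 0, 2, 1, 2, 4, 3, 2, 0, 2, 0], [], [⟨1, 168, [11, 4, 11, 12, 11, 13, 11, 4]⟩, ⟨1, 135, []⟩, ⟨1, 134, []⟩, ⟨1, 1137, [2, 7, 11, 4, 12, 11, 13, 11]⟩, ⟨1, 135, []⟩, ⟨1, 1222, [7, 12, 11, 12, 11, 13, 11, 12]⟩]⟩,
 ⟨4, 6, 1989, [], [⟨1, 1988, []⟩], []⟩,
 ⟨13, 6, 169, [7, 12, 11, 4, 0, 2, 3, 1, 2, 0, 1, 3, 2, 0], [], [⟨1, 168, [7, 12, 11, 4]⟩, ⟨1, 956, [2, 4, 8, 11, 12, 7, 11, 4]⟩, ⟨1, 134, []⟩, ⟨1, 135, []⟩, ⟨1, 1833, [7, 11, 12, 11, 4, 12, 13, 11, 12, 11]⟩]⟩,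
 ⟨4, 6, 1991, [], [⟨1, 1990, []⟩], []⟩,
 ⟨13, 6, 169, [0, 7, 11, 4, 12, 13, 0, 2, 3, 1, 2, 0, 1, 3, 2, 0], [], [⟨1, 168, [0, 7, 11, 4, 12, 13]⟩, ⟨1, 261, [8, 12, 11, 4, 11, 13, 11, 12, 8]⟩, ⟨1, 86, []⟩, ⟨1, 87, []⟩, ⟨1, 86, []⟩, ⟨1, 90, []⟩, ⟨1, 87, []⟩, ⟨1, 609, [11, 12, 7, 11, 4, 12, 8, 13]⟩]⟩,
 ⟨4, 6, 1993, [], [⟨1, 1992, []⟩], []⟩,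
 ⟨15, 6, 169, [0, 2, 5, 2, 0], [], [⟨1, 168, []⟩, ⟨1, 135, []⟩, ⟨1, 1067, [2, 8, 11, 13, 11, 4, 11, 13]⟩]⟩,
 ⟨5, 6, 170, [11, 13, 3, 2, 0], [], [⟨1, 169, [11, 13]⟩, ⟨1, 135, []⟩, ⟨1, 1523, [2, 11, 4, 11, 12, 7, 11, 12, 11, 12]⟩, ⟨1, 134, []⟩, ⟨1, 916, [11, 2, 4, 11, 13, 11, 4]⟩]⟩,
 ⟨4, 6, 1996, [], [⟨1, 1995, []⟩], []⟩,
 ⟨6, 6, 170, [4, 13, 0, 2, 4, 3, 2, 0], [], [⟨1, 169, [4, 13]⟩, ⟨1, 134, []⟩, ⟨1, 135, []⟩, ⟨1, 1131, [0, 12, 8, 11, 4, 12, 11, 4, 13]⟩, ⟨1, 134, []⟩, ⟨1, 1798, [4, 11, 12, 8, 11, 13, 11, 4, 11, 4]⟩]⟩,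
 ⟨4, 6, 1998, [], [⟨1, 1997, []⟩], []⟩,
 ⟨7, 6, 170, [4, 12, 7, 11, 12, 3, 1, 0, 2, 1, 3, 2, 0], [], [⟨1, 169, [4, 12, 7, 11, 12]⟩, ⟨1, 134, []⟩, ⟨1, 135, []⟩, ⟨1, 740, [2, 4, 12, 11, 12, 7, 11, 12, 11, 12]⟩, ⟨1, 747, [2, 4, 12, 11, 12, 8, 11, 4, 11, 13]⟩]⟩,
 ⟨4, 6, 2000, [], [⟨1, 1999, []⟩], []⟩,
 ⟨7, 6, 170, [4, 8, 12, 11, 4, 3, 1, 0, 2, 1, 3, 2, 0], [], [⟨1, 169, [4, 8, 12, 11, 4]⟩, ⟨1, 134, []⟩, ⟨1, 135, []⟩, ⟨1, 134, []⟩, ⟨1, 456, [2, 12, 7, 11, 12, 7, 13, 11, 4]⟩, ⟨1, 747, [2, 4, 12, 13, 11, 12]⟩]⟩,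
 ⟨4, 6, 2002, [], [⟨1, 2001, []⟩], []⟩,
 ⟨7, 6, 170, [4, 7, 13, 11, 4, 12, 3, 1, 0, 2, 1, 3, 2, 0], [], [⟨1, 169, [4, 7, 13, 11, 4, 12]⟩, ⟨1, 135, []⟩, ⟨1, 482, [8, 11, 12, 7, 13, 11]⟩, ⟨1, 86, []⟩, ⟨1, 90, []⟩, ⟨1, 525, [8, 12, 8, 11, 4, 11, 13, 11, 12]⟩]⟩,
 ⟨4, 6, 2004, [], [⟨1, 2003, []⟩], []⟩]
theorem chk40 : and2 (D.chkL PF40 1957) (Nat.beq (Nat.add 1957 PF40.length) 2005) = true := by decide +kernel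

def PF41 : List DPf := [⟨7, 6, 170, [11, 4, 12, 3, 1, 0, 2, 1, 3, 2, 0], [], [⟨1, 169, [11, 4, 12]⟩, ⟨1, 135, []⟩, ⟨1, 712, [7, 11, 2, 12, 7, 13, 11, 12, 8]⟩, ⟨1, 86, []⟩, ⟨1, 87, []⟩, ⟨1, 90, []⟩, ⟨1, 86, []⟩, ⟨1, 569, [4, 8, 11, 13, 11, 12, 7, 11, 12]⟩]⟩,
 ⟨4, 6, 2006, [], [⟨1, 2005, []⟩], []⟩,
 ⟨7, 6, 170, [0, 4, 12, 13, 11, 12, 3, 1, 0, 2, 1, 3, 2, 0], [], [⟨1, 169, [0, 4, 12, 13, 11, 12]⟩, ⟨1, 134, []⟩, ⟨1, 1131, [2, 7, 12, 11, 12, 7, 11, 4]⟩, ⟨1, 1134, [2, 4, 8, 12, 11, 4, 12, 8, 11, 13]⟩]⟩,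
 ⟨4, 6, 2008, [], [⟨1, 2007, []⟩], []⟩,
 ⟨7, 6, 170, [2, 4, 12, 7, 11, 12, 3, 1, 0, 2, 1, 3, 2, 0], [], [⟨1, 169, [2, 4, 12, 7, 11, 12]⟩, ⟨1, 134, []⟩, ⟨1, 728, [0, 12, 7, 11, 12, 8, 12, 11, 4, 12, 13]⟩, ⟨1, 86, []⟩, ⟨1, 747, [2, 4, 12, 11, 4, 11, 12, 8]⟩]⟩,
 ⟨4, 6, 2010, [], [⟨1, 2009, []⟩], []⟩,
 ⟨7, 6, 170, [13, 11, 4, 3, 1, 0, 2, 1, 3, 2, 0], [], [⟨1, 169, [13, 11, 4]⟩, ⟨1, 134, []⟩, ⟨1, 1178, [0, 4, 8, 12, 13, 11, 4, 11, 12, 11]⟩, ⟨1, 134, []⟩, ⟨1, 1897, [0, 8, 12, 7, 11, 13, 11, 12, 8, 12, 11]⟩]⟩,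
 ⟨4, 6, 2012, [], [⟨1, 2011, []⟩], []⟩,
 ⟨7, 6, 170, [4, 12, 7, 11, 12, 13, 3, 1, 0, 2, 1, 3, 2, 0], [], [⟨1, 169, [4, 12, 7, 11, 12, 13]⟩, ⟨1, 134, []⟩, ⟨1, 772, [0, 4, 8, 11, 12, 8, 13, 11, 12, 8]⟩, ⟨1, 86, []⟩, ⟨1, 90, []⟩, ⟨1, 90, []⟩, ⟨1, 86, []⟩, ⟨1, 765, [8, 11, 12, 8, 13, 11, 4, 11, 4, 13]⟩]⟩,
 ⟨4, 6, 2014, [], [⟨1, 2013, []⟩], []⟩,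
 ⟨7, 6, 170, [7, 13, 11, 12, 3, 1, 0, 2, 1, 3, 2, 0], [], [⟨1, 169, [7, 13, 11, 12]⟩, ⟨1, 134, []⟩, ⟨1, 566, [0, 4, 11, 12, 13, 11, 4, 12, 11, 13]⟩, ⟨1, 87, []⟩, ⟨1, 527, [2, 7, 12, 11, 13, 11, 12, 8, 11, 12]⟩]⟩,
 ⟨4, 6, 2016, [], [⟨1, 2015, []⟩], []⟩,
 ⟨7, 6, 170, [12, 11, 4, 12, 13, 3, 1, 0, 2, 1, 3, 2, 0], [], [⟨1, 169, [12, 11, 4, 12, 13]⟩, ⟨1, 134, []⟩, ⟨1, 135, []⟩, ⟨1, 134, []⟩, ⟨1, 1688, [2, 12, 7, 11, 12, 11, 12, 8, 12, 13]⟩, ⟨1, 135, []⟩, ⟨1, 134, []⟩, ⟨1, 1686, [0, 2, 8, 12, 7]⟩]⟩,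
 ⟨4, 6, 2018, [], [⟨1, 2017, []⟩], []⟩,
 ⟨7, 6, 170, [0, 8, 11, 13, 11, 4, 12, 3, 1, 0, 2, 1, 3, 2, 0], [], [⟨1, 169, [0, 8, 11, 13, 11, 4, 12]⟩, ⟨1, 550, [7, 11, 4, 12, 13, 11, 4, 11]⟩, ⟨1, 86, []⟩, ⟨1, 90, []⟩, ⟨1, 86, []⟩, ⟨1, 90, []⟩, ⟨1, 477, [7, 12, 8, 11, 2, 13, 11, 12, 11, 4]⟩]⟩,
 ⟨4, 6, 2020, [], [⟨1, 2019, []⟩], []⟩,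
 ⟨7, 6, 170, [4, 12, 13, 3, 1, 0, 2, 1, 3, 2, 0], [], [⟨1, 169, [4, 12, 13]⟩, ⟨1, 134, []⟩, ⟨1, 135, []⟩, ⟨1, 1557, [4, 8, 13, 11, 2, 12, 8, 11, 12, 8]⟩, ⟨1, 134, []⟩, ⟨1, 135, []⟩, ⟨1, 2019, [0, 4, 7, 13, 11, 12, 11, 12, 8, 12, 11]⟩]⟩,
 ⟨4, 6, 2022, [], [⟨1, 2021, []⟩], []⟩,
 ⟨7, 6, 170, [0, 13, 11, 4, 12, 3, 1, 0, 2, 1, 3, 2, 0], [], [⟨1, 169, [0, 13, 11, 4, 12]⟩, ⟨1, 686, [4, 12, 11, 12, 7, 13, 11, 12, 11]⟩, ⟨1, 86, []⟩, ⟨1, 87, []⟩, ⟨1, 86, []⟩, ⟨1, 90, []⟩, ⟨1, 86, []⟩, ⟨1, 637, [7, 12, 11, 2, 4, 12, 13, 11, 4]⟩]⟩,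
 ⟨4, 6, 2024, [], [⟨1, 2023, []⟩], []⟩,
 ⟨7, 6, 170, [0, 7, 13, 11, 12, 3, 1, 0, 2, 1, 3, 2, 0], [], [⟨1, 169, [0, 7, 13, 11, 12]⟩, ⟨1, 135, []⟩, ⟨1, 134, []⟩, ⟨1, 454, [0, 8, 11, 12, 11, 4, 13, 11]⟩, ⟨1, 87, []⟩, ⟨1, 90, []⟩, ⟨1, 90, []⟩, ⟨1, 451, [4, 11, 2, 12, 8, 11, 4, 12]⟩]⟩,
 ⟨4, 6, 2026, [], [⟨1, 2025, []⟩], []⟩,
 ⟨8, 6, 170, [11, 4, 13, 0, 2, 3, 4, 2, 1, 2, 0, 1, 3, 2, 0], [], [⟨1, 169, [11, 4, 13]⟩, ⟨1, 134, []⟩, ⟨1, 135, []⟩, ⟨1, 1523, [2, 12, 7, 13, 11, 12, 11, 4]⟩, ⟨1, 135, []⟩, ⟨1, 1604, [2, 4, 12, 7, 11, 4, 12, 11, 12, 8, 13]⟩]⟩,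
 ⟨4, 6, 2028, [], [⟨1, 2027, []⟩], []⟩,
 ⟨8, 6, 170, [8, 11, 12, 13, 11, 12, 0, 2, 3, 4, 2, 1, 2, 0, 1, 3, 2, 0], [], [⟨1, 169, [8, 11, 12, 13, 11, 12]⟩, ⟨1, 135, []⟩, ⟨1, 1523, [0, 4, 11, 13, 11, 4, 12, 11, 12, 8]⟩, ⟨1, 134, []⟩, ⟨1, 1549, [2, 12, 11, 4, 11, 12, 8]⟩]⟩,
 ⟨4, 6, 2030, [], [⟨1, 2029, []⟩], []⟩,
 ⟨8, 6, 170, [7, 12, 11, 13, 11, 4, 0, 2, 3, 4, 2, 1, 2, 0, 1, 3, 2, 0], [], [⟨1, 169, [7, 12, 11, 13, 11, 4]⟩, ⟨1, 134, []⟩, ⟨1, 135, []⟩, ⟨1, 1523, [2, 7, 11, 13, 11, 12, 8, 11, 4, 12]⟩, ⟨1, 134, []⟩, ⟨1, 135, []⟩, ⟨1, 1963, [8, 11, 2, 12, 8, 11, 12, 8, 13]⟩]⟩,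
 ⟨4, 6, 2032, [], [⟨1, 2031, []⟩], []⟩,
 ⟨8, 6, 170, [0, 4, 12, 13, 11, 12, 0, 2, 3, 4, 2, 1, 2, 0, 1, 3, 2, 0], [], [⟨1, 169, [0, 4, 12, 13, 11, 12]⟩, ⟨1, 134, []⟩, ⟨1, 135, []⟩, ⟨1, 1131, [11, 4, 12, 11, 12, 8]⟩, ⟨1, 1134, [2, 12, 11, 12, 7, 11, 4]⟩]⟩,
 ⟨4, 6, 2034, [], [⟨1, 2033, []⟩], []⟩,
 ⟨8, 6, 170, [4, 12, 7, 13, 11, 12, 0, 2, 3, 4, 2, 1, 2, 0, 1, 3, 2, 0], [], [⟨1, 169, [4, 12, 7, 13, 11, 12]⟩, ⟨1, 2012, [4, 7, 12, 11, 2, 4, 13]⟩, ⟨1, 135, []⟩, ⟨1, 843, [11, 4, 12, 7, 11, 12, 7, 11, 13, 11]⟩]⟩,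
 ⟨4, 6, 2036, [], [⟨1, 2035, []⟩], []⟩,
 ⟨8, 6, 170, [4, 13, 11, 4, 12, 11, 4, 0, 2, 3, 4, 2, 1, 2, 0, 1, 3, 2, 0], [], [⟨1, 169, [4, 13, 11, 4, 12, 11, 4]⟩, ⟨1, 134, []⟩, ⟨1, 135, []⟩, ⟨1, 134, []⟩, ⟨1, 1667, [0, 4, 7, 12, 8, 13, 11, 12, 11, 4, 11]⟩, ⟨1, 135, []⟩, ⟨1, 134, []⟩, ⟨1, 1662, [2, 4, 12, 11, 12, 7, 12, 13, 11]⟩]⟩,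
 ⟨4, 6, 2038, [], [⟨1, 2037, []⟩], []⟩,
 ⟨8, 6, 170, [8, 12, 7, 11, 4, 12, 0, 2, 3, 4, 2, 1, 2, 0, 1, 3, 2, 0], [], [⟨1, 169, [8, 12, 7, 11, 4, 12]⟩, ⟨1, 1012, [11, 12, 8, 11, 13, 11, 12, 7, 11]⟩, ⟨1, 1303, [0, 4, 8, 11, 12, 11, 4, 13, 11, 12]⟩]⟩,
 ⟨4, 6, 2040, [], [⟨1, 2039, []⟩], []⟩,
 ⟨8, 6, 170, [2, 12, 7, 11, 12, 0, 2, 3, 4, 2, 1, 2, 0, 1, 3, 2, 0], [], [⟨1, 169, [2, 12, 7, 11, 12]⟩, ⟨1, 944, [0, 7, 12, 13, 11, 12, 8, 11, 12, 7]⟩, ⟨1, 134, []⟩, ⟨1, 135, []⟩, ⟨1, 1161, [2, 7, 11, 4, 11, 12, 8, 12, 13]⟩]⟩,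
 ⟨4, 6, 2042, [], [⟨1, 2041, []⟩], []⟩,
 ⟨9, 6, 170, [4, 11, 12, 7, 11, 12, 0, 2, 4, 1, 0, 2, 1, 3, 2, 0], [], [⟨1, 169, [4, 11, 12, 7, 11, 12]⟩, ⟨1, 1037, [0, 12, 11, 4, 12, 8, 11, 12, 11]⟩, ⟨1, 135, []⟩, ⟨1, 134, []⟩, ⟨1, 963, [12, 11, 4, 11, 13, 11, 12, 11, 13]⟩]⟩,
 ⟨4, 6, 2044, [], [⟨1, 2043, []⟩], []⟩,
 ⟨9, 6, 170, [4, 8, 13, 11, 4, 12, 0, 2, 4, 1, 0, 2, 1, 3, 2, 0], [], [⟨1, 169, [4, 8, 13, 11, 4, 12]⟩, ⟨1, 2012, [8, 11, 2, 12, 7, 11, 12]⟩, ⟨1, 1077, [12, 8, 11, 12, 8, 13, 11, 12, 11]⟩]⟩,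
 ⟨4, 6, 2046, [], [⟨1, 2045, []⟩], []⟩,
 ⟨9, 6, 170, [4, 8, 12, 11, 13, 11, 0, 2, 4, 1, 0, 2, 1, 3, 2, 0], [], [⟨1, 169, [4, 8, 12, 11, 13, 11]⟩, ⟨1, 135, []⟩, ⟨1, 1523, [0, 11, 12, 8, 12, 11, 12]⟩, ⟨1, 134, []⟩, ⟨1, 1305, [4, 12, 7, 11, 12, 13, 11, 12, 7]⟩]⟩,
 ⟨4, 6, 2048, [], [⟨1, 2047, []⟩], []⟩,
 ⟨12, 6, 170, [2, 12, 11, 4, 12, 0, 2, 3, 1, 0, 2, 1, 2, 4, 3, 2, 0, 2, 0], [], [⟨1, 169, [2, 12, 11, 4, 12]⟩, ⟨1, 134, []⟩, ⟨1, 879, [0, 8, 12, 11, 12, 13, 11, 4, 11]⟩, ⟨1, 1798, [2, 4, 11, 13, 11, 4, 11, 12, 8]⟩]⟩,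
 ⟨4, 6, 2050, [], [⟨1, 2049, []⟩], []⟩,
 ⟨12, 6, 170, [7, 12, 8, 13, 11, 12, 0, 2, 3, 1, 0, 2, 1, 2, 4, 3, 2, 0, 2, 0], [], [⟨1, 169, [7, 12, 8, 13, 11, 12]⟩, ⟨1, 135, []⟩, ⟨1, 134, []⟩, ⟨1, 798, [0, 11, 4, 12, 8, 13, 11, 12, 8]⟩, ⟨1, 86, []⟩, ⟨1, 87, []⟩, ⟨1, 90, []⟩, ⟨1, 90, []⟩, ⟨1, 86, []⟩, ⟨1, 449, [2, 11, 12, 8, 11, 12, 7, 11, 4, 13, 11]⟩]⟩,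
 ⟨4, 6, 2052, [], [⟨1, 2051, []⟩], []⟩]
theorem chk41 : and2 (D.chkL PF41 2005) (Nat.beq (Nat.add 2005 PF41.length) 2053) = true := by decide +kernel

def PF42 : List DPf := [⟨12, 6, 170, [4, 7, 12, 8, 11, 12, 0, 2, 3, 1, 0, 2, 1, 2, 4, 3, 2, 0, 2, 0], [], [⟨1, 169, [4, 7, 12, 8, 11, 12]⟩, ⟨1, 135, []⟩, ⟨1, 134, []⟩, ⟨1, 522, [2, 4, 11, 13, 11, 4, 12, 11, 12, 8]⟩, ⟨1, 86, []⟩, ⟨1, 90, []⟩, ⟨1, 87, []⟩, ⟨1, 90, []⟩, ⟨1, 90, []⟩, ⟨1, 747, [2, 11, 4, 12, 7, 11, 4, 12, 11, 12]⟩]⟩,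
 ⟨4, 6, 2054, [], [⟨1, 2053, []⟩], []⟩,
 ⟨12, 6, 170, [8, 11, 4, 12, 13, 11, 4, 12, 0, 2, 3, 1, 0, 2, 1, 2, 4, 3, 2, 0, 2, 0], [], [⟨1, 169, [8, 11, 4, 12, 13, 11, 4, 12]⟩, ⟨1, 145, [0, 12, 7, 11, 13, 11, 12, 7, 11, 12, 8]⟩, ⟨1, 39, []⟩, ⟨1, 779, [0, 4, 11, 12, 7, 11, 4, 12]⟩]⟩,
 ⟨4, 6, 2056, [], [⟨1, 2055, []⟩], []⟩,
 ⟨12, 6, 170, [11, 4, 11, 12, 11, 13, 11, 4, 0, 2, 3, 1, 0, 2, 1, 2, 4, 3, 2, 0, 2, 0], [], [⟨1, 169, [11, 4, 11, 12, 11, 13, 11, 4]⟩, ⟨1, 135, []⟩, ⟨1, 134, []⟩, ⟨1, 1401, [2, 4, 7, 12, 11, 12, 8, 11, 12, 11, 12]⟩, ⟨1, 1383, [2, 8, 11, 12, 11, 4, 11, 12, 7, 11]⟩]⟩,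
 ⟨4, 6, 2058, [], [⟨1, 2057, []⟩], []⟩,
 ⟨13, 6, 170, [0, 7, 12, 13, 11, 12, 0, 2, 3, 1, 2, 0, 1, 3, 2, 0], [], [⟨1, 169, [0, 7, 12, 13, 11, 12]⟩, ⟨1, 135, []⟩, ⟨1, 1131, [7, 12, 11, 12, 7, 11, 12, 8, 13, 11]⟩, ⟨1, 135, []⟩, ⟨1, 134, []⟩, ⟨1, 1858, [0, 8, 13, 11, 4, 12, 11, 4, 13, 11]⟩]⟩,
 ⟨4, 6, 2060, [], [⟨1, 2059, []⟩], []⟩,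
 ⟨13, 6, 170, [11, 13, 11, 4, 0, 2, 3, 1, 2, 0, 1, 3, 2, 0], [], [⟨1, 169, [11, 13, 11, 4]⟩, ⟨1, 134, []⟩, ⟨1, 135, []⟩, ⟨1, 1523, [0, 12, 7, 11, 13, 11, 4, 12, 11, 13]⟩, ⟨1, 134, []⟩, ⟨1, 135, []⟩, ⟨1, 134, []⟩, ⟨1, 2056, [4, 11, 12, 8, 13, 11, 4, 11, 12, 8, 13]⟩]⟩,
 ⟨4, 6, 2062, [], [⟨1, 2061, []⟩], []⟩,
 ⟨13, 6, 170, [4, 11, 4, 11, 12, 0, 2, 3, 1, 2, 0, 1, 3, 2, 0], [], [⟨1, 169, [4, 11, 4, 11, 12]⟩, ⟨1, 1029, [2, 4, 7, 11, 12, 7, 11, 12, 8, 12, 11]⟩, ⟨1, 1805, [12, 13, 11, 4, 11, 12, 13]⟩]⟩,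
 ⟨4, 6, 2064, [], [⟨1, 2063, []⟩], []⟩,
 ⟨13, 6, 170, [7, 11, 4, 12, 11, 4, 0, 2, 3, 1, 2, 0, 1, 3, 2, 0], [], [⟨1, 169, [7, 11, 4, 12, 11, 4]⟩, ⟨1, 1012, [2, 11, 4, 11, 12, 7, 12, 11, 12, 7, 11]⟩, ⟨1, 134, []⟩, ⟨1, 135, []⟩, ⟨1, 134, []⟩, ⟨1, 1521, [0, 11, 13, 11, 4, 12, 8]⟩]⟩,
 ⟨4, 6, 2066, [], [⟨1, 2065, []⟩], []⟩,
 ⟨13, 6, 170, [12, 13, 11, 12, 11, 4, 0, 2, 3, 1, 2, 0, 1, 3, 2, 0], [], [⟨1, 169, [12, 13, 11, 12, 11, 4]⟩, ⟨1, 134, []⟩, ⟨1, 135, []⟩, ⟨1, 1131, [0, 7, 11, 4, 12, 11, 12, 7, 12, 13, 11]⟩, ⟨1, 135, []⟩, ⟨1, 1829, [8, 12, 8, 11, 12, 13, 11, 12]⟩]⟩,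
 ⟨4, 6, 2068, [], [⟨1, 2067, []⟩], []⟩,
 ⟨13, 6, 170, [0, 7, 11, 4, 12, 13, 0, 2, 3, 1, 2, 0, 1, 3, 2, 0], [], [⟨1, 169, [0, 7, 11, 4, 12, 13]⟩, ⟨1, 135, []⟩, ⟨1, 2066, [2, 4, 8, 11, 4, 13]⟩, ⟨1, 1041, [4, 11, 4, 12, 11, 12, 8, 12, 11, 13]⟩]⟩,
 ⟨4, 6, 2070, [], [⟨1, 2069, []⟩], []⟩,
 ⟨17, 6, 170, [7, 13, 5, 5, 3, 6, 6, 2, 0], [], [⟨1, 169, [7, 13]⟩, ⟨1, 134, []⟩, ⟨1, 1797, [4, 12, 11, 4, 12, 13, 11, 4, 12, 11, 13]⟩, ⟨1, 135, []⟩, ⟨1, 134, []⟩, ⟨1, 1996, [8, 13, 11, 12, 8, 11, 4, 12, 11]⟩]⟩,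
 ⟨4, 6, 2072, [], [⟨1, 2071, []⟩], []⟩,
 ⟨5, 6, 165, [4, 8, 12, 3, 2, 0], [], [⟨1, 164, [4, 8, 12]⟩, ⟨1, 135, []⟩, ⟨1, 542, [0, 4, 7, 13, 11, 4, 11, 12, 11, 12, 7]⟩, ⟨1, 87, []⟩, ⟨1, 90, []⟩, ⟨1, 90, []⟩, ⟨1, 86, []⟩, ⟨1, 555, [2, 12, 8, 11, 12, 11, 4, 12, 13]⟩]⟩,
 ⟨4, 6, 2074, [], [⟨1, 2073, []⟩], []⟩,
 ⟨5, 6, 165, [8, 12, 3, 2, 0], [], [⟨1, 164, [8, 12]⟩, ⟨1, 135, []⟩, ⟨1, 134, []⟩, ⟨1, 410, [7, 12, 8, 11, 4, 11, 4, 13, 11, 4, 11, 13]⟩, ⟨1, 90, []⟩, ⟨1, 86, []⟩, ⟨1, 90, []⟩, ⟨1, 330, [4, 8, 12, 7, 11, 2, 13, 11, 4, 12]⟩]⟩,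
 ⟨4, 6, 2076, [], [⟨1, 2075, []⟩], []⟩,
 ⟨7, 6, 165, [11, 12, 11, 4, 3, 1, 0, 2, 1, 3, 2, 0], [], [⟨1, 164, [11, 12, 11, 4]⟩, ⟨1, 135, []⟩, ⟨1, 134, []⟩, ⟨1, 1798, [7, 11, 4, 11, 12, 8, 11, 4, 12]⟩, ⟨1, 135, []⟩, ⟨1, 1885, [0, 4, 7, 12, 11, 4, 13, 11, 12, 7]⟩]⟩,
 ⟨4, 6, 2078, [], [⟨1, 2077, []⟩], []⟩,
 ⟨7, 6, 165, [4, 12, 7, 11, 12, 3, 1, 0, 2, 1, 3, 2, 0], [], [⟨1, 164, [4, 12, 7, 11, 12]⟩, ⟨1, 135, []⟩, ⟨1, 134, []⟩, ⟨1, 660, [2, 4, 7, 12, 11, 4, 11, 12, 13]⟩, ⟨1, 90, []⟩, ⟨1, 90, []⟩, ⟨1, 90, []⟩, ⟨1, 727, [4, 7, 12, 8, 11, 12, 7, 13]⟩]⟩,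
 ⟨4, 6, 2080, [], [⟨1, 2079, []⟩], []⟩,
 ⟨7, 6, 165, [4, 8, 12, 11, 4, 3, 1, 0, 2, 1, 3, 2, 0], [], [⟨1, 164, [4, 8, 12, 11, 4]⟩, ⟨1, 134, []⟩, ⟨1, 135, []⟩, ⟨1, 770, [7, 11, 4, 12, 11, 13, 11, 4, 11, 4, 13]⟩, ⟨1, 86, []⟩, ⟨1, 87, []⟩, ⟨1, 90, []⟩, ⟨1, 90, []⟩, ⟨1, 278, [4, 13, 11, 4, 11, 12, 7, 11, 4]⟩]⟩,
 ⟨4, 6, 2082, [], [⟨1, 2081, []⟩], []⟩,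
 ⟨7, 6, 165, [2, 8, 11, 12, 7, 11, 12, 3, 1, 0, 2, 1, 3, 2, 0], [], [⟨1, 164, [2, 8, 11, 12, 7, 11, 12]⟩, ⟨1, 1669, [7, 11, 13, 11, 12, 11, 13]⟩, ⟨1, 134, []⟩, ⟨1, 135, []⟩, ⟨1, 1266, [4, 8, 11, 4, 11, 13, 11, 4, 11, 12, 13]⟩]⟩,
 ⟨4, 6, 2084, [], [⟨1, 2083, []⟩], []⟩,
 ⟨7, 6, 165, [0, 4, 12, 8, 13, 11, 12, 3, 1, 0, 2, 1, 3, 2, 0], [], [⟨1, 164, [0, 4, 12, 8, 13, 11, 12]⟩, ⟨1, 134, []⟩, ⟨1, 135, []⟩, ⟨1, 134, []⟩, ⟨1, 1672, [12, 11, 13, 11, 12, 7]⟩, ⟨1, 134, []⟩, ⟨1, 1820, [2, 8, 11, 4, 12, 11, 4, 13, 11, 4]⟩]⟩,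
 ⟨4, 6, 2086, [], [⟨1, 2085, []⟩], []⟩,
 ⟨7, 6, 165, [4, 8, 11, 12, 3, 1, 0, 2, 1, 3, 2, 0], [], [⟨1, 164, [4, 8, 11, 12]⟩, ⟨1, 135, []⟩, ⟨1, 1794, [4, 11, 2, 12, 11, 13]⟩, ⟨1, 135, []⟩, ⟨1, 134, []⟩, ⟨1, 1770, [0, 4, 7, 11, 12, 8, 11, 13]⟩]⟩,
 ⟨4, 6, 2088, [], [⟨1, 2087, []⟩], []⟩,
 ⟨7, 6, 165, [12, 7, 13, 11, 12, 3, 1, 0, 2, 1, 3, 2, 0], [], [⟨1, 164, [12, 7, 13, 11, 12]⟩, ⟨1, 134, []⟩, ⟨1, 135, []⟩, ⟨1, 1031, [2, 12, 8, 11, 12, 7, 11, 4, 12, 11]⟩, ⟨1, 135, []⟩, ⟨1, 134, []⟩, ⟨1, 1090, [4, 12, 11, 12, 8, 13, 11, 4, 11, 12]⟩]⟩,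
 ⟨4, 6, 2090, [], [⟨1, 2089, []⟩], []⟩,
 ⟨7, 6, 165, [2, 7, 12, 7, 11, 12, 3, 1, 0, 2, 1, 3, 2, 0], [], [⟨1, 164, [2, 7, 12, 7, 11, 12]⟩, ⟨1, 135, []⟩, ⟨1, 134, []⟩, ⟨1, 1253, [11, 2, 13, 11, 12, 7]⟩, ⟨1, 135, []⟩, ⟨1, 134, []⟩, ⟨1, 1779, [12, 8, 11, 4, 12, 11, 4, 13, 11]⟩]⟩,
 ⟨7, 6, 165, [2, 11, 4, 12, 11, 4, 3, 1, 0, 2, 1, 3, 2, 0], [], [⟨1, 164, [2, 11, 4, 12, 11, 4]⟩, ⟨1, 1655, []⟩, ⟨1, 134, []⟩, ⟨1, 1804, [0, 4, 12, 7, 11, 4, 13, 11, 4, 12, 8]⟩]⟩,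
 ⟨4, 6, 2093, [], [⟨1, 2092, []⟩], []⟩,
 ⟨7, 6, 165, [12, 8, 12, 11, 4, 12, 3, 1, 0, 2, 1, 3, 2, 0], [], [⟨1, 164, [12, 8, 12, 11, 4, 12]⟩, ⟨1, 1214, [4, 8, 11, 12, 11, 4, 12, 8, 13]⟩, ⟨1, 135, []⟩, ⟨1, 2040, [8, 11, 12, 7, 11, 12, 8, 12, 13]⟩]⟩,
 ⟨4, 6, 2095, [], [⟨1, 2094, []⟩], []⟩,
 ⟨7, 6, 165, [2, 4, 8, 12, 11, 4, 3, 1, 0, 2, 1, 3, 2, 0], [], [⟨1, 164, [2, 4, 8, 12, 11, 4]⟩, ⟨1, 134, []⟩, ⟨1, 135, []⟩, ⟨1, 734, [0, 11, 13, 11, 4, 12, 11, 4, 11, 13]⟩, ⟨1, 86, []⟩, ⟨1, 87, []⟩, ⟨1, 86, []⟩, ⟨1, 531, [8, 12, 7, 13, 11, 4, 11, 4, 13, 11]⟩]⟩,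
 ⟨4, 6, 2097, [], [⟨1, 2096, []⟩], []⟩,
 ⟨7, 6, 165, [2, 4, 12, 11, 4, 3, 1, 0, 2, 1, 3, 2, 0], [], [⟨1, 164, [2, 4, 12, 11, 4]⟩, ⟨1, 1479, [0, 4, 8, 11, 13, 11, 4]⟩, ⟨1, 134, []⟩, ⟨1, 135, []⟩, ⟨1, 134, []⟩, ⟨1, 1546, [0, 11, 13, 11, 4, 11, 12, 11, 13]⟩]⟩,
 ⟨4, 6, 2099, [], [⟨1, 2098, []⟩], []⟩]
theorem chk42 : and2 (D.chkL PF42 2053) (Nat.beq (Nat.add 2053 PF42.length) 2100) = true := by decide +kernel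

def PF43 : List DPf := [⟨7, 6, 165, [7, 11, 13, 11, 4, 12, 3, 1, 0, 2, 1, 3, 2, 0], [], [⟨1, 164, [7, 11, 13, 11, 4, 12]⟩, ⟨1, 134, []⟩, ⟨1, 835, [2, 7, 11, 13, 11, 4, 12, 11, 4]⟩, ⟨1, 1865, [8, 12, 8, 11, 4, 12, 13, 11, 4, 11]⟩]⟩,
 ⟨4, 6, 2101, [], [⟨1, 2100, []⟩], []⟩,
 ⟨7, 6, 165, [4, 11, 12, 7, 11, 12, 13, 3, 1, 0, 2, 1, 3, 2, 0], [], [⟨1, 164, [4, 11, 12, 7, 11, 12, 13]⟩, ⟨1, 134, []⟩, ⟨1, 135, []⟩, ⟨1, 134, []⟩, ⟨1, 420, [0, 4, 12, 11, 13, 11, 4, 12, 11]⟩, ⟨1, 90, []⟩, ⟨1, 90, []⟩, ⟨1, 86, []⟩, ⟨1, 90, []⟩, ⟨1, 633, [12, 13, 11, 12, 7, 11, 4]⟩]⟩,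
 ⟨4, 6, 2103, [], [⟨1, 2102, []⟩], []⟩,
 ⟨7, 6, 165, [8, 12, 11, 4, 3, 1, 0, 2, 1, 3, 2, 0], [], [⟨1, 164, [8, 12, 11, 4]⟩, ⟨1, 134, []⟩, ⟨1, 911, [2, 11, 4, 11, 12, 7, 12, 11, 4, 11, 12]⟩, ⟨1, 1002, [4, 12, 7, 11, 12, 8, 13, 11, 12, 11]⟩]⟩,
 ⟨4, 6, 2105, [], [⟨1, 2104, []⟩], []⟩,
 ⟨7, 6, 165, [2, 4, 7, 11, 12, 3, 1, 0, 2, 1, 3, 2, 0], [], [⟨1, 164, [2, 4, 7, 11, 12]⟩, ⟨1, 1657, [0, 13, 11, 4, 11, 13]⟩, ⟨1, 134, []⟩, ⟨1, 135, []⟩, ⟨1, 2062, [2, 8, 12, 8, 11, 13, 11, 12]⟩]⟩,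
 ⟨4, 6, 2107, [], [⟨1, 2106, []⟩], []⟩,
 ⟨7, 6, 165, [12, 8, 11, 4, 12, 13, 3, 1, 0, 2, 1, 3, 2, 0], [], [⟨1, 164, [12, 8, 11, 4, 12, 13]⟩, ⟨1, 135, []⟩, ⟨1, 570, [8, 12, 13, 11, 2, 4, 11, 12, 8, 12]⟩, ⟨1, 90, []⟩, ⟨1, 90, []⟩, ⟨1, 635, [0, 4, 13, 11, 12, 11, 4, 12, 8]⟩]⟩,
 ⟨4, 6, 2109, [], [⟨1, 2108, []⟩], []⟩,
 ⟨7, 6, 165, [0, 7, 11, 12, 13, 11, 4, 3, 1, 0, 2, 1, 3, 2, 0], [], [⟨1, 164, [0, 7, 11, 12, 13, 11, 4]⟩, ⟨1, 134, []⟩, ⟨1, 135, []⟩, ⟨1, 528, [2, 8, 12, 13, 11, 12, 8, 12, 11, 4]⟩, ⟨1, 86, []⟩, ⟨1, 87, []⟩, ⟨1, 90, []⟩, ⟨1, 87, []⟩, ⟨1, 641, [4, 11, 4, 11, 12, 7, 13, 11]⟩]⟩,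
 ⟨4, 6, 2111, [], [⟨1, 2110, []⟩], []⟩,
 ⟨7, 6, 165, [4, 12, 8, 13, 11, 12, 3, 1, 0, 2, 1, 3, 2, 0], [], [⟨1, 164, [4, 12, 8, 13, 11, 12]⟩, ⟨1, 135, []⟩, ⟨1, 134, []⟩, ⟨1, 1305, [0, 7, 11, 12, 13, 11, 4, 12, 8]⟩, ⟨1, 134, []⟩, ⟨1, 1940, [12, 7, 11, 13, 11, 12, 8, 12, 11, 12]⟩]⟩,
 ⟨4, 6, 2113, [], [⟨1, 2112, []⟩], []⟩,
 ⟨7, 6, 165, [11, 12, 3, 1, 0, 2, 1, 3, 2, 0], [], [⟨1, 164, [11, 12]⟩, ⟨1, 135, []⟩, ⟨1, 1319, [2, 12, 7, 11, 12, 7, 11, 12, 11]⟩, ⟨1, 2035, [7, 12, 7, 11, 2, 12, 8, 11, 12, 7, 11]⟩]⟩,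
 ⟨4, 6, 2115, [], [⟨1, 2114, []⟩], []⟩,
 ⟨7, 6, 165, [7, 11, 4, 12, 3, 1, 0, 2, 1, 3, 2, 0], [], [⟨1, 164, [7, 11, 4, 12]⟩, ⟨1, 243, [0, 7, 12, 7, 11, 4, 12, 8, 11]⟩, ⟨1, 46, []⟩, ⟨1, 46, []⟩, ⟨1, 591, [12, 7, 11, 12, 8, 12, 11, 4, 11, 12]⟩]⟩,
 ⟨4, 6, 2117, [], [⟨1, 2116, []⟩], []⟩,
 ⟨7, 6, 165, [11, 12, 13, 3, 1, 0, 2, 1, 3, 2, 0], [], [⟨1, 164, [11, 12, 13]⟩, ⟨1, 134, []⟩, ⟨1, 135, []⟩, ⟨1, 134, []⟩, ⟨1, 1710, [0, 7, 13, 11, 12, 8, 11, 12, 11, 12, 13]⟩, ⟨1, 134, []⟩, ⟨1, 135, []⟩, ⟨1, 1693, [2, 8, 12, 11, 12, 7, 11, 13]⟩]⟩,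
 ⟨4, 6, 2119, [], [⟨1, 2118, []⟩], []⟩,
 ⟨7, 6, 165, [8, 13, 11, 12, 11, 4, 3, 1, 0, 2, 1, 3, 2, 0], [], [⟨1, 164, [8, 13, 11, 12, 11, 4]⟩, ⟨1, 134, []⟩, ⟨1, 135, []⟩, ⟨1, 134, []⟩, ⟨1, 758, [0, 11, 12, 7, 13, 11, 4, 12, 11]⟩, ⟨1, 86, []⟩, ⟨1, 90, []⟩, ⟨1, 90, []⟩, ⟨1, 86, []⟩, ⟨1, 755, [7, 11, 4, 12, 11, 13, 11, 4]⟩]⟩,
 ⟨4, 6, 2121, [], [⟨1, 2120, []⟩], []⟩,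
 ⟨8, 6, 165, [2, 7, 11, 4, 11, 12, 0, 2, 3, 4, 2, 1, 2, 0, 1, 3, 2, 0], [], [⟨1, 164, [2, 7, 11, 4, 11, 12]⟩, ⟨1, 1692, [0, 8, 12, 11, 4, 12, 7, 11, 13]⟩, ⟨1, 134, []⟩, ⟨1, 135, []⟩, ⟨1, 1071, [8, 12, 11, 4, 12, 11, 12, 13, 11]⟩]⟩,
 ⟨4, 6, 2123, [], [⟨1, 2122, []⟩], []⟩,
 ⟨8, 6, 165, [12, 7, 13, 11, 12, 0, 2, 3, 4, 2, 1, 2, 0, 1, 3, 2, 0], [], [⟨1, 164, [12, 7, 13, 11, 12]⟩, ⟨1, 1599, [12, 11, 12, 7, 13, 11, 4, 11, 4]⟩, ⟨1, 134, []⟩, ⟨1, 135, []⟩, ⟨1, 1666, [0, 7, 13, 11, 12, 8, 11, 4, 11, 4]⟩]⟩,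
 ⟨4, 6, 2125, [], [⟨1, 2124, []⟩], []⟩,
 ⟨8, 6, 165, [0, 11, 12, 7, 11, 12, 13, 0, 2, 3, 4, 2, 1, 2, 0, 1, 3, 2, 0], [], [⟨1, 164, [0, 11, 12, 7, 11, 12, 13]⟩, ⟨1, 1690, [4, 7, 13, 11, 2, 12, 8, 11]⟩, ⟨1, 134, []⟩, ⟨1, 135, []⟩, ⟨1, 990, [7, 12, 8, 11, 2, 12, 13, 11, 4]⟩]⟩,
 ⟨4, 6, 2127, [], [⟨1, 2126, []⟩], []⟩,
 ⟨8, 6, 165, [4, 7, 12, 8, 11, 12, 0, 2, 3, 4, 2, 1, 2, 0, 1, 3, 2, 0], [], [⟨1, 164, [4, 7, 12, 8, 11, 12]⟩, ⟨1, 135, []⟩, ⟨1, 134, []⟩, ⟨1, 410, [0, 12, 11, 13, 11, 12, 8, 11, 4, 12]⟩, ⟨1, 87, []⟩, ⟨1, 86, []⟩, ⟨1, 90, []⟩, ⟨1, 86, []⟩, ⟨1, 90, []⟩, ⟨1, 691, [0, 12, 7, 11, 13]⟩]⟩,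
 ⟨4, 6, 2129, [], [⟨1, 2128, []⟩], []⟩,
 ⟨8, 6, 165, [8, 11, 4, 13, 11, 12, 0, 2, 3, 4, 2, 1, 2, 0, 1, 3, 2, 0], [], [⟨1, 164, [8, 11, 4, 13, 11, 12]⟩, ⟨1, 540, [4, 12, 7, 11, 2, 4, 12, 13, 11, 12]⟩, ⟨1, 86, []⟩, ⟨1, 767, [0, 11, 12, 11, 4, 11, 12, 7, 11, 12]⟩]⟩,
 ⟨4, 6, 2131, [], [⟨1, 2130, []⟩], []⟩,
 ⟨8, 6, 165, [4, 8, 11, 12, 0, 2, 3, 4, 2, 1, 2, 0, 1, 3, 2, 0], [], [⟨1, 164, [4, 8, 11, 12]⟩, ⟨1, 135, []⟩, ⟨1, 542, [7, 12, 11, 2, 4, 11, 12, 7]⟩, ⟨1, 86, []⟩, ⟨1, 90, []⟩, ⟨1, 90, []⟩, ⟨1, 90, []⟩, ⟨1, 86, []⟩, ⟨1, 735, [0, 11, 12, 8, 12, 13, 11, 12, 7, 11]⟩]⟩,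
 ⟨4, 6, 2133, [], [⟨1, 2132, []⟩], []⟩,
 ⟨8, 6, 165, [4, 7, 11, 13, 11, 12, 0, 2, 3, 4, 2, 1, 2, 0, 1, 3, 2, 0], [], [⟨1, 164, [4, 7, 11, 13, 11, 12]⟩, ⟨1, 134, []⟩, ⟨1, 135, []⟩, ⟨1, 134, []⟩, ⟨1, 1399, [2, 8, 11, 4, 12, 11, 12, 7, 11]⟩, ⟨1, 1391, [2, 4, 12, 11, 12, 8, 12, 11, 12, 8]⟩]⟩,
 ⟨4, 6, 2135, [], [⟨1, 2134, []⟩], []⟩,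
 ⟨8, 6, 165, [4, 12, 13, 11, 12, 0, 2, 3, 4, 2, 1, 2, 0, 1, 3, 2, 0], [], [⟨1, 164, [4, 12, 13, 11, 12]⟩, ⟨1, 135, []⟩, ⟨1, 134, []⟩, ⟨1, 179, [0, 12, 8, 13, 11, 4, 11, 12, 11]⟩, ⟨1, 134, []⟩, ⟨1, 135, []⟩, ⟨1, 134, []⟩, ⟨1, 1226, [0, 4, 8, 12, 7, 13, 11, 4, 11, 12, 13]⟩]⟩,
 ⟨4, 6, 2137, [], [⟨1, 2136, []⟩], []⟩,
 ⟨8, 6, 165, [11, 4, 12, 13, 0, 2, 3, 4, 2, 1, 2, 0, 1, 3, 2, 0], [], [⟨1, 164, [11, 4, 12, 13]⟩, ⟨1, 134, []⟩, ⟨1, 135, []⟩, ⟨1, 879, [2, 11, 12, 8, 13, 11, 4, 12]⟩, ⟨1, 135, []⟩, ⟨1, 1758, [2, 12, 7, 11, 12, 11, 4, 12, 7, 11]⟩]⟩,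
 ⟨8, 6, 165, [8, 11, 12, 11, 4, 0, 2, 3, 4, 2, 1, 2, 0, 1, 3, 2, 0], [], [⟨1, 164, [8, 11, 12, 11, 4]⟩, ⟨1, 135, []⟩, ⟨1, 542, [0, 8, 11, 4, 11, 12, 11, 13, 11, 12]⟩, ⟨1, 87, []⟩, ⟨1, 86, []⟩, ⟨1, 90, []⟩, ⟨1, 90, []⟩, ⟨1, 565, [12, 13, 11, 12, 8, 11, 12, 13]⟩]⟩,
 ⟨4, 6, 2140, [], [⟨1, 2139, []⟩], []⟩,
 ⟨8, 6, 165, [4, 7, 12, 8, 13, 11, 12, 0, 2, 3, 4, 2, 1, 2, 0, 1, 3, 2, 0], [], [⟨1, 164, [4, 7, 12, 8, 13, 11, 12]⟩, ⟨1, 134, []⟩, ⟨1, 1408, [2, 4, 12, 11, 13, 11, 4, 12, 8]⟩, ⟨1, 135, []⟩, ⟨1, 1725, [0, 7, 11, 12, 7, 13, 11, 4, 11]⟩]⟩,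
 ⟨4, 6, 2142, [], [⟨1, 2141, []⟩], []⟩,
 ⟨8, 6, 165, [4, 12, 7, 11, 12, 0, 2, 3, 4, 2, 1, 2, 0, 1, 3, 2, 0], [], [⟨1, 164, [4, 12, 7, 11, 12]⟩, ⟨1, 135, []⟩, ⟨1, 134, []⟩, ⟨1, 410, [7, 11, 12, 7, 13, 11, 4, 12, 8, 11]⟩, ⟨1, 86, []⟩, ⟨1, 87, []⟩, ⟨1, 86, []⟩, ⟨1, 90, []⟩, ⟨1, 729, [4, 12, 7, 11, 2, 12, 8, 12, 11, 12]⟩]⟩,
 ⟨4, 6, 2144, [], [⟨1, 2143, []⟩], []⟩,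
 ⟨8, 6, 165, [11, 12, 8, 11, 12, 13, 0, 2, 3, 4, 2, 1, 2, 0, 1, 3, 2, 0], [], [⟨1, 164, [11, 12, 8, 11, 12, 13]⟩, ⟨1, 134, []⟩, ⟨1, 1408, [4, 12, 13, 11, 12, 11, 4, 11, 13]⟩, ⟨1, 135, []⟩, ⟨1, 1510, [4, 12, 8, 11, 4, 13, 11, 4, 12, 11]⟩]⟩,
 ⟨4, 6, 2146, [], [⟨1, 2145, []⟩], []⟩]
theorem chk43 : and2 (D.chkL PF43 2100) (Nat.beq (Nat.add 2100 PF43.length) 2147) = true := by decide +kernel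

def PF44 : List DPf := [⟨8, 6, 165, [2, 4, 8, 12, 11, 4, 0, 2, 3, 4, 2, 1, 2, 0, 1, 3, 2, 0], [], [⟨1, 164, [2, 4, 8, 12, 11, 4]⟩, ⟨1, 135, []⟩, ⟨1, 134, []⟩, ⟨1, 410, [0, 7, 12, 8, 11, 13]⟩, ⟨1, 86, []⟩, ⟨1, 90, []⟩, ⟨1, 667, [8, 12, 11, 2, 4, 12, 8]⟩]⟩,
 ⟨4, 6, 2148, [], [⟨1, 2147, []⟩], []⟩,
 ⟨8, 6, 165, [7, 13, 11, 12, 0, 2, 3, 4, 2, 1, 2, 0, 1, 3, 2, 0], [], [⟨1, 164, [7, 13, 11, 12]⟩, ⟨1, 1690, [7, 11, 4, 12, 11, 12, 8, 13]⟩, ⟨1, 135, []⟩, ⟨1, 134, []⟩, ⟨1, 1516, [2, 4, 12, 13, 11]⟩]⟩,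
 ⟨4, 6, 2150, [], [⟨1, 2149, []⟩], []⟩,
 ⟨8, 6, 165, [4, 13, 11, 4, 12, 11, 4, 0, 2, 3, 4, 2, 1, 2, 0, 1, 3, 2, 0], [], [⟨1, 164, [4, 13, 11, 4, 12, 11, 4]⟩, ⟨1, 1688, [0, 8, 13, 11, 12, 7, 11, 4]⟩, ⟨1, 135, []⟩, ⟨1, 824, [4, 11, 13, 11, 4, 12, 11]⟩]⟩,
 ⟨4, 6, 2152, [], [⟨1, 2151, []⟩], []⟩,
 ⟨8, 6, 165, [7, 12, 7, 13, 11, 12, 0, 2, 3, 4, 2, 1, 2, 0, 1, 3, 2, 0], [], [⟨1, 164, [7, 12, 7, 13, 11, 12]⟩, ⟨1, 1688, [4, 11, 12, 11, 12, 7, 13, 11, 4, 11]⟩, ⟨1, 135, []⟩, ⟨1, 1843, [4, 12, 8, 11, 4, 12, 11, 12, 8, 11]⟩]⟩,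
 ⟨4, 6, 2154, [], [⟨1, 2153, []⟩], []⟩,
 ⟨8, 6, 165, [7, 12, 8, 11, 4, 12, 0, 2, 3, 4, 2, 1, 2, 0, 1, 3, 2, 0], [], [⟨1, 164, [7, 12, 8, 11, 4, 12]⟩, ⟨1, 135, []⟩, ⟨1, 134, []⟩, ⟨1, 410, [2, 7, 12, 8, 11, 12, 11, 12, 8, 13]⟩, ⟨1, 86, []⟩, ⟨1, 87, []⟩, ⟨1, 90, []⟩, ⟨1, 90, []⟩, ⟨1, 417, [4, 7, 12, 8, 11, 12, 11, 13, 11, 12]⟩]⟩,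
 ⟨4, 6, 2156, [], [⟨1, 2155, []⟩], []⟩,
 ⟨8, 6, 165, [12, 13, 11, 4, 12, 0, 2, 3, 4, 2, 1, 2, 0, 1, 3, 2, 0], [], [⟨1, 164, [12, 13, 11, 4, 12]⟩, ⟨1, 135, []⟩, ⟨1, 134, []⟩, ⟨1, 179, [7, 11, 12, 8, 12, 11, 12, 8, 11, 12]⟩, ⟨1, 134, []⟩, ⟨1, 910, [13, 11, 12, 8, 12, 11, 12, 8, 13]⟩]⟩,
 ⟨4, 6, 2158, [], [⟨1, 2157, []⟩], []⟩,
 ⟨8, 6, 165, [12, 13, 11, 12, 11, 4, 0, 2, 3, 4, 2, 1, 2, 0, 1, 3, 2, 0], [], [⟨1, 164, [12, 13, 11, 12, 11, 4]⟩, ⟨1, 135, []⟩, ⟨1, 134, []⟩, ⟨1, 179, [11, 2, 13, 11, 4, 12, 11, 12, 8, 13]⟩, ⟨1, 134, []⟩, ⟨1, 1046, [2, 8, 11, 12, 8, 11, 12, 8]⟩]⟩,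
 ⟨4, 6, 2160, [], [⟨1, 2159, []⟩], []⟩,
 ⟨8, 6, 165, [4, 11, 12, 11, 4, 0, 2, 3, 4, 2, 1, 2, 0, 1, 3, 2, 0], [], [⟨1, 164, [4, 11, 12, 11, 4]⟩, ⟨1, 1684, [0, 13, 11, 4, 12, 11, 4]⟩, ⟨1, 135, []⟩, ⟨1, 1742, [0, 12, 7, 12, 11, 4, 12, 11]⟩]⟩,
 ⟨4, 6, 2162, [], [⟨1, 2161, []⟩], []⟩,
 ⟨8, 6, 165, [0, 11, 12, 13, 0, 2, 3, 4, 2, 1, 2, 0, 1, 3, 2, 0], [], [⟨1, 164, [0, 11, 12, 13]⟩, ⟨1, 135, []⟩, ⟨1, 1215, [8, 11, 12, 8, 11, 4, 11, 12, 11]⟩, ⟨1, 134, []⟩, ⟨1, 135, []⟩, ⟨1, 1672, [11, 13, 11, 12, 8, 11, 4, 11, 4, 13]⟩]⟩,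
 ⟨4, 6, 2164, [], [⟨1, 2163, []⟩], []⟩,
 ⟨8, 6, 165, [2, 4, 7, 11, 4, 12, 0, 2, 3, 4, 2, 1, 2, 0, 1, 3, 2, 0], [], [⟨1, 164, [2, 4, 7, 11, 4, 12]⟩, ⟨1, 1694, [13, 11, 4, 11, 4]⟩, ⟨1, 926, [4, 8, 12, 7, 13, 11, 4, 12, 11, 12]⟩]⟩,
 ⟨4, 6, 2166, [], [⟨1, 2165, []⟩], []⟩,
 ⟨8, 6, 165, [4, 11, 12, 13, 11, 4, 0, 2, 3, 4, 2, 1, 2, 0, 1, 3, 2, 0], [], [⟨1, 164, [4, 11, 12, 13, 11, 4]⟩, ⟨1, 134, []⟩, ⟨1, 135, []⟩, ⟨1, 879, [2, 7, 12, 8, 13, 11, 12, 8, 11, 13]⟩, ⟨1, 134, []⟩, ⟨1, 2144, [2, 4, 12, 8, 11, 4, 11, 12, 13, 11, 4]⟩]⟩,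
 ⟨4, 6, 2168, [], [⟨1, 2167, []⟩], []⟩,
 ⟨8, 6, 165, [4, 12, 7, 11, 13, 11, 12, 0, 2, 3, 4, 2, 1, 2, 0, 1, 3, 2, 0], [], [⟨1, 164, [4, 12, 7, 11, 13, 11, 12]⟩, ⟨1, 134, []⟩, ⟨1, 135, []⟩, ⟨1, 134, []⟩, ⟨1, 1399, [8, 12, 13, 11, 4, 12, 7, 11, 4, 13, 11]⟩, ⟨1, 134, []⟩, ⟨1, 135, []⟩, ⟨1, 1622, [2, 4, 12, 8, 13, 11, 12, 7, 11]⟩]⟩,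
 ⟨4, 6, 2170, [], [⟨1, 2169, []⟩], []⟩,
 ⟨8, 6, 165, [12, 8, 12, 11, 12, 0, 2, 3, 4, 2, 1, 2, 0, 1, 3, 2, 0], [], [⟨1, 164, [12, 8, 12, 11, 12]⟩, ⟨1, 1684, [2, 7, 11, 12, 11, 4, 12, 11, 13]⟩, ⟨1, 2162, [2, 11, 4, 13, 11, 12, 7, 11, 12]⟩]⟩,
 ⟨4, 6, 2172, [], [⟨1, 2171, []⟩], []⟩,
 ⟨9, 6, 165, [4, 12, 8, 11, 4, 12, 11, 0, 2, 4, 1, 0, 2, 1, 3, 2, 0], [], [⟨1, 164, [4, 12, 8, 11, 4, 12, 11]⟩, ⟨1, 1692, [0, 4, 12, 11, 12, 7, 12, 11, 4, 12, 7]⟩, ⟨1, 134, []⟩, ⟨1, 135, []⟩, ⟨1, 134, []⟩, ⟨1, 1733, [4, 13, 11, 12, 11, 4, 12]⟩]⟩,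
 ⟨4, 6, 2174, [], [⟨1, 2173, []⟩], []⟩,
 ⟨9, 6, 165, [4, 7, 11, 12, 11, 13, 0, 2, 4, 1, 0, 2, 1, 3, 2, 0], [], [⟨1, 164, [4, 7, 11, 12, 11, 13]⟩, ⟨1, 135, []⟩, ⟨1, 134, []⟩, ⟨1, 179, [0, 4, 7, 11, 12, 13, 11, 4, 11, 4, 12]⟩, ⟨1, 134, []⟩, ⟨1, 135, []⟩, ⟨1, 1554, [4, 12, 11, 4, 11, 12, 7]⟩]⟩,
 ⟨4, 6, 2176, [], [⟨1, 2175, []⟩], []⟩,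
 ⟨12, 6, 165, [4, 8, 13, 11, 12, 0, 2, 3, 1, 0, 2, 1, 2, 4, 3, 2, 0, 2, 0], [], [⟨1, 164, [4, 8, 13, 11, 12]⟩, ⟨1, 2098, [13, 11, 2, 4]⟩, ⟨1, 134, []⟩, ⟨1, 1453, [0, 8, 13, 11, 12, 7, 11, 12, 8]⟩]⟩,
 ⟨4, 6, 2178, [], [⟨1, 2177, []⟩], []⟩,
 ⟨12, 6, 165, [4, 8, 12, 13, 11, 4, 0, 2, 3, 1, 0, 2, 1, 2, 4, 3, 2, 0, 2, 0], [], [⟨1, 164, [4, 8, 12, 13, 11, 4]⟩, ⟨1, 135, []⟩, ⟨1, 134, []⟩, ⟨1, 412, [11, 4, 12, 13, 11, 4, 12, 8, 11]⟩, ⟨1, 87, []⟩, ⟨1, 86, []⟩, ⟨1, 90, []⟩, ⟨1, 86, []⟩, ⟨1, 90, []⟩, ⟨1, 691, [8, 12, 11, 4, 11, 4, 13, 11, 4, 12]⟩]⟩,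
 ⟨4, 6, 2180, [], [⟨1, 2179, []⟩], []⟩,
 ⟨12, 6, 165, [0, 8, 11, 12, 13, 0, 2, 3, 1, 0, 2, 1, 2, 4, 3, 2, 0, 2, 0], [], [⟨1, 164, [0, 8, 11, 12, 13]⟩, ⟨1, 135, []⟩, ⟨1, 134, []⟩, ⟨1, 1549, [0, 7, 11, 13, 11, 12, 11, 4, 12, 8]⟩, ⟨1, 134, []⟩, ⟨1, 135, []⟩, ⟨1, 134, []⟩, ⟨1, 2120, [2, 11, 12, 8, 12, 11, 12]⟩]⟩,
 ⟨4, 6, 2182, [], [⟨1, 2181, []⟩], []⟩,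
 ⟨12, 6, 165, [8, 11, 4, 12, 13, 0, 2, 3, 1, 0, 2, 1, 2, 4, 3, 2, 0, 2, 0], [], [⟨1, 164, [8, 11, 4, 12, 13]⟩, ⟨1, 134, []⟩, ⟨1, 135, []⟩, ⟨1, 2143, [0, 8, 12, 7, 11, 12, 8, 12, 11, 13]⟩, ⟨1, 134, []⟩, ⟨1, 878, [2, 8, 11, 13, 11, 4, 11, 12, 7, 13]⟩]⟩,
 ⟨4, 6, 2184, [], [⟨1, 2183, []⟩], []⟩,
 ⟨12, 6, 165, [11, 12, 11, 4, 13, 0, 2, 3, 1, 0, 2, 1, 2, 4, 3, 2, 0, 2, 0], [], [⟨1, 164, [11, 12, 11, 4, 13]⟩, ⟨1, 134, []⟩, ⟨1, 135, []⟩, ⟨1, 2074, [8, 11, 4, 12, 13, 11, 12, 7, 11]⟩, ⟨1, 2104, [4, 11, 4, 12, 11, 12, 13, 11, 4, 11, 13]⟩]⟩,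
 ⟨4, 6, 2186, [], [⟨1, 2185, []⟩], []⟩,
 ⟨12, 6, 165, [0, 7, 12, 11, 4, 13, 0, 2, 3, 1, 0, 2, 1, 2, 4, 3, 2, 0, 2, 0], [], [⟨1, 164, [0, 7, 12, 11, 4, 13]⟩, ⟨1, 135, []⟩, ⟨1, 1305, [12, 7, 11, 2, 4, 13, 11, 12, 11, 13]⟩, ⟨1, 134, []⟩, ⟨1, 995, [2, 7, 12, 11, 12, 8, 11, 13, 11, 4]⟩]⟩,
 ⟨4, 6, 2188, [], [⟨1, 2187, []⟩], []⟩,
 ⟨12, 6, 165, [0, 7, 11, 12, 13, 11, 4, 0, 2, 3, 1, 0, 2, 1, 2, 4, 3, 2, 0, 2, 0], [], [⟨1, 164, [0, 7, 11, 12, 13, 11, 4]⟩, ⟨1, 135, []⟩, ⟨1, 834, [4, 8, 12, 11, 4, 11, 13, 11, 12, 8]⟩, ⟨1, 1475, [4, 11, 4, 11, 12, 11, 12]⟩]⟩,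
 ⟨4, 6, 2190, [], [⟨1, 2189, []⟩], []⟩,
 ⟨13, 6, 165, [4, 11, 12, 13, 0, 2, 3, 1, 2, 0, 1, 3, 2, 0], [], [⟨1, 164, [4, 11, 12, 13]⟩, ⟨1, 135, []⟩, ⟨1, 1215, [8, 13, 11, 4, 12, 11, 4, 12, 8]⟩, ⟨1, 135, []⟩, ⟨1, 134, []⟩, ⟨1, 2137, [2, 4, 7, 11, 12, 8, 11]⟩]⟩,
 ⟨4, 6, 2192, [], [⟨1, 2191, []⟩], []⟩]
theorem chk44 : and2 (D.chkL PF44 2147) (Nat.beq (Nat.add 2147 PF44.length) 2193) = true := by decide +kernel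

def PF45 : List DPf := [⟨13, 6, 165, [4, 11, 4, 11, 12, 0, 2, 3, 1, 2, 0, 1, 3, 2, 0], [], [⟨1, 164, [4, 11, 4, 11, 12]⟩, ⟨1, 1684, [4, 7, 11, 12, 11, 4, 12, 8]⟩, ⟨1, 134, []⟩, ⟨1, 135, []⟩, ⟨1, 1938, [0, 7, 13, 11, 4, 11, 12, 11, 12, 7, 13]⟩]⟩,
 ⟨4, 6, 2194, [], [⟨1, 2193, []⟩], []⟩,
 ⟨13, 6, 165, [12, 8, 12, 11, 4, 12, 0, 2, 3, 1, 2, 0, 1, 3, 2, 0], [], [⟨1, 164, [12, 8, 12, 11, 4, 12]⟩, ⟨1, 134, []⟩, ⟨1, 135, []⟩, ⟨1, 134, []⟩, ⟨1, 920, [4, 12, 7, 11, 4, 11, 12, 11, 12, 7]⟩, ⟨1, 135, []⟩, ⟨1, 938, [0, 12, 11, 12, 8, 13, 11]⟩]⟩,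
 ⟨4, 6, 2196, [], [⟨1, 2195, []⟩], []⟩,
 ⟨13, 6, 165, [4, 13, 11, 12, 11, 4, 0, 2, 3, 1, 2, 0, 1, 3, 2, 0], [], [⟨1, 164, [4, 13, 11, 12, 11, 4]⟩, ⟨1, 134, []⟩, ⟨1, 135, []⟩, ⟨1, 134, []⟩, ⟨1, 905, [4, 11, 12, 7, 11, 4, 13]⟩, ⟨1, 135, []⟩, ⟨1, 1790, [11, 2, 12, 11, 4, 11, 12, 8, 13]⟩]⟩,
 ⟨4, 6, 2198, [], [⟨1, 2197, []⟩], []⟩,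
 ⟨13, 6, 165, [4, 7, 11, 4, 12, 13, 0, 2, 3, 1, 2, 0, 1, 3, 2, 0], [], [⟨1, 164, [4, 7, 11, 4, 12, 13]⟩, ⟨1, 134, []⟩, ⟨1, 135, []⟩, ⟨1, 1339, [12, 11, 12, 8, 13, 11]⟩, ⟨1, 135, []⟩, ⟨1, 1688, [0, 8, 12, 13, 11, 12, 8]⟩]⟩,
 ⟨4, 6, 2200, [], [⟨1, 2199, []⟩], []⟩,
 ⟨15, 6, 165, [0, 2, 5, 2, 0], [], [⟨1, 164, []⟩, ⟨1, 134, []⟩, ⟨1, 910, [2, 4, 11, 4, 11]⟩]⟩,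
 ⟨4, 6, 2202, [], [⟨1, 2201, []⟩], []⟩,
 ⟨15, 6, 165, [8, 0, 2, 5, 2, 0], [], [⟨1, 164, [8]⟩, ⟨1, 135, []⟩, ⟨1, 1386, [2, 7, 11, 4, 11, 12, 8, 11, 4, 13]⟩]⟩,
 ⟨4, 6, 2204, [], [⟨1, 2203, []⟩], []⟩,
 ⟨16, 6, 165, [0, 2, 6, 2, 0, 2, 0], [], [⟨1, 164, []⟩, ⟨1, 134, []⟩, ⟨1, 135, []⟩, ⟨1, 1804, [0, 11, 12, 8, 12, 11, 4, 12, 8, 13]⟩]⟩,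
 ⟨4, 6, 2206, [], [⟨1, 2205, []⟩], []⟩,
 ⟨17, 6, 165, [4, 7, 5, 5, 3, 6, 6, 2, 0], [], [⟨1, 164, [4, 7]⟩, ⟨1, 134, []⟩, ⟨1, 912, [2, 7, 12, 7, 13, 11, 4, 12, 11, 13]⟩, ⟨1, 135, []⟩, ⟨1, 134, []⟩, ⟨1, 897, [4, 7, 11, 12, 7, 11, 4, 13, 11, 4, 12]⟩]⟩,
 ⟨4, 6, 2208, [], [⟨1, 2207, []⟩], []⟩,
 ⟨17, 6, 165, [8, 12, 7, 5, 5, 3, 6, 6, 2, 0], [], [⟨1, 164, [8, 12, 7]⟩, ⟨1, 134, []⟩, ⟨1, 1725, [11, 2, 4, 13, 11, 12, 8, 12]⟩, ⟨1, 134, []⟩, ⟨1, 135, []⟩, ⟨1, 2059, [4, 8, 11, 4, 11, 12, 7, 13, 11, 4]⟩]⟩,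
 ⟨4, 6, 2210, [], [⟨1, 2209, []⟩], []⟩,
 ⟨17, 6, 165, [7, 13, 5, 5, 3, 6, 6, 2, 0], [], [⟨1, 164, [7, 13]⟩, ⟨1, 1824, [12, 8, 11, 2, 12, 8, 11, 4, 12]⟩, ⟨1, 134, []⟩, ⟨1, 2053, [8, 12, 11, 4, 13]⟩]⟩,
 ⟨4, 6, 2212, [], [⟨1, 2211, []⟩], []⟩,
 ⟨17, 6, 165, [12, 7, 12, 13, 5, 5, 3, 6, 6, 2, 0], [], [⟨1, 164, [12, 7, 12, 13]⟩, ⟨1, 135, []⟩, ⟨1, 782, [4, 8, 13, 11, 4, 12, 11, 12, 13]⟩, ⟨1, 39, []⟩, ⟨1, 43, []⟩, ⟨1, 42, []⟩, ⟨1, 40, []⟩, ⟨1, 46, []⟩, ⟨1, 68, []⟩, ⟨1, 587, [2, 12, 8, 11, 13, 11, 4, 12]⟩]⟩,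
 ⟨4, 6, 2214, [], [⟨1, 2213, []⟩], []⟩,
 ⟨17, 6, 165, [8, 11, 12, 8, 13, 5, 5, 3, 6, 6, 2, 0], [], [⟨1, 164, [8, 11, 12, 8, 13]⟩, ⟨1, 135, []⟩, ⟨1, 134, []⟩, ⟨1, 1747, [11, 2, 12, 8, 11, 4, 12, 11]⟩, ⟨1, 134, []⟩, ⟨1, 1002, [8, 12, 7, 13, 11, 2, 4, 11, 12, 13]⟩]⟩,
 ⟨4, 6, 2216, [], [⟨1, 2215, []⟩], []⟩,
 ⟨17, 6, 165, [4, 8, 13, 5, 5, 3, 6, 6, 2, 0], [], [⟨1, 164, [4, 8, 13]⟩, ⟨1, 134, []⟩, ⟨1, 135, []⟩, ⟨1, 134, []⟩, ⟨1, 1924, [2, 4, 8, 11, 4, 11, 13, 11, 12, 7, 11]⟩, ⟨1, 134, []⟩, ⟨1, 2030, [4, 11, 12, 8, 11, 4, 11, 4, 12]⟩]⟩,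
 ⟨4, 6, 2218, [], [⟨1, 2217, []⟩], []⟩,
 ⟨7, 6, 168, [8, 12, 11, 4, 12, 13, 3, 1, 0, 2, 1, 3, 2, 0], [], [⟨1, 167, [8, 12, 11, 4, 12, 13]⟩, ⟨1, 134, []⟩, ⟨1, 1047, [7, 11, 2, 4, 12, 8, 11, 12, 13, 11]⟩, ⟨1, 135, []⟩, ⟨1, 1603, [2, 12, 11, 4, 11, 4, 12, 7, 13, 11, 4]⟩]⟩,
 ⟨4, 6, 2220, [], [⟨1, 2219, []⟩], []⟩,
 ⟨7, 6, 168, [7, 11, 12, 13, 3, 1, 0, 2, 1, 3, 2, 0], [], [⟨1, 167, [7, 11, 12, 13]⟩, ⟨1, 134, []⟩, ⟨1, 1308, [11, 2, 4, 11, 13, 11]⟩, ⟨1, 134, []⟩, ⟨1, 2047, [2, 7, 13, 11, 4, 12, 11, 12, 7, 13]⟩]⟩,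
 ⟨4, 6, 2222, [], [⟨1, 2221, []⟩], []⟩,
 ⟨7, 6, 168, [4, 12, 7, 11, 12, 3, 1, 0, 2, 1, 3, 2, 0], [], [⟨1, 167, [4, 12, 7, 11, 12]⟩, ⟨1, 1896, [7, 13, 11, 12, 7, 11, 13]⟩, ⟨1, 1968, [0, 11, 12, 11, 13, 11, 12, 8, 11, 12]⟩]⟩,
 ⟨4, 6, 2224, [], [⟨1, 2223, []⟩], []⟩,
 ⟨7, 6, 168, [4, 12, 8, 11, 12, 3, 1, 0, 2, 1, 3, 2, 0], [], [⟨1, 167, [4, 12, 8, 11, 12]⟩, ⟨1, 135, []⟩, ⟨1, 1300, [0, 4, 8, 11, 12, 7, 11, 13, 11, 4, 12]⟩, ⟨1, 134, []⟩, ⟨1, 1031, [0, 7, 13, 11, 4, 12, 8, 11, 4, 12, 13]⟩]⟩,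
 ⟨7, 6, 168, [11, 4, 12, 13, 3, 1, 0, 2, 1, 3, 2, 0], [], [⟨1, 167, [11, 4, 12, 13]⟩, ⟨1, 1462, [2, 12, 11, 4, 11, 12, 7, 13, 11, 4]⟩, ⟨1, 1608, [13, 11, 12, 7, 12, 11, 4]⟩]⟩,
 ⟨4, 6, 2227, [], [⟨1, 2226, []⟩], []⟩,
 ⟨7, 6, 168, [2, 4, 12, 7, 11, 12, 3, 1, 0, 2, 1, 3, 2, 0], [], [⟨1, 167, [2, 4, 12, 7, 11, 12]⟩, ⟨1, 134, []⟩, ⟨1, 135, []⟩, ⟨1, 134, []⟩, ⟨1, 1187, [0, 4, 12, 7, 13, 11, 4, 12, 11, 4, 13]⟩, ⟨1, 134, []⟩, ⟨1, 1529, [0, 8, 12, 8, 13, 11, 12, 11, 13]⟩]⟩,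
 ⟨4, 6, 2229, [], [⟨1, 2228, []⟩], []⟩,
 ⟨7, 6, 168, [11, 13, 11, 4, 3, 1, 0, 2, 1, 3, 2, 0], [], [⟨1, 167, [11, 13, 11, 4]⟩, ⟨1, 261, [0, 11, 4, 11, 13, 11, 4, 11]⟩, ⟨1, 86, []⟩, ⟨1, 90, []⟩, ⟨1, 90, []⟩, ⟨1, 308, [0, 7, 11, 12, 7, 11, 12, 7, 11, 12]⟩]⟩,
 ⟨4, 6, 2231, [], [⟨1, 2230, []⟩], []⟩,
 ⟨7, 6, 168, [4, 7, 11, 12, 13, 3, 1, 0, 2, 1, 3, 2, 0], [], [⟨1, 167, [4, 7, 11, 12, 13]⟩, ⟨1, 135, []⟩, ⟨1, 134, []⟩, ⟨1, 1444, [7, 12, 8, 13, 11, 4, 11, 12, 7]⟩, ⟨1, 135, []⟩, ⟨1, 134, []⟩, ⟨1, 1574, [2, 8, 12, 8, 11, 12, 7, 11, 12, 7, 11]⟩]⟩,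
 ⟨4, 6, 2233, [], [⟨1, 2232, []⟩], []⟩,
 ⟨7, 6, 168, [0, 12, 13, 11, 4, 3, 1, 0, 2, 1, 3, 2, 0], [], [⟨1, 167, [0, 12, 13, 11, 4]⟩, ⟨1, 135, []⟩, ⟨1, 1614, [0, 12, 7, 11, 13, 11, 12, 7, 11]⟩, ⟨1, 135, []⟩, ⟨1, 1419, [12, 11, 13, 11, 4, 12]⟩]⟩,
 ⟨4, 6, 2235, [], [⟨1, 2234, []⟩], []⟩,
 ⟨7, 6, 168, [0, 13, 11, 12, 7, 11, 12, 3, 1, 0, 2, 1, 3, 2, 0], [], [⟨1, 167, [0, 13, 11, 12, 7, 11, 12]⟩, ⟨1, 1584, [4, 12, 8, 11, 4, 12, 13]⟩, ⟨1, 135, []⟩, ⟨1, 134, []⟩, ⟨1, 1450, [2, 12, 11, 12, 13, 11, 4]⟩]⟩,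
 ⟨4, 6, 2237, [], [⟨1, 2236, []⟩], []⟩,
 ⟨7, 6, 168, [4, 12, 13, 3, 1, 0, 2, 1, 3, 2, 0], [], [⟨1, 167, [4, 12, 13]⟩, ⟨1, 135, []⟩, ⟨1, 134, []⟩, ⟨1, 1349, [2, 11, 12, 11, 4, 12, 11, 13]⟩, ⟨1, 135, []⟩, ⟨1, 134, []⟩, ⟨1, 1552, [2, 11, 12, 8, 13, 11, 12, 8]⟩]⟩,
 ⟨4, 6, 2239, [], [⟨1, 2238, []⟩], []⟩,
 ⟨8, 6, 168, [12, 8, 11, 4, 12, 13, 0, 2, 3, 4, 2, 1, 2, 0, 1, 3, 2, 0], [], [⟨1, 167, [12, 8, 11, 4, 12, 13]⟩, ⟨1, 135, []⟩, ⟨1, 235, [4, 7, 11, 2, 13, 11, 4, 12, 8, 11]⟩, ⟨1, 39, []⟩, ⟨1, 43, []⟩, ⟨1, 42, []⟩, ⟨1, 41, []⟩, ⟨1, 40, []⟩, ⟨1, 46, []⟩, ⟨1, 68, []⟩, ⟨1, 286, [4, 8, 13, 11, 4, 12, 11, 12, 8, 11, 12]⟩]⟩,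
 ⟨4, 6, 2241, [], [⟨1, 2240, []⟩], []⟩,
 ⟨8, 6, 168, [7, 11, 12, 13, 0, 2, 3, 4, 2, 1, 2, 0, 1, 3, 2, 0], [], [⟨1, 167, [7, 11, 12, 13]⟩, ⟨1, 319, [2, 12, 8, 13, 11, 12, 7, 11, 4, 12]⟩, ⟨1, 87, []⟩, ⟨1, 86, []⟩, ⟨1, 90, []⟩, ⟨1, 87, []⟩, ⟨1, 459, [2, 7, 13, 11, 4, 12, 8, 11, 4, 12]⟩]⟩,
 ⟨4, 6, 2243, [], [⟨1, 2242, []⟩], []⟩]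
theorem chk45 : and2 (D.chkL PF45 2193) (Nat.beq (Nat.add 2193 PF45.length) 2244) = true := by decide +kernel

def PF46 : List DPf := [⟨8, 6, 168, [12, 11, 13, 11, 4, 12, 0, 2, 3, 4, 2, 1, 2, 0, 1, 3, 2, 0], [], [⟨1, 167, [12, 11, 13, 11, 4, 12]⟩, ⟨1, 179, [2, 4, 8, 11, 13, 11, 12, 11]⟩, ⟨1, 135, []⟩, ⟨1, 2040, [0, 12, 13, 11, 12, 7, 11, 12, 8, 13]⟩]⟩,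
 ⟨4, 6, 2245, [], [⟨1, 2244, []⟩], []⟩,
 ⟨8, 6, 168, [7, 12, 0, 2, 3, 4, 2, 1, 2, 0, 1, 3, 2, 0], [], [⟨1, 167, [7, 12]⟩, ⟨1, 857, [8, 12, 8, 11, 4, 12, 13, 11, 4, 12, 11]⟩, ⟨1, 135, []⟩, ⟨1, 134, []⟩, ⟨1, 902, [12, 7, 13, 11, 12, 8, 11, 12, 7, 13]⟩]⟩,
 ⟨4, 6, 2247, [], [⟨1, 2246, []⟩], []⟩,
 ⟨8, 6, 168, [0, 4, 12, 13, 11, 12, 0, 2, 3, 4, 2, 1, 2, 0, 1, 3, 2, 0], [], [⟨1, 167, [0, 4, 12, 13, 11, 12]⟩, ⟨1, 135, []⟩, ⟨1, 396, [0, 4, 7, 12, 11, 12, 13, 11, 4, 12, 11]⟩, ⟨1, 78, []⟩, ⟨1, 81, []⟩, ⟨1, 77, []⟩, ⟨1, 81, []⟩, ⟨1, 346, [8, 12]⟩]⟩,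
 ⟨4, 6, 2249, [], [⟨1, 2248, []⟩], []⟩,
 ⟨8, 6, 168, [4, 7, 11, 13, 11, 12, 0, 2, 3, 4, 2, 1, 2, 0, 1, 3, 2, 0], [], [⟨1, 167, [4, 7, 11, 13, 11, 12]⟩, ⟨1, 319, [2, 11, 4, 12, 11, 12, 11, 13]⟩, ⟨1, 86, []⟩, ⟨1, 87, []⟩, ⟨1, 525, [0, 7, 11, 12, 11, 4, 11, 12, 8, 11]⟩]⟩,
 ⟨4, 6, 2251, [], [⟨1, 2250, []⟩], []⟩,
 ⟨8, 6, 168, [4, 12, 13, 11, 12, 0, 2, 3, 4, 2, 1, 2, 0, 1, 3, 2, 0], [], [⟨1, 167, [4, 12, 13, 11, 12]⟩, ⟨1, 135, []⟩, ⟨1, 396, [7, 11, 4, 12, 11, 12, 13, 11, 4, 12, 11]⟩, ⟨1, 76, []⟩, ⟨1, 76, []⟩, ⟨1, 81, []⟩, ⟨1, 81, []⟩, ⟨1, 77, []⟩, ⟨1, 126, []⟩, ⟨1, 340, [0, 12, 8, 13, 11, 4, 11, 12, 11, 4]⟩]⟩,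
 ⟨4, 6, 2253, [], [⟨1, 2252, []⟩], []⟩,
 ⟨8, 6, 168, [11, 12, 0, 2, 3, 4, 2, 1, 2, 0, 1, 3, 2, 0], [], [⟨1, 167, [11, 12]⟩, ⟨1, 335, [11, 12, 7, 11, 12, 11, 12, 7, 13]⟩, ⟨1, 86, []⟩, ⟨1, 90, []⟩, ⟨1, 90, []⟩, ⟨1, 86, []⟩, ⟨1, 577, [0, 12, 8, 13, 11, 12, 8, 11, 4, 13]⟩]⟩,
 ⟨8, 6, 168, [0, 8, 12, 11, 4, 13, 0, 2, 3, 4, 2, 1, 2, 0, 1, 3, 2, 0], [], [⟨1, 167, [0, 8, 12, 11, 4, 13]⟩, ⟨1, 134, []⟩, ⟨1, 261, [7, 13, 11, 4, 11, 12, 11]⟩, ⟨1, 86, []⟩, ⟨1, 87, []⟩, ⟨1, 90, []⟩, ⟨1, 86, []⟩, ⟨1, 90, []⟩, ⟨1, 719, [7, 12, 7, 11, 12, 13, 11, 12, 8, 12]⟩]⟩,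
 ⟨4, 6, 2256, [], [⟨1, 2255, []⟩], []⟩,
 ⟨8, 6, 168, [11, 4, 13, 11, 4, 12, 11, 12, 0, 2, 3, 4, 2, 1, 2, 0, 1, 3, 2, 0], [], [⟨1, 167, [11, 4, 13, 11, 4, 12, 11, 12]⟩, ⟨1, 135, []⟩, ⟨1, 134, []⟩, ⟨1, 261, [8, 11, 12, 11, 13, 11, 4, 12, 7]⟩, ⟨1, 86, []⟩, ⟨1, 87, []⟩, ⟨1, 90, []⟩, ⟨1, 87, []⟩, ⟨1, 481, [2, 12, 8, 12, 13, 11, 4, 11]⟩]⟩,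
 ⟨4, 6, 2258, [], [⟨1, 2257, []⟩], []⟩,
 ⟨8, 6, 168, [4, 11, 4, 11, 12, 0, 2, 3, 4, 2, 1, 2, 0, 1, 3, 2, 0], [], [⟨1, 167, [4, 11, 4, 11, 12]⟩, ⟨1, 335, [4, 11, 4, 12, 8, 13, 11, 12, 11]⟩, ⟨1, 90, []⟩, ⟨1, 87, []⟩, ⟨1, 90, []⟩, ⟨1, 193, [8, 11, 12, 7, 13, 11, 12, 11]⟩]⟩,
 ⟨4, 6, 2260, [], [⟨1, 2259, []⟩], []⟩,
 ⟨8, 6, 168, [11, 4, 11, 13, 11, 12, 0, 2, 3, 4, 2, 1, 2, 0, 1, 3, 2, 0], [], [⟨1, 167, [11, 4, 11, 13, 11, 12]⟩, ⟨1, 177, [4, 11, 4, 11, 13, 11, 12, 11, 4]⟩, ⟨1, 134, []⟩, ⟨1, 135, []⟩, ⟨1, 1763, [11, 4, 11, 4, 13, 11, 4]⟩]⟩,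
 ⟨4, 6, 2262, [], [⟨1, 2261, []⟩], []⟩,
 ⟨8, 6, 168, [4, 12, 11, 4, 0, 2, 3, 4, 2, 1, 2, 0, 1, 3, 2, 0], [], [⟨1, 167, [4, 12, 11, 4]⟩, ⟨1, 335, [11, 4, 11, 13, 11, 12, 11, 4, 12, 8]⟩, ⟨1, 86, []⟩, ⟨1, 90, []⟩, ⟨1, 90, []⟩, ⟨1, 90, []⟩, ⟨1, 86, []⟩, ⟨1, 579, [7, 12, 7, 11, 2, 13, 11, 4]⟩]⟩,
 ⟨4, 6, 2264, [], [⟨1, 2263, []⟩], []⟩,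
 ⟨8, 6, 168, [7, 12, 11, 4, 13, 0, 2, 3, 4, 2, 1, 2, 0, 1, 3, 2, 0], [], [⟨1, 167, [7, 12, 11, 4, 13]⟩, ⟨1, 134, []⟩, ⟨1, 261, [8, 11, 4, 11, 12, 11]⟩, ⟨1, 86, []⟩, ⟨1, 90, []⟩, ⟨1, 87, []⟩, ⟨1, 90, []⟩, ⟨1, 90, []⟩, ⟨1, 699, [4, 12, 11, 4, 12, 13, 11]⟩]⟩,
 ⟨4, 6, 2266, [], [⟨1, 2265, []⟩], []⟩,
 ⟨8, 6, 168, [0, 4, 11, 12, 13, 0, 2, 3, 4, 2, 1, 2, 0, 1, 3, 2, 0], [], [⟨1, 167, [0, 4, 11, 12, 13]⟩, ⟨1, 135, []⟩, ⟨1, 179, [2, 11, 4, 12, 11, 12, 8, 13]⟩, ⟨1, 135, []⟩, ⟨1, 134, []⟩, ⟨1, 1125, [8, 11, 12, 11, 4, 11, 13]⟩]⟩,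
 ⟨4, 6, 2268, [], [⟨1, 2267, []⟩], []⟩,
 ⟨12, 6, 168, [0, 4, 13, 0, 2, 3, 1, 0, 2, 1, 2, 4, 3, 2, 0, 2, 0], [], [⟨1, 167, [0, 4, 13]⟩, ⟨1, 135, []⟩, ⟨1, 134, []⟩, ⟨1, 1967, [0, 4, 11, 4, 13, 11, 4, 11]⟩, ⟨1, 134, []⟩, ⟨1, 135, []⟩, ⟨1, 1641, [4, 7, 12, 8, 11, 4, 11, 13, 11, 4]⟩]⟩,
 ⟨4, 6, 2270, [], [⟨1, 2269, []⟩], []⟩,
 ⟨12, 6, 168, [7, 12, 8, 13, 11, 4, 12, 0, 2, 3, 1, 0, 2, 1, 2, 4, 3, 2, 0, 2, 0], [], [⟨1, 167, [7, 12, 8, 13, 11, 4, 12]⟩, ⟨1, 1898, [4, 11, 2, 4]⟩, ⟨1, 135, []⟩, ⟨1, 1439, [0, 7, 11, 4, 11, 12, 13, 11, 4, 11, 12]⟩]⟩,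
 ⟨4, 6, 2272, [], [⟨1, 2271, []⟩], []⟩,
 ⟨13, 6, 168, [0, 4, 13, 11, 4, 12, 0, 2, 3, 1, 2, 0, 1, 3, 2, 0], [], [⟨1, 167, [0, 4, 13, 11, 4, 12]⟩, ⟨1, 177, [4, 11, 4, 13, 11, 4, 12, 11, 13]⟩, ⟨1, 134, []⟩, ⟨1, 135, []⟩, ⟨1, 1395, [11, 2, 12, 11, 4, 11, 12, 7, 13]⟩]⟩,
 ⟨4, 6, 2274, [], [⟨1, 2273, []⟩], []⟩,
 ⟨13, 6, 168, [4, 8, 11, 12, 13, 0, 2, 3, 1, 2, 0, 1, 3, 2, 0], [], [⟨1, 167, [4, 8, 11, 12, 13]⟩, ⟨1, 235, [2, 8, 12, 11, 12, 7]⟩, ⟨1, 43, []⟩, ⟨1, 41, []⟩, ⟨1, 40, []⟩, ⟨1, 46, []⟩, ⟨1, 364, [0, 4, 12, 11, 13, 11, 12, 11, 4, 13]⟩]⟩,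
 ⟨4, 6, 2276, [], [⟨1, 2275, []⟩], []⟩,
 ⟨17, 6, 168, [7, 11, 13, 5, 5, 3, 6, 6, 2, 0], [], [⟨1, 167, [7, 11, 13]⟩, ⟨1, 134, []⟩, ⟨1, 1673, [0, 7, 12, 7, 11, 4, 11, 12, 13, 11]⟩, ⟨1, 134, []⟩, ⟨1, 135, []⟩, ⟨1, 843, [2, 4, 11, 12, 8, 12, 13, 11, 4, 11]⟩]⟩,
 ⟨4, 6, 2278, [], [⟨1, 2277, []⟩], []⟩,
 ⟨6, 6, 171, [7, 11, 12, 13, 0, 2, 4, 3, 2, 0], [], [⟨1, 170, [7, 11, 12, 13]⟩, ⟨1, 2045, [4, 12, 7, 13, 11, 12, 8, 11, 4, 12, 13]⟩, ⟨1, 134, []⟩, ⟨1, 135, []⟩, ⟨1, 1281, [2, 12, 11, 12, 7, 12, 11, 4, 13]⟩]⟩,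
 ⟨4, 6, 2280, [], [⟨1, 2279, []⟩], []⟩,
 ⟨7, 6, 171, [4, 12, 13, 11, 4, 3, 1, 0, 2, 1, 3, 2, 0], [], [⟨1, 170, [4, 12, 13, 11, 4]⟩, ⟨1, 134, []⟩, ⟨1, 1202, [0, 4, 11, 4, 12, 7, 13, 11]⟩, ⟨1, 135, []⟩, ⟨1, 134, []⟩, ⟨1, 1099, [4, 8, 12, 11, 12, 7, 11]⟩]⟩,
 ⟨4, 6, 2282, [], [⟨1, 2281, []⟩], []⟩,
 ⟨7, 6, 171, [12, 11, 4, 11, 12, 3, 1, 0, 2, 1, 3, 2, 0], [], [⟨1, 170, [12, 11, 4, 11, 12]⟩, ⟨1, 134, []⟩, ⟨1, 135, []⟩, ⟨1, 2010, [8, 13, 11, 4, 11, 12, 11, 4]⟩, ⟨1, 134, []⟩, ⟨1, 135, []⟩, ⟨1, 2259, [13, 11, 4, 12, 8, 11, 13]⟩]⟩,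
 ⟨4, 6, 2284, [], [⟨1, 2283, []⟩], []⟩,
 ⟨7, 6, 171, [8, 12, 8, 11, 12, 13, 3, 1, 0, 2, 1, 3, 2, 0], [], [⟨1, 170, [8, 12, 8, 11, 12, 13]⟩, ⟨1, 135, []⟩, ⟨1, 1661, [2, 12, 8, 11, 13, 11, 12, 8, 11, 12]⟩, ⟨1, 134, []⟩, ⟨1, 135, []⟩, ⟨1, 1424, [4, 8, 11, 2, 12, 8, 13]⟩]⟩,
 ⟨4, 6, 2286, [], [⟨1, 2285, []⟩], []⟩,
 ⟨7, 6, 171, [0, 8, 12, 13, 11, 12, 3, 1, 0, 2, 1, 3, 2, 0], [], [⟨1, 170, [0, 8, 12, 13, 11, 12]⟩, ⟨1, 134, []⟩, ⟨1, 2216, [8, 12, 7, 11, 12, 8, 11, 13, 11]⟩, ⟨1, 1691, [11, 2, 4, 12, 7, 11, 12, 11, 4, 13]⟩]⟩,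
 ⟨4, 6, 2288, [], [⟨1, 2287, []⟩], []⟩,
 ⟨7, 6, 171, [8, 12, 7, 11, 12, 13, 3, 1, 0, 2, 1, 3, 2, 0], [], [⟨1, 170, [8, 12, 7, 11, 12, 13]⟩, ⟨1, 151, [2, 11, 12, 8, 11, 4, 12, 11, 4, 13]⟩, ⟨1, 39, []⟩, ⟨1, 43, []⟩, ⟨1, 41, []⟩, ⟨1, 40, []⟩, ⟨1, 46, []⟩, ⟨1, 779, [7, 11, 12, 11, 12, 8, 12, 13, 11, 4]⟩]⟩,
 ⟨4, 6, 2290, [], [⟨1, 2289, []⟩], []⟩]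
theorem chk46 : and2 (D.chkL PF46 2244) (Nat.beq (Nat.add 2244 PF46.length) 2291) = true := by decide +kernel

def PF47 : List DPf := [⟨7, 6, 171, [0, 4, 12, 8, 13, 11, 12, 3, 1, 0, 2, 1, 3, 2, 0], [], [⟨1, 170, [0, 4, 12, 8, 13, 11, 12]⟩, ⟨1, 135, []⟩, ⟨1, 134, []⟩, ⟨1, 1156, [4, 7, 12, 8, 11, 12, 11, 13, 11, 12, 11]⟩, ⟨1, 1176, [0, 4, 11, 13, 11, 4, 12, 8, 11]⟩]⟩,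
 ⟨4, 6, 2292, [], [⟨1, 2291, []⟩], []⟩,
 ⟨7, 6, 171, [4, 13, 11, 12, 3, 1, 0, 2, 1, 3, 2, 0], [], [⟨1, 170, [4, 13, 11, 12]⟩, ⟨1, 134, []⟩, ⟨1, 259, [4, 8, 11, 12, 11, 4, 13]⟩, ⟨1, 87, []⟩, ⟨1, 86, []⟩, ⟨1, 621, [11, 12, 7, 12, 11, 12, 7, 13]⟩]⟩,
 ⟨4, 6, 2294, [], [⟨1, 2293, []⟩], []⟩,
 ⟨7, 6, 171, [4, 8, 11, 12, 3, 1, 0, 2, 1, 3, 2, 0], [], [⟨1, 170, [4, 8, 11, 12]⟩, ⟨1, 134, []⟩, ⟨1, 135, []⟩, ⟨1, 134, []⟩, ⟨1, 1448, [0, 8, 11, 13, 11, 12, 8, 11, 12, 8]⟩, ⟨1, 134, []⟩, ⟨1, 1506, [8, 12, 11, 2, 13, 11, 12, 7, 12]⟩]⟩,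
 ⟨4, 6, 2296, [], [⟨1, 2295, []⟩], []⟩,
 ⟨7, 6, 171, [0, 7, 12, 11, 4, 13, 3, 1, 0, 2, 1, 3, 2, 0], [], [⟨1, 170, [0, 7, 12, 11, 4, 13]⟩, ⟨1, 135, []⟩, ⟨1, 134, []⟩, ⟨1, 1889, [0, 4, 12, 13, 11]⟩, ⟨1, 134, []⟩, ⟨1, 1114, [7, 12, 7, 13, 11, 12, 7, 11, 4, 11]⟩]⟩,
 ⟨4, 6, 2298, [], [⟨1, 2297, []⟩], []⟩,
 ⟨7, 6, 171, [8, 11, 12, 7, 11, 12, 3, 1, 0, 2, 1, 3, 2, 0], [], [⟨1, 170, [8, 11, 12, 7, 11, 12]⟩, ⟨1, 134, []⟩, ⟨1, 135, []⟩, ⟨1, 134, []⟩, ⟨1, 1991, [2, 7, 13, 11, 4, 12, 8]⟩, ⟨1, 135, []⟩, ⟨1, 2233, [4, 11, 12, 7, 13, 11, 12, 7, 11, 13]⟩]⟩,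
 ⟨4, 6, 2300, [], [⟨1, 2299, []⟩], []⟩,
 ⟨7, 6, 171, [0, 4, 13, 3, 1, 0, 2, 1, 3, 2, 0], [], [⟨1, 170, [0, 4, 13]⟩, ⟨1, 135, []⟩, ⟨1, 827, [0, 11, 13, 11, 12, 11, 4, 11, 4]⟩, ⟨1, 134, []⟩, ⟨1, 135, []⟩, ⟨1, 134, []⟩, ⟨1, 1946, [7, 12, 11, 4, 12, 11, 12, 13, 11]⟩]⟩,
 ⟨4, 6, 2302, [], [⟨1, 2301, []⟩], []⟩,
 ⟨7, 6, 171, [4, 8, 11, 4, 12, 13, 3, 1, 0, 2, 1, 3, 2, 0], [], [⟨1, 170, [4, 8, 11, 4, 12, 13]⟩, ⟨1, 135, []⟩, ⟨1, 134, []⟩, ⟨1, 492, [0, 11, 12, 13, 11, 12, 7, 11, 12]⟩, ⟨1, 86, []⟩, ⟨1, 87, []⟩, ⟨1, 90, []⟩, ⟨1, 90, []⟩, ⟨1, 86, []⟩, ⟨1, 675, [0, 4, 8, 11, 12, 7, 11, 13, 11, 12]⟩]⟩,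
 ⟨4, 6, 2304, [], [⟨1, 2303, []⟩], []⟩,
 ⟨7, 6, 171, [4, 7, 11, 12, 13, 3, 1, 0, 2, 1, 3, 2, 0], [], [⟨1, 170, [4, 7, 11, 12, 13]⟩, ⟨1, 134, []⟩, ⟨1, 135, []⟩, ⟨1, 134, []⟩, ⟨1, 1407, [12, 7, 11, 4, 11, 12, 8, 12, 11, 12, 11]⟩, ⟨1, 1565, [2, 7, 12, 13, 11, 4, 12, 11]⟩]⟩,
 ⟨4, 6, 2306, [], [⟨1, 2305, []⟩], []⟩,
 ⟨7, 6, 171, [2, 8, 12, 11, 4, 3, 1, 0, 2, 1, 3, 2, 0], [], [⟨1, 170, [2, 8, 12, 11, 4]⟩, ⟨1, 134, []⟩, ⟨1, 135, []⟩, ⟨1, 1571, [8, 11, 12, 7, 13, 11, 4, 11]⟩, ⟨1, 134, []⟩, ⟨1, 135, []⟩, ⟨1, 134, []⟩, ⟨1, 1171, [11, 12, 7, 12, 11, 13, 11, 4, 11]⟩]⟩,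
 ⟨4, 6, 2308, [], [⟨1, 2307, []⟩], []⟩,
 ⟨7, 6, 171, [0, 8, 11, 12, 13, 3, 1, 0, 2, 1, 3, 2, 0], [], [⟨1, 170, [0, 8, 11, 12, 13]⟩, ⟨1, 134, []⟩, ⟨1, 135, []⟩, ⟨1, 1039, [11, 12, 11, 4, 13, 11, 4, 11, 13]⟩, ⟨1, 1954, [0, 12, 8, 12, 11, 4, 12, 13, 11, 4]⟩]⟩,
 ⟨4, 6, 2310, [], [⟨1, 2309, []⟩], []⟩,
 ⟨7, 6, 171, [7, 11, 4, 11, 12, 13, 3, 1, 0, 2, 1, 3, 2, 0], [], [⟨1, 170, [7, 11, 4, 11, 12, 13]⟩, ⟨1, 134, []⟩, ⟨1, 135, []⟩, ⟨1, 1681, [2, 4, 8, 12, 11, 12, 7, 11, 4]⟩, ⟨1, 1696, [7, 12, 8, 11, 4, 12, 13, 11]⟩]⟩,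
 ⟨4, 6, 2312, [], [⟨1, 2311, []⟩], []⟩,
 ⟨7, 6, 171, [11, 12, 13, 11, 12, 3, 1, 0, 2, 1, 3, 2, 0], [], [⟨1, 170, [11, 12, 13, 11, 12]⟩, ⟨1, 135, []⟩, ⟨1, 838, [8, 12, 11, 12, 7, 13, 11, 12, 8]⟩, ⟨1, 135, []⟩, ⟨1, 1686, [12, 11, 2, 13, 11, 12, 7, 12]⟩]⟩,
 ⟨4, 6, 2314, [], [⟨1, 2313, []⟩], []⟩,
 ⟨7, 6, 171, [11, 4, 11, 13, 11, 12, 3, 1, 0, 2, 1, 3, 2, 0], [], [⟨1, 170, [11, 4, 11, 13, 11, 12]⟩, ⟨1, 134, []⟩, ⟨1, 135, []⟩, ⟨1, 1823, [4, 7, 11, 2, 12, 13, 11, 12, 8, 12]⟩, ⟨1, 134, []⟩, ⟨1, 135, []⟩, ⟨1, 134, []⟩, ⟨1, 1749, [11, 4, 11, 4, 12, 11, 13, 11, 4, 12]⟩]⟩,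
 ⟨4, 6, 2316, [], [⟨1, 2315, []⟩], []⟩,
 ⟨7, 6, 171, [8, 11, 12, 13, 11, 4, 3, 1, 0, 2, 1, 3, 2, 0], [], [⟨1, 170, [8, 11, 12, 13, 11, 4]⟩, ⟨1, 135, []⟩, ⟨1, 134, []⟩, ⟨1, 1638, [2, 8, 12, 11, 12, 7, 11, 13]⟩, ⟨1, 134, []⟩, ⟨1, 135, []⟩, ⟨1, 134, []⟩, ⟨1, 1286, [7, 13, 11, 4, 11, 4, 13, 11, 12, 8]⟩]⟩,
 ⟨4, 6, 2318, [], [⟨1, 2317, []⟩], []⟩,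
 ⟨7, 6, 171, [11, 12, 11, 13, 11, 4, 12, 3, 1, 0, 2, 1, 3, 2, 0], [], [⟨1, 170, [11, 12, 11, 13, 11, 4, 12]⟩, ⟨1, 135, []⟩, ⟨1, 134, []⟩, ⟨1, 846, [7, 12, 11, 4, 12, 7, 11, 12, 8]⟩, ⟨1, 964, [2, 11, 12, 11, 13, 11, 12, 7, 11, 12]⟩]⟩,
 ⟨4, 6, 2320, [], [⟨1, 2319, []⟩], []⟩,
 ⟨8, 6, 171, [2, 7, 11, 4, 11, 12, 0, 2, 3, 4, 2, 1, 2, 0, 1, 3, 2, 0], [], [⟨1, 170, [2, 7, 11, 4, 11, 12]⟩, ⟨1, 998, [2, 4, 7, 12, 8, 11, 12, 11, 4, 13]⟩, ⟨1, 134, []⟩, ⟨1, 135, []⟩, ⟨1, 1553, [2, 12, 7, 11, 12, 7, 13, 11, 12]⟩]⟩,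
 ⟨4, 6, 2322, [], [⟨1, 2321, []⟩], []⟩,
 ⟨8, 6, 171, [4, 8, 11, 4, 11, 12, 0, 2, 3, 4, 2, 1, 2, 0, 1, 3, 2, 0], [], [⟨1, 170, [4, 8, 11, 4, 11, 12]⟩, ⟨1, 1041, [12, 7, 11, 4, 11, 13, 11, 4, 11, 12]⟩, ⟨1, 134, []⟩, ⟨1, 135, []⟩, ⟨1, 1896, [7, 11, 13, 11, 12, 7, 11, 4, 12, 8]⟩]⟩,
 ⟨4, 6, 2324, [], [⟨1, 2323, []⟩], []⟩,
 ⟨8, 6, 171, [4, 7, 13, 11, 12, 0, 2, 3, 4, 2, 1, 2, 0, 1, 3, 2, 0], [], [⟨1, 170, [4, 7, 13, 11, 12]⟩, ⟨1, 2047, [2, 4, 12, 8, 13, 11, 12, 7, 11, 12]⟩, ⟨1, 135, []⟩, ⟨1, 134, []⟩, ⟨1, 1853, [0, 7, 12, 8, 11, 12, 8, 11, 12, 11]⟩]⟩,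
 ⟨4, 6, 2326, [], [⟨1, 2325, []⟩], []⟩,
 ⟨8, 6, 171, [7, 12, 8, 11, 12, 0, 2, 3, 4, 2, 1, 2, 0, 1, 3, 2, 0], [], [⟨1, 170, [7, 12, 8, 11, 12]⟩, ⟨1, 858, [8, 11, 4, 12, 11, 13]⟩, ⟨1, 134, []⟩, ⟨1, 135, []⟩, ⟨1, 2153, [4, 8, 11, 12, 7, 11, 12, 11, 12]⟩]⟩,
 ⟨4, 6, 2328, [], [⟨1, 2327, []⟩], []⟩,
 ⟨8, 6, 171, [4, 8, 11, 12, 0, 2, 3, 4, 2, 1, 2, 0, 1, 3, 2, 0], [], [⟨1, 170, [4, 8, 11, 12]⟩, ⟨1, 858, [0, 4, 12, 7, 11, 4, 12, 8, 11, 13]⟩, ⟨1, 1277, [4, 11, 4, 12, 8, 11, 4, 11, 13, 11]⟩]⟩,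
 ⟨4, 6, 2330, [], [⟨1, 2329, []⟩], []⟩,
 ⟨8, 6, 171, [8, 12, 0, 2, 3, 4, 2, 1, 2, 0, 1, 3, 2, 0], [], [⟨1, 170, [8, 12]⟩, ⟨1, 1041, [11, 4, 13, 11, 12, 11, 12, 7, 12]⟩, ⟨1, 135, []⟩, ⟨1, 1532, [2, 12, 11, 12, 11, 13, 11]⟩]⟩,
 ⟨4, 6, 2332, [], [⟨1, 2331, []⟩], []⟩,
 ⟨8, 6, 171, [0, 4, 12, 13, 11, 12, 0, 2, 3, 4, 2, 1, 2, 0, 1, 3, 2, 0], [], [⟨1, 170, [0, 4, 12, 13, 11, 12]⟩, ⟨1, 1997, [7, 13, 11, 12, 8, 11, 4, 11, 12, 11]⟩, ⟨1, 134, []⟩, ⟨1, 135, []⟩, ⟨1, 1271, [4, 8, 11, 2, 12, 11, 4, 13]⟩]⟩,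
 ⟨4, 6, 2334, [], [⟨1, 2333, []⟩], []⟩,
 ⟨8, 6, 171, [4, 12, 13, 11, 12, 0, 2, 3, 4, 2, 1, 2, 0, 1, 3, 2, 0], [], [⟨1, 170, [4, 12, 13, 11, 12]⟩, ⟨1, 1997, [8, 12, 11, 12, 7, 13, 11, 4, 11, 4]⟩, ⟨1, 134, []⟩, ⟨1, 135, []⟩, ⟨1, 2053, [2, 8, 12, 11, 13, 11, 4, 12, 8, 11]⟩]⟩,
 ⟨4, 6, 2336, [], [⟨1, 2335, []⟩], []⟩,
 ⟨8, 6, 171, [7, 12, 11, 4, 12, 0, 2, 3, 4, 2, 1, 2, 0, 1, 3, 2, 0], [], [⟨1, 170, [7, 12, 11, 4, 12]⟩, ⟨1, 135, []⟩, ⟨1, 151, [4, 11, 13, 11, 4, 12, 7, 11, 4]⟩, ⟨1, 39, []⟩, ⟨1, 41, []⟩, ⟨1, 40, []⟩, ⟨1, 366, [4, 12, 8, 13, 11, 12, 8, 11, 12]⟩]⟩,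
 ⟨4, 6, 2338, [], [⟨1, 2337, []⟩], []⟩,
 ⟨8, 6, 171, [2, 4, 8, 11, 4, 12, 0, 2, 3, 4, 2, 1, 2, 0, 1, 3, 2, 0], [], [⟨1, 170, [2, 4, 8, 11, 4, 12]⟩, ⟨1, 1041, [7, 12, 7, 11, 12, 8, 12, 11, 13]⟩, ⟨1, 134, []⟩, ⟨1, 1885, [4, 12, 7, 13, 11, 4, 12, 11, 4]⟩]⟩,
 ⟨4, 6, 2340, [], [⟨1, 2339, []⟩], []⟩]
theorem chk47 : and2 (D.chkL PF47 2291) (Nat.beq (Nat.add 2291 PF47.length) 2341) = true := by decide +kernel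

def PF48 : List DPf := [⟨8, 6, 171, [4, 8, 13, 11, 4, 11, 12, 0, 2, 3, 4, 2, 1, 2, 0, 1, 3, 2, 0], [], [⟨1, 170, [4, 8, 13, 11, 4, 11, 12]⟩, ⟨1, 134, []⟩, ⟨1, 2043, [0, 11, 4, 12, 11, 12, 13, 11, 4, 11]⟩, ⟨1, 135, []⟩, ⟨1, 134, []⟩, ⟨1, 2237, [2, 8, 12, 7, 13, 11, 4]⟩]⟩,
 ⟨4, 6, 2342, [], [⟨1, 2341, []⟩], []⟩,
 ⟨9, 6, 171, [13, 11, 12, 0, 2, 4, 1, 0, 2, 1, 3, 2, 0], [], [⟨1, 170, [13, 11, 12]⟩, ⟨1, 134, []⟩, ⟨1, 135, []⟩, ⟨1, 1834, [4, 11, 4, 11, 13, 11, 12, 8, 11, 12]⟩, ⟨1, 134, []⟩, ⟨1, 135, []⟩, ⟨1, 134, []⟩, ⟨1, 1264, [4, 11, 4, 11, 12, 7, 13, 11]⟩]⟩,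
 ⟨4, 6, 2344, [], [⟨1, 2343, []⟩], []⟩,
 ⟨12, 6, 171, [0, 7, 11, 12, 13, 11, 4, 0, 2, 3, 1, 0, 2, 1, 2, 4, 3, 2, 0, 2, 0], [], [⟨1, 170, [0, 7, 11, 12, 13, 11, 4]⟩, ⟨1, 134, []⟩, ⟨1, 626, [4, 12, 11, 4, 12, 13, 11, 4, 11]⟩, ⟨1, 90, []⟩, ⟨1, 90, []⟩, ⟨1, 86, []⟩, ⟨1, 90, []⟩, ⟨1, 505, [0, 7, 13, 11, 12, 11, 12, 8, 12]⟩]⟩,
 ⟨4, 6, 2346, [], [⟨1, 2345, []⟩], []⟩,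
 ⟨17, 6, 171, [11, 12, 7, 12, 13, 5, 5, 3, 6, 6, 2, 0], [], [⟨1, 170, [11, 12, 7, 12, 13]⟩, ⟨1, 134, []⟩, ⟨1, 135, []⟩, ⟨1, 2132, [0, 4, 7, 12, 11, 4, 13, 11, 12]⟩, ⟨1, 1995, [2, 7, 12, 11, 12, 7, 12, 11, 4, 11]⟩]⟩,
 ⟨17, 6, 171, [8, 12, 13, 5, 5, 3, 6, 6, 2, 0], [], [⟨1, 170, [8, 12, 13]⟩, ⟨1, 1547, [4, 12, 8, 11, 13, 11, 4, 11, 13]⟩, ⟨1, 1996, [11, 13, 11, 12, 7, 11, 4, 11, 12, 13]⟩]⟩,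
 ⟨4, 6, 2349, [], [⟨1, 2348, []⟩], []⟩,
 ⟨6, 6, 154, [7, 12, 0, 2, 4, 3, 2, 0], [], [⟨1, 153, [7, 12]⟩, ⟨1, 1593, [0, 11, 13, 11, 4, 11, 4, 12, 8, 13]⟩, ⟨1, 134, []⟩, ⟨1, 135, []⟩, ⟨1, 134, []⟩, ⟨1, 1713, [0, 13, 11, 12, 11, 12, 8, 12, 13]⟩]⟩,
 ⟨4, 6, 2351, [], [⟨1, 2350, []⟩], []⟩,
 ⟨7, 6, 154, [12, 11, 13, 11, 4, 12, 3, 1, 0, 2, 1, 3, 2, 0], [], [⟨1, 153, [12, 11, 13, 11, 4, 12]⟩, ⟨1, 134, []⟩, ⟨1, 1745, [2, 13, 11, 12, 7, 11, 4, 13, 11]⟩, ⟨1, 135, []⟩, ⟨1, 1862, [2, 11, 4, 11, 12, 8, 13, 11, 4, 11, 13]⟩]⟩,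
 ⟨4, 6, 2353, [], [⟨1, 2352, []⟩], []⟩,
 ⟨7, 6, 154, [0, 4, 11, 12, 13, 3, 1, 0, 2, 1, 3, 2, 0], [], [⟨1, 153, [0, 4, 11, 12, 13]⟩, ⟨1, 134, []⟩, ⟨1, 135, []⟩, ⟨1, 894, [0, 4, 7, 12, 11, 12, 7, 13, 11, 4]⟩, ⟨1, 1047, [12, 11, 12, 8, 12, 11, 4, 12, 13]⟩]⟩,
 ⟨4, 6, 2355, [], [⟨1, 2354, []⟩], []⟩,
 ⟨7, 6, 154, [11, 4, 13, 11, 4, 11, 12, 3, 1, 0, 2, 1, 3, 2, 0], [], [⟨1, 153, [11, 4, 13, 11, 4, 11, 12]⟩, ⟨1, 134, []⟩, ⟨1, 135, []⟩, ⟨1, 788, [8, 11, 4, 13, 11, 12, 7, 11, 4]⟩, ⟨1, 39, []⟩, ⟨1, 68, []⟩, ⟨1, 787, [2, 11, 12, 13, 11, 4, 12, 7]⟩]⟩,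
 ⟨4, 6, 2357, [], [⟨1, 2356, []⟩], []⟩,
 ⟨7, 6, 154, [2, 4, 7, 12, 11, 4, 3, 1, 0, 2, 1, 3, 2, 0], [], [⟨1, 153, [2, 4, 7, 12, 11, 4]⟩, ⟨1, 134, []⟩, ⟨1, 1097, [7, 12, 11, 4, 11, 12, 8, 13]⟩, ⟨1, 134, []⟩, ⟨1, 135, []⟩, ⟨1, 1594, [4, 7, 11, 12, 8, 11, 12, 11, 13]⟩]⟩,
 ⟨4, 6, 2359, [], [⟨1, 2358, []⟩], []⟩,
 ⟨7, 6, 154, [0, 12, 7, 11, 13, 11, 12, 3, 1, 0, 2, 1, 3, 2, 0], [], [⟨1, 153, [0, 12, 7, 11, 13, 11, 12]⟩, ⟨1, 135, []⟩, ⟨1, 650, [7, 13, 11, 4, 12, 8, 11, 4, 12, 13]⟩, ⟨1, 86, []⟩, ⟨1, 90, []⟩, ⟨1, 87, []⟩, ⟨1, 90, []⟩, ⟨1, 90, []⟩, ⟨1, 545, [11, 4, 11, 12, 11, 12, 7, 12, 11, 12]⟩]⟩,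
 ⟨4, 6, 2361, [], [⟨1, 2360, []⟩], []⟩,
 ⟨7, 6, 154, [2, 4, 11, 4, 11, 12, 3, 1, 0, 2, 1, 3, 2, 0], [], [⟨1, 153, [2, 4, 11, 4, 11, 12]⟩, ⟨1, 134, []⟩, ⟨1, 135, []⟩, ⟨1, 134, []⟩, ⟨1, 1522, [0, 4, 7, 12, 13, 11, 4, 11, 12, 8]⟩, ⟨1, 134, []⟩, ⟨1, 135, []⟩, ⟨1, 1792, [0, 8, 13, 11, 12, 7, 11, 4, 11]⟩]⟩,
 ⟨4, 6, 2363, [], [⟨1, 2362, []⟩], []⟩,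
 ⟨7, 6, 154, [7, 12, 7, 13, 11, 12, 3, 1, 0, 2, 1, 3, 2, 0], [], [⟨1, 153, [7, 12, 7, 13, 11, 12]⟩, ⟨1, 135, []⟩, ⟨1, 134, []⟩, ⟨1, 1413, [2, 13, 11, 4, 12, 8, 11]⟩, ⟨1, 135, []⟩, ⟨1, 990, [12, 11, 4, 12, 11, 4, 13]⟩]⟩,
 ⟨4, 6, 2365, [], [⟨1, 2364, []⟩], []⟩,
 ⟨7, 6, 154, [4, 13, 11, 12, 3, 1, 0, 2, 1, 3, 2, 0], [], [⟨1, 153, [4, 13, 11, 12]⟩, ⟨1, 1246, [0, 12, 11, 4, 12, 7, 13, 11, 4]⟩, ⟨1, 134, []⟩, ⟨1, 135, []⟩, ⟨1, 2151, [2, 8, 12, 7, 11, 12, 8, 12, 11, 12]⟩]⟩,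
 ⟨4, 6, 2367, [], [⟨1, 2366, []⟩], []⟩,
 ⟨7, 6, 154, [4, 11, 13, 11, 4, 12, 3, 1, 0, 2, 1, 3, 2, 0], [], [⟨1, 153, [4, 11, 13, 11, 4, 12]⟩, ⟨1, 134, []⟩, ⟨1, 135, []⟩, ⟨1, 134, []⟩, ⟨1, 514, [4, 11, 12, 7, 12, 13, 11, 12, 8, 11]⟩, ⟨1, 86, []⟩, ⟨1, 87, []⟩, ⟨1, 90, []⟩, ⟨1, 86, []⟩, ⟨1, 801, [12, 7, 11, 13, 11, 4, 11, 4, 12, 13]⟩]⟩,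
 ⟨4, 6, 2369, [], [⟨1, 2368, []⟩], []⟩,
 ⟨7, 6, 154, [2, 7, 12, 7, 11, 12, 3, 1, 0, 2, 1, 3, 2, 0], [], [⟨1, 153, [2, 7, 12, 7, 11, 12]⟩, ⟨1, 135, []⟩, ⟨1, 134, []⟩, ⟨1, 1436, [2, 8, 11, 4, 12, 11, 12, 7, 12, 11, 4]⟩, ⟨1, 134, []⟩, ⟨1, 135, []⟩, ⟨1, 134, []⟩, ⟨1, 1941, [11, 4, 11, 12, 13, 11, 12, 7]⟩]⟩,
 ⟨4, 6, 2371, [], [⟨1, 2370, []⟩], []⟩,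
 ⟨7, 6, 154, [0, 4, 7, 13, 11, 12, 3, 1, 0, 2, 1, 3, 2, 0], [], [⟨1, 153, [0, 4, 7, 13, 11, 12]⟩, ⟨1, 134, []⟩, ⟨1, 135, []⟩, ⟨1, 2003, [0, 4, 13, 11, 12, 7]⟩, ⟨1, 135, []⟩, ⟨1, 134, []⟩, ⟨1, 1802, [4, 7, 11, 4, 11, 12, 8, 13, 11]⟩]⟩,
 ⟨4, 6, 2373, [], [⟨1, 2372, []⟩], []⟩,
 ⟨7, 6, 154, [2, 8, 12, 11, 4, 3, 1, 0, 2, 1, 3, 2, 0], [], [⟨1, 153, [2, 8, 12, 11, 4]⟩, ⟨1, 134, []⟩, ⟨1, 135, []⟩, ⟨1, 2076, [0, 11, 13, 11, 12, 11, 4, 12, 8, 13]⟩, ⟨1, 135, []⟩, ⟨1, 1662, [0, 4, 11, 12, 11, 13, 11, 12, 8, 11]⟩]⟩,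
 ⟨4, 6, 2375, [], [⟨1, 2374, []⟩], []⟩,
 ⟨7, 6, 154, [4, 12, 7, 13, 11, 12, 3, 1, 0, 2, 1, 3, 2, 0], [], [⟨1, 153, [4, 12, 7, 13, 11, 12]⟩, ⟨1, 134, []⟩, ⟨1, 135, []⟩, ⟨1, 2218, [2, 12, 7, 13, 11, 12, 8, 11, 12, 8, 13]⟩, ⟨1, 2201, [4, 12, 11, 12, 7, 11, 12, 8]⟩]⟩,
 ⟨4, 6, 2377, [], [⟨1, 2376, []⟩], []⟩,
 ⟨7, 6, 154, [0, 4, 8, 12, 13, 3, 1, 0, 2, 1, 3, 2, 0], [], [⟨1, 153, [0, 4, 8, 12, 13]⟩, ⟨1, 134, []⟩, ⟨1, 1940, [4, 8, 11]⟩, ⟨1, 134, []⟩, ⟨1, 135, []⟩, ⟨1, 134, []⟩, ⟨1, 1984, [2, 4, 11, 4, 13, 11, 12, 8, 11]⟩]⟩,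
 ⟨4, 6, 2379, [], [⟨1, 2378, []⟩], []⟩,
 ⟨7, 6, 154, [0, 4, 13, 11, 12, 3, 1, 0, 2, 1, 3, 2, 0], [], [⟨1, 153, [0, 4, 13, 11, 12]⟩, ⟨1, 134, []⟩, ⟨1, 1531, [12, 11, 2, 12, 7, 12, 11, 13, 11]⟩, ⟨1, 135, []⟩, ⟨1, 134, []⟩, ⟨1, 1933, [0, 8, 11, 4, 12, 11, 12, 8, 13, 11]⟩]⟩,
 ⟨4, 6, 2381, [], [⟨1, 2380, []⟩], []⟩,
 ⟨7, 6, 154, [0, 7, 12, 13, 11, 4, 3, 1, 0, 2, 1, 3, 2, 0], [], [⟨1, 153, [0, 7, 12, 13, 11, 4]⟩, ⟨1, 135, []⟩, ⟨1, 134, []⟩, ⟨1, 1705, [7, 12, 8, 11, 2, 4, 13, 11, 4]⟩, ⟨1, 135, []⟩, ⟨1, 952, [4, 11, 12, 11, 13, 11, 12, 7]⟩]⟩,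
 ⟨4, 6, 2383, [], [⟨1, 2382, []⟩], []⟩,
 ⟨7, 6, 154, [4, 8, 12, 7, 11, 12, 3, 1, 0, 2, 1, 3, 2, 0], [], [⟨1, 153, [4, 8, 12, 7, 11, 12]⟩, ⟨1, 134, []⟩, ⟨1, 135, []⟩, ⟨1, 2178, [2, 4, 12, 7, 11, 4, 12, 11]⟩, ⟨1, 134, []⟩, ⟨1, 135, []⟩, ⟨1, 2363, [8, 11, 13, 11, 12, 11, 4, 13]⟩]⟩,
 ⟨4, 6, 2385, [], [⟨1, 2384, []⟩], []⟩,
 ⟨7, 6, 154, [0, 11, 12, 8, 13, 11, 12, 3, 1, 0, 2, 1, 3, 2, 0], [], [⟨1, 153, [0, 11, 12, 8, 13, 11, 12]⟩, ⟨1, 134, []⟩, ⟨1, 135, []⟩, ⟨1, 134, []⟩, ⟨1, 2355, [0, 4, 12, 11, 12, 8, 12, 11, 12, 8]⟩, ⟨1, 134, []⟩, ⟨1, 135, []⟩, ⟨1, 1421, [11, 12, 7, 11, 4, 11, 4, 13, 11, 4]⟩]⟩,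
 ⟨4, 6, 2387, [], [⟨1, 2386, []⟩], []⟩,
 ⟨7, 6, 154, [8, 11, 12, 13, 11, 4, 3, 1, 0, 2, 1, 3, 2, 0], [], [⟨1, 153, [8, 11, 12, 13, 11, 4]⟩, ⟨1, 135, []⟩, ⟨1, 980, [11, 13, 11, 4, 12, 7, 11, 4, 13]⟩, ⟨1, 134, []⟩, ⟨1, 135, []⟩, ⟨1, 134, []⟩, ⟨1, 950, [0, 13, 11, 12, 11]⟩]⟩,
 ⟨4, 6, 2389, [], [⟨1, 2388, []⟩], []⟩]
theorem chk48 : and2 (D.chkL PF48 2341) (Nat.beq (Nat.add 2341 PF48.length) 2390) = true := by decide +kernel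

def PF49 : List DPf := [⟨7, 6, 154, [2, 12, 8, 11, 4, 12, 3, 1, 0, 2, 1, 3, 2, 0], [], [⟨1, 153, [2, 12, 8, 11, 4, 12]⟩, ⟨1, 135, []⟩, ⟨1, 134, []⟩, ⟨1, 2022, [12, 11, 12, 7, 12, 13, 11, 12]⟩, ⟨1, 135, []⟩, ⟨1, 1742, [2, 4, 7, 11, 4, 11, 13]⟩]⟩,
 ⟨4, 6, 2391, [], [⟨1, 2390, []⟩], []⟩,
 ⟨8, 6, 154, [0, 7, 11, 12, 13, 0, 2, 3, 4, 2, 1, 2, 0, 1, 3, 2, 0], [], [⟨1, 153, [0, 7, 11, 12, 13]⟩, ⟨1, 1278, [4, 11, 12, 8, 13, 11, 12, 7, 11, 12]⟩, ⟨1, 135, []⟩, ⟨1, 134, []⟩, ⟨1, 1386, [4, 12, 11, 12, 8, 13, 11]⟩]⟩,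
 ⟨4, 6, 2393, [], [⟨1, 2392, []⟩], []⟩,
 ⟨8, 6, 154, [4, 8, 11, 4, 11, 12, 0, 2, 3, 4, 2, 1, 2, 0, 1, 3, 2, 0], [], [⟨1, 153, [4, 8, 11, 4, 11, 12]⟩, ⟨1, 134, []⟩, ⟨1, 135, []⟩, ⟨1, 134, []⟩, ⟨1, 2094, [4, 11, 4, 13, 11, 4, 12, 11, 12, 13, 11, 12]⟩, ⟨1, 2039, [0, 4, 12, 11, 12, 7, 12, 11, 12, 13]⟩]⟩,
 ⟨4, 6, 2395, [], [⟨1, 2394, []⟩], []⟩,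
 ⟨8, 6, 154, [8, 12, 7, 11, 12, 0, 2, 3, 4, 2, 1, 2, 0, 1, 3, 2, 0], [], [⟨1, 153, [8, 12, 7, 11, 12]⟩, ⟨1, 134, []⟩, ⟨1, 1332, [2, 11, 12, 8, 11, 4, 13]⟩, ⟨1, 135, []⟩, ⟨1, 1759, [7, 11, 2, 4, 11, 13, 11, 4, 12, 8]⟩]⟩,
 ⟨4, 6, 2397, [], [⟨1, 2396, []⟩], []⟩,
 ⟨8, 6, 154, [7, 12, 0, 2, 3, 4, 2, 1, 2, 0, 1, 3, 2, 0], [], [⟨1, 153, [7, 12]⟩, ⟨1, 1593, [11, 2, 13, 11, 4, 11, 12, 8]⟩, ⟨1, 134, []⟩, ⟨1, 135, []⟩, ⟨1, 134, []⟩, ⟨1, 1418, [4, 11, 2, 12, 8, 12, 11, 12, 13]⟩]⟩,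
 ⟨4, 6, 2399, [], [⟨1, 2398, []⟩], []⟩,
 ⟨8, 6, 154, [8, 11, 12, 0, 2, 3, 4, 2, 1, 2, 0, 1, 3, 2, 0], [], [⟨1, 153, [8, 11, 12]⟩, ⟨1, 134, []⟩, ⟨1, 135, []⟩, ⟨1, 134, []⟩, ⟨1, 2094, [0, 4, 7, 12, 13, 11, 12, 8, 11, 4, 13]⟩, ⟨1, 1895, [7, 11, 2, 12, 11, 4, 11, 12, 13]⟩]⟩,
 ⟨4, 6, 2401, [], [⟨1, 2400, []⟩], []⟩,
 ⟨8, 6, 154, [8, 12, 8, 11, 13, 11, 12, 0, 2, 3, 4, 2, 1, 2, 0, 1, 3, 2, 0], [], [⟨1, 153, [8, 12, 8, 11, 13, 11, 12]⟩, ⟨1, 1278, [12, 7, 13, 11, 2, 12, 8, 11, 4, 12]⟩, ⟨1, 1518, [13, 11, 2, 12, 8, 11, 13]⟩]⟩,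
 ⟨4, 6, 2403, [], [⟨1, 2402, []⟩], []⟩,
 ⟨8, 6, 154, [7, 12, 11, 4, 0, 2, 3, 4, 2, 1, 2, 0, 1, 3, 2, 0], [], [⟨1, 153, [7, 12, 11, 4]⟩, ⟨1, 134, []⟩, ⟨1, 1332, [11, 12, 7, 11, 12, 11, 4, 12, 13]⟩, ⟨1, 134, []⟩, ⟨1, 135, []⟩, ⟨1, 134, []⟩, ⟨1, 1133, [7, 12, 7, 13, 11, 12, 8, 12, 11]⟩]⟩,
 ⟨4, 6, 2405, [], [⟨1, 2404, []⟩], []⟩,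
 ⟨8, 6, 154, [8, 12, 8, 11, 12, 13, 0, 2, 3, 4, 2, 1, 2, 0, 1, 3, 2, 0], [], [⟨1, 153, [8, 12, 8, 11, 12, 13]⟩, ⟨1, 1278, [0, 4, 12, 11, 13, 11, 4, 11, 12]⟩, ⟨1, 134, []⟩, ⟨1, 135, []⟩, ⟨1, 134, []⟩, ⟨1, 1738, [8, 11, 13, 11, 4, 11, 4, 13, 11, 12]⟩]⟩,
 ⟨4, 6, 2407, [], [⟨1, 2406, []⟩], []⟩,
 ⟨8, 6, 154, [7, 12, 11, 13, 11, 4, 12, 0, 2, 3, 4, 2, 1, 2, 0, 1, 3, 2, 0], [], [⟨1, 153, [7, 12, 11, 13, 11, 4, 12]⟩, ⟨1, 135, []⟩, ⟨1, 134, []⟩, ⟨1, 2145, [11, 12, 8, 11, 12, 8, 11, 4, 13]⟩, ⟨1, 135, []⟩, ⟨1, 2090, [2, 7, 11, 4, 12, 8, 11, 13, 11, 12]⟩]⟩,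
 ⟨4, 6, 2409, [], [⟨1, 2408, []⟩], []⟩,
 ⟨8, 6, 154, [7, 13, 11, 12, 0, 2, 3, 4, 2, 1, 2, 0, 1, 3, 2, 0], [], [⟨1, 153, [7, 13, 11, 12]⟩, ⟨1, 1809, [0, 11, 4, 12, 11, 12, 8, 13, 11, 12, 7]⟩, ⟨1, 1501, [12, 11, 4, 11, 4, 12, 8, 13, 11, 4, 11]⟩]⟩,
 ⟨4, 6, 2411, [], [⟨1, 2410, []⟩], []⟩,
 ⟨8, 6, 154, [7, 12, 11, 4, 12, 13, 0, 2, 3, 4, 2, 1, 2, 0, 1, 3, 2, 0], [], [⟨1, 153, [7, 12, 11, 4, 12, 13]⟩, ⟨1, 135, []⟩, ⟨1, 134, []⟩, ⟨1, 2145, [12, 7, 11, 12, 8, 11, 12, 7, 11, 13]⟩, ⟨1, 134, []⟩, ⟨1, 135, []⟩, ⟨1, 134, []⟩, ⟨1, 1815, [0, 11, 12, 8, 13, 11, 12, 8]⟩]⟩,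
 ⟨4, 6, 2413, [], [⟨1, 2412, []⟩], []⟩,
 ⟨8, 6, 154, [0, 11, 13, 11, 12, 0, 2, 3, 4, 2, 1, 2, 0, 1, 3, 2, 0], [], [⟨1, 153, [0, 11, 13, 11, 12]⟩, ⟨1, 1294, [8, 11, 2, 13, 11, 4, 12, 11, 4]⟩, ⟨1, 2289, [0, 4, 12, 11, 12, 7, 12]⟩]⟩,
 ⟨4, 6, 2415, [], [⟨1, 2414, []⟩], []⟩,
 ⟨8, 6, 154, [4, 12, 7, 11, 12, 13, 0, 2, 3, 4, 2, 1, 2, 0, 1, 3, 2, 0], [], [⟨1, 153, [4, 12, 7, 11, 12, 13]⟩, ⟨1, 1278, [4, 11, 12, 11, 12, 13]⟩, ⟨1, 1561, [4, 11, 12, 7, 11, 12, 11, 12]⟩]⟩,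
 ⟨4, 6, 2417, [], [⟨1, 2416, []⟩], []⟩,
 ⟨8, 6, 154, [12, 11, 4, 12, 13, 0, 2, 3, 4, 2, 1, 2, 0, 1, 3, 2, 0], [], [⟨1, 153, [12, 11, 4, 12, 13]⟩, ⟨1, 1178, [7, 12, 7, 11, 4, 11, 12, 8, 11]⟩, ⟨1, 1922, [2, 4, 11, 12, 7, 12, 11, 12, 11]⟩]⟩,
 ⟨4, 6, 2419, [], [⟨1, 2418, []⟩], []⟩,
 ⟨8, 6, 154, [4, 12, 7, 11, 13, 11, 12, 0, 2, 3, 4, 2, 1, 2, 0, 1, 3, 2, 0], [], [⟨1, 153, [4, 12, 7, 11, 13, 11, 12]⟩, ⟨1, 1278, [7, 11, 4, 13, 11, 12, 8, 11]⟩, ⟨1, 134, []⟩, ⟨1, 135, []⟩, ⟨1, 134, []⟩, ⟨1, 178, [0, 12, 8, 11, 12, 7, 11, 4, 12]⟩]⟩,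
 ⟨4, 6, 2421, [], [⟨1, 2420, []⟩], []⟩,
 ⟨8, 6, 154, [0, 4, 8, 12, 13, 0, 2, 3, 4, 2, 1, 2, 0, 1, 3, 2, 0], [], [⟨1, 153, [0, 4, 8, 12, 13]⟩, ⟨1, 1304, [2, 8, 12, 11, 4, 11, 12, 11, 13]⟩, ⟨1, 134, []⟩, ⟨1, 135, []⟩, ⟨1, 1690, [2, 7, 12, 8, 13, 11, 4, 12, 11]⟩]⟩,
 ⟨4, 6, 2423, [], [⟨1, 2422, []⟩], []⟩,
 ⟨8, 6, 154, [0, 7, 13, 11, 4, 12, 0, 2, 3, 4, 2, 1, 2, 0, 1, 3, 2, 0], [], [⟨1, 153, [0, 7, 13, 11, 4, 12]⟩, ⟨1, 1280, [0, 2, 4, 13]⟩, ⟨1, 135, []⟩, ⟨1, 2102, [2, 11, 4, 12, 11, 13, 11, 4, 12, 8]⟩]⟩,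
 ⟨4, 6, 2425, [], [⟨1, 2424, []⟩], []⟩,
 ⟨12, 6, 154, [4, 7, 11, 13, 11, 4, 12, 0, 2, 3, 1, 0, 2, 1, 2, 4, 3, 2, 0, 2, 0], [], [⟨1, 153, [4, 7, 11, 13, 11, 4, 12]⟩, ⟨1, 134, []⟩, ⟨1, 135, []⟩, ⟨1, 134, []⟩, ⟨1, 1162, [12, 8, 12, 11, 12, 7, 11, 12, 13]⟩, ⟨1, 135, []⟩, ⟨1, 134, []⟩, ⟨1, 2307, [4, 7, 11, 12, 7, 11, 12, 8, 11]⟩]⟩,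
 ⟨4, 6, 2427, [], [⟨1, 2426, []⟩], []⟩,
 ⟨12, 6, 154, [2, 4, 12, 8, 11, 12, 0, 2, 3, 1, 0, 2, 1, 2, 4, 3, 2, 0, 2, 0], [], [⟨1, 153, [2, 4, 12, 8, 11, 12]⟩, ⟨1, 135, []⟩, ⟨1, 134, []⟩, ⟨1, 1750, [12, 11, 2, 12, 7, 12, 13]⟩, ⟨1, 2363, [13, 11, 4, 12, 7, 11, 12, 8, 12]⟩]⟩,
 ⟨4, 6, 2429, [], [⟨1, 2428, []⟩], []⟩,
 ⟨12, 6, 154, [4, 11, 4, 11, 12, 13, 0, 2, 3, 1, 0, 2, 1, 2, 4, 3, 2, 0, 2, 0], [], [⟨1, 153, [4, 11, 4, 11, 12, 13]⟩, ⟨1, 134, []⟩, ⟨1, 135, []⟩, ⟨1, 134, []⟩, ⟨1, 470, [4, 13, 11, 12, 7, 12, 11, 4, 11, 13]⟩, ⟨1, 87, []⟩, ⟨1, 86, []⟩, ⟨1, 90, []⟩, ⟨1, 87, []⟩, ⟨1, 751, [12, 8, 13, 11, 12, 11, 12, 7, 12]⟩]⟩,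
 ⟨4, 6, 2431, [], [⟨1, 2430, []⟩], []⟩,
 ⟨12, 6, 154, [13, 11, 12, 7, 11, 12, 0, 2, 3, 1, 0, 2, 1, 2, 4, 3, 2, 0, 2, 0], [], [⟨1, 153, [13, 11, 12, 7, 11, 12]⟩, ⟨1, 2068, [12, 7, 11, 4, 12, 8, 11, 4, 11]⟩, ⟨1, 134, []⟩, ⟨1, 2302, [2, 8, 11, 12, 7, 11, 12]⟩]⟩,
 ⟨4, 6, 2433, [], [⟨1, 2432, []⟩], []⟩,
 ⟨12, 6, 154, [0, 11, 4, 12, 13, 0, 2, 3, 1, 0, 2, 1, 2, 4, 3, 2, 0, 2, 0], [], [⟨1, 153, [0, 11, 4, 12, 13]⟩, ⟨1, 135, []⟩, ⟨1, 134, []⟩, ⟨1, 1797, [7, 11, 2, 4, 12, 13, 11, 12, 8, 12]⟩, ⟨1, 878, [0, 4, 12, 11, 13, 11, 12, 8, 12, 11]⟩]⟩,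
 ⟨4, 6, 2435, [], [⟨1, 2434, []⟩], []⟩,
 ⟨12, 6, 154, [2, 4, 12, 11, 4, 0, 2, 3, 1, 0, 2, 1, 2, 4, 3, 2, 0, 2, 0], [], [⟨1, 153, [2, 4, 12, 11, 4]⟩, ⟨1, 134, []⟩, ⟨1, 135, []⟩, ⟨1, 2346, [8, 13, 11, 12, 7, 11, 4, 12, 11, 13]⟩, ⟨1, 134, []⟩, ⟨1, 135, []⟩, ⟨1, 1792, [2, 8, 12, 13, 11, 4, 11, 12, 8, 13]⟩]⟩,
 ⟨4, 6, 2437, [], [⟨1, 2436, []⟩], []⟩]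
theorem chk49 : and2 (D.chkL PF49 2390) (Nat.beq (Nat.add 2390 PF49.length) 2438) = true := by decide +kernel

end H19.Th.DC
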