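import Mathlib
import Cfsg.Agent.H19.Th.DC.B

set_option autoImplicit false
set_option maxRecDepth 100000
set_option Elab.async false
set_option linter.all false

namespace H19.Th.DC
open H29

def PF50 : List DPf := [⟨12, 6, 154, [0, 8, 11, 12, 13, 0, 2, 3, 1, 0, 2, 1, 2, 4, 3, 2, 0, 2, 0], [], [⟨1, 153, [0, 8, 11, 12, 13]⟩, ⟨1, 806, [2, 8, 11, 4, 12, 11, 12, 7, 12, 11]⟩, ⟨1, 87, []⟩, ⟨1, 90, []⟩, ⟨1, 86, []⟩, ⟨1, 90, []⟩, ⟨1, 571, [12, 13, 11, 4, 12, 8, 11, 12, 7, 11]⟩]⟩,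
 ⟨4, 6, 2439, [], [⟨1, 2438, []⟩], []⟩,
 ⟨13, 6, 154, [8, 12, 7, 11, 4, 12, 0, 2, 3, 1, 2, 0, 1, 3, 2, 0], [], [⟨1, 153, [8, 12, 7, 11, 4, 12]⟩, ⟨1, 1593, [12, 7, 13, 11, 12, 8, 12, 11, 4, 13]⟩, ⟨1, 135, []⟩, ⟨1, 2058, [8, 11, 4, 11, 12, 11, 12, 13, 11, 4]⟩]⟩,
 ⟨4, 6, 2441, [], [⟨1, 2440, []⟩], []⟩,
 ⟨13, 6, 154, [0, 11, 12, 13, 0, 2, 3, 1, 2, 0, 1, 3, 2, 0], [], [⟨1, 153, [0, 11, 12, 13]⟩, ⟨1, 1294, [12, 11, 2, 13, 11, 4, 11, 12, 8, 13]⟩, ⟨1, 134, []⟩, ⟨1, 135, []⟩, ⟨1, 1544, [13, 11, 12, 7, 11, 12, 8, 12, 13]⟩]⟩,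
 ⟨4, 6, 2443, [], [⟨1, 2442, []⟩], []⟩,
 ⟨13, 6, 154, [4, 12, 8, 11, 12, 0, 2, 3, 1, 2, 0, 1, 3, 2, 0], [], [⟨1, 153, [4, 12, 8, 11, 12]⟩, ⟨1, 1593, [12, 7, 11, 2, 4]⟩, ⟨1, 134, []⟩, ⟨1, 135, []⟩, ⟨1, 1590, [2, 4, 7, 13, 11, 4, 12, 11, 13]⟩]⟩,
 ⟨4, 6, 2445, [], [⟨1, 2444, []⟩], []⟩,
 ⟨13, 6, 154, [11, 4, 11, 12, 13, 0, 2, 3, 1, 2, 0, 1, 3, 2, 0], [], [⟨1, 153, [11, 4, 11, 12, 13]⟩, ⟨1, 134, []⟩, ⟨1, 135, []⟩, ⟨1, 134, []⟩, ⟨1, 2149, [2, 11, 12, 8, 11, 12, 7, 13, 11]⟩, ⟨1, 134, []⟩, ⟨1, 135, []⟩, ⟨1, 2342, [0, 12, 8, 13, 11, 4]⟩]⟩,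
 ⟨4, 6, 2447, [], [⟨1, 2446, []⟩], []⟩,
 ⟨13, 6, 154, [4, 7, 11, 4, 12, 0, 2, 3, 1, 2, 0, 1, 3, 2, 0], [], [⟨1, 153, [4, 7, 11, 4, 12]⟩, ⟨1, 1593, [2, 4, 11, 4, 11, 12, 8, 11, 4, 11]⟩, ⟨1, 135, []⟩, ⟨1, 1106, [12, 8, 13, 11, 12, 11, 12, 13]⟩]⟩,
 ⟨4, 6, 2449, [], [⟨1, 2448, []⟩], []⟩,
 ⟨13, 6, 154, [7, 12, 0, 2, 3, 1, 2, 0, 1, 3, 2, 0], [], [⟨1, 153, [7, 12]⟩, ⟨1, 1593, [11, 4, 13, 11, 4, 11, 12, 8, 13, 11]⟩, ⟨1, 134, []⟩, ⟨1, 1734, [2, 7, 11, 4, 11, 12, 11, 12, 8, 13]⟩]⟩,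
 ⟨4, 6, 2451, [], [⟨1, 2450, []⟩], []⟩,
 ⟨13, 6, 154, [4, 8, 11, 12, 13, 0, 2, 3, 1, 2, 0, 1, 3, 2, 0], [], [⟨1, 153, [4, 8, 11, 12, 13]⟩, ⟨1, 135, []⟩, ⟨1, 2404, [8, 12, 11, 2, 4, 11, 12, 13]⟩, ⟨1, 135, []⟩, ⟨1, 1297, [4, 8, 12, 7, 11, 4, 13, 11, 12]⟩]⟩,
 ⟨4, 6, 2453, [], [⟨1, 2452, []⟩], []⟩,
 ⟨13, 6, 154, [0, 12, 13, 11, 12, 0, 2, 3, 1, 2, 0, 1, 3, 2, 0], [], [⟨1, 153, [0, 12, 13, 11, 12]⟩, ⟨1, 2230, [4, 8, 11, 4, 13, 11, 4, 12, 11, 12, 7]⟩, ⟨1, 134, []⟩, ⟨1, 135, []⟩, ⟨1, 134, []⟩, ⟨1, 1698, [0, 4, 11, 12, 11, 13, 11, 4, 12]⟩]⟩,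
 ⟨4, 6, 2455, [], [⟨1, 2454, []⟩], []⟩,
 ⟨13, 6, 154, [12, 8, 11, 12, 13, 0, 2, 3, 1, 2, 0, 1, 3, 2, 0], [], [⟨1, 153, [12, 8, 11, 12, 13]⟩, ⟨1, 135, []⟩, ⟨1, 2404, [11, 12, 8, 11, 12, 13, 11, 12]⟩, ⟨1, 134, []⟩, ⟨1, 135, []⟩, ⟨1, 2052, [0, 4, 11, 4, 12, 8, 13, 11, 4, 12, 11]⟩]⟩,
 ⟨4, 6, 2457, [], [⟨1, 2456, []⟩], []⟩,
 ⟨13, 6, 154, [7, 12, 7, 11, 13, 11, 12, 0, 2, 3, 1, 2, 0, 1, 3, 2, 0], [], [⟨1, 153, [7, 12, 7, 11, 13, 11, 12]⟩, ⟨1, 135, []⟩, ⟨1, 2404, [8, 11, 2, 4, 11, 12, 13, 11, 12]⟩, ⟨1, 134, []⟩, ⟨1, 2256, [4, 7, 12, 11, 12, 8, 11, 12, 13, 11]⟩]⟩,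
 ⟨4, 6, 2459, [], [⟨1, 2458, []⟩], []⟩,
 ⟨13, 6, 154, [7, 11, 4, 11, 12, 13, 0, 2, 3, 1, 2, 0, 1, 3, 2, 0], [], [⟨1, 153, [7, 11, 4, 11, 12, 13]⟩, ⟨1, 1809, [7, 11, 12, 8, 13, 11, 4]⟩, ⟨1, 135, []⟩, ⟨1, 1207, [4, 7, 11, 12, 8, 12, 11, 13, 11]⟩]⟩,
 ⟨4, 6, 2461, [], [⟨1, 2460, []⟩], []⟩,
 ⟨15, 6, 154, [8, 0, 2, 5, 2, 0], [], [⟨1, 153, [8]⟩, ⟨1, 2073, [8, 12, 7]⟩]⟩,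
 ⟨4, 6, 2463, [], [⟨1, 2462, []⟩], []⟩,
 ⟨17, 6, 154, [8, 11, 13, 5, 5, 3, 6, 6, 2, 0], [], [⟨1, 153, [8, 11, 13]⟩, ⟨1, 936, [2, 4, 11, 12, 8, 11, 12, 11, 13]⟩, ⟨1, 134, []⟩, ⟨1, 135, []⟩, ⟨1, 2127, [7, 12, 11, 4, 13, 11, 4, 11, 13]⟩]⟩,
 ⟨4, 6, 2465, [], [⟨1, 2464, []⟩], []⟩,
 ⟨17, 6, 154, [12, 8, 13, 5, 5, 3, 6, 6, 2, 0], [], [⟨1, 153, [12, 8, 13]⟩, ⟨1, 134, []⟩, ⟨1, 135, []⟩, ⟨1, 134, []⟩, ⟨1, 1095, [12, 8, 11, 12, 11, 12, 8, 12]⟩, ⟨1, 134, []⟩, ⟨1, 813, [11, 4, 11, 12, 7, 11, 12, 11, 4, 11]⟩]⟩,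
 ⟨4, 6, 2467, [], [⟨1, 2466, []⟩], []⟩,
 ⟨17, 6, 154, [7, 11, 12, 7, 13, 5, 5, 3, 6, 6, 2, 0], [], [⟨1, 153, [7, 11, 12, 7, 13]⟩, ⟨1, 1735, [2, 4, 8, 11, 4, 11, 12, 11, 4, 11]⟩, ⟨1, 135, []⟩, ⟨1, 2080, [0, 4, 11, 12, 7, 13, 11, 12, 8]⟩]⟩,
 ⟨4, 6, 2469, [], [⟨1, 2468, []⟩], []⟩,
 ⟨17, 6, 154, [7, 12, 7, 5, 5, 3, 6, 6, 2, 0], [], [⟨1, 153, [7, 12, 7]⟩, ⟨1, 135, []⟩, ⟨1, 134, []⟩, ⟨1, 1213, [0, 8, 11, 4, 13, 11, 4, 11, 12, 13, 11]⟩, ⟨1, 134, []⟩, ⟨1, 1613, [7, 12, 8, 11, 13, 11, 4, 11, 4, 13]⟩]⟩,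
 ⟨4, 6, 2471, [], [⟨1, 2470, []⟩], []⟩,
 ⟨17, 6, 154, [12, 8, 12, 5, 5, 3, 6, 6, 2, 0], [], [⟨1, 153, [12, 8, 12]⟩, ⟨1, 134, []⟩, ⟨1, 135, []⟩, ⟨1, 1478, [0, 11, 4, 11, 12, 13, 11, 4, 11, 12, 8, 12]⟩, ⟨1, 134, []⟩, ⟨1, 135, []⟩, ⟨1, 1515, [11, 13, 11, 4, 11, 12, 7, 11, 12, 8]⟩]⟩,
 ⟨4, 6, 2473, [], [⟨1, 2472, []⟩], []⟩,
 ⟨17, 6, 154, [12, 8, 12, 13, 5, 5, 3, 6, 6, 2, 0], [], [⟨1, 153, [12, 8, 12, 13]⟩, ⟨1, 135, []⟩, ⟨1, 134, []⟩, ⟨1, 1283, [2, 4, 7, 12, 11, 12, 7, 12]⟩, ⟨1, 134, []⟩, ⟨1, 135, []⟩, ⟨1, 134, []⟩, ⟨1, 814, [7, 12, 7, 11, 2, 4, 11, 12, 11]⟩]⟩,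
 ⟨4, 6, 2475, [], [⟨1, 2474, []⟩], []⟩,
 ⟨7, 6, 172, [8, 12, 11, 4, 12, 13, 3, 1, 0, 2, 1, 3, 2, 0], [], [⟨1, 171, [8, 12, 11, 4, 12, 13]⟩, ⟨1, 135, []⟩, ⟨1, 838, [0, 4, 12, 7, 11, 12, 8, 11, 13]⟩, ⟨1, 1811, [12, 13, 11, 12, 8, 12, 11, 13]⟩]⟩,
 ⟨4, 6, 2477, [], [⟨1, 2476, []⟩], []⟩,
 ⟨7, 6, 172, [7, 12, 11, 4, 13, 3, 1, 0, 2, 1, 3, 2, 0], [], [⟨1, 171, [7, 12, 11, 4, 13]⟩, ⟨1, 1646, [2, 12, 8, 11, 12, 8, 13, 11]⟩, ⟨1, 2292, [12, 11, 12, 8, 11, 12, 11, 13]⟩]⟩,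
 ⟨4, 6, 2479, [], [⟨1, 2478, []⟩], []⟩,
 ⟨7, 6, 172, [4, 8, 11, 4, 12, 13, 3, 1, 0, 2, 1, 3, 2, 0], [], [⟨1, 171, [4, 8, 11, 4, 12, 13]⟩, ⟨1, 2059, [11, 2, 4, 12, 11, 4, 13, 11, 4, 12]⟩, ⟨1, 135, []⟩, ⟨1, 134, []⟩, ⟨1, 1158, [2, 4, 12, 11, 4, 12, 8, 13]⟩]⟩,
 ⟨4, 6, 2481, [], [⟨1, 2480, []⟩], []⟩,
 ⟨7, 6, 172, [0, 4, 7, 13, 11, 12, 3, 1, 0, 2, 1, 3, 2, 0], [], [⟨1, 171, [0, 4, 7, 13, 11, 12]⟩, ⟨1, 134, []⟩, ⟨1, 135, []⟩, ⟨1, 1934, [4, 7, 11, 4, 13, 11, 4, 11]⟩, ⟨1, 135, []⟩, ⟨1, 134, []⟩, ⟨1, 1984, [4, 8, 11, 2, 13, 11, 12, 11, 13]⟩]⟩,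
 ⟨4, 6, 2483, [], [⟨1, 2482, []⟩], []⟩,
 ⟨7, 6, 172, [7, 11, 12, 13, 11, 12, 3, 1, 0, 2, 1, 3, 2, 0], [], [⟨1, 171, [7, 11, 12, 13, 11, 12]⟩, ⟨1, 134, []⟩, ⟨1, 135, []⟩, ⟨1, 134, []⟩, ⟨1, 1246, [7, 12, 8, 11, 2, 12, 11, 13, 11]⟩, ⟨1, 2205, [13, 11, 12, 11, 4, 13, 11, 4]⟩]⟩,
 ⟨4, 6, 2485, [], [⟨1, 2484, []⟩], []⟩]
theorem chk50 : and2 (D.chkL PF50 2438) (Nat.beq (Nat.add 2438 PF50.length) 2486) = true := by decide +kernel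

def PF51 : List DPf := [⟨7, 6, 172, [12, 8, 11, 12, 3, 1, 0, 2, 1, 3, 2, 0], [], [⟨1, 171, [12, 8, 11, 12]⟩, ⟨1, 538, [2, 7, 12, 8, 13, 11, 12, 7, 11, 13]⟩, ⟨1, 90, []⟩, ⟨1, 87, []⟩, ⟨1, 90, []⟩, ⟨1, 90, []⟩, ⟨1, 617, [11, 12, 11, 13, 11, 4, 11]⟩]⟩,
 ⟨4, 6, 2487, [], [⟨1, 2486, []⟩], []⟩,
 ⟨7, 6, 172, [0, 8, 11, 4, 12, 13, 3, 1, 0, 2, 1, 3, 2, 0], [], [⟨1, 171, [0, 8, 11, 4, 12, 13]⟩, ⟨1, 134, []⟩, ⟨1, 135, []⟩, ⟨1, 1980, [2, 7, 12, 11, 4, 11, 12, 7, 12, 13]⟩, ⟨1, 134, []⟩, ⟨1, 135, []⟩, ⟨1, 1047, [12, 11, 4, 12, 11, 12, 8, 13]⟩]⟩,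
 ⟨4, 6, 2489, [], [⟨1, 2488, []⟩], []⟩,
 ⟨7, 6, 172, [4, 7, 12, 8, 13, 11, 12, 3, 1, 0, 2, 1, 3, 2, 0], [], [⟨1, 171, [4, 7, 12, 8, 13, 11, 12]⟩, ⟨1, 135, []⟩, ⟨1, 1157, [4, 8, 11, 12, 8, 11, 12, 7, 11, 13]⟩, ⟨1, 134, []⟩, ⟨1, 1454, [0, 4, 12, 7, 11, 4, 12, 13, 11, 12]⟩]⟩,
 ⟨4, 6, 2491, [], [⟨1, 2490, []⟩], []⟩,
 ⟨7, 6, 172, [12, 7, 11, 4, 12, 3, 1, 0, 2, 1, 3, 2, 0], [], [⟨1, 171, [12, 7, 11, 4, 12]⟩, ⟨1, 135, []⟩, ⟨1, 2144, [7, 11, 4, 11, 4, 13, 11, 4, 11]⟩, ⟨1, 135, []⟩, ⟨1, 1666, [0, 7, 13, 11, 12, 8, 11, 12, 11, 12]⟩]⟩,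
 ⟨4, 6, 2493, [], [⟨1, 2492, []⟩], []⟩,
 ⟨7, 6, 172, [7, 11, 4, 12, 13, 11, 4, 12, 3, 1, 0, 2, 1, 3, 2, 0], [], [⟨1, 171, [7, 11, 4, 12, 13, 11, 4, 12]⟩, ⟨1, 134, []⟩, ⟨1, 135, []⟩, ⟨1, 1733, [4, 11, 12, 8, 11, 12, 7, 13, 11, 12]⟩, ⟨1, 134, []⟩, ⟨1, 135, []⟩, ⟨1, 1302, [4, 7, 12, 8, 11, 12, 11]⟩]⟩,
 ⟨4, 6, 2495, [], [⟨1, 2494, []⟩], []⟩,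
 ⟨7, 6, 172, [12, 7, 12, 11, 12, 3, 1, 0, 2, 1, 3, 2, 0], [], [⟨1, 171, [12, 7, 12, 11, 12]⟩, ⟨1, 135, []⟩, ⟨1, 1080, [2, 4, 8, 11, 4]⟩, ⟨1, 134, []⟩, ⟨1, 135, []⟩, ⟨1, 2107, [2, 8, 12, 7, 11, 12, 8, 11, 4, 11]⟩]⟩,
 ⟨4, 6, 2497, [], [⟨1, 2496, []⟩], []⟩,
 ⟨8, 6, 172, [12, 11, 12, 13, 11, 4, 0, 2, 3, 4, 2, 1, 2, 0, 1, 3, 2, 0], [], [⟨1, 171, [12, 11, 12, 13, 11, 4]⟩, ⟨1, 135, []⟩, ⟨1, 1088, [11, 4, 12, 8, 13, 11, 12, 7, 11, 12]⟩, ⟨1, 134, []⟩, ⟨1, 135, []⟩, ⟨1, 134, []⟩, ⟨1, 1340, [0, 4, 11, 13, 11, 12, 7, 11, 13]⟩]⟩,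
 ⟨4, 6, 2499, [], [⟨1, 2498, []⟩], []⟩,
 ⟨8, 6, 172, [4, 12, 11, 12, 0, 2, 3, 4, 2, 1, 2, 0, 1, 3, 2, 0], [], [⟨1, 171, [4, 12, 11, 12]⟩, ⟨1, 217, [2, 12, 13, 11, 4, 11, 12, 7]⟩, ⟨1, 40, []⟩, ⟨1, 46, []⟩, ⟨1, 46, []⟩, ⟨1, 68, []⟩, ⟨1, 68, []⟩, ⟨1, 787, [12, 7, 11, 4, 13, 11, 12, 8, 11]⟩]⟩,
 ⟨4, 6, 2501, [], [⟨1, 2500, []⟩], []⟩,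
 ⟨8, 6, 172, [2, 8, 12, 11, 4, 0, 2, 3, 4, 2, 1, 2, 0, 1, 3, 2, 0], [], [⟨1, 171, [2, 8, 12, 11, 4]⟩, ⟨1, 204, [8, 11, 4, 12, 11, 13, 11, 4, 11]⟩, ⟨1, 86, []⟩, ⟨1, 90, []⟩, ⟨1, 87, []⟩, ⟨1, 431, [7, 12, 8, 11, 12, 13, 11, 12]⟩]⟩,
 ⟨4, 6, 2503, [], [⟨1, 2502, []⟩], []⟩,
 ⟨8, 6, 172, [11, 4, 0, 2, 3, 4, 2, 1, 2, 0, 1, 3, 2, 0], [], [⟨1, 171, [11, 4]⟩, ⟨1, 217, [0, 4, 12, 11, 4, 13, 11, 4, 11, 12, 7]⟩, ⟨1, 42, []⟩, ⟨1, 41, []⟩, ⟨1, 68, []⟩, ⟨1, 68, []⟩, ⟨1, 589, [2, 7, 11, 12, 7, 11, 12, 8, 11]⟩]⟩,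
 ⟨4, 6, 2505, [], [⟨1, 2504, []⟩], []⟩,
 ⟨8, 6, 172, [11, 4, 12, 11, 12, 0, 2, 3, 4, 2, 1, 2, 0, 1, 3, 2, 0], [], [⟨1, 171, [11, 4, 12, 11, 12]⟩, ⟨1, 217, [4, 11, 12, 11, 4, 11, 12, 7, 11, 13]⟩, ⟨1, 43, []⟩, ⟨1, 40, []⟩, ⟨1, 46, []⟩, ⟨1, 46, []⟩, ⟨1, 787, [4, 11, 4, 12, 11, 12, 7, 13, 11]⟩]⟩,
 ⟨4, 6, 2507, [], [⟨1, 2506, []⟩], []⟩,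
 ⟨9, 6, 172, [7, 11, 4, 13, 11, 12, 0, 2, 4, 1, 0, 2, 1, 3, 2, 0], [], [⟨1, 171, [7, 11, 4, 13, 11, 12]⟩, ⟨1, 1103, [8, 12, 11, 13, 11, 4, 11, 12, 7, 13]⟩, ⟨1, 134, []⟩, ⟨1, 135, []⟩, ⟨1, 134, []⟩, ⟨1, 1116, [0, 11, 4, 11, 13, 11, 12, 11, 12, 8]⟩]⟩,
 ⟨4, 6, 2509, [], [⟨1, 2508, []⟩], []⟩,
 ⟨12, 6, 172, [12, 8, 11, 4, 12, 0, 2, 3, 1, 0, 2, 1, 2, 4, 3, 2, 0, 2, 0], [], [⟨1, 171, [12, 8, 11, 4, 12]⟩, ⟨1, 134, []⟩, ⟨1, 135, []⟩, ⟨1, 134, []⟩, ⟨1, 1929, [7, 11, 2, 4, 11, 13, 11, 4, 12]⟩, ⟨1, 134, []⟩, ⟨1, 135, []⟩, ⟨1, 1529, [4, 11, 2, 4, 12, 11, 13]⟩]⟩,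
 ⟨4, 6, 2511, [], [⟨1, 2510, []⟩], []⟩,
 ⟨12, 6, 172, [12, 13, 11, 12, 0, 2, 3, 1, 0, 2, 1, 2, 4, 3, 2, 0, 2, 0], [], [⟨1, 171, [12, 13, 11, 12]⟩, ⟨1, 134, []⟩, ⟨1, 135, []⟩, ⟨1, 134, []⟩, ⟨1, 718, [7, 11, 4, 11, 13, 11, 4, 11, 12, 8, 13]⟩, ⟨1, 86, []⟩, ⟨1, 87, []⟩, ⟨1, 90, []⟩, ⟨1, 90, []⟩, ⟨1, 447, [0, 8, 12, 7, 11, 12, 8, 12, 11]⟩]⟩,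
 ⟨4, 6, 2513, [], [⟨1, 2512, []⟩], []⟩,
 ⟨17, 6, 172, [7, 11, 13, 5, 5, 3, 6, 6, 2, 0], [], [⟨1, 171, [7, 11, 13]⟩, ⟨1, 996, [2, 4, 7, 12, 11, 12, 11, 4, 11]⟩, ⟨1, 134, []⟩, ⟨1, 135, []⟩, ⟨1, 2269, [0, 7, 12, 7, 11, 4, 12, 11, 13]⟩]⟩,
 ⟨4, 6, 2515, [], [⟨1, 2514, []⟩], []⟩,
 ⟨17, 6, 172, [7, 11, 12, 13, 5, 5, 3, 6, 6, 2, 0], [], [⟨1, 171, [7, 11, 12, 13]⟩, ⟨1, 134, []⟩, ⟨1, 135, []⟩, ⟨1, 134, []⟩, ⟨1, 981, [0, 7, 12, 13, 11, 4, 12, 11, 12, 13]⟩, ⟨1, 2270, [0, 8, 12, 8, 13, 11, 12, 11, 4]⟩]⟩,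
 ⟨4, 6, 2517, [], [⟨1, 2516, []⟩], []⟩,
 ⟨7, 6, 155, [11, 12, 11, 4, 3, 1, 0, 2, 1, 3, 2, 0], [], [⟨1, 154, [11, 12, 11, 4]⟩, ⟨1, 134, []⟩, ⟨1, 135, []⟩, ⟨1, 2483, [0, 12, 8, 11, 12, 11, 13, 11, 4, 11]⟩, ⟨1, 134, []⟩, ⟨1, 135, []⟩, ⟨1, 134, []⟩, ⟨1, 1824, [11, 2, 12, 7, 13, 11, 4, 11, 12]⟩]⟩,
 ⟨4, 6, 2519, [], [⟨1, 2518, []⟩], []⟩,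
 ⟨7, 6, 155, [4, 7, 11, 4, 12, 3, 1, 0, 2, 1, 3, 2, 0], [], [⟨1, 154, [4, 7, 11, 4, 12]⟩, ⟨1, 134, []⟩, ⟨1, 135, []⟩, ⟨1, 134, []⟩, ⟨1, 1957, [4, 12, 8, 13, 11, 12, 7, 11, 12, 11, 12]⟩, ⟨1, 1647, [4, 7, 11, 12, 13, 11, 4, 11, 4, 12]⟩]⟩,
 ⟨4, 6, 2521, [], [⟨1, 2520, []⟩], []⟩,
 ⟨7, 6, 155, [4, 8, 12, 11, 4, 3, 1, 0, 2, 1, 3, 2, 0], [], [⟨1, 154, [4, 8, 12, 11, 4]⟩, ⟨1, 2450, [2, 4, 11, 4]⟩, ⟨1, 134, []⟩, ⟨1, 135, []⟩, ⟨1, 134, []⟩, ⟨1, 1367, [2, 12, 8, 11, 12, 13, 11, 4, 12, 11]⟩]⟩,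
 ⟨4, 6, 2523, [], [⟨1, 2522, []⟩], []⟩,
 ⟨7, 6, 155, [2, 8, 11, 12, 7, 11, 12, 3, 1, 0, 2, 1, 3, 2, 0], [], [⟨1, 154, [2, 8, 11, 12, 7, 11, 12]⟩, ⟨1, 510, [2, 12, 7, 12, 11, 12, 8, 11, 12]⟩, ⟨1, 90, []⟩, ⟨1, 90, []⟩, ⟨1, 90, []⟩, ⟨1, 86, []⟩, ⟨1, 328, [0, 4, 8, 11, 13, 11, 12, 8, 11, 4, 11]⟩]⟩,
 ⟨4, 6, 2525, [], [⟨1, 2524, []⟩], []⟩,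
 ⟨7, 6, 155, [8, 11, 12, 7, 11, 12, 3, 1, 0, 2, 1, 3, 2, 0], [], [⟨1, 154, [8, 11, 12, 7, 11, 12]⟩, ⟨1, 134, []⟩, ⟨1, 135, []⟩, ⟨1, 2016, [0, 4, 11, 12, 8, 11, 4, 13, 11, 4, 11]⟩, ⟨1, 819, [12, 11, 4, 12, 11, 13, 11, 4, 12]⟩]⟩,
 ⟨4, 6, 2527, [], [⟨1, 2526, []⟩], []⟩,
 ⟨7, 6, 155, [4, 8, 12, 3, 1, 0, 2, 1, 3, 2, 0], [], [⟨1, 154, [4, 8, 12]⟩, ⟨1, 135, []⟩, ⟨1, 134, []⟩, ⟨1, 2365, [13, 11, 12, 8, 11, 12, 7, 11, 12]⟩, ⟨1, 134, []⟩, ⟨1, 1163, [4, 8, 12, 11, 12, 8, 11, 12, 11, 13]⟩]⟩,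
 ⟨4, 6, 2529, [], [⟨1, 2528, []⟩], []⟩,
 ⟨7, 6, 155, [4, 11, 4, 11, 12, 13, 3, 1, 0, 2, 1, 3, 2, 0], [], [⟨1, 154, [4, 11, 4, 11, 12, 13]⟩, ⟨1, 135, []⟩, ⟨1, 2340, [0, 12, 11, 13, 11, 12, 8, 11, 4, 13]⟩, ⟨1, 135, []⟩, ⟨1, 134, []⟩, ⟨1, 1024, [2, 8, 13, 11, 4, 11, 12, 7, 11, 12]⟩]⟩,
 ⟨4, 6, 2531, [], [⟨1, 2530, []⟩], []⟩,
 ⟨7, 6, 155, [0, 8, 11, 12, 13, 3, 1, 0, 2, 1, 3, 2, 0], [], [⟨1, 154, [0, 8, 11, 12, 13]⟩, ⟨1, 2420, [0, 7, 11, 13, 11, 4, 12, 8, 11, 13]⟩, ⟨1, 135, []⟩, ⟨1, 1922, [0, 13, 11, 4, 12, 11, 4, 13, 11, 12]⟩]⟩,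
 ⟨4, 6, 2533, [], [⟨1, 2532, []⟩], []⟩]
theorem chk51 : and2 (D.chkL PF51 2486) (Nat.beq (Nat.add 2486 PF51.length) 2534) = true := by decide +kernel

def PF52 : List DPf := [⟨7, 6, 155, [0, 8, 11, 4, 12, 13, 3, 1, 0, 2, 1, 3, 2, 0], [], [⟨1, 154, [0, 8, 11, 4, 12, 13]⟩, ⟨1, 134, []⟩, ⟨1, 1204, [4, 7, 12, 8, 11, 13, 11, 12, 8, 11, 13]⟩, ⟨1, 135, []⟩, ⟨1, 134, []⟩, ⟨1, 1194, [8, 12, 7, 11, 4, 13, 11, 4]⟩]⟩,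
 ⟨4, 6, 2535, [], [⟨1, 2534, []⟩], []⟩,
 ⟨7, 6, 155, [0, 8, 12, 11, 4, 13, 3, 1, 0, 2, 1, 3, 2, 0], [], [⟨1, 154, [0, 8, 12, 11, 4, 13]⟩, ⟨1, 134, []⟩, ⟨1, 135, []⟩, ⟨1, 134, []⟩, ⟨1, 2218, [4, 8, 11, 13, 11, 4, 12]⟩, ⟨1, 134, []⟩, ⟨1, 135, []⟩, ⟨1, 134, []⟩, ⟨1, 2023, [2, 4, 11, 12, 7, 12, 11, 12, 7, 11]⟩]⟩,
 ⟨4, 6, 2537, [], [⟨1, 2536, []⟩], []⟩,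
 ⟨7, 6, 155, [2, 7, 11, 4, 12, 3, 1, 0, 2, 1, 3, 2, 0], [], [⟨1, 154, [2, 7, 11, 4, 12]⟩, ⟨1, 2258, [0, 4, 8]⟩, ⟨1, 2011, [2, 11, 4, 12, 7, 11]⟩]⟩,
 ⟨4, 6, 2539, [], [⟨1, 2538, []⟩], []⟩,
 ⟨7, 6, 155, [4, 8, 13, 11, 4, 12, 3, 1, 0, 2, 1, 3, 2, 0], [], [⟨1, 154, [4, 8, 13, 11, 4, 12]⟩, ⟨1, 2004, [0, 4, 13, 11, 4, 12, 8]⟩, ⟨1, 135, []⟩, ⟨1, 134, []⟩, ⟨1, 1280, [0, 13, 11, 12]⟩]⟩,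
 ⟨4, 6, 2541, [], [⟨1, 2540, []⟩], []⟩,
 ⟨7, 6, 155, [11, 4, 13, 11, 4, 12, 11, 12, 3, 1, 0, 2, 1, 3, 2, 0], [], [⟨1, 154, [11, 4, 13, 11, 4, 12, 11, 12]⟩, ⟨1, 134, []⟩, ⟨1, 135, []⟩, ⟨1, 712, [12, 8, 11, 13, 11, 4, 11, 12, 8]⟩, ⟨1, 87, []⟩, ⟨1, 90, []⟩, ⟨1, 699, [12, 13, 11, 2, 4, 12]⟩]⟩,
 ⟨4, 6, 2543, [], [⟨1, 2542, []⟩], []⟩,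
 ⟨7, 6, 155, [4, 12, 13, 3, 1, 0, 2, 1, 3, 2, 0], [], [⟨1, 154, [4, 12, 13]⟩, ⟨1, 135, []⟩, ⟨1, 1605, [2, 11, 4, 11, 12, 8, 11, 13, 11, 12]⟩, ⟨1, 134, []⟩, ⟨1, 135, []⟩, ⟨1, 134, []⟩, ⟨1, 1835, [11, 12, 7, 12, 11, 12, 8, 11, 4]⟩]⟩,
 ⟨4, 6, 2545, [], [⟨1, 2544, []⟩], []⟩,
 ⟨7, 6, 155, [11, 12, 13, 3, 1, 0, 2, 1, 3, 2, 0], [], [⟨1, 154, [11, 12, 13]⟩, ⟨1, 135, []⟩, ⟨1, 134, []⟩, ⟨1, 1966, [0, 12, 8, 13, 11, 12, 7, 11, 12]⟩, ⟨1, 1812, [4, 11, 12, 8, 11, 12, 8]⟩]⟩,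
 ⟨4, 6, 2547, [], [⟨1, 2546, []⟩], []⟩,
 ⟨7, 6, 155, [11, 4, 13, 11, 4, 12, 3, 1, 0, 2, 1, 3, 2, 0], [], [⟨1, 154, [11, 4, 13, 11, 4, 12]⟩, ⟨1, 1549, [0, 4, 7, 11, 12, 7, 11, 13, 11, 4, 12]⟩, ⟨1, 134, []⟩, ⟨1, 135, []⟩, ⟨1, 134, []⟩, ⟨1, 1101, [0, 4, 8, 11, 12, 13, 11, 4, 12]⟩]⟩,
 ⟨4, 6, 2549, [], [⟨1, 2548, []⟩], []⟩,
 ⟨8, 6, 155, [12, 8, 11, 4, 12, 13, 0, 2, 3, 4, 2, 1, 2, 0, 1, 3, 2, 0], [], [⟨1, 154, [12, 8, 11, 4, 12, 13]⟩, ⟨1, 134, []⟩, ⟨1, 135, []⟩, ⟨1, 1799, [8, 11, 2, 12, 7]⟩, ⟨1, 135, []⟩, ⟨1, 2413, [2, 4, 13, 11, 12, 7]⟩]⟩,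
 ⟨4, 6, 2551, [], [⟨1, 2550, []⟩], []⟩,
 ⟨8, 6, 155, [0, 4, 7, 11, 13, 11, 12, 0, 2, 3, 4, 2, 1, 2, 0, 1, 3, 2, 0], [], [⟨1, 154, [0, 4, 7, 11, 13, 11, 12]⟩, ⟨1, 1207, [12, 7, 11, 12, 11, 13, 11, 12, 7]⟩, ⟨1, 1405, [7, 11, 12, 7, 11, 12, 8, 11, 12, 7]⟩]⟩,
 ⟨4, 6, 2553, [], [⟨1, 2552, []⟩], []⟩,
 ⟨8, 6, 155, [0, 8, 12, 13, 0, 2, 3, 4, 2, 1, 2, 0, 1, 3, 2, 0], [], [⟨1, 154, [0, 8, 12, 13]⟩, ⟨1, 135, []⟩, ⟨1, 134, []⟩, ⟨1, 1802, [7, 11, 2, 4, 12, 8, 11, 13]⟩, ⟨1, 134, []⟩, ⟨1, 135, []⟩, ⟨1, 1582, [0, 8, 11, 4, 11, 12, 11, 13, 11, 12, 7]⟩]⟩,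
 ⟨4, 6, 2555, [], [⟨1, 2554, []⟩], []⟩,
 ⟨8, 6, 155, [7, 12, 0, 2, 3, 4, 2, 1, 2, 0, 1, 3, 2, 0], [], [⟨1, 154, [7, 12]⟩, ⟨1, 512, [0, 7, 12, 11, 13, 11, 4, 11, 12]⟩, ⟨1, 87, []⟩, ⟨1, 86, []⟩, ⟨1, 90, []⟩, ⟨1, 87, []⟩, ⟨1, 755, [4, 8, 11, 2, 12, 7, 11, 4, 12]⟩]⟩,
 ⟨4, 6, 2557, [], [⟨1, 2556, []⟩], []⟩,
 ⟨8, 6, 155, [4, 8, 12, 7, 11, 12, 0, 2, 3, 4, 2, 1, 2, 0, 1, 3, 2, 0], [], [⟨1, 154, [4, 8, 12, 7, 11, 12]⟩, ⟨1, 512, [4, 8, 11, 4, 11, 13]⟩, ⟨1, 86, []⟩, ⟨1, 90, []⟩, ⟨1, 90, []⟩, ⟨1, 193, [4, 12, 7, 11, 4, 11, 12, 13, 11, 4, 11, 12]⟩]⟩,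
 ⟨4, 6, 2559, [], [⟨1, 2558, []⟩], []⟩,
 ⟨8, 6, 155, [0, 4, 12, 13, 11, 12, 0, 2, 3, 4, 2, 1, 2, 0, 1, 3, 2, 0], [], [⟨1, 154, [0, 4, 12, 13, 11, 12]⟩, ⟨1, 135, []⟩, ⟨1, 261, [8, 11, 12, 11, 4, 12, 7, 11, 13]⟩, ⟨1, 87, []⟩, ⟨1, 86, []⟩, ⟨1, 90, []⟩, ⟨1, 86, []⟩, ⟨1, 611, [4, 8, 11, 2, 13, 11, 12, 8, 11, 12]⟩]⟩,
 ⟨4, 6, 2561, [], [⟨1, 2560, []⟩], []⟩,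
 ⟨8, 6, 155, [12, 8, 11, 12, 13, 0, 2, 3, 4, 2, 1, 2, 0, 1, 3, 2, 0], [], [⟨1, 154, [12, 8, 11, 12, 13]⟩, ⟨1, 134, []⟩, ⟨1, 1869, [13, 11, 4, 11, 4, 12, 7, 11]⟩, ⟨1, 134, []⟩, ⟨1, 135, []⟩, ⟨1, 1307, [12, 7, 11, 2, 12, 8, 11, 4, 11, 12]⟩]⟩,
 ⟨4, 6, 2563, [], [⟨1, 2562, []⟩], []⟩,
 ⟨8, 6, 155, [8, 12, 8, 11, 12, 13, 0, 2, 3, 4, 2, 1, 2, 0, 1, 3, 2, 0], [], [⟨1, 154, [8, 12, 8, 11, 12, 13]⟩, ⟨1, 1207, [0, 8, 11, 13, 11, 4, 12, 11, 4, 12, 13]⟩, ⟨1, 135, []⟩, ⟨1, 2174, [8, 12, 7, 11, 13, 11, 12, 11, 13]⟩]⟩,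
 ⟨4, 6, 2565, [], [⟨1, 2564, []⟩], []⟩,
 ⟨8, 6, 155, [2, 11, 4, 12, 0, 2, 3, 4, 2, 1, 2, 0, 1, 3, 2, 0], [], [⟨1, 154, [2, 11, 4, 12]⟩, ⟨1, 135, []⟩, ⟨1, 914, [12, 8, 11, 12, 13, 11, 12, 11]⟩, ⟨1, 134, []⟩, ⟨1, 887, [0, 4, 7, 11, 13, 11, 12, 8, 11, 12]⟩]⟩,
 ⟨4, 6, 2567, [], [⟨1, 2566, []⟩], []⟩,
 ⟨8, 6, 155, [8, 13, 11, 12, 11, 4, 0, 2, 3, 4, 2, 1, 2, 0, 1, 3, 2, 0], [], [⟨1, 154, [8, 13, 11, 12, 11, 4]⟩, ⟨1, 380, [8, 12, 11, 13, 11, 12, 7, 11, 4, 12, 11]⟩, ⟨1, 39, []⟩, ⟨1, 41, []⟩, ⟨1, 40, []⟩, ⟨1, 46, []⟩, ⟨1, 242, [2, 4, 12, 11, 12, 8, 12, 11, 4, 13]⟩]⟩,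
 ⟨4, 6, 2569, [], [⟨1, 2568, []⟩], []⟩,
 ⟨8, 6, 155, [2, 8, 11, 4, 12, 0, 2, 3, 4, 2, 1, 2, 0, 1, 3, 2, 0], [], [⟨1, 154, [2, 8, 11, 4, 12]⟩, ⟨1, 2350, [4, 7, 12, 11, 2, 12, 8, 13, 11, 4, 11]⟩, ⟨1, 135, []⟩, ⟨1, 134, []⟩, ⟨1, 2114, [4, 7, 11, 13, 11, 12, 8, 12, 11]⟩]⟩,
 ⟨4, 6, 2571, [], [⟨1, 2570, []⟩], []⟩,
 ⟨8, 6, 155, [8, 12, 7, 11, 4, 12, 0, 2, 3, 4, 2, 1, 2, 0, 1, 3, 2, 0], [], [⟨1, 154, [8, 12, 7, 11, 4, 12]⟩, ⟨1, 512, [2, 4, 8, 11, 13, 11, 4, 12, 11, 4]⟩, ⟨1, 86, []⟩, ⟨1, 90, []⟩, ⟨1, 671, [0, 12, 11, 4, 11, 12, 8, 11]⟩]⟩,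
 ⟨4, 6, 2573, [], [⟨1, 2572, []⟩], []⟩,
 ⟨8, 6, 155, [4, 11, 12, 11, 4, 0, 2, 3, 4, 2, 1, 2, 0, 1, 3, 2, 0], [], [⟨1, 154, [4, 11, 12, 11, 4]⟩, ⟨1, 135, []⟩, ⟨1, 1335, [0, 4, 7, 11, 4, 12, 11, 13, 11, 4]⟩, ⟨1, 1381, [4, 8, 13, 11, 12, 11, 4, 13]⟩]⟩,
 ⟨4, 6, 2575, [], [⟨1, 2574, []⟩], []⟩,
 ⟨8, 6, 155, [0, 11, 12, 13, 0, 2, 3, 4, 2, 1, 2, 0, 1, 3, 2, 0], [], [⟨1, 154, [0, 11, 12, 13]⟩, ⟨1, 134, []⟩, ⟨1, 135, []⟩, ⟨1, 1475, [4, 11, 12, 11, 4, 13, 11, 4, 12, 7]⟩, ⟨1, 134, []⟩, ⟨1, 135, []⟩, ⟨1, 134, []⟩, ⟨1, 1560, [7, 11, 2, 13, 11, 4, 12, 11, 12, 8]⟩]⟩,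
 ⟨8, 6, 155, [8, 11, 12, 13, 11, 4, 0, 2, 3, 4, 2, 1, 2, 0, 1, 3, 2, 0], [], [⟨1, 154, [8, 11, 12, 13, 11, 4]⟩, ⟨1, 134, []⟩, ⟨1, 135, []⟩, ⟨1, 1799, [7, 11, 4, 12, 8, 11, 13, 11, 12]⟩, ⟨1, 135, []⟩, ⟨1, 2328, [2, 12, 8, 11, 12, 8, 11, 12, 11]⟩]⟩,
 ⟨4, 6, 2578, [], [⟨1, 2577, []⟩], []⟩,
 ⟨8, 6, 155, [4, 8, 13, 11, 4, 11, 12, 0, 2, 3, 4, 2, 1, 2, 0, 1, 3, 2, 0], [], [⟨1, 154, [4, 8, 13, 11, 4, 11, 12]⟩, ⟨1, 135, []⟩, ⟨1, 134, []⟩, ⟨1, 1802, [12, 8, 12, 13, 11, 12, 7, 11]⟩, ⟨1, 134, []⟩, ⟨1, 1506, [12, 8, 13, 11, 2, 4, 12]⟩]⟩,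
 ⟨4, 6, 2580, [], [⟨1, 2579, []⟩], []⟩,
 ⟨8, 6, 155, [4, 12, 8, 11, 13, 11, 12, 0, 2, 3, 4, 2, 1, 2, 0, 1, 3, 2, 0], [], [⟨1, 154, [4, 12, 8, 11, 13, 11, 12]⟩, ⟨1, 134, []⟩, ⟨1, 1869, [2, 7, 11, 12, 13, 11, 4, 12, 11, 13]⟩, ⟨1, 134, []⟩, ⟨1, 135, []⟩, ⟨1, 2510, [2, 12, 11, 12, 8, 12, 11, 12, 7, 13]⟩]⟩,
 ⟨4, 6, 2582, [], [⟨1, 2581, []⟩], []⟩]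
theorem chk52 : and2 (D.chkL PF52 2534) (Nat.beq (Nat.add 2534 PF52.length) 2583) = true := by decide +kernel

def PF53 : List DPf := [⟨12, 6, 155, [2, 7, 12, 7, 11, 12, 0, 2, 3, 1, 0, 2, 1, 2, 4, 3, 2, 0, 2, 0], [], [⟨1, 154, [2, 7, 12, 7, 11, 12]⟩, ⟨1, 134, []⟩, ⟨1, 2340, [11, 12, 11, 4, 12, 13, 11, 12]⟩, ⟨1, 134, []⟩, ⟨1, 135, []⟩, ⟨1, 1195, [2, 7, 12, 7, 11, 12, 8, 12, 13, 11]⟩]⟩,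
 ⟨4, 6, 2584, [], [⟨1, 2583, []⟩], []⟩,
 ⟨12, 6, 155, [8, 11, 12, 0, 2, 3, 1, 0, 2, 1, 2, 4, 3, 2, 0, 2, 0], [], [⟨1, 154, [8, 11, 12]⟩, ⟨1, 2444, [7, 13, 11, 12, 7, 11, 13]⟩, ⟨1, 134, []⟩, ⟨1, 135, []⟩, ⟨1, 2298, [0, 7, 11, 12, 8, 13, 11, 4, 12, 11]⟩]⟩,
 ⟨4, 6, 2586, [], [⟨1, 2585, []⟩], []⟩,
 ⟨12, 6, 155, [0, 7, 11, 12, 13, 11, 4, 0, 2, 3, 1, 0, 2, 1, 2, 4, 3, 2, 0, 2, 0], [], [⟨1, 154, [0, 7, 11, 12, 13, 11, 4]⟩, ⟨1, 134, []⟩, ⟨1, 135, []⟩, ⟨1, 2188, [8, 11, 4, 11, 4, 12, 11, 13]⟩, ⟨1, 135, []⟩, ⟨1, 1542, [0, 8, 12, 7, 11, 12, 11, 4, 11, 13]⟩]⟩,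
 ⟨4, 6, 2588, [], [⟨1, 2587, []⟩], []⟩,
 ⟨12, 6, 155, [8, 11, 12, 11, 4, 0, 2, 3, 1, 0, 2, 1, 2, 4, 3, 2, 0, 2, 0], [], [⟨1, 154, [8, 11, 12, 11, 4]⟩, ⟨1, 135, []⟩, ⟨1, 2042, [0, 8, 11, 12, 11, 13, 11, 12, 7, 11, 13]⟩, ⟨1, 134, []⟩, ⟨1, 2464, [12, 8, 12, 13, 11, 12, 8, 11, 4, 11]⟩]⟩,
 ⟨4, 6, 2590, [], [⟨1, 2589, []⟩], []⟩,
 ⟨13, 6, 155, [4, 12, 8, 11, 13, 11, 12, 0, 2, 3, 1, 2, 0, 1, 3, 2, 0], [], [⟨1, 154, [4, 12, 8, 11, 13, 11, 12]⟩, ⟨1, 134, []⟩, ⟨1, 1869, [0, 7, 11, 4, 13, 11, 4, 12, 11, 12, 11]⟩, ⟨1, 134, []⟩, ⟨1, 135, []⟩, ⟨1, 1916, [13, 11, 12, 11, 4, 13, 11, 12, 11]⟩]⟩,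
 ⟨4, 6, 2592, [], [⟨1, 2591, []⟩], []⟩,
 ⟨13, 6, 155, [0, 7, 12, 13, 11, 12, 0, 2, 3, 1, 2, 0, 1, 3, 2, 0], [], [⟨1, 154, [0, 7, 12, 13, 11, 12]⟩, ⟨1, 134, []⟩, ⟨1, 135, []⟩, ⟨1, 134, []⟩, ⟨1, 1967, [2, 7, 11, 4, 11, 12, 11, 12, 7]⟩, ⟨1, 134, []⟩, ⟨1, 135, []⟩, ⟨1, 134, []⟩, ⟨1, 2243, [11, 12, 7, 11, 4, 11, 12, 7, 11]⟩]⟩,
 ⟨4, 6, 2594, [], [⟨1, 2593, []⟩], []⟩,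
 ⟨13, 6, 155, [4, 7, 11, 13, 11, 4, 12, 0, 2, 3, 1, 2, 0, 1, 3, 2, 0], [], [⟨1, 154, [4, 7, 11, 13, 11, 4, 12]⟩, ⟨1, 134, []⟩, ⟨1, 135, []⟩, ⟨1, 2240, [2, 13, 11, 4, 12, 7, 11, 13]⟩, ⟨1, 134, []⟩, ⟨1, 1847, [12, 7, 13, 11, 4, 12, 8]⟩]⟩,
 ⟨13, 6, 155, [7, 12, 11, 4, 0, 2, 3, 1, 2, 0, 1, 3, 2, 0], [], [⟨1, 154, [7, 12, 11, 4]⟩, ⟨1, 450, [12, 7, 13, 11, 12, 8, 12, 11, 12, 11]⟩, ⟨1, 87, []⟩, ⟨1, 86, []⟩, ⟨1, 90, []⟩, ⟨1, 86, []⟩, ⟨1, 90, []⟩, ⟨1, 549, [0, 4, 12, 11, 4, 12, 13, 11, 12, 7]⟩]⟩,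
 ⟨4, 6, 2597, [], [⟨1, 2596, []⟩], []⟩,
 ⟨13, 6, 155, [0, 7, 11, 4, 13, 11, 12, 0, 2, 3, 1, 2, 0, 1, 3, 2, 0], [], [⟨1, 154, [0, 7, 11, 4, 13, 11, 12]⟩, ⟨1, 134, []⟩, ⟨1, 135, []⟩, ⟨1, 2240, [2, 11, 13, 11, 12, 7, 11, 13]⟩, ⟨1, 135, []⟩, ⟨1, 134, []⟩, ⟨1, 1572, [7, 11, 2, 12, 8, 13, 11, 12, 11, 4]⟩]⟩,
 ⟨4, 6, 2599, [], [⟨1, 2598, []⟩], []⟩,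
 ⟨13, 6, 155, [0, 12, 13, 11, 12, 0, 2, 3, 1, 2, 0, 1, 3, 2, 0], [], [⟨1, 154, [0, 12, 13, 11, 12]⟩, ⟨1, 134, []⟩, ⟨1, 135, []⟩, ⟨1, 134, []⟩, ⟨1, 1967, [2, 8, 11, 4, 11, 12, 11, 12, 7]⟩, ⟨1, 135, []⟩, ⟨1, 134, []⟩, ⟨1, 1075, [12, 11, 2, 4, 11, 12, 7, 11, 13]⟩]⟩,
 ⟨4, 6, 2601, [], [⟨1, 2600, []⟩], []⟩,
 ⟨13, 6, 155, [12, 8, 11, 12, 13, 0, 2, 3, 1, 2, 0, 1, 3, 2, 0], [], [⟨1, 154, [12, 8, 11, 12, 13]⟩, ⟨1, 134, []⟩, ⟨1, 1869, [11, 4, 11, 4, 12, 7, 11, 4, 13]⟩, ⟨1, 1498, [0, 12, 13, 11, 4, 11, 4, 13, 11, 12]⟩]⟩,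
 ⟨4, 6, 2603, [], [⟨1, 2602, []⟩], []⟩,
 ⟨17, 6, 155, [4, 7, 5, 5, 3, 6, 6, 2, 0], [], [⟨1, 154, [4, 7]⟩, ⟨1, 134, []⟩, ⟨1, 135, []⟩, ⟨1, 902, [0, 8, 12, 7, 11, 12, 8, 11, 12, 8, 11]⟩, ⟨1, 1701, [2, 12, 7, 11, 4, 11, 12, 11, 4, 13]⟩]⟩,
 ⟨4, 6, 2605, [], [⟨1, 2604, []⟩], []⟩,
 ⟨17, 6, 155, [12, 7, 13, 5, 5, 3, 6, 6, 2, 0], [], [⟨1, 154, [12, 7, 13]⟩, ⟨1, 134, []⟩, ⟨1, 135, []⟩, ⟨1, 2249, [0, 7, 11, 12, 11, 4, 11, 12, 7, 11]⟩, ⟨1, 134, []⟩, ⟨1, 135, []⟩, ⟨1, 134, []⟩, ⟨1, 2235, [12, 8, 13, 11, 4, 11, 12, 13, 11]⟩]⟩,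
 ⟨4, 6, 2607, [], [⟨1, 2606, []⟩], []⟩,
 ⟨17, 6, 155, [4, 7, 13, 5, 5, 3, 6, 6, 2, 0], [], [⟨1, 154, [4, 7, 13]⟩, ⟨1, 134, []⟩, ⟨1, 135, []⟩, ⟨1, 1673, [4, 12, 8, 11, 4, 13, 11]⟩, ⟨1, 134, []⟩, ⟨1, 1784, [13, 11, 4, 11, 4, 13]⟩]⟩,
 ⟨4, 6, 2609, [], [⟨1, 2608, []⟩], []⟩,
 ⟨7, 6, 173, [12, 8, 13, 11, 4, 12, 3, 1, 0, 2, 1, 3, 2, 0], [], [⟨1, 172, [12, 8, 13, 11, 4, 12]⟩, ⟨1, 134, []⟩, ⟨1, 135, []⟩, ⟨1, 134, []⟩, ⟨1, 1574, [11, 12, 7, 12, 13, 11, 12, 11, 13]⟩, ⟨1, 134, []⟩, ⟨1, 1733, [0, 12, 13, 11, 12, 11]⟩]⟩,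
 ⟨4, 6, 2611, [], [⟨1, 2610, []⟩], []⟩,
 ⟨7, 6, 173, [7, 12, 13, 11, 12, 3, 1, 0, 2, 1, 3, 2, 0], [], [⟨1, 172, [7, 12, 13, 11, 12]⟩, ⟨1, 134, []⟩, ⟨1, 135, []⟩, ⟨1, 134, []⟩, ⟨1, 1971, [0, 4, 7, 12, 11, 13, 11]⟩, ⟨1, 135, []⟩, ⟨1, 2185, [8, 11, 12, 11, 4, 11, 12, 11]⟩]⟩,
 ⟨4, 6, 2613, [], [⟨1, 2612, []⟩], []⟩,
 ⟨7, 6, 173, [2, 4, 7, 12, 11, 4, 3, 1, 0, 2, 1, 3, 2, 0], [], [⟨1, 172, [2, 4, 7, 12, 11, 4]⟩, ⟨1, 134, []⟩, ⟨1, 2335, [4, 8, 11, 12, 13, 11, 4, 11, 4, 13, 11]⟩, ⟨1, 135, []⟩, ⟨1, 2536, [12, 13, 11, 12, 11]⟩]⟩,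
 ⟨4, 6, 2615, [], [⟨1, 2614, []⟩], []⟩,
 ⟨7, 6, 173, [12, 7, 13, 11, 12, 3, 1, 0, 2, 1, 3, 2, 0], [], [⟨1, 172, [12, 7, 13, 11, 12]⟩, ⟨1, 135, []⟩, ⟨1, 915, [2, 13, 11, 12, 7, 12, 11, 12, 8]⟩, ⟨1, 135, []⟩, ⟨1, 134, []⟩, ⟨1, 2301, [2, 4, 12, 8, 13, 11, 12, 8, 11, 4]⟩]⟩,
 ⟨4, 6, 2617, [], [⟨1, 2616, []⟩], []⟩,
 ⟨7, 6, 173, [13, 11, 4, 11, 12, 3, 1, 0, 2, 1, 3, 2, 0], [], [⟨1, 172, [13, 11, 4, 11, 12]⟩, ⟨1, 134, []⟩, ⟨1, 135, []⟩, ⟨1, 134, []⟩, ⟨1, 1681, [0, 13, 11, 12, 8, 11, 12, 11, 4]⟩, ⟨1, 1449, [8, 12, 7, 11, 12, 7, 11, 4, 11, 13]⟩]⟩,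
 ⟨4, 6, 2619, [], [⟨1, 2618, []⟩], []⟩,
 ⟨7, 6, 173, [7, 11, 4, 11, 12, 13, 3, 1, 0, 2, 1, 3, 2, 0], [], [⟨1, 172, [7, 11, 4, 11, 12, 13]⟩, ⟨1, 1821, [2, 4, 7, 11, 12, 8, 11, 13, 11, 4, 12]⟩, ⟨1, 135, []⟩, ⟨1, 134, []⟩, ⟨1, 2085, [0, 8, 11, 13, 11, 12, 11, 12, 8]⟩]⟩,
 ⟨4, 6, 2621, [], [⟨1, 2620, []⟩], []⟩,
 ⟨7, 6, 173, [0, 4, 13, 11, 12, 3, 1, 0, 2, 1, 3, 2, 0], [], [⟨1, 172, [0, 4, 13, 11, 12]⟩, ⟨1, 135, []⟩, ⟨1, 1175, [4, 11, 2, 12, 8, 12, 11]⟩, ⟨1, 135, []⟩, ⟨1, 2173, [2, 11, 13, 11, 4, 12, 11, 12, 7, 13, 11]⟩]⟩,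
 ⟨4, 6, 2623, [], [⟨1, 2622, []⟩], []⟩,
 ⟨7, 6, 173, [11, 4, 13, 11, 4, 12, 3, 1, 0, 2, 1, 3, 2, 0], [], [⟨1, 172, [11, 4, 13, 11, 4, 12]⟩, ⟨1, 134, []⟩, ⟨1, 135, []⟩, ⟨1, 1303, [7, 11, 12, 11, 4, 12, 13, 11]⟩, ⟨1, 135, []⟩, ⟨1, 134, []⟩, ⟨1, 2364, [0, 12, 11, 13, 11, 12, 8, 11, 12, 7]⟩]⟩,
 ⟨4, 6, 2625, [], [⟨1, 2624, []⟩], []⟩,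
 ⟨7, 6, 173, [7, 12, 11, 4, 3, 1, 0, 2, 1, 3, 2, 0], [], [⟨1, 172, [7, 12, 11, 4]⟩, ⟨1, 2502, [13, 11, 4, 11, 13]⟩, ⟨1, 135, []⟩, ⟨1, 134, []⟩, ⟨1, 2380, [8, 11, 2, 12, 8, 11, 13, 11]⟩]⟩,
 ⟨4, 6, 2627, [], [⟨1, 2626, []⟩], []⟩,
 ⟨8, 6, 173, [0, 4, 13, 0, 2, 3, 4, 2, 1, 2, 0, 1, 3, 2, 0], [], [⟨1, 172, [0, 4, 13]⟩, ⟨1, 135, []⟩, ⟨1, 2473, [0, 4, 13, 11, 4, 11, 12, 7, 11, 4]⟩, ⟨1, 135, []⟩, ⟨1, 2552, [11, 2, 12, 7, 11, 4, 12, 11, 12]⟩]⟩,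
 ⟨4, 6, 2629, [], [⟨1, 2628, []⟩], []⟩]
theorem chk53 : and2 (D.chkL PF53 2583) (Nat.beq (Nat.add 2583 PF53.length) 2630) = true := by decide +kernel

def PF54 : List DPf := [⟨8, 6, 173, [7, 11, 4, 12, 13, 0, 2, 3, 4, 2, 1, 2, 0, 1, 3, 2, 0], [], [⟨1, 172, [7, 11, 4, 12, 13]⟩, ⟨1, 134, []⟩, ⟨1, 135, []⟩, ⟨1, 2386, [0, 7, 13, 11, 4, 11, 12, 8, 13]⟩, ⟨1, 135, []⟩, ⟨1, 1419, [11, 2, 12, 7, 11, 4, 13, 11, 12]⟩]⟩,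
 ⟨4, 6, 2631, [], [⟨1, 2630, []⟩], []⟩,
 ⟨8, 6, 173, [0, 4, 12, 13, 11, 12, 0, 2, 3, 4, 2, 1, 2, 0, 1, 3, 2, 0], [], [⟨1, 172, [0, 4, 12, 13, 11, 12]⟩, ⟨1, 135, []⟩, ⟨1, 2473, [7, 11, 4, 12, 13, 11, 4, 11, 12, 13]⟩, ⟨1, 134, []⟩, ⟨1, 135, []⟩, ⟨1, 902, [2, 4, 11, 4, 11, 12, 11, 4, 11]⟩]⟩,
 ⟨4, 6, 2633, [], [⟨1, 2632, []⟩], []⟩,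
 ⟨8, 6, 173, [11, 4, 13, 11, 4, 12, 11, 12, 0, 2, 3, 4, 2, 1, 2, 0, 1, 3, 2, 0], [], [⟨1, 172, [11, 4, 13, 11, 4, 12, 11, 12]⟩, ⟨1, 135, []⟩, ⟨1, 134, []⟩, ⟨1, 1452, [4, 12, 7, 11, 12, 8, 13, 11, 4, 12]⟩, ⟨1, 134, []⟩, ⟨1, 135, []⟩, ⟨1, 134, []⟩, ⟨1, 1099, [2, 4, 8, 11, 12, 13, 11, 4, 12, 8]⟩]⟩,
 ⟨4, 6, 2635, [], [⟨1, 2634, []⟩], []⟩,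
 ⟨17, 6, 173, [7, 11, 12, 8, 12, 13, 5, 5, 3, 6, 6, 2, 0], [], [⟨1, 172, [7, 11, 12, 8, 12, 13]⟩, ⟨1, 134, []⟩, ⟨1, 135, []⟩, ⟨1, 134, []⟩, ⟨1, 1611, [0, 4, 11, 12, 11, 13, 11, 12, 7]⟩, ⟨1, 1317, [0, 11, 12, 13, 11, 4]⟩]⟩,
 ⟨4, 6, 2637, [], [⟨1, 2636, []⟩], []⟩,
 ⟨7, 6, 176, [12, 11, 13, 11, 4, 12, 3, 1, 0, 2, 1, 3, 2, 0], [], [⟨1, 175, [12, 11, 13, 11, 4, 12]⟩, ⟨1, 1032, [4, 13, 11, 2, 12, 7, 11, 4, 13]⟩, ⟨1, 958, [7, 11, 13, 11, 4, 12, 8, 11, 12, 8]⟩]⟩,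
 ⟨4, 6, 2639, [], [⟨1, 2638, []⟩], []⟩,
 ⟨7, 6, 176, [7, 12, 7, 11, 12, 3, 1, 0, 2, 1, 3, 2, 0], [], [⟨1, 175, [7, 12, 7, 11, 12]⟩, ⟨1, 135, []⟩, ⟨1, 134, []⟩, ⟨1, 1239, [4, 8, 11, 4, 13, 11, 4, 11, 13]⟩, ⟨1, 1188, [11, 2, 12, 8, 11, 4, 11, 12, 7, 13]⟩]⟩,
 ⟨4, 6, 2641, [], [⟨1, 2640, []⟩], []⟩,
 ⟨7, 6, 176, [4, 11, 4, 12, 13, 11, 4, 3, 1, 0, 2, 1, 3, 2, 0], [], [⟨1, 175, [4, 11, 4, 12, 13, 11, 4]⟩, ⟨1, 135, []⟩, ⟨1, 134, []⟩, ⟨1, 488, [11, 4, 11, 12, 8, 12, 11, 4, 13]⟩, ⟨1, 86, []⟩, ⟨1, 87, []⟩, ⟨1, 90, []⟩, ⟨1, 90, []⟩, ⟨1, 86, []⟩, ⟨1, 617, [7, 11, 12, 11, 4, 12, 13, 11, 4]⟩]⟩,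
 ⟨4, 6, 2643, [], [⟨1, 2642, []⟩], []⟩,
 ⟨7, 6, 176, [2, 4, 8, 12, 11, 4, 3, 1, 0, 2, 1, 3, 2, 0], [], [⟨1, 175, [2, 4, 8, 12, 11, 4]⟩, ⟨1, 135, []⟩, ⟨1, 2593, [4, 11, 12, 11, 12, 13, 11, 4, 12]⟩, ⟨1, 134, []⟩, ⟨1, 135, []⟩, ⟨1, 959, [4, 12, 7, 11, 13, 11, 4, 12]⟩]⟩,
 ⟨4, 6, 2645, [], [⟨1, 2644, []⟩], []⟩,
 ⟨8, 6, 176, [4, 12, 7, 11, 12, 0, 2, 3, 4, 2, 1, 2, 0, 1, 3, 2, 0], [], [⟨1, 175, [4, 12, 7, 11, 12]⟩, ⟨1, 135, []⟩, ⟨1, 134, []⟩, ⟨1, 184, [7, 11, 4, 11, 13, 11, 4, 12, 11]⟩, ⟨1, 43, []⟩, ⟨1, 42, []⟩, ⟨1, 40, []⟩, ⟨1, 314, [2, 4, 12, 8, 11, 4, 13, 11, 12, 11, 4]⟩]⟩,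
 ⟨4, 6, 2647, [], [⟨1, 2646, []⟩], []⟩,
 ⟨8, 6, 176, [2, 8, 11, 4, 12, 0, 2, 3, 4, 2, 1, 2, 0, 1, 3, 2, 0], [], [⟨1, 175, [2, 8, 11, 4, 12]⟩, ⟨1, 173, [11, 2, 12, 11, 4, 11, 12, 11, 13]⟩, ⟨1, 135, []⟩, ⟨1, 2646, [4, 12, 8, 11, 12, 8, 11, 12]⟩]⟩,
 ⟨4, 6, 2649, [], [⟨1, 2648, []⟩], []⟩,
 ⟨5, 6, 177, [4, 7, 12, 13, 3, 2, 0], [], [⟨1, 176, [4, 7, 12, 13]⟩, ⟨1, 134, []⟩, ⟨1, 135, []⟩, ⟨1, 2301, [4, 13, 11, 4, 11, 12, 11, 12, 8]⟩, ⟨1, 134, []⟩, ⟨1, 135, []⟩, ⟨1, 134, []⟩, ⟨1, 1268, [4, 7, 11, 13, 11, 4, 12, 11, 4, 12]⟩]⟩,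
 ⟨4, 6, 2651, [], [⟨1, 2650, []⟩], []⟩,
 ⟨7, 6, 177, [8, 12, 7, 11, 12, 3, 1, 0, 2, 1, 3, 2, 0], [], [⟨1, 176, [8, 12, 7, 11, 12]⟩, ⟨1, 134, []⟩, ⟨1, 135, []⟩, ⟨1, 412, [0, 4, 11, 12, 7, 13, 11, 12, 11, 4, 11]⟩, ⟨1, 87, []⟩, ⟨1, 90, []⟩, ⟨1, 86, []⟩, ⟨1, 90, []⟩, ⟨1, 577, [0, 12, 7, 12, 11, 12, 8, 13, 11, 12]⟩]⟩,
 ⟨4, 6, 2653, [], [⟨1, 2652, []⟩], []⟩,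
 ⟨7, 6, 177, [4, 12, 7, 11, 12, 3, 1, 0, 2, 1, 3, 2, 0], [], [⟨1, 176, [4, 12, 7, 11, 12]⟩, ⟨1, 134, []⟩, ⟨1, 135, []⟩, ⟨1, 134, []⟩, ⟨1, 984, [2, 4, 11, 4, 13, 11, 12, 8, 12]⟩, ⟨1, 2540, [0, 7, 12, 13, 11, 12]⟩]⟩,
 ⟨7, 6, 177, [0, 12, 7, 11, 13, 11, 12, 3, 1, 0, 2, 1, 3, 2, 0], [], [⟨1, 176, [0, 12, 7, 11, 13, 11, 12]⟩, ⟨1, 134, []⟩, ⟨1, 339, [2, 8, 11, 12, 11, 4, 13, 11, 12, 11]⟩, ⟨1, 90, []⟩, ⟨1, 90, []⟩, ⟨1, 90, []⟩, ⟨1, 86, []⟩, ⟨1, 258, [11, 13, 11, 4, 11, 4, 12, 7, 11]⟩]⟩,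
 ⟨4, 6, 2656, [], [⟨1, 2655, []⟩], []⟩,
 ⟨7, 6, 177, [4, 11, 13, 11, 12, 3, 1, 0, 2, 1, 3, 2, 0], [], [⟨1, 176, [4, 11, 13, 11, 12]⟩, ⟨1, 134, []⟩, ⟨1, 135, []⟩, ⟨1, 2034, [7, 13, 11, 2, 12, 8, 12, 11, 4, 12]⟩, ⟨1, 134, []⟩, ⟨1, 2034, [4, 7, 12, 11, 12, 7, 12, 11, 4]⟩]⟩,
 ⟨4, 6, 2658, [], [⟨1, 2657, []⟩], []⟩,
 ⟨7, 6, 177, [2, 7, 12, 7, 11, 12, 3, 1, 0, 2, 1, 3, 2, 0], [], [⟨1, 176, [2, 7, 12, 7, 11, 12]⟩, ⟨1, 134, []⟩, ⟨1, 1628, [2, 11, 12, 7, 11, 12, 11, 4, 12, 13]⟩, ⟨1, 135, []⟩, ⟨1, 134, []⟩, ⟨1, 1072, [11, 12, 8, 11, 12, 7, 13, 11, 4]⟩]⟩,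
 ⟨4, 6, 2660, [], [⟨1, 2659, []⟩], []⟩,
 ⟨7, 6, 177, [11, 4, 12, 11, 4, 3, 1, 0, 2, 1, 3, 2, 0], [], [⟨1, 176, [11, 4, 12, 11, 4]⟩, ⟨1, 2002, [0, 13, 11, 12, 7, 11, 4, 11, 12]⟩, ⟨1, 135, []⟩, ⟨1, 134, []⟩, ⟨1, 899, [7, 12, 7, 11, 12, 8, 12, 13, 11]⟩]⟩,
 ⟨4, 6, 2662, [], [⟨1, 2661, []⟩], []⟩,
 ⟨7, 6, 177, [4, 8, 12, 13, 11, 4, 3, 1, 0, 2, 1, 3, 2, 0], [], [⟨1, 176, [4, 8, 12, 13, 11, 4]⟩, ⟨1, 135, []⟩, ⟨1, 134, []⟩, ⟨1, 1475, [8, 11, 12, 11, 4, 12, 13]⟩, ⟨1, 134, []⟩, ⟨1, 1158, [12, 8, 12, 11, 12, 13, 11, 4, 11]⟩]⟩,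
 ⟨7, 6, 177, [2, 4, 8, 12, 11, 4, 3, 1, 0, 2, 1, 3, 2, 0], [], [⟨1, 176, [2, 4, 8, 12, 11, 4]⟩, ⟨1, 135, []⟩, ⟨1, 1018, [2, 11, 4, 12, 7, 11, 13, 11, 4, 12]⟩, ⟨1, 135, []⟩, ⟨1, 2368, [0, 11, 12, 7, 12, 13, 11, 4, 11, 13]⟩]⟩,
 ⟨4, 6, 2665, [], [⟨1, 2664, []⟩], []⟩,
 ⟨7, 6, 177, [2, 7, 11, 4, 12, 3, 1, 0, 2, 1, 3, 2, 0], [], [⟨1, 176, [2, 7, 11, 4, 12]⟩, ⟨1, 135, []⟩, ⟨1, 1344, [2, 12, 7, 12, 11, 4, 11]⟩, ⟨1, 135, []⟩, ⟨1, 1877, [4, 8, 12, 11, 4]⟩]⟩,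
 ⟨4, 6, 2667, [], [⟨1, 2666, []⟩], []⟩,
 ⟨7, 6, 177, [11, 4, 12, 13, 11, 4, 12, 3, 1, 0, 2, 1, 3, 2, 0], [], [⟨1, 176, [11, 4, 12, 13, 11, 4, 12]⟩, ⟨1, 2247, [7, 12, 13, 11]⟩, ⟨1, 134, []⟩, ⟨1, 135, []⟩, ⟨1, 2105, [4, 11, 2, 4, 12, 7, 13, 11, 4]⟩]⟩,
 ⟨4, 6, 2669, [], [⟨1, 2668, []⟩], []⟩,
 ⟨7, 6, 177, [8, 12, 7, 11, 4, 12, 3, 1, 0, 2, 1, 3, 2, 0], [], [⟨1, 176, [8, 12, 7, 11, 4, 12]⟩, ⟨1, 2464, [11, 13, 11, 4, 11, 12, 7, 12]⟩, ⟨1, 2590, [0, 12, 11, 12, 13, 11, 12, 11, 4]⟩]⟩,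
 ⟨4, 6, 2671, [], [⟨1, 2670, []⟩], []⟩,
 ⟨7, 6, 177, [11, 4, 13, 11, 4, 12, 3, 1, 0, 2, 1, 3, 2, 0], [], [⟨1, 176, [11, 4, 13, 11, 4, 12]⟩, ⟨1, 134, []⟩, ⟨1, 135, []⟩, ⟨1, 134, []⟩, ⟨1, 2658, [13, 11, 2, 4, 11, 13]⟩, ⟨1, 134, []⟩, ⟨1, 135, []⟩, ⟨1, 1395, [2, 7, 11, 4, 12, 11, 13, 11, 4, 12, 11]⟩]⟩,
 ⟨4, 6, 2673, [], [⟨1, 2672, []⟩], []⟩,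
 ⟨7, 6, 177, [0, 11, 4, 12, 13, 11, 4, 12, 3, 1, 0, 2, 1, 3, 2, 0], [], [⟨1, 176, [0, 11, 4, 12, 13, 11, 4, 12]⟩, ⟨1, 135, []⟩, ⟨1, 1487, [2, 4, 7, 11, 4, 11, 12, 8, 11]⟩, ⟨1, 135, []⟩, ⟨1, 134, []⟩, ⟨1, 2018, [8, 12, 8, 13, 11, 2, 12, 8, 11, 13]⟩]⟩,
 ⟨4, 6, 2675, [], [⟨1, 2674, []⟩], []⟩,
 ⟨7, 6, 177, [2, 4, 12, 11, 12, 3, 1, 0, 2, 1, 3, 2, 0], [], [⟨1, 176, [2, 4, 12, 11, 12]⟩, ⟨1, 135, []⟩, ⟨1, 662, [4, 12, 11, 2, 4, 12, 8]⟩, ⟨1, 655, [8, 13, 11, 2, 4, 11, 12, 13, 11]⟩]⟩,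
 ⟨4, 6, 2677, [], [⟨1, 2676, []⟩], []⟩]
theorem chk54 : and2 (D.chkL PF54 2630) (Nat.beq (Nat.add 2630 PF54.length) 2678) = true := by decide +kernel

def PF55 : List DPf := [⟨8, 6, 177, [7, 12, 8, 13, 11, 12, 0, 2, 3, 4, 2, 1, 2, 0, 1, 3, 2, 0], [], [⟨1, 176, [7, 12, 8, 13, 11, 12]⟩, ⟨1, 1614, [8, 12, 7, 11, 12, 8, 11, 12, 11, 12]⟩, ⟨1, 134, []⟩, ⟨1, 1590, [12, 8, 11, 4, 11, 12, 13, 11, 4, 12]⟩]⟩,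
 ⟨4, 6, 2679, [], [⟨1, 2678, []⟩], []⟩,
 ⟨8, 6, 177, [4, 12, 13, 11, 4, 0, 2, 3, 4, 2, 1, 2, 0, 1, 3, 2, 0], [], [⟨1, 176, [4, 12, 13, 11, 4]⟩, ⟨1, 134, []⟩, ⟨1, 135, []⟩, ⟨1, 134, []⟩, ⟨1, 2449, [11, 2, 12, 7, 11, 12, 8, 13]⟩, ⟨1, 135, []⟩, ⟨1, 1952, [2, 4, 12, 7, 13, 11, 12, 8, 11, 12, 13]⟩]⟩,
 ⟨4, 6, 2681, [], [⟨1, 2680, []⟩], []⟩,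
 ⟨8, 6, 177, [4, 7, 12, 8, 11, 12, 0, 2, 3, 4, 2, 1, 2, 0, 1, 3, 2, 0], [], [⟨1, 176, [4, 7, 12, 8, 11, 12]⟩, ⟨1, 134, []⟩, ⟨1, 1424, [4, 12, 11, 12, 11, 13]⟩, ⟨1, 135, []⟩, ⟨1, 1426, [7, 13, 11, 2, 4, 12, 11, 12, 13]⟩]⟩,
 ⟨4, 6, 2683, [], [⟨1, 2682, []⟩], []⟩,
 ⟨8, 6, 177, [7, 11, 4, 12, 11, 4, 0, 2, 3, 4, 2, 1, 2, 0, 1, 3, 2, 0], [], [⟨1, 176, [7, 11, 4, 12, 11, 4]⟩, ⟨1, 135, []⟩, ⟨1, 1135, [4, 7, 12, 8, 13, 11, 12, 8, 11, 12]⟩, ⟨1, 134, []⟩, ⟨1, 135, []⟩, ⟨1, 134, []⟩, ⟨1, 1123, [11, 4, 11, 12, 8, 13, 11]⟩]⟩,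
 ⟨8, 6, 177, [8, 11, 12, 7, 11, 12, 0, 2, 3, 4, 2, 1, 2, 0, 1, 3, 2, 0], [], [⟨1, 176, [8, 11, 12, 7, 11, 12]⟩, ⟨1, 134, []⟩, ⟨1, 2520, [7, 12, 13, 11, 12, 8, 11, 12]⟩, ⟨1, 134, []⟩, ⟨1, 2347, [0, 4, 11, 13, 11, 4, 11, 12]⟩]⟩,
 ⟨4, 6, 2686, [], [⟨1, 2685, []⟩], []⟩,
 ⟨8, 6, 177, [8, 12, 7, 11, 4, 12, 0, 2, 3, 4, 2, 1, 2, 0, 1, 3, 2, 0], [], [⟨1, 176, [8, 12, 7, 11, 4, 12]⟩, ⟨1, 135, []⟩, ⟨1, 1135, [0, 4, 12, 11, 4, 13, 11, 12, 11]⟩, ⟨1, 2499, [12, 7, 12, 11, 12, 13, 11, 4, 11]⟩]⟩,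
 ⟨4, 6, 2688, [], [⟨1, 2687, []⟩], []⟩,
 ⟨8, 6, 177, [11, 4, 12, 8, 11, 12, 0, 2, 3, 4, 2, 1, 2, 0, 1, 3, 2, 0], [], [⟨1, 176, [11, 4, 12, 8, 11, 12]⟩, ⟨1, 135, []⟩, ⟨1, 1135, [0, 12, 11, 12, 13, 11, 4, 11, 12, 7]⟩, ⟨1, 134, []⟩, ⟨1, 135, []⟩, ⟨1, 1928, [11, 2, 12, 13, 11, 4, 11]⟩]⟩,
 ⟨4, 6, 2690, [], [⟨1, 2689, []⟩], []⟩,
 ⟨8, 6, 177, [0, 13, 11, 4, 11, 12, 0, 2, 3, 4, 2, 1, 2, 0, 1, 3, 2, 0], [], [⟨1, 176, [0, 13, 11, 4, 11, 12]⟩, ⟨1, 134, []⟩, ⟨1, 135, []⟩, ⟨1, 2055, [2, 7, 12, 13, 11, 12, 7, 12]⟩, ⟨1, 134, []⟩, ⟨1, 135, []⟩, ⟨1, 1854, [4, 12, 11, 4, 12, 8, 13, 11, 12]⟩]⟩,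
 ⟨4, 6, 2692, [], [⟨1, 2691, []⟩], []⟩,
 ⟨8, 6, 177, [4, 7, 12, 13, 11, 4, 0, 2, 3, 4, 2, 1, 2, 0, 1, 3, 2, 0], [], [⟨1, 176, [4, 7, 12, 13, 11, 4]⟩, ⟨1, 134, []⟩, ⟨1, 2204, [11, 12, 8, 11, 12, 7, 11, 12, 11]⟩, ⟨1, 134, []⟩, ⟨1, 1332, [7, 13, 11, 12, 11, 12, 8, 12, 13]⟩]⟩,
 ⟨4, 6, 2694, [], [⟨1, 2693, []⟩], []⟩,
 ⟨8, 6, 177, [0, 4, 8, 12, 13, 0, 2, 3, 4, 2, 1, 2, 0, 1, 3, 2, 0], [], [⟨1, 176, [0, 4, 8, 12, 13]⟩, ⟨1, 1614, [4, 11, 12, 7, 11, 12, 7, 11, 12, 7]⟩, ⟨1, 134, []⟩, ⟨1, 1408, [2, 12, 7, 11, 13, 11, 4, 12, 8, 11, 12]⟩]⟩,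
 ⟨4, 6, 2696, [], [⟨1, 2695, []⟩], []⟩,
 ⟨9, 6, 177, [8, 11, 4, 12, 13, 0, 2, 4, 1, 0, 2, 1, 3, 2, 0], [], [⟨1, 176, [8, 11, 4, 12, 13]⟩, ⟨1, 134, []⟩, ⟨1, 1349, [13, 11, 2, 12, 7, 11, 12, 11, 13, 11]⟩, ⟨1, 134, []⟩, ⟨1, 135, []⟩, ⟨1, 2650, [2, 12, 7, 13, 11, 12, 8, 12]⟩]⟩,
 ⟨4, 6, 2698, [], [⟨1, 2697, []⟩], []⟩,
 ⟨12, 6, 177, [11, 12, 13, 0, 2, 3, 1, 0, 2, 1, 2, 4, 3, 2, 0, 2, 0], [], [⟨1, 176, [11, 12, 13]⟩, ⟨1, 134, []⟩, ⟨1, 135, []⟩, ⟨1, 134, []⟩, ⟨1, 2346, [0, 4, 12, 7, 11, 12, 11, 13, 11, 12, 11]⟩, ⟨1, 2619, [0, 8, 11, 12, 11, 13, 11, 12, 8, 11]⟩]⟩,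
 ⟨4, 6, 2700, [], [⟨1, 2699, []⟩], []⟩,
 ⟨12, 6, 177, [12, 7, 11, 4, 12, 13, 0, 2, 3, 1, 0, 2, 1, 2, 4, 3, 2, 0, 2, 0], [], [⟨1, 176, [12, 7, 11, 4, 12, 13]⟩, ⟨1, 135, []⟩, ⟨1, 1573, [0, 4, 11, 12, 8, 11, 4, 11, 13]⟩, ⟨1, 135, []⟩, ⟨1, 134, []⟩, ⟨1, 1379, [2, 8, 11, 12, 11, 12, 13, 11, 4]⟩]⟩,
 ⟨4, 6, 2702, [], [⟨1, 2701, []⟩], []⟩,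
 ⟨12, 6, 177, [7, 11, 4, 12, 13, 11, 4, 12, 0, 2, 3, 1, 0, 2, 1, 2, 4, 3, 2, 0, 2, 0], [], [⟨1, 176, [7, 11, 4, 12, 13, 11, 4, 12]⟩, ⟨1, 134, []⟩, ⟨1, 1239, [4, 8, 11, 13, 11, 12, 8, 11]⟩, ⟨1, 134, []⟩, ⟨1, 1607, [8, 12, 8, 11, 4, 12, 13]⟩]⟩,
 ⟨4, 6, 2704, [], [⟨1, 2703, []⟩], []⟩,
 ⟨12, 6, 177, [12, 11, 13, 11, 4, 12, 0, 2, 3, 1, 0, 2, 1, 2, 4, 3, 2, 0, 2, 0], [], [⟨1, 176, [12, 11, 13, 11, 4, 12]⟩, ⟨1, 135, []⟩, ⟨1, 134, []⟩, ⟨1, 1993, [4, 12, 11, 12, 8, 12, 13, 11, 4, 11]⟩, ⟨1, 135, []⟩, ⟨1, 2587, [8, 12, 11, 2, 4, 11, 12, 13, 11]⟩]⟩,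
 ⟨4, 6, 2706, [], [⟨1, 2705, []⟩], []⟩,
 ⟨12, 6, 177, [0, 4, 8, 11, 13, 11, 12, 0, 2, 3, 1, 0, 2, 1, 2, 4, 3, 2, 0, 2, 0], [], [⟨1, 176, [0, 4, 8, 11, 13, 11, 12]⟩, ⟨1, 1721, [2, 8, 13, 11, 12, 11, 4, 13, 11]⟩, ⟨1, 1643, [2, 4, 12, 8, 11, 12, 8, 11, 4, 12]⟩]⟩,
 ⟨4, 6, 2708, [], [⟨1, 2707, []⟩], []⟩,
 ⟨12, 6, 177, [8, 11, 4, 12, 13, 11, 4, 12, 0, 2, 3, 1, 0, 2, 1, 2, 4, 3, 2, 0, 2, 0], [], [⟨1, 176, [8, 11, 4, 12, 13, 11, 4, 12]⟩, ⟨1, 2627, [2, 13, 11, 12, 8, 12, 11]⟩, ⟨1, 134, []⟩, ⟨1, 135, []⟩, ⟨1, 134, []⟩, ⟨1, 1569, [11, 12, 11, 4, 11, 12, 13, 11, 4]⟩]⟩,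
 ⟨4, 6, 2710, [], [⟨1, 2709, []⟩], []⟩,
 ⟨12, 6, 177, [4, 7, 12, 11, 12, 0, 2, 3, 1, 0, 2, 1, 2, 4, 3, 2, 0, 2, 0], [], [⟨1, 176, [4, 7, 12, 11, 12]⟩, ⟨1, 1864, [4, 8, 11, 13, 11, 4, 11, 4, 13, 11]⟩, ⟨1, 1324, [4, 8, 11, 12, 7, 11, 4, 13]⟩]⟩,
 ⟨4, 6, 2712, [], [⟨1, 2711, []⟩], []⟩,
 ⟨12, 6, 177, [0, 8, 11, 4, 13, 11, 12, 0, 2, 3, 1, 0, 2, 1, 2, 4, 3, 2, 0, 2, 0], [], [⟨1, 176, [0, 8, 11, 4, 13, 11, 12]⟩, ⟨1, 134, []⟩, ⟨1, 135, []⟩, ⟨1, 2652, [0, 4, 12, 7, 13]⟩, ⟨1, 135, []⟩, ⟨1, 134, []⟩, ⟨1, 2077, [2, 4, 7, 11, 13, 11, 12, 7, 11, 13]⟩]⟩,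
 ⟨4, 6, 2714, [], [⟨1, 2713, []⟩], []⟩,
 ⟨12, 6, 177, [0, 7, 11, 12, 13, 11, 4, 0, 2, 3, 1, 0, 2, 1, 2, 4, 3, 2, 0, 2, 0], [], [⟨1, 176, [0, 7, 11, 12, 13, 11, 4]⟩, ⟨1, 134, []⟩, ⟨1, 135, []⟩, ⟨1, 134, []⟩, ⟨1, 448, [4, 11, 2, 12, 8, 11, 4, 11, 12]⟩, ⟨1, 90, []⟩, ⟨1, 90, []⟩, ⟨1, 90, []⟩, ⟨1, 575, [2, 12, 8, 11, 12, 11, 4, 13]⟩]⟩,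
 ⟨4, 6, 2716, [], [⟨1, 2715, []⟩], []⟩,
 ⟨13, 6, 177, [8, 12, 7, 11, 4, 12, 0, 2, 3, 1, 2, 0, 1, 3, 2, 0], [], [⟨1, 176, [8, 12, 7, 11, 4, 12]⟩, ⟨1, 135, []⟩, ⟨1, 1135, [12, 13, 11, 12, 11, 4, 13]⟩, ⟨1, 135, []⟩, ⟨1, 1554, [2, 12, 7, 13, 11, 12, 11, 4]⟩]⟩,
 ⟨13, 6, 177, [4, 8, 13, 11, 12, 0, 2, 3, 1, 2, 0, 1, 3, 2, 0], [], [⟨1, 176, [4, 8, 13, 11, 12]⟩, ⟨1, 1614, [2, 8, 11, 13, 11, 4, 11, 12, 7, 11, 12]⟩, ⟨1, 135, []⟩, ⟨1, 1992, [0, 4, 11, 12, 13]⟩]⟩,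
 ⟨4, 6, 2719, [], [⟨1, 2718, []⟩], []⟩,
 ⟨15, 6, 177, [8, 0, 2, 5, 2, 0], [], [⟨1, 176, [8]⟩, ⟨1, 134, []⟩, ⟨1, 135, []⟩, ⟨1, 2409, [0, 12, 7, 13, 11, 12, 11, 12, 7]⟩]⟩,
 ⟨4, 6, 2721, [], [⟨1, 2720, []⟩], []⟩,
 ⟨17, 6, 177, [12, 8, 13, 5, 5, 3, 6, 6, 2, 0], [], [⟨1, 176, [12, 8, 13]⟩, ⟨1, 135, []⟩, ⟨1, 134, []⟩, ⟨1, 1678, [13, 11, 12, 8, 12, 11, 4, 12, 11]⟩, ⟨1, 135, []⟩, ⟨1, 1095, [7, 11, 4, 11, 4, 13, 11, 12, 8]⟩]⟩,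
 ⟨4, 6, 2723, [], [⟨1, 2722, []⟩], []⟩]
theorem chk55 : and2 (D.chkL PF55 2678) (Nat.beq (Nat.add 2678 PF55.length) 2724) = true := by decide +kernel

def PF56 : List DPf := [⟨17, 6, 177, [8, 13, 5, 5, 3, 6, 6, 2, 0], [], [⟨1, 176, [8, 13]⟩, ⟨1, 1800, [7, 12, 8, 11, 12, 8, 11, 12, 13]⟩, ⟨1, 2297, [0, 4, 12, 11, 12, 7, 12, 13, 11, 4]⟩]⟩,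
 ⟨4, 6, 2725, [], [⟨1, 2724, []⟩], []⟩,
 ⟨17, 6, 177, [7, 13, 5, 5, 3, 6, 6, 2, 0], [], [⟨1, 176, [7, 13]⟩, ⟨1, 135, []⟩, ⟨1, 1355, [11, 4, 12, 7, 11, 12, 8, 12, 13, 11]⟩, ⟨1, 1590, [2, 4, 11, 12, 8, 11, 12, 11, 4, 12]⟩]⟩,
 ⟨4, 6, 2727, [], [⟨1, 2726, []⟩], []⟩,
 ⟨17, 6, 177, [4, 12, 8, 13, 5, 5, 3, 6, 6, 2, 0], [], [⟨1, 176, [4, 12, 8, 13]⟩, ⟨1, 134, []⟩, ⟨1, 135, []⟩, ⟨1, 1703, [12, 11, 4, 13, 11, 4, 11, 12]⟩, ⟨1, 135, []⟩, ⟨1, 1264, [7, 12, 11, 12, 7, 11, 12, 11, 13]⟩]⟩,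
 ⟨4, 6, 2729, [], [⟨1, 2728, []⟩], []⟩,
 ⟨17, 6, 177, [8, 11, 12, 13, 5, 5, 3, 6, 6, 2, 0], [], [⟨1, 176, [8, 11, 12, 13]⟩, ⟨1, 1830, [12, 8, 12, 11, 2]⟩, ⟨1, 134, []⟩, ⟨1, 135, []⟩, ⟨1, 134, []⟩, ⟨1, 2584, [0, 13, 11, 12, 8, 12, 11, 4, 13]⟩]⟩,
 ⟨4, 6, 2731, [], [⟨1, 2730, []⟩], []⟩,
 ⟨7, 6, 183, [4, 7, 12, 3, 1, 0, 2, 1, 3, 2, 0], [], [⟨1, 182, [4, 7, 12]⟩, ⟨1, 134, []⟩, ⟨1, 135, []⟩, ⟨1, 1377, [4, 13, 11, 2, 12, 8, 12, 11, 12]⟩, ⟨1, 2175, [2, 8, 11, 12, 11, 4, 11, 4, 13]⟩]⟩,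
 ⟨4, 6, 2733, [], [⟨1, 2732, []⟩], []⟩,
 ⟨7, 6, 183, [0, 8, 11, 12, 13, 11, 4, 3, 1, 0, 2, 1, 3, 2, 0], [], [⟨1, 182, [0, 8, 11, 12, 13, 11, 4]⟩, ⟨1, 134, []⟩, ⟨1, 135, []⟩, ⟨1, 134, []⟩, ⟨1, 1928, [4, 8, 11, 12, 11, 13, 11]⟩, ⟨1, 134, []⟩, ⟨1, 135, []⟩, ⟨1, 134, []⟩, ⟨1, 831, [7, 12, 8, 11, 4, 12, 11, 12, 8, 13]⟩]⟩,
 ⟨4, 6, 2735, [], [⟨1, 2734, []⟩], []⟩,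
 ⟨7, 6, 183, [4, 11, 4, 11, 12, 13, 3, 1, 0, 2, 1, 3, 2, 0], [], [⟨1, 182, [4, 11, 4, 11, 12, 13]⟩, ⟨1, 135, []⟩, ⟨1, 1928, [13, 11, 4, 12, 7, 11, 12, 11, 13, 11]⟩, ⟨1, 1935, [0, 4, 12, 11, 12, 13, 11, 4, 11, 12, 8]⟩]⟩,
 ⟨4, 6, 2737, [], [⟨1, 2736, []⟩], []⟩,
 ⟨7, 6, 183, [4, 8, 11, 13, 11, 4, 12, 3, 1, 0, 2, 1, 3, 2, 0], [], [⟨1, 182, [4, 8, 11, 13, 11, 4, 12]⟩, ⟨1, 1250, [12, 11, 4, 12, 7, 11, 13, 11, 12, 7]⟩, ⟨1, 135, []⟩, ⟨1, 2459, [8, 12, 11, 12, 13, 11, 4, 12, 7]⟩]⟩,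
 ⟨4, 6, 2739, [], [⟨1, 2738, []⟩], []⟩,
 ⟨7, 6, 183, [4, 8, 12, 7, 11, 12, 3, 1, 0, 2, 1, 3, 2, 0], [], [⟨1, 182, [4, 8, 12, 7, 11, 12]⟩, ⟨1, 134, []⟩, ⟨1, 135, []⟩, ⟨1, 1703, [4, 11, 13, 11, 12, 7, 11, 4, 11, 4]⟩, ⟨1, 134, []⟩, ⟨1, 1663, [4, 11, 4, 12, 7, 11, 12, 8, 11, 4]⟩]⟩,
 ⟨4, 6, 2741, [], [⟨1, 2740, []⟩], []⟩,
 ⟨7, 6, 183, [12, 8, 11, 4, 12, 13, 3, 1, 0, 2, 1, 3, 2, 0], [], [⟨1, 182, [12, 8, 11, 4, 12, 13]⟩, ⟨1, 134, []⟩, ⟨1, 135, []⟩, ⟨1, 134, []⟩, ⟨1, 1629, [2, 11, 12, 7, 12, 11, 13]⟩, ⟨1, 135, []⟩, ⟨1, 134, []⟩, ⟨1, 2713, [2, 7, 12, 11, 12, 8, 11, 4, 11, 12]⟩]⟩,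
 ⟨4, 6, 2743, [], [⟨1, 2742, []⟩], []⟩,
 ⟨7, 6, 183, [11, 4, 13, 11, 4, 12, 11, 12, 3, 1, 0, 2, 1, 3, 2, 0], [], [⟨1, 182, [11, 4, 13, 11, 4, 12, 11, 12]⟩, ⟨1, 135, []⟩, ⟨1, 510, [8, 11, 4, 11, 12]⟩, ⟨1, 86, []⟩, ⟨1, 90, []⟩, ⟨1, 87, []⟩, ⟨1, 90, []⟩, ⟨1, 537, [8, 12, 11, 4, 12, 11, 13, 11, 12]⟩]⟩,
 ⟨4, 6, 2745, [], [⟨1, 2744, []⟩], []⟩,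
 ⟨7, 6, 183, [7, 11, 4, 12, 3, 1, 0, 2, 1, 3, 2, 0], [], [⟨1, 182, [7, 11, 4, 12]⟩, ⟨1, 134, []⟩, ⟨1, 135, []⟩, ⟨1, 2582, [7, 12, 11, 4, 11, 13, 11, 4, 11]⟩, ⟨1, 134, []⟩, ⟨1, 135, []⟩, ⟨1, 2312, [4, 11, 12, 8, 11, 12, 7, 13, 11, 4]⟩]⟩,
 ⟨4, 6, 2747, [], [⟨1, 2746, []⟩], []⟩,
 ⟨7, 6, 183, [4, 12, 13, 3, 1, 0, 2, 1, 3, 2, 0], [], [⟨1, 182, [4, 12, 13]⟩, ⟨1, 134, []⟩, ⟨1, 135, []⟩, ⟨1, 2571, [0, 13, 11, 4, 11, 4, 12, 13, 11, 12]⟩, ⟨1, 2589, [8, 12, 11, 13, 11, 4, 11, 12, 7]⟩]⟩,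
 ⟨4, 6, 2749, [], [⟨1, 2748, []⟩], []⟩,
 ⟨7, 6, 183, [7, 13, 11, 4, 11, 12, 3, 1, 0, 2, 1, 3, 2, 0], [], [⟨1, 182, [7, 13, 11, 4, 11, 12]⟩, ⟨1, 134, []⟩, ⟨1, 343, [0, 7, 11, 13, 11, 4, 11, 4, 12, 8]⟩, ⟨1, 77, []⟩, ⟨1, 78, []⟩, ⟨1, 81, []⟩, ⟨1, 126, []⟩, ⟨1, 397, [12, 7, 11, 13, 11, 4, 11, 12]⟩]⟩,
 ⟨4, 6, 2751, [], [⟨1, 2750, []⟩], []⟩,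
 ⟨8, 6, 183, [0, 7, 11, 12, 13, 0, 2, 3, 4, 2, 1, 2, 0, 1, 3, 2, 0], [], [⟨1, 182, [0, 7, 11, 12, 13]⟩, ⟨1, 134, []⟩, ⟨1, 135, []⟩, ⟨1, 1367, [4, 12, 11, 12, 8, 11, 4, 11, 13]⟩, ⟨1, 135, []⟩, ⟨1, 2589, [2, 8, 11, 4, 11, 4, 13, 11, 12, 8]⟩]⟩,
 ⟨8, 6, 183, [4, 8, 11, 12, 13, 0, 2, 3, 4, 2, 1, 2, 0, 1, 3, 2, 0], [], [⟨1, 182, [4, 8, 11, 12, 13]⟩, ⟨1, 1874, [8, 12, 11, 4, 11, 12, 13]⟩, ⟨1, 134, []⟩, ⟨1, 1439, [2, 12, 8, 12, 11, 12, 11, 13, 11]⟩]⟩,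
 ⟨4, 6, 2754, [], [⟨1, 2753, []⟩], []⟩,
 ⟨8, 6, 183, [7, 12, 11, 4, 12, 13, 0, 2, 3, 4, 2, 1, 2, 0, 1, 3, 2, 0], [], [⟨1, 182, [7, 12, 11, 4, 12, 13]⟩, ⟨1, 134, []⟩, ⟨1, 135, []⟩, ⟨1, 1657, [8, 11, 12, 11, 13, 11, 4, 11, 13]⟩, ⟨1, 134, []⟩, ⟨1, 135, []⟩, ⟨1, 134, []⟩, ⟨1, 2460, [7, 13, 11, 2, 4]⟩]⟩,
 ⟨4, 6, 2756, [], [⟨1, 2755, []⟩], []⟩,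
 ⟨8, 6, 183, [4, 7, 12, 13, 11, 4, 0, 2, 3, 4, 2, 1, 2, 0, 1, 3, 2, 0], [], [⟨1, 182, [4, 7, 12, 13, 11, 4]⟩, ⟨1, 135, []⟩, ⟨1, 1584, [8, 11, 2, 13, 11, 12, 8, 11, 13]⟩, ⟨1, 1546, [4, 7, 11, 4, 13, 11, 12, 8, 12]⟩]⟩,
 ⟨4, 6, 2758, [], [⟨1, 2757, []⟩], []⟩,
 ⟨8, 6, 183, [4, 12, 7, 11, 12, 13, 0, 2, 3, 4, 2, 1, 2, 0, 1, 3, 2, 0], [], [⟨1, 182, [4, 12, 7, 11, 12, 13]⟩, ⟨1, 134, []⟩, ⟨1, 135, []⟩, ⟨1, 1367, [4, 8, 12, 11, 4, 11, 12, 13]⟩, ⟨1, 134, []⟩, ⟨1, 135, []⟩, ⟨1, 134, []⟩, ⟨1, 2123, [11, 2, 4, 11, 13, 11, 12, 8, 11]⟩]⟩,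
 ⟨4, 6, 2760, [], [⟨1, 2759, []⟩], []⟩,
 ⟨12, 6, 183, [0, 4, 8, 12, 13, 11, 4, 0, 2, 3, 1, 0, 2, 1, 2, 4, 3, 2, 0, 2, 0], [], [⟨1, 182, [0, 4, 8, 12, 13, 11, 4]⟩, ⟨1, 134, []⟩, ⟨1, 135, []⟩, ⟨1, 134, []⟩, ⟨1, 1728, [4, 7, 12, 11, 13, 11, 4, 11, 4]⟩, ⟨1, 134, []⟩, ⟨1, 135, []⟩, ⟨1, 1147, [4, 12, 8, 11, 13, 11, 4, 11]⟩]⟩,
 ⟨4, 6, 2762, [], [⟨1, 2761, []⟩], []⟩,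
 ⟨12, 6, 183, [2, 4, 12, 11, 4, 0, 2, 3, 1, 0, 2, 1, 2, 4, 3, 2, 0, 2, 0], [], [⟨1, 182, [2, 4, 12, 11, 4]⟩, ⟨1, 1733, [2, 8, 11, 12, 7, 11, 12, 7, 13, 11]⟩, ⟨1, 134, []⟩, ⟨1, 1530, [0, 4, 12, 11, 12, 13, 11, 4, 11, 12, 8]⟩]⟩,
 ⟨4, 6, 2764, [], [⟨1, 2763, []⟩], []⟩,
 ⟨12, 6, 183, [7, 11, 12, 13, 11, 4, 0, 2, 3, 1, 0, 2, 1, 2, 4, 3, 2, 0, 2, 0], [], [⟨1, 182, [7, 11, 12, 13, 11, 4]⟩, ⟨1, 134, []⟩, ⟨1, 135, []⟩, ⟨1, 1669, [2, 8, 11, 4, 13, 11, 12, 11, 13]⟩, ⟨1, 134, []⟩, ⟨1, 135, []⟩, ⟨1, 2542, [2, 12, 8, 12, 13, 11, 12, 8]⟩]⟩,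
 ⟨4, 6, 2766, [], [⟨1, 2765, []⟩], []⟩,
 ⟨12, 6, 183, [0, 7, 11, 12, 13, 11, 4, 0, 2, 3, 1, 0, 2, 1, 2, 4, 3, 2, 0, 2, 0], [], [⟨1, 182, [0, 7, 11, 12, 13, 11, 4]⟩, ⟨1, 135, []⟩, ⟨1, 1509, [11, 13, 11, 4, 11, 12, 7, 12, 11]⟩, ⟨1, 135, []⟩, ⟨1, 833, [4, 13, 11, 4, 11, 12, 8, 13, 11, 4]⟩]⟩,
 ⟨4, 6, 2768, [], [⟨1, 2767, []⟩], []⟩,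
 ⟨13, 6, 183, [2, 12, 7, 11, 12, 0, 2, 3, 1, 2, 0, 1, 3, 2, 0], [], [⟨1, 182, [2, 12, 7, 11, 12]⟩, ⟨1, 135, []⟩, ⟨1, 134, []⟩, ⟨1, 1668, [11, 2, 4, 11, 13, 11, 12, 7, 12]⟩, ⟨1, 135, []⟩, ⟨1, 134, []⟩, ⟨1, 1580, [0, 8, 12, 11, 4, 12, 8, 11, 13, 11]⟩]⟩,
 ⟨4, 6, 2770, [], [⟨1, 2769, []⟩], []⟩]
theorem chk56 : and2 (D.chkL PF56 2724) (Nat.beq (Nat.add 2724 PF56.length) 2771) = true := by decide +kernel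

def PF57 : List DPf := [⟨13, 6, 183, [7, 12, 0, 2, 3, 1, 2, 0, 1, 3, 2, 0], [], [⟨1, 182, [7, 12]⟩, ⟨1, 135, []⟩, ⟨1, 2328, [0, 4, 11, 12, 8, 13, 11, 12, 7, 11, 12]⟩, ⟨1, 134, []⟩, ⟨1, 2295, [0, 4, 7, 11, 13, 11, 4, 12, 11, 13]⟩]⟩,
 ⟨4, 6, 2772, [], [⟨1, 2771, []⟩], []⟩,
 ⟨13, 6, 183, [2, 7, 12, 0, 2, 3, 1, 2, 0, 1, 3, 2, 0], [], [⟨1, 182, [2, 7, 12]⟩, ⟨1, 135, []⟩, ⟨1, 2328, [2, 8, 12, 11, 4, 12, 7, 13, 11, 4]⟩, ⟨1, 1195, [8, 13, 11, 4, 11, 4, 12, 11]⟩]⟩,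
 ⟨4, 6, 2774, [], [⟨1, 2773, []⟩], []⟩,
 ⟨13, 6, 183, [4, 12, 7, 11, 13, 11, 12, 0, 2, 3, 1, 2, 0, 1, 3, 2, 0], [], [⟨1, 182, [4, 12, 7, 11, 13, 11, 12]⟩, ⟨1, 134, []⟩, ⟨1, 135, []⟩, ⟨1, 1367, [2, 4, 12, 7, 11, 12, 7, 11, 4, 12]⟩, ⟨1, 134, []⟩, ⟨1, 135, []⟩, ⟨1, 134, []⟩, ⟨1, 2383, [2, 11, 4, 12, 8, 11, 4, 12, 11, 4]⟩]⟩,
 ⟨4, 6, 2776, [], [⟨1, 2775, []⟩], []⟩,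
 ⟨17, 6, 183, [4, 7, 12, 8, 13, 5, 5, 3, 6, 6, 2, 0], [], [⟨1, 182, [4, 7, 12, 8, 13]⟩, ⟨1, 134, []⟩, ⟨1, 2582, [0, 4, 8, 11, 13, 11, 4, 11, 13]⟩, ⟨1, 135, []⟩, ⟨1, 134, []⟩, ⟨1, 2375, [0, 4, 8, 12, 11, 13, 11, 4, 12, 8, 11]⟩]⟩,
 ⟨4, 6, 2778, [], [⟨1, 2777, []⟩], []⟩,
 ⟨17, 6, 183, [7, 13, 5, 5, 3, 6, 6, 2, 0], [], [⟨1, 182, [7, 13]⟩, ⟨1, 135, []⟩, ⟨1, 1018, [2, 7, 11, 12, 11, 13, 11, 4, 11, 12]⟩, ⟨1, 135, []⟩, ⟨1, 1412, [2, 7, 12, 11, 12, 8, 11, 12, 11, 4]⟩]⟩,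
 ⟨17, 6, 183, [7, 11, 4, 12, 8, 13, 5, 5, 3, 6, 6, 2, 0], [], [⟨1, 182, [7, 11, 4, 12, 8, 13]⟩, ⟨1, 134, []⟩, ⟨1, 135, []⟩, ⟨1, 2278, [4, 8, 11, 12, 8, 13, 11, 4, 11, 12]⟩, ⟨1, 2385, [2, 4, 11, 12, 11, 12, 7, 13]⟩]⟩,
 ⟨4, 6, 2781, [], [⟨1, 2780, []⟩], []⟩,
 ⟨17, 6, 183, [7, 11, 12, 13, 5, 5, 3, 6, 6, 2, 0], [], [⟨1, 182, [7, 11, 12, 13]⟩, ⟨1, 135, []⟩, ⟨1, 2196, [0, 11, 13, 11, 4, 12, 8, 11, 4, 13]⟩, ⟨1, 135, []⟩, ⟨1, 134, []⟩, ⟨1, 1451, [7, 11, 4, 11, 13, 11, 12, 11, 13]⟩]⟩,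
 ⟨4, 6, 2783, [], [⟨1, 2782, []⟩], []⟩,
 ⟨7, 6, 178, [0, 4, 12, 13, 11, 12, 3, 1, 0, 2, 1, 3, 2, 0], [], [⟨1, 177, [0, 4, 12, 13, 11, 12]⟩, ⟨1, 2441, [12, 7, 11, 2, 12, 7, 11, 12, 7, 13]⟩, ⟨1, 2691, [2, 7, 11, 4, 11, 12, 8, 12, 11, 13]⟩]⟩,
 ⟨4, 6, 2785, [], [⟨1, 2784, []⟩], []⟩,
 ⟨7, 6, 178, [2, 7, 12, 7, 11, 12, 3, 1, 0, 2, 1, 3, 2, 0], [], [⟨1, 177, [2, 7, 12, 7, 11, 12]⟩, ⟨1, 134, []⟩, ⟨1, 135, []⟩, ⟨1, 134, []⟩, ⟨1, 1986, [8, 11, 13, 11, 12, 11, 4, 12, 11, 13]⟩, ⟨1, 135, []⟩, ⟨1, 2407, [8, 11, 4, 12, 11]⟩]⟩,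
 ⟨4, 6, 2787, [], [⟨1, 2786, []⟩], []⟩,
 ⟨7, 6, 178, [0, 8, 11, 12, 13, 11, 4, 3, 1, 0, 2, 1, 3, 2, 0], [], [⟨1, 177, [0, 8, 11, 12, 13, 11, 4]⟩, ⟨1, 135, []⟩, ⟨1, 134, []⟩, ⟨1, 1519, [7, 12, 7, 11, 12, 7, 11, 12, 13]⟩, ⟨1, 135, []⟩, ⟨1, 2507, [4, 8, 11, 13, 11, 4]⟩]⟩,
 ⟨4, 6, 2789, [], [⟨1, 2788, []⟩], []⟩,
 ⟨7, 6, 178, [11, 4, 12, 13, 11, 4, 12, 3, 1, 0, 2, 1, 3, 2, 0], [], [⟨1, 177, [11, 4, 12, 13, 11, 4, 12]⟩, ⟨1, 134, []⟩, ⟨1, 135, []⟩, ⟨1, 134, []⟩, ⟨1, 634, [2, 12, 11, 4, 11, 13, 11, 4]⟩, ⟨1, 87, []⟩, ⟨1, 86, []⟩, ⟨1, 557, [2, 4, 8, 12, 11, 12, 8, 11, 12, 13]⟩]⟩,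
 ⟨4, 6, 2791, [], [⟨1, 2790, []⟩], []⟩,
 ⟨7, 6, 178, [8, 11, 12, 13, 11, 4, 3, 1, 0, 2, 1, 3, 2, 0], [], [⟨1, 177, [8, 11, 12, 13, 11, 4]⟩, ⟨1, 135, []⟩, ⟨1, 588, [7, 13, 11, 2, 4, 11, 12, 13, 11]⟩, ⟨1, 39, []⟩, ⟨1, 43, []⟩, ⟨1, 42, []⟩, ⟨1, 46, []⟩, ⟨1, 68, []⟩, ⟨1, 68, []⟩, ⟨1, 591, [8, 12, 8, 11, 12, 7, 13, 11, 4]⟩]⟩,
 ⟨4, 6, 2793, [], [⟨1, 2792, []⟩], []⟩,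
 ⟨7, 6, 178, [4, 12, 8, 13, 11, 12, 3, 1, 0, 2, 1, 3, 2, 0], [], [⟨1, 177, [4, 12, 8, 13, 11, 12]⟩, ⟨1, 134, []⟩, ⟨1, 135, []⟩, ⟨1, 134, []⟩, ⟨1, 826, [4, 7, 12, 11, 4, 13, 11, 12, 7]⟩, ⟨1, 135, []⟩, ⟨1, 1696, [0, 12, 13, 11, 12, 8, 12, 11, 13]⟩]⟩,
 ⟨4, 6, 2795, [], [⟨1, 2794, []⟩], []⟩,
 ⟨7, 6, 178, [0, 4, 13, 11, 4, 12, 3, 1, 0, 2, 1, 3, 2, 0], [], [⟨1, 177, [0, 4, 13, 11, 4, 12]⟩, ⟨1, 135, []⟩, ⟨1, 134, []⟩, ⟨1, 937, [4, 7, 12, 11, 4, 13, 11, 12, 7]⟩, ⟨1, 134, []⟩, ⟨1, 1133, [2, 4, 12, 11, 12, 7, 12, 11, 4]⟩]⟩,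
 ⟨4, 6, 2797, [], [⟨1, 2796, []⟩], []⟩,
 ⟨7, 6, 178, [0, 8, 12, 7, 11, 12, 13, 3, 1, 0, 2, 1, 3, 2, 0], [], [⟨1, 177, [0, 8, 12, 7, 11, 12, 13]⟩, ⟨1, 134, []⟩, ⟨1, 135, []⟩, ⟨1, 161, [8, 12, 7, 11, 4, 13, 11, 4]⟩, ⟨1, 1468, [4, 12, 11, 12, 11, 13, 11, 12, 11]⟩]⟩,
 ⟨4, 6, 2799, [], [⟨1, 2798, []⟩], []⟩,
 ⟨7, 6, 178, [11, 4, 13, 11, 4, 12, 3, 1, 0, 2, 1, 3, 2, 0], [], [⟨1, 177, [11, 4, 13, 11, 4, 12]⟩, ⟨1, 1581, [2, 4, 8, 11, 12, 8, 13, 11, 12, 8, 11]⟩, ⟨1, 134, []⟩, ⟨1, 135, []⟩, ⟨1, 2033, [2, 8, 12, 7, 11, 12, 7, 11, 4, 13]⟩]⟩,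
 ⟨7, 6, 178, [4, 11, 12, 3, 1, 0, 2, 1, 3, 2, 0], [], [⟨1, 177, [4, 11, 12]⟩, ⟨1, 2216, [0, 12, 11, 12, 8, 12, 13, 11, 4, 11]⟩, ⟨1, 134, []⟩, ⟨1, 927, [0, 4, 7, 11, 12, 8, 11, 12, 11, 13]⟩]⟩,
 ⟨4, 6, 2802, [], [⟨1, 2801, []⟩], []⟩,
 ⟨8, 6, 178, [4, 12, 13, 11, 4, 0, 2, 3, 4, 2, 1, 2, 0, 1, 3, 2, 0], [], [⟨1, 177, [4, 12, 13, 11, 4]⟩, ⟨1, 134, []⟩, ⟨1, 135, []⟩, ⟨1, 1763, [0, 4, 12, 8, 11, 12, 7, 11, 12]⟩, ⟨1, 135, []⟩, ⟨1, 164, [13, 11, 12, 7, 11, 12, 11, 4, 12, 7]⟩]⟩,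
 ⟨4, 6, 2804, [], [⟨1, 2803, []⟩], []⟩,
 ⟨8, 6, 178, [8, 11, 12, 11, 4, 0, 2, 3, 4, 2, 1, 2, 0, 1, 3, 2, 0], [], [⟨1, 177, [8, 11, 12, 11, 4]⟩, ⟨1, 135, []⟩, ⟨1, 977, [0, 4, 7, 11, 13, 11, 4, 11, 12, 7]⟩, ⟨1, 135, []⟩, ⟨1, 1631, [12, 7, 12, 11, 4, 11, 12, 8]⟩]⟩,
 ⟨4, 6, 2806, [], [⟨1, 2805, []⟩], []⟩,
 ⟨8, 6, 178, [2, 8, 11, 4, 12, 0, 2, 3, 4, 2, 1, 2, 0, 1, 3, 2, 0], [], [⟨1, 177, [2, 8, 11, 4, 12]⟩, ⟨1, 135, []⟩, ⟨1, 977, [11, 2, 12, 8, 12, 11, 13]⟩, ⟨1, 134, []⟩, ⟨1, 2572, [4, 7, 11, 4, 12, 8, 13]⟩]⟩,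
 ⟨8, 6, 178, [4, 11, 12, 11, 4, 0, 2, 3, 4, 2, 1, 2, 0, 1, 3, 2, 0], [], [⟨1, 177, [4, 11, 12, 11, 4]⟩, ⟨1, 134, []⟩, ⟨1, 548, [8, 11, 2, 12, 7, 11, 4, 11, 12, 13]⟩, ⟨1, 86, []⟩, ⟨1, 87, []⟩, ⟨1, 445, [0, 7, 11, 4, 12, 11, 12, 13, 11, 4]⟩]⟩,
 ⟨4, 6, 2809, [], [⟨1, 2808, []⟩], []⟩,
 ⟨8, 6, 178, [0, 13, 11, 4, 11, 12, 0, 2, 3, 4, 2, 1, 2, 0, 1, 3, 2, 0], [], [⟨1, 177, [0, 13, 11, 4, 11, 12]⟩, ⟨1, 135, []⟩, ⟨1, 1396, [2, 11, 4, 11, 12, 8, 12, 11, 13]⟩, ⟨1, 2473, [13, 11, 12, 7]⟩]⟩,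
 ⟨4, 6, 2811, [], [⟨1, 2810, []⟩], []⟩,
 ⟨12, 6, 178, [2, 4, 12, 11, 4, 0, 2, 3, 1, 0, 2, 1, 2, 4, 3, 2, 0, 2, 0], [], [⟨1, 177, [2, 4, 12, 11, 4]⟩, ⟨1, 134, []⟩, ⟨1, 738, [12, 11, 13, 11, 12, 7, 11, 4, 12]⟩, ⟨1, 86, []⟩, ⟨1, 90, []⟩, ⟨1, 90, []⟩, ⟨1, 90, []⟩, ⟨1, 322, [11, 12, 13, 11, 4, 11, 12, 11]⟩]⟩,
 ⟨4, 6, 2813, [], [⟨1, 2812, []⟩], []⟩,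
 ⟨12, 6, 178, [4, 7, 11, 4, 12, 0, 2, 3, 1, 0, 2, 1, 2, 4, 3, 2, 0, 2, 0], [], [⟨1, 177, [4, 7, 11, 4, 12]⟩, ⟨1, 134, []⟩, ⟨1, 135, []⟩, ⟨1, 2296, [2, 4, 11, 4, 12, 13, 11, 4, 12, 8]⟩, ⟨1, 134, []⟩, ⟨1, 135, []⟩, ⟨1, 2560, [0, 8, 11, 4, 11, 12, 8, 11, 13]⟩]⟩,
 ⟨4, 6, 2815, [], [⟨1, 2814, []⟩], []⟩]
theorem chk57 : and2 (D.chkL PF57 2771) (Nat.beq (Nat.add 2771 PF57.length) 2816) = true := by decide +kernel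

def PF58 : List DPf := [⟨13, 6, 178, [0, 4, 13, 11, 4, 12, 0, 2, 3, 1, 2, 0, 1, 3, 2, 0], [], [⟨1, 177, [0, 4, 13, 11, 4, 12]⟩, ⟨1, 134, []⟩, ⟨1, 135, []⟩, ⟨1, 1763, [2, 11, 12, 11, 13]⟩, ⟨1, 134, []⟩, ⟨1, 135, []⟩, ⟨1, 2183, [12, 7, 11, 2, 13, 11, 12, 8, 11]⟩]⟩,
 ⟨4, 6, 2817, [], [⟨1, 2816, []⟩], []⟩,
 ⟨13, 6, 178, [4, 12, 11, 4, 0, 2, 3, 1, 2, 0, 1, 3, 2, 0], [], [⟨1, 177, [4, 12, 11, 4]⟩, ⟨1, 134, []⟩, ⟨1, 548, [4, 11, 4, 12, 7, 11, 12, 8, 11, 4, 12, 11]⟩, ⟨1, 86, []⟩, ⟨1, 87, []⟩, ⟨1, 86, []⟩, ⟨1, 90, []⟩, ⟨1, 86, []⟩, ⟨1, 262, [12, 8, 11, 4, 12]⟩]⟩,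
 ⟨4, 6, 2819, [], [⟨1, 2818, []⟩], []⟩,
 ⟨17, 6, 178, [12, 7, 12, 13, 5, 5, 3, 6, 6, 2, 0], [], [⟨1, 177, [12, 7, 12, 13]⟩, ⟨1, 134, []⟩, ⟨1, 135, []⟩, ⟨1, 134, []⟩, ⟨1, 2334, [0, 4, 11, 12, 13, 11, 4, 12, 11, 4, 13, 11]⟩, ⟨1, 1264, [7, 11, 12, 11, 4, 12, 7, 11, 12, 13]⟩]⟩,
 ⟨4, 6, 2821, [], [⟨1, 2820, []⟩], []⟩,
 ⟨7, 6, 184, [4, 7, 13, 11, 12, 3, 1, 0, 2, 1, 3, 2, 0], [], [⟨1, 183, [4, 7, 13, 11, 12]⟩, ⟨1, 134, []⟩, ⟨1, 135, []⟩, ⟨1, 134, []⟩, ⟨1, 901, [12, 8, 11, 12, 13, 11, 12, 7, 12, 11]⟩, ⟨1, 134, []⟩, ⟨1, 135, []⟩, ⟨1, 2186, [2, 8, 12, 11, 4, 12, 7, 13, 11, 4]⟩]⟩,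
 ⟨4, 6, 2823, [], [⟨1, 2822, []⟩], []⟩,
 ⟨7, 6, 184, [4, 11, 4, 11, 12, 13, 3, 1, 0, 2, 1, 3, 2, 0], [], [⟨1, 183, [4, 11, 4, 11, 12, 13]⟩, ⟨1, 1420, [12, 8, 11, 2, 13, 11, 12, 11, 13]⟩, ⟨1, 134, []⟩, ⟨1, 1201, [2, 4, 12, 7, 13, 11, 12, 8, 11, 13]⟩]⟩,
 ⟨4, 6, 2825, [], [⟨1, 2824, []⟩], []⟩,
 ⟨7, 6, 184, [2, 4, 7, 11, 12, 3, 1, 0, 2, 1, 3, 2, 0], [], [⟨1, 183, [2, 4, 7, 11, 12]⟩, ⟨1, 134, []⟩, ⟨1, 135, []⟩, ⟨1, 134, []⟩, ⟨1, 1993, [7, 13, 11, 4, 11]⟩, ⟨1, 134, []⟩, ⟨1, 135, []⟩, ⟨1, 965, [12, 8, 11, 4, 11, 13, 11, 12]⟩]⟩,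
 ⟨4, 6, 2827, [], [⟨1, 2826, []⟩], []⟩,
 ⟨8, 6, 184, [4, 8, 11, 12, 13, 0, 2, 3, 4, 2, 1, 2, 0, 1, 3, 2, 0], [], [⟨1, 183, [4, 8, 11, 12, 13]⟩, ⟨1, 134, []⟩, ⟨1, 2363, [0, 4, 12, 11, 12, 7, 13, 11, 12, 11, 4]⟩, ⟨1, 1509, [4, 12, 11, 12, 8, 11, 12, 11]⟩]⟩,
 ⟨4, 6, 2829, [], [⟨1, 2828, []⟩], []⟩,
 ⟨8, 6, 184, [4, 8, 11, 12, 0, 2, 3, 4, 2, 1, 2, 0, 1, 3, 2, 0], [], [⟨1, 183, [4, 8, 11, 12]⟩, ⟨1, 135, []⟩, ⟨1, 2144, [13, 11, 4, 11, 12, 7, 11, 13]⟩, ⟨1, 135, []⟩, ⟨1, 134, []⟩, ⟨1, 2093, [2, 11, 4, 12, 8, 11, 12, 13, 11, 12]⟩]⟩,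
 ⟨4, 6, 2831, [], [⟨1, 2830, []⟩], []⟩,
 ⟨8, 6, 184, [4, 12, 7, 11, 12, 0, 2, 3, 4, 2, 1, 2, 0, 1, 3, 2, 0], [], [⟨1, 183, [4, 12, 7, 11, 12]⟩, ⟨1, 135, []⟩, ⟨1, 2544, [0, 4, 13, 11, 12, 11, 4, 13]⟩, ⟨1, 1836, [2, 8, 11, 4, 12, 11, 12, 7, 12, 11]⟩]⟩,
 ⟨4, 6, 2833, [], [⟨1, 2832, []⟩], []⟩,
 ⟨12, 6, 184, [4, 7, 11, 13, 11, 4, 12, 0, 2, 3, 1, 0, 2, 1, 2, 4, 3, 2, 0, 2, 0], [], [⟨1, 183, [4, 7, 11, 13, 11, 4, 12]⟩, ⟨1, 134, []⟩, ⟨1, 135, []⟩, ⟨1, 1493, [13, 11, 2, 4, 12, 7, 11, 12, 13]⟩, ⟨1, 135, []⟩, ⟨1, 134, []⟩, ⟨1, 1773, [7, 12, 8, 13, 11, 12, 8, 11, 12, 7]⟩]⟩,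
 ⟨4, 6, 2835, [], [⟨1, 2834, []⟩], []⟩,
 ⟨12, 6, 184, [4, 11, 13, 11, 12, 0, 2, 3, 1, 0, 2, 1, 2, 4, 3, 2, 0, 2, 0], [], [⟨1, 183, [4, 11, 13, 11, 12]⟩, ⟨1, 134, []⟩, ⟨1, 135, []⟩, ⟨1, 2664, [0, 4, 11, 12, 7, 11, 4]⟩, ⟨1, 134, []⟩, ⟨1, 135, []⟩, ⟨1, 1532, [7, 13, 11, 4, 11, 4, 12, 13, 11, 4, 11]⟩]⟩,
 ⟨12, 6, 184, [0, 7, 11, 12, 13, 11, 4, 0, 2, 3, 1, 0, 2, 1, 2, 4, 3, 2, 0, 2, 0], [], [⟨1, 183, [0, 7, 11, 12, 13, 11, 4]⟩, ⟨1, 134, []⟩, ⟨1, 1640, [12, 8, 11, 2, 12, 8, 11, 12, 8, 13]⟩, ⟨1, 134, []⟩, ⟨1, 135, []⟩, ⟨1, 134, []⟩, ⟨1, 1919, [0, 7, 11, 4, 11, 13, 11]⟩]⟩,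
 ⟨4, 6, 2838, [], [⟨1, 2837, []⟩], []⟩,
 ⟨13, 6, 184, [0, 11, 12, 13, 0, 2, 3, 1, 2, 0, 1, 3, 2, 0], [], [⟨1, 183, [0, 11, 12, 13]⟩, ⟨1, 135, []⟩, ⟨1, 134, []⟩, ⟨1, 2592, [4, 11, 2, 12, 8, 12, 11, 4, 13]⟩, ⟨1, 2636, [12, 7, 11, 4, 11, 13, 11, 4, 12, 8]⟩]⟩,
 ⟨4, 6, 2840, [], [⟨1, 2839, []⟩], []⟩,
 ⟨13, 6, 184, [12, 11, 4, 13, 0, 2, 3, 1, 2, 0, 1, 3, 2, 0], [], [⟨1, 183, [12, 11, 4, 13]⟩, ⟨1, 135, []⟩, ⟨1, 396, [2, 13, 11, 12, 7, 12, 11, 12]⟩, ⟨1, 76, []⟩, ⟨1, 76, []⟩, ⟨1, 78, []⟩, ⟨1, 77, []⟩, ⟨1, 126, []⟩, ⟨1, 78, []⟩, ⟨1, 387, [12, 11, 12, 7, 12, 13, 11]⟩]⟩,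
 ⟨4, 6, 2842, [], [⟨1, 2841, []⟩], []⟩,
 ⟨7, 6, 174, [2, 11, 4, 12, 11, 4, 3, 1, 0, 2, 1, 3, 2, 0], [], [⟨1, 173, [2, 11, 4, 12, 11, 4]⟩, ⟨1, 135, []⟩, ⟨1, 134, []⟩, ⟨1, 2545, [12, 8, 11, 2, 13, 11]⟩, ⟨1, 135, []⟩, ⟨1, 134, []⟩, ⟨1, 1137, [11, 12, 8, 11, 4, 11, 13]⟩]⟩,
 ⟨4, 6, 2844, [], [⟨1, 2843, []⟩], []⟩,
 ⟨7, 6, 174, [0, 4, 8, 12, 13, 3, 1, 0, 2, 1, 3, 2, 0], [], [⟨1, 173, [0, 4, 8, 12, 13]⟩, ⟨1, 135, []⟩, ⟨1, 1681, [4, 12, 11, 12, 8, 12, 13, 11, 4, 11]⟩, ⟨1, 134, []⟩, ⟨1, 135, []⟩, ⟨1, 2037, [2, 4, 13, 11, 12, 7, 11, 12, 8]⟩]⟩,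
 ⟨4, 6, 2846, [], [⟨1, 2845, []⟩], []⟩,
 ⟨8, 6, 174, [12, 11, 13, 11, 4, 12, 0, 2, 3, 4, 2, 1, 2, 0, 1, 3, 2, 0], [], [⟨1, 173, [12, 11, 13, 11, 4, 12]⟩, ⟨1, 490, [8, 11, 12, 8, 11, 12, 11, 4]⟩, ⟨1, 86, []⟩, ⟨1, 87, []⟩, ⟨1, 86, []⟩, ⟨1, 90, []⟩, ⟨1, 759, [2, 8, 11, 12, 7, 13, 11, 12, 8, 12]⟩]⟩,
 ⟨4, 6, 2848, [], [⟨1, 2847, []⟩], []⟩,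
 ⟨8, 6, 174, [4, 13, 11, 4, 12, 11, 4, 0, 2, 3, 4, 2, 1, 2, 0, 1, 3, 2, 0], [], [⟨1, 173, [4, 13, 11, 4, 12, 11, 4]⟩, ⟨1, 134, []⟩, ⟨1, 135, []⟩, ⟨1, 2644, [4, 11, 12, 13, 11, 4, 12, 11, 12]⟩, ⟨1, 135, []⟩, ⟨1, 134, []⟩, ⟨1, 1180, [8, 13, 11, 2, 12, 8, 11, 12, 7, 11]⟩]⟩,
 ⟨4, 6, 2850, [], [⟨1, 2849, []⟩], []⟩,
 ⟨7, 6, 175, [4, 7, 11, 4, 12, 3, 1, 0, 2, 1, 3, 2, 0], [], [⟨1, 174, [4, 7, 11, 4, 12]⟩, ⟨1, 135, []⟩, ⟨1, 1336, [2, 8, 11, 4, 11, 12, 11, 4]⟩, ⟨1, 134, []⟩, ⟨1, 1666, [12, 7, 12, 11, 2, 4, 11, 13, 11, 4]⟩]⟩,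
 ⟨4, 6, 2852, [], [⟨1, 2851, []⟩], []⟩,
 ⟨7, 6, 175, [0, 4, 8, 11, 12, 13, 3, 1, 0, 2, 1, 3, 2, 0], [], [⟨1, 174, [0, 4, 8, 11, 12, 13]⟩, ⟨1, 134, []⟩, ⟨1, 1837, [2, 4, 12, 11, 13]⟩, ⟨1, 134, []⟩, ⟨1, 135, []⟩, ⟨1, 1507, [12, 7, 11, 4, 11, 12, 8, 11, 12]⟩]⟩,
 ⟨4, 6, 2854, [], [⟨1, 2853, []⟩], []⟩,
 ⟨7, 6, 175, [2, 4, 7, 12, 11, 4, 3, 1, 0, 2, 1, 3, 2, 0], [], [⟨1, 174, [2, 4, 7, 12, 11, 4]⟩, ⟨1, 134, []⟩, ⟨1, 135, []⟩, ⟨1, 2142, [0, 8, 12, 13, 11, 12]⟩, ⟨1, 135, []⟩, ⟨1, 2525, [12, 8, 13, 11, 12, 11, 4, 12, 8]⟩]⟩,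
 ⟨4, 6, 2856, [], [⟨1, 2855, []⟩], []⟩,
 ⟨7, 6, 175, [2, 4, 11, 4, 11, 12, 3, 1, 0, 2, 1, 3, 2, 0], [], [⟨1, 174, [2, 4, 11, 4, 11, 12]⟩, ⟨1, 134, []⟩, ⟨1, 1250, [8, 12, 7, 11, 4, 12, 8, 11]⟩, ⟨1, 134, []⟩, ⟨1, 135, []⟩, ⟨1, 134, []⟩, ⟨1, 1138, [0, 7, 12, 11, 13, 11, 4, 12]⟩]⟩,
 ⟨4, 6, 2858, [], [⟨1, 2857, []⟩], []⟩,
 ⟨7, 6, 175, [2, 7, 12, 7, 11, 12, 3, 1, 0, 2, 1, 3, 2, 0], [], [⟨1, 174, [2, 7, 12, 7, 11, 12]⟩, ⟨1, 134, []⟩, ⟨1, 135, []⟩, ⟨1, 134, []⟩, ⟨1, 2192, [4, 8, 12, 7, 11, 4, 12, 11, 13]⟩, ⟨1, 134, []⟩, ⟨1, 1361, [4, 8, 12, 7, 11, 12, 8, 13, 11]⟩]⟩,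
 ⟨4, 6, 2860, [], [⟨1, 2859, []⟩], []⟩,
 ⟨7, 6, 175, [4, 8, 11, 13, 11, 4, 12, 3, 1, 0, 2, 1, 3, 2, 0], [], [⟨1, 174, [4, 8, 11, 13, 11, 4, 12]⟩, ⟨1, 134, []⟩, ⟨1, 2293, [2, 4, 7, 11, 4, 13, 11]⟩, ⟨1, 134, []⟩, ⟨1, 1200, [2, 4, 8, 11, 12, 13, 11, 12, 8]⟩]⟩,
 ⟨4, 6, 2862, [], [⟨1, 2861, []⟩], []⟩]
theorem chk58 : and2 (D.chkL PF58 2816) (Nat.beq (Nat.add 2816 PF58.length) 2863) = true := by decide +kernel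

def PF59 : List DPf := [⟨7, 6, 175, [0, 13, 11, 12, 7, 11, 12, 3, 1, 0, 2, 1, 3, 2, 0], [], [⟨1, 174, [0, 13, 11, 12, 7, 11, 12]⟩, ⟨1, 134, []⟩, ⟨1, 1453, [2, 7, 11, 12, 8, 11, 13, 11, 4, 11]⟩, ⟨1, 134, []⟩, ⟨1, 1452, [0, 8, 11, 13, 11, 4, 11, 12, 7, 11]⟩]⟩,
 ⟨4, 6, 2864, [], [⟨1, 2863, []⟩], []⟩,
 ⟨8, 6, 175, [8, 12, 7, 11, 4, 12, 0, 2, 3, 4, 2, 1, 2, 0, 1, 3, 2, 0], [], [⟨1, 174, [8, 12, 7, 11, 4, 12]⟩, ⟨1, 135, []⟩, ⟨1, 1027, [12, 8, 11, 2, 4, 12, 11, 4, 13]⟩, ⟨1, 134, []⟩, ⟨1, 135, []⟩, ⟨1, 1072, [2, 8, 12, 11, 13, 11, 4, 11, 12, 7, 13]⟩]⟩,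
 ⟨4, 6, 2866, [], [⟨1, 2865, []⟩], []⟩,
 ⟨13, 6, 175, [8, 12, 7, 11, 4, 12, 0, 2, 3, 1, 2, 0, 1, 3, 2, 0], [], [⟨1, 174, [8, 12, 7, 11, 4, 12]⟩, ⟨1, 135, []⟩, ⟨1, 1027, [12, 8, 11, 2, 4, 12]⟩, ⟨1, 135, []⟩, ⟨1, 134, []⟩, ⟨1, 1115, [7, 11, 12, 11, 4, 11, 4, 12, 8]⟩]⟩,
 ⟨4, 6, 2868, [], [⟨1, 2867, []⟩], []⟩,
 ⟨17, 6, 175, [4, 7, 12, 13, 5, 5, 3, 6, 6, 2, 0], [], [⟨1, 174, [4, 7, 12, 13]⟩, ⟨1, 135, []⟩, ⟨1, 1737, [11, 4, 12, 7, 11, 12, 8, 11, 12, 8]⟩, ⟨1, 134, []⟩, ⟨1, 135, []⟩, ⟨1, 134, []⟩, ⟨1, 2519, [2, 8, 11, 12, 8, 11, 12, 8, 13]⟩]⟩,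
 ⟨4, 6, 2870, [], [⟨1, 2869, []⟩], []⟩,
 ⟨5, 6, 179, [4, 7, 12, 13, 3, 2, 0], [], [⟨1, 178, [4, 7, 12, 13]⟩, ⟨1, 134, []⟩, ⟨1, 135, []⟩, ⟨1, 2827, [4, 11, 12, 7, 11, 12]⟩, ⟨1, 134, []⟩, ⟨1, 1002, [0, 8, 12, 11, 12, 7, 13]⟩]⟩,
 ⟨4, 6, 2872, [], [⟨1, 2871, []⟩], []⟩,
 ⟨6, 6, 179, [8, 11, 4, 12, 13, 0, 2, 4, 3, 2, 0], [], [⟨1, 178, [8, 11, 4, 12, 13]⟩, ⟨1, 135, []⟩, ⟨1, 1501, [11, 2, 13, 11, 12, 7, 11, 4, 11, 12]⟩, ⟨1, 135, []⟩, ⟨1, 134, []⟩, ⟨1, 1568, [7, 12, 11, 2, 4, 12, 11, 13, 11]⟩]⟩,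
 ⟨4, 6, 2874, [], [⟨1, 2873, []⟩], []⟩,
 ⟨7, 6, 179, [2, 4, 7, 11, 4, 12, 3, 1, 0, 2, 1, 3, 2, 0], [], [⟨1, 178, [2, 4, 7, 11, 4, 12]⟩, ⟨1, 135, []⟩, ⟨1, 2821, [4, 11, 4, 13, 11, 4, 12, 11]⟩, ⟨1, 135, []⟩, ⟨1, 2241, [12, 13, 11, 12, 7, 12, 11, 12, 13]⟩]⟩,
 ⟨4, 6, 2876, [], [⟨1, 2875, []⟩], []⟩,
 ⟨7, 6, 179, [0, 12, 7, 11, 4, 12, 13, 3, 1, 0, 2, 1, 3, 2, 0], [], [⟨1, 178, [0, 12, 7, 11, 4, 12, 13]⟩, ⟨1, 134, []⟩, ⟨1, 135, []⟩, ⟨1, 134, []⟩, ⟨1, 824, [2, 8, 11, 4, 12, 11, 12, 8, 11, 13]⟩, ⟨1, 1226, [0, 4, 13, 11, 4, 12, 8, 11, 12, 7, 13]⟩]⟩,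
 ⟨4, 6, 2878, [], [⟨1, 2877, []⟩], []⟩,
 ⟨7, 6, 179, [0, 4, 8, 11, 12, 13, 3, 1, 0, 2, 1, 3, 2, 0], [], [⟨1, 178, [0, 4, 8, 11, 12, 13]⟩, ⟨1, 134, []⟩, ⟨1, 2271, [12, 13, 11, 12, 8, 11, 4, 11, 12, 7]⟩, ⟨1, 1126, [12, 8, 13, 11, 12, 8, 11, 12, 7, 13]⟩]⟩,
 ⟨4, 6, 2880, [], [⟨1, 2879, []⟩], []⟩,
 ⟨7, 6, 179, [11, 4, 13, 11, 4, 11, 12, 3, 1, 0, 2, 1, 3, 2, 0], [], [⟨1, 178, [11, 4, 13, 11, 4, 11, 12]⟩, ⟨1, 2103, [4, 8, 12, 11, 2, 12, 13, 11, 4]⟩, ⟨1, 134, []⟩, ⟨1, 1226, [4, 12, 11, 12, 8, 11, 12, 13, 11]⟩]⟩,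
 ⟨4, 6, 2882, [], [⟨1, 2881, []⟩], []⟩,
 ⟨7, 6, 179, [8, 13, 11, 4, 12, 3, 1, 0, 2, 1, 3, 2, 0], [], [⟨1, 178, [8, 13, 11, 4, 12]⟩, ⟨1, 135, []⟩, ⟨1, 2211, [12, 13, 11, 12, 11, 4, 13, 11, 4]⟩, ⟨1, 134, []⟩, ⟨1, 1688, [4, 8, 11, 4, 12, 11, 13, 11, 4, 11, 13]⟩]⟩,
 ⟨4, 6, 2884, [], [⟨1, 2883, []⟩], []⟩,
 ⟨7, 6, 179, [0, 4, 12, 13, 11, 12, 3, 1, 0, 2, 1, 3, 2, 0], [], [⟨1, 178, [0, 4, 12, 13, 11, 12]⟩, ⟨1, 1827, [0, 13, 11, 12, 11, 4, 11, 12, 7]⟩, ⟨1, 135, []⟩, ⟨1, 2463, [12, 8, 12, 13, 11, 4, 12, 11]⟩]⟩,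
 ⟨4, 6, 2886, [], [⟨1, 2885, []⟩], []⟩,
 ⟨7, 6, 179, [0, 4, 7, 13, 11, 12, 3, 1, 0, 2, 1, 3, 2, 0], [], [⟨1, 178, [0, 4, 7, 13, 11, 12]⟩, ⟨1, 134, []⟩, ⟨1, 135, []⟩, ⟨1, 134, []⟩, ⟨1, 2095, [4, 8, 11, 13, 11, 12, 8, 11, 12, 8, 11]⟩, ⟨1, 134, []⟩, ⟨1, 135, []⟩, ⟨1, 2243, [11, 4, 12, 7, 11, 12, 8, 11, 12, 13]⟩]⟩,
 ⟨4, 6, 2888, [], [⟨1, 2887, []⟩], []⟩,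
 ⟨7, 6, 179, [8, 11, 4, 13, 11, 12, 3, 1, 0, 2, 1, 3, 2, 0], [], [⟨1, 178, [8, 11, 4, 13, 11, 12]⟩, ⟨1, 134, []⟩, ⟨1, 135, []⟩, ⟨1, 134, []⟩, ⟨1, 2637, [4, 11, 2, 4, 12, 7, 11]⟩, ⟨1, 135, []⟩, ⟨1, 134, []⟩, ⟨1, 1101, [0, 4, 12, 7, 11, 12, 8, 11, 13]⟩]⟩,
 ⟨4, 6, 2890, [], [⟨1, 2889, []⟩], []⟩,
 ⟨7, 6, 179, [7, 12, 8, 13, 11, 4, 12, 3, 1, 0, 2, 1, 3, 2, 0], [], [⟨1, 178, [7, 12, 8, 13, 11, 4, 12]⟩, ⟨1, 1535, [4, 7, 11, 12, 8, 11, 12, 11]⟩, ⟨1, 1622, [0, 4, 12, 11, 12, 8, 12, 11, 12, 13]⟩]⟩,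
 ⟨4, 6, 2892, [], [⟨1, 2891, []⟩], []⟩,
 ⟨7, 6, 179, [12, 8, 11, 4, 12, 13, 3, 1, 0, 2, 1, 3, 2, 0], [], [⟨1, 178, [12, 8, 11, 4, 12, 13]⟩, ⟨1, 135, []⟩, ⟨1, 134, []⟩, ⟨1, 2713, [2, 8, 12, 11, 12, 13, 11, 4, 11, 12, 7]⟩, ⟨1, 134, []⟩, ⟨1, 1010, [4, 7, 12, 11, 2, 13]⟩]⟩,
 ⟨4, 6, 2894, [], [⟨1, 2893, []⟩], []⟩,
 ⟨8, 6, 179, [12, 11, 13, 11, 4, 12, 0, 2, 3, 4, 2, 1, 2, 0, 1, 3, 2, 0], [], [⟨1, 178, [12, 11, 13, 11, 4, 12]⟩, ⟨1, 1462, [12, 11, 2, 4, 13, 11, 12, 8]⟩, ⟨1, 134, []⟩, ⟨1, 135, []⟩, ⟨1, 134, []⟩, ⟨1, 2091, [7, 12, 13, 11, 2, 4, 12, 8, 11]⟩]⟩,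
 ⟨4, 6, 2896, [], [⟨1, 2895, []⟩], []⟩,
 ⟨12, 6, 179, [4, 7, 11, 13, 11, 4, 12, 0, 2, 3, 1, 0, 2, 1, 2, 4, 3, 2, 0, 2, 0], [], [⟨1, 178, [4, 7, 11, 13, 11, 4, 12]⟩, ⟨1, 134, []⟩, ⟨1, 135, []⟩, ⟨1, 134, []⟩, ⟨1, 1653, [4, 11, 2, 4, 13]⟩, ⟨1, 135, []⟩, ⟨1, 134, []⟩, ⟨1, 954, [2, 8, 13, 11, 12]⟩]⟩,
 ⟨4, 6, 2898, [], [⟨1, 2897, []⟩], []⟩,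
 ⟨12, 6, 179, [12, 8, 11, 4, 12, 0, 2, 3, 1, 0, 2, 1, 2, 4, 3, 2, 0, 2, 0], [], [⟨1, 178, [12, 8, 11, 4, 12]⟩, ⟨1, 135, []⟩, ⟨1, 2143, [0, 8, 12, 7, 11, 4, 11, 12, 13, 11]⟩, ⟨1, 134, []⟩, ⟨1, 135, []⟩, ⟨1, 134, []⟩, ⟨1, 2848, [0, 11, 4, 11, 12, 8, 11, 12]⟩]⟩,
 ⟨4, 6, 2900, [], [⟨1, 2899, []⟩], []⟩,
 ⟨12, 6, 179, [4, 8, 11, 12, 13, 0, 2, 3, 1, 0, 2, 1, 2, 4, 3, 2, 0, 2, 0], [], [⟨1, 178, [4, 8, 11, 12, 13]⟩, ⟨1, 134, []⟩, ⟨1, 135, []⟩, ⟨1, 2669, [11, 2, 12, 7, 12, 11, 12, 8]⟩, ⟨1, 135, []⟩, ⟨1, 134, []⟩, ⟨1, 1170, [11, 12, 7, 11, 12, 7, 11, 13]⟩]⟩,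
 ⟨4, 6, 2902, [], [⟨1, 2901, []⟩], []⟩,
 ⟨13, 6, 179, [11, 4, 11, 12, 13, 0, 2, 3, 1, 2, 0, 1, 3, 2, 0], [], [⟨1, 178, [11, 4, 11, 12, 13]⟩, ⟨1, 135, []⟩, ⟨1, 2736, [0, 7, 11, 4, 11, 12, 11, 13, 11, 4]⟩, ⟨1, 2108, [8, 12, 7, 13, 11, 12, 8, 11, 4, 13]⟩]⟩,
 ⟨4, 6, 2904, [], [⟨1, 2903, []⟩], []⟩,
 ⟨17, 6, 179, [12, 7, 13, 5, 5, 3, 6, 6, 2, 0], [], [⟨1, 178, [12, 7, 13]⟩, ⟨1, 135, []⟩, ⟨1, 2112, [13, 11, 12, 11, 12, 13, 11]⟩, ⟨1, 867, [12, 7, 12, 11, 13, 11, 4, 11, 12, 8]⟩]⟩,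
 ⟨4, 6, 2906, [], [⟨1, 2905, []⟩], []⟩,
 ⟨5, 6, 180, [8, 11, 4, 12, 13, 3, 2, 0], [], [⟨1, 179, [8, 11, 4, 12, 13]⟩, ⟨1, 135, []⟩, ⟨1, 134, []⟩, ⟨1, 2528, [7, 12, 8, 11, 2, 12, 13]⟩, ⟨1, 134, []⟩, ⟨1, 1577, [2, 11, 12, 11, 4, 12, 13, 11, 12]⟩]⟩,
 ⟨4, 6, 2908, [], [⟨1, 2907, []⟩], []⟩,
 ⟨7, 6, 180, [12, 13, 11, 4, 3, 1, 0, 2, 1, 3, 2, 0], [], [⟨1, 179, [12, 13, 11, 4]⟩, ⟨1, 1942, [13, 11, 4, 12, 7]⟩, ⟨1, 135, []⟩, ⟨1, 1707, [4, 11, 12, 7, 12, 11, 12, 8]⟩]⟩,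
 ⟨4, 6, 2910, [], [⟨1, 2909, []⟩], []⟩,
 ⟨7, 6, 180, [2, 4, 7, 11, 4, 12, 3, 1, 0, 2, 1, 3, 2, 0], [], [⟨1, 179, [2, 4, 7, 11, 4, 12]⟩, ⟨1, 134, []⟩, ⟨1, 2291, [0, 7, 11, 12, 8, 13, 11, 4, 11, 12, 11]⟩, ⟨1, 134, []⟩, ⟨1, 2634, [4, 8, 12, 11, 12, 7, 12, 11]⟩]⟩,
 ⟨4, 6, 2912, [], [⟨1, 2911, []⟩], []⟩]
theorem chk59 : and2 (D.chkL PF59 2863) (Nat.beq (Nat.add 2863 PF59.length) 2913) = true := by decide +kernel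

end H19.Th.DC
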