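import Mathlib
import Cfsg.Agent.H19.Th.DC.B

set_option autoImplicit false
set_option maxRecDepth 100000
set_option Elab.async false
set_option linter.all false

namespace H19.Th.DC
open H29

def PF60 : List DPf := [⟨7, 6, 180, [4, 11, 12, 11, 4, 3, 1, 0, 2, 1, 3, 2, 0], [], [⟨1, 179, [4, 11, 12, 11, 4]⟩, ⟨1, 134, []⟩, ⟨1, 2691, [2, 11, 4, 11, 13, 11, 4]⟩, ⟨1, 135, []⟩, ⟨1, 134, []⟩, ⟨1, 2901, [4, 7, 12, 11, 2, 12, 7]⟩]⟩,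
 ⟨7, 6, 180, [2, 8, 12, 7, 11, 12, 3, 1, 0, 2, 1, 3, 2, 0], [], [⟨1, 179, [2, 8, 12, 7, 11, 12]⟩, ⟨1, 135, []⟩, ⟨1, 2032, [4, 8, 11, 4, 12, 11, 12, 11, 13]⟩, ⟨1, 135, []⟩, ⟨1, 134, []⟩, ⟨1, 2806, [12, 11, 12, 7, 11, 12, 8, 11, 13]⟩]⟩,
 ⟨4, 6, 2915, [], [⟨1, 2914, []⟩], []⟩,
 ⟨7, 6, 180, [4, 8, 11, 12, 3, 1, 0, 2, 1, 3, 2, 0], [], [⟨1, 179, [4, 8, 11, 12]⟩, ⟨1, 134, []⟩, ⟨1, 135, []⟩, ⟨1, 134, []⟩, ⟨1, 1243, [4, 11, 2, 4, 12, 11, 13, 11, 12, 7]⟩, ⟨1, 135, []⟩, ⟨1, 134, []⟩, ⟨1, 2787, [0, 13, 11, 12, 7, 11, 12, 11, 12, 7]⟩]⟩,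
 ⟨4, 6, 2917, [], [⟨1, 2916, []⟩], []⟩,
 ⟨7, 6, 180, [12, 8, 12, 11, 4, 12, 3, 1, 0, 2, 1, 3, 2, 0], [], [⟨1, 179, [12, 8, 12, 11, 4, 12]⟩, ⟨1, 135, []⟩, ⟨1, 134, []⟩, ⟨1, 1986, [11, 4, 11, 12, 8, 11, 13, 11, 4, 12]⟩, ⟨1, 134, []⟩, ⟨1, 1189, [4, 12, 7, 11, 4, 12, 8, 13, 11]⟩]⟩,
 ⟨4, 6, 2919, [], [⟨1, 2918, []⟩], []⟩,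
 ⟨7, 6, 180, [11, 12, 11, 13, 11, 4, 3, 1, 0, 2, 1, 3, 2, 0], [], [⟨1, 179, [11, 12, 11, 13, 11, 4]⟩, ⟨1, 134, []⟩, ⟨1, 135, []⟩, ⟨1, 2481, [0, 4, 8, 12, 11, 12, 13, 11, 4, 11, 4]⟩, ⟨1, 134, []⟩, ⟨1, 1349, [0, 4, 7, 11, 12, 8, 11, 12, 13, 11]⟩]⟩,
 ⟨7, 6, 180, [11, 4, 11, 13, 11, 12, 3, 1, 0, 2, 1, 3, 2, 0], [], [⟨1, 179, [11, 4, 11, 13, 11, 12]⟩, ⟨1, 135, []⟩, ⟨1, 134, []⟩, ⟨1, 1502, [4, 12, 7, 11, 2, 4]⟩, ⟨1, 135, []⟩, ⟨1, 134, []⟩, ⟨1, 1170, [4, 8, 11, 4, 11, 12, 13]⟩]⟩,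
 ⟨4, 6, 2922, [], [⟨1, 2921, []⟩], []⟩,
 ⟨13, 6, 180, [7, 12, 11, 4, 0, 2, 3, 1, 2, 0, 1, 3, 2, 0], [], [⟨1, 179, [7, 12, 11, 4]⟩, ⟨1, 134, []⟩, ⟨1, 135, []⟩, ⟨1, 134, []⟩, ⟨1, 1279, [0, 4, 8, 11, 4, 13, 11, 12]⟩, ⟨1, 2581, [2, 12, 7, 12, 11, 12, 8, 11, 12, 7]⟩]⟩,
 ⟨4, 6, 2924, [], [⟨1, 2923, []⟩], []⟩,
 ⟨13, 6, 180, [2, 7, 11, 4, 12, 0, 2, 3, 1, 2, 0, 1, 3, 2, 0], [], [⟨1, 179, [2, 7, 11, 4, 12]⟩, ⟨1, 134, []⟩, ⟨1, 135, []⟩, ⟨1, 134, []⟩, ⟨1, 1279, [0, 12, 8, 11, 13, 11, 12, 11, 4]⟩, ⟨1, 135, []⟩, ⟨1, 2669, [0, 13, 11, 12, 11, 4, 11, 4]⟩]⟩,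
 ⟨4, 6, 2926, [], [⟨1, 2925, []⟩], []⟩,
 ⟨17, 6, 180, [4, 12, 7, 5, 5, 3, 6, 6, 2, 0], [], [⟨1, 179, [4, 12, 7]⟩, ⟨1, 1575, [0, 7, 11, 4, 12, 8, 13, 11]⟩, ⟨1, 2228, [0, 13, 11, 4, 11, 12, 11, 4, 13]⟩]⟩,
 ⟨4, 6, 2928, [], [⟨1, 2927, []⟩], []⟩,
 ⟨8, 6, 181, [0, 4, 7, 11, 13, 11, 12, 0, 2, 3, 4, 2, 1, 2, 0, 1, 3, 2, 0], [], [⟨1, 180, [0, 4, 7, 11, 13, 11, 12]⟩, ⟨1, 974, [7, 11, 4, 13, 11, 12, 11]⟩, ⟨1, 1007, [2, 7, 12, 11, 13, 11, 12, 8]⟩]⟩,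
 ⟨4, 6, 2930, [], [⟨1, 2929, []⟩], []⟩,
 ⟨8, 6, 181, [4, 8, 11, 12, 13, 0, 2, 3, 4, 2, 1, 2, 0, 1, 3, 2, 0], [], [⟨1, 180, [4, 8, 11, 12, 13]⟩, ⟨1, 135, []⟩, ⟨1, 948, [12, 8, 11, 12, 8, 11, 12, 8, 13]⟩, ⟨1, 134, []⟩, ⟨1, 135, []⟩, ⟨1, 2067, [2, 11, 4, 11, 4, 13, 11, 12]⟩]⟩,
 ⟨4, 6, 2932, [], [⟨1, 2931, []⟩], []⟩,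
 ⟨12, 6, 185, [0, 8, 13, 11, 4, 11, 12, 0, 2, 3, 1, 0, 2, 1, 2, 4, 3, 2, 0, 2, 0], [], [⟨1, 184, [0, 8, 13, 11, 4, 11, 12]⟩, ⟨1, 39, []⟩, ⟨1, 43, []⟩, ⟨1, 41, []⟩, ⟨1, 40, []⟩, ⟨1, 46, []⟩, ⟨1, 46, []⟩, ⟨1, 68, []⟩, ⟨1, 68, []⟩, ⟨1, 252, [7, 11, 12, 8, 11, 4, 13, 11, 12, 7]⟩, ⟨1, 134, []⟩, ⟨1, 1848, [4, 8, 11, 12, 11, 12]⟩]⟩,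
 ⟨4, 6, 2934, [], [⟨1, 2933, []⟩], []⟩,
 ⟨17, 6, 185, [7, 13, 5, 5, 3, 6, 6, 2, 0], [], [⟨1, 184, [7, 13]⟩, ⟨1, 39, []⟩, ⟨1, 43, []⟩, ⟨1, 42, []⟩, ⟨1, 41, []⟩, ⟨1, 46, []⟩, ⟨1, 68, []⟩, ⟨1, 234, [4, 8, 11, 2, 13, 11, 12, 8, 11, 12]⟩, ⟨1, 134, []⟩, ⟨1, 135, []⟩, ⟨1, 134, []⟩, ⟨1, 1382, [8, 11, 12, 11, 4, 12, 13, 11, 12]⟩]⟩,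
 ⟨4, 6, 2936, [], [⟨1, 2935, []⟩], []⟩,
 ⟨17, 6, 185, [4, 7, 12, 13, 5, 5, 3, 6, 6, 2, 0], [], [⟨1, 184, [4, 7, 12, 13]⟩, ⟨1, 39, []⟩, ⟨1, 43, []⟩, ⟨1, 41, []⟩, ⟨1, 68, []⟩, ⟨1, 314, [0, 7, 12, 8, 13, 11, 4, 11, 12]⟩, ⟨1, 134, []⟩, ⟨1, 2834, [0, 4, 8, 12, 11, 12]⟩]⟩,
 ⟨4, 6, 2938, [], [⟨1, 2937, []⟩], []⟩,
 ⟨7, 6, 240, [0, 4, 11, 12, 13, 3, 1, 0, 2, 1, 3, 2, 0], [], [⟨1, 239, [0, 4, 11, 12, 13]⟩, ⟨1, 43, []⟩, ⟨1, 42, []⟩, ⟨1, 40, []⟩, ⟨1, 216, [2, 7, 12, 11, 12, 7, 12]⟩, ⟨1, 928, [2, 12, 7, 11, 13, 11, 4, 12, 11, 12]⟩]⟩,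
 ⟨4, 6, 2940, [], [⟨1, 2939, []⟩], []⟩,
 ⟨7, 6, 240, [12, 13, 11, 12, 11, 4, 3, 1, 0, 2, 1, 3, 2, 0], [], [⟨1, 239, [12, 13, 11, 12, 11, 4]⟩, ⟨1, 39, []⟩, ⟨1, 42, []⟩, ⟨1, 41, []⟩, ⟨1, 40, []⟩, ⟨1, 68, []⟩, ⟨1, 789, [4, 8, 12, 11, 2, 4, 12, 13, 11, 4]⟩, ⟨1, 135, []⟩, ⟨1, 2814, [0, 7, 11, 12, 7, 13, 11, 12, 8]⟩]⟩,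
 ⟨4, 6, 2942, [], [⟨1, 2941, []⟩], []⟩,
 ⟨7, 6, 240, [0, 4, 12, 8, 13, 11, 12, 3, 1, 0, 2, 1, 3, 2, 0], [], [⟨1, 239, [0, 4, 12, 8, 13, 11, 12]⟩, ⟨1, 39, []⟩, ⟨1, 43, []⟩, ⟨1, 40, []⟩, ⟨1, 46, []⟩, ⟨1, 68, []⟩, ⟨1, 68, []⟩, ⟨1, 96, [11, 12, 8, 12, 11, 4, 12, 13, 11, 4]⟩, ⟨1, 282, [11, 4, 11, 12, 11, 12, 13]⟩]⟩,
 ⟨4, 6, 2944, [], [⟨1, 2943, []⟩], []⟩,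
 ⟨7, 6, 240, [8, 11, 12, 11, 4, 3, 1, 0, 2, 1, 3, 2, 0], [], [⟨1, 239, [8, 11, 12, 11, 4]⟩, ⟨1, 39, []⟩, ⟨1, 43, []⟩, ⟨1, 40, []⟩, ⟨1, 68, []⟩, ⟨1, 377, [7, 11, 4, 12, 11, 12, 8, 11, 13]⟩, ⟨1, 134, []⟩, ⟨1, 135, []⟩, ⟨1, 134, []⟩, ⟨1, 1845, [0, 8, 12, 8, 11, 4, 11, 12, 7]⟩]⟩,
 ⟨4, 6, 2946, [], [⟨1, 2945, []⟩], []⟩,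
 ⟨7, 6, 240, [12, 11, 4, 12, 13, 3, 1, 0, 2, 1, 3, 2, 0], [], [⟨1, 239, [12, 11, 4, 12, 13]⟩, ⟨1, 39, []⟩, ⟨1, 42, []⟩, ⟨1, 40, []⟩, ⟨1, 68, []⟩, ⟨1, 254, [4, 7, 11, 12, 7, 11, 12]⟩, ⟨1, 134, []⟩, ⟨1, 2668, [0, 11, 13, 11, 12, 8, 11, 4, 12, 13]⟩]⟩,
 ⟨4, 6, 2948, [], [⟨1, 2947, []⟩], []⟩,
 ⟨7, 6, 236, [11, 12, 11, 13, 11, 4, 3, 1, 0, 2, 1, 3, 2, 0], [], [⟨1, 235, [11, 12, 11, 13, 11, 4]⟩, ⟨1, 42, []⟩, ⟨1, 41, []⟩, ⟨1, 40, []⟩, ⟨1, 46, []⟩, ⟨1, 46, []⟩, ⟨1, 252, [8, 11, 12, 7, 11, 4, 12, 11, 12]⟩, ⟨1, 134, []⟩, ⟨1, 135, []⟩, ⟨1, 134, []⟩, ⟨1, 1274, [4, 12, 13, 11, 12, 7, 12]⟩]⟩,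
 ⟨4, 6, 2950, [], [⟨1, 2949, []⟩], []⟩,
 ⟨8, 6, 236, [0, 7, 11, 12, 13, 0, 2, 3, 4, 2, 1, 2, 0, 1, 3, 2, 0], [], [⟨1, 235, [0, 7, 11, 12, 13]⟩, ⟨1, 42, []⟩, ⟨1, 41, []⟩, ⟨1, 46, []⟩, ⟨1, 46, []⟩, ⟨1, 119, [2, 8, 12, 11, 4, 11, 13]⟩, ⟨1, 86, []⟩, ⟨1, 90, []⟩, ⟨1, 543, [4, 7, 12, 8, 11, 4, 13]⟩]⟩,
 ⟨4, 6, 2952, [], [⟨1, 2951, []⟩], []⟩,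
 ⟨8, 6, 236, [4, 8, 13, 11, 12, 0, 2, 3, 4, 2, 1, 2, 0, 1, 3, 2, 0], [], [⟨1, 235, [4, 8, 13, 11, 12]⟩, ⟨1, 43, []⟩, ⟨1, 41, []⟩, ⟨1, 40, []⟩, ⟨1, 68, []⟩, ⟨1, 595, [8, 12, 7, 11, 13, 11, 12, 8, 11]⟩, ⟨1, 135, []⟩, ⟨1, 1976, [13, 11, 4, 11, 12, 8, 12, 11, 12, 8]⟩]⟩,
 ⟨4, 6, 2954, [], [⟨1, 2953, []⟩], []⟩,
 ⟨8, 6, 236, [11, 4, 11, 12, 13, 0, 2, 3, 4, 2, 1, 2, 0, 1, 3, 2, 0], [], [⟨1, 235, [11, 4, 11, 12, 13]⟩, ⟨1, 43, []⟩, ⟨1, 42, []⟩, ⟨1, 46, []⟩, ⟨1, 46, []⟩, ⟨1, 96, [11, 2, 12, 8, 13, 11]⟩, ⟨1, 86, []⟩, ⟨1, 87, []⟩, ⟨1, 86, []⟩, ⟨1, 266, [4, 8, 11, 12, 7, 11, 12, 7, 11, 12]⟩]⟩,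
 ⟨7, 6, 216, [2, 8, 11, 4, 11, 12, 3, 1, 0, 2, 1, 3, 2, 0], [], [⟨1, 215, [2, 8, 11, 4, 11, 12]⟩, ⟨1, 39, []⟩, ⟨1, 43, []⟩, ⟨1, 42, []⟩, ⟨1, 46, []⟩, ⟨1, 46, []⟩, ⟨1, 364, [12, 11, 4, 11, 4, 12, 7, 13, 11, 4]⟩, ⟨1, 134, []⟩, ⟨1, 135, []⟩, ⟨1, 134, []⟩, ⟨1, 2630, [8, 12, 11, 12, 8, 11, 12, 7]⟩]⟩,
 ⟨4, 6, 2957, [], [⟨1, 2956, []⟩], []⟩]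
theorem chk60 : and2 (D.chkL PF60 2913) (Nat.beq (Nat.add 2913 PF60.length) 2958) = true := by decide +kernel

def PF61 : List DPf := [⟨7, 6, 160, [2, 4, 12, 11, 4, 3, 1, 0, 2, 1, 3, 2, 0], [], [⟨1, 159, [2, 4, 12, 11, 4]⟩, ⟨1, 43, []⟩, ⟨1, 46, []⟩, ⟨1, 46, []⟩, ⟨1, 779, [11, 13, 11, 4, 11, 12, 7, 12, 13]⟩, ⟨1, 2675, [0, 4, 7, 11, 4, 13, 11, 12]⟩]⟩,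
 ⟨4, 6, 2959, [], [⟨1, 2958, []⟩], []⟩,
 ⟨7, 4, 85, [0, 13, 3, 1, 0, 2, 1, 3, 2, 0], [], [⟨1, 84, [0, 13]⟩, ⟨1, 76, []⟩, ⟨1, 78, []⟩, ⟨1, 77, []⟩, ⟨1, 81, []⟩, ⟨1, 81, []⟩, ⟨1, 126, []⟩, ⟨1, 78, []⟩, ⟨1, 346, [2, 4, 11, 13, 11, 4]⟩, ⟨1, 1529, [12, 7, 11, 12, 7, 13, 11, 12, 11, 12]⟩]⟩,
 ⟨4, 4, 2961, [], [⟨1, 2960, []⟩], []⟩,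
 ⟨7, 6, 270, [2, 4, 7, 11, 12, 3, 1, 0, 2, 1, 3, 2, 0], [], [⟨1, 269, [2, 4, 7, 11, 12]⟩, ⟨1, 87, []⟩, ⟨1, 90, []⟩, ⟨1, 90, []⟩, ⟨1, 90, []⟩, ⟨1, 445, [0, 12, 8, 11, 12, 7, 11, 12, 7, 11, 13]⟩, ⟨1, 134, []⟩, ⟨1, 135, []⟩, ⟨1, 134, []⟩, ⟨1, 1920, [4, 11, 12, 8, 11, 12, 8, 11, 4]⟩]⟩,
 ⟨4, 6, 2963, [], [⟨1, 2962, []⟩], []⟩,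
 ⟨7, 6, 270, [2, 12, 8, 11, 12, 3, 1, 0, 2, 1, 3, 2, 0], [], [⟨1, 269, [2, 12, 8, 11, 12]⟩, ⟨1, 86, []⟩, ⟨1, 87, []⟩, ⟨1, 86, []⟩, ⟨1, 90, []⟩, ⟨1, 90, []⟩, ⟨1, 463, [8, 11, 12, 13, 11, 12, 7, 11, 4, 11]⟩, ⟨1, 134, []⟩, ⟨1, 135, []⟩, ⟨1, 2856, [4, 8, 11, 2, 13, 11, 12, 8, 11, 12]⟩]⟩,
 ⟨4, 6, 2965, [], [⟨1, 2964, []⟩], []⟩,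
 ⟨8, 6, 268, [8, 11, 12, 13, 11, 12, 0, 2, 3, 4, 2, 1, 2, 0, 1, 3, 2, 0], [], [⟨1, 267, [8, 11, 12, 13, 11, 12]⟩, ⟨1, 86, []⟩, ⟨1, 87, []⟩, ⟨1, 86, []⟩, ⟨1, 90, []⟩, ⟨1, 86, []⟩, ⟨1, 120, [7, 11, 4, 11, 12, 11, 4, 13]⟩, ⟨1, 42, []⟩, ⟨1, 41, []⟩, ⟨1, 46, []⟩, ⟨1, 591, [2, 7, 13, 11, 12, 7, 11, 4, 11, 13, 11]⟩]⟩,
 ⟨4, 6, 2967, [], [⟨1, 2966, []⟩], []⟩,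
 ⟨7, 6, 379, [7, 12, 7, 13, 11, 12, 3, 1, 0, 2, 1, 3, 2, 0], [], [⟨1, 378, [7, 12, 7, 13, 11, 12]⟩, ⟨1, 43, []⟩, ⟨1, 41, []⟩, ⟨1, 40, []⟩, ⟨1, 68, []⟩, ⟨1, 68, []⟩, ⟨1, 366, [12, 11, 4, 11, 12, 8, 12, 11, 4, 11]⟩, ⟨1, 1882, [12, 7, 11, 13, 11, 12, 7, 11, 12, 8]⟩]⟩,
 ⟨4, 6, 2969, [], [⟨1, 2968, []⟩], []⟩,
 ⟨7, 6, 379, [4, 11, 4, 13, 11, 12, 3, 1, 0, 2, 1, 3, 2, 0], [], [⟨1, 378, [4, 11, 4, 13, 11, 12]⟩, ⟨1, 43, []⟩, ⟨1, 40, []⟩, ⟨1, 46, []⟩, ⟨1, 68, []⟩, ⟨1, 583, [2, 12, 8, 11, 4, 11, 12, 11, 4, 11]⟩, ⟨1, 135, []⟩, ⟨1, 134, []⟩, ⟨1, 1145, [0, 12, 8, 12, 11, 4, 12, 8, 13]⟩]⟩,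
 ⟨8, 6, 379, [8, 11, 12, 13, 11, 4, 0, 2, 3, 4, 2, 1, 2, 0, 1, 3, 2, 0], [], [⟨1, 378, [8, 11, 12, 13, 11, 4]⟩, ⟨1, 39, []⟩, ⟨1, 43, []⟩, ⟨1, 42, []⟩, ⟨1, 40, []⟩, ⟨1, 46, []⟩, ⟨1, 46, []⟩, ⟨1, 114, [0, 4, 8, 13, 11, 4, 11, 12, 7, 13]⟩, ⟨1, 625, [4, 12, 11, 12, 11, 4, 11]⟩]⟩,
 ⟨4, 6, 2972, [], [⟨1, 2971, []⟩], []⟩,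
 ⟨15, 6, 258, [8, 0, 2, 5, 2, 0], [], [⟨1, 257, [8]⟩, ⟨1, 90, []⟩, ⟨1, 807, [0, 7, 12, 11, 4, 12, 7, 11, 12, 11]⟩]⟩,
 ⟨17, 6, 258, [8, 11, 12, 7, 13, 5, 5, 3, 6, 6, 2, 0], [], [⟨1, 257, [8, 11, 12, 7, 13]⟩, ⟨1, 86, []⟩, ⟨1, 90, []⟩, ⟨1, 90, []⟩, ⟨1, 799, [2, 8, 11, 12, 7, 13, 11, 12, 8, 11, 4]⟩, ⟨1, 134, []⟩, ⟨1, 135, []⟩, ⟨1, 134, []⟩, ⟨1, 2972, [0, 8, 12, 8, 11, 13, 11, 4, 11]⟩]⟩,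
 ⟨4, 6, 2975, [], [⟨1, 2974, []⟩], []⟩,
 ⟨0, 0, 0, [], [], []⟩,
 ⟨2, 2, 2977, [], [⟨1, 2976, []⟩], [⟨1, 20, []⟩, ⟨1, 23, []⟩, ⟨1, 2976, [13]⟩]⟩,
 ⟨2, 2, 2977, [], [⟨1, 2976, []⟩], [⟨1, 22, []⟩, ⟨1, 2976, [8]⟩]⟩,
 ⟨4, 2, 2977, [], [⟨1, 2976, []⟩], []⟩,
 ⟨8, 2, 27, [4, 8, 12, 13, 11, 4, 12, 0, 2, 3, 4, 2, 1, 2, 0, 1, 3, 2, 0], [], [⟨1, 26, [4, 8, 12, 13, 11, 4, 12]⟩, ⟨1, 7, []⟩, ⟨1, 6, []⟩, ⟨1, 3, []⟩, ⟨1, 6, []⟩, ⟨1, 2, []⟩, ⟨1, 29, [8, 12, 11, 4, 11, 12, 11, 13]⟩, ⟨1, 20, []⟩, ⟨1, 24, []⟩, ⟨1, 2976, [2, 4, 7, 12, 11, 13]⟩]⟩,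
 ⟨2, 2, 2981, [], [⟨1, 2980, []⟩], [⟨1, 24, []⟩, ⟨1, 30, []⟩, ⟨1, 2976, [4, 7, 12, 11, 13, 11, 4, 11, 4]⟩]⟩,
 ⟨8, 3, 45, [0, 7, 11, 13, 11, 12, 0, 2, 3, 4, 2, 1, 2, 0, 1, 3, 2, 0], [], [⟨1, 44, [0, 7, 11, 13, 11, 12]⟩, ⟨1, 6, []⟩, ⟨1, 8, []⟩, ⟨1, 5, []⟩, ⟨1, 7, []⟩, ⟨1, 3, []⟩, ⟨1, 6, []⟩, ⟨1, 29, [7, 12, 7, 11, 4, 12, 11, 13]⟩, ⟨1, 20, []⟩, ⟨1, 24, []⟩, ⟨1, 22, []⟩, ⟨1, 30, []⟩, ⟨1, 2976, [0, 8, 11, 4, 13, 11, 12, 11, 4, 12]⟩]⟩,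
 ⟨4, 3, 2983, [], [⟨1, 2982, []⟩], []⟩,
 ⟨5, 4, 80, [11, 13, 3, 2, 0], [], [⟨1, 79, [11, 13]⟩, ⟨1, 7, []⟩, ⟨1, 6, []⟩, ⟨1, 4, []⟩, ⟨1, 7, []⟩, ⟨1, 4, []⟩, ⟨1, 2, []⟩, ⟨1, 29, [11, 4, 13, 11]⟩, ⟨1, 20, []⟩, ⟨1, 24, []⟩, ⟨1, 2976, [4, 11, 2, 4, 13, 11, 4]⟩]⟩,
 ⟨4, 4, 2985, [], [⟨1, 2984, []⟩], []⟩,
 ⟨5, 4, 80, [4, 3, 2, 0], [], [⟨1, 79, [4]⟩, ⟨1, 3, []⟩, ⟨1, 75, [4, 11, 2, 4]⟩, ⟨1, 78, []⟩, ⟨1, 77, []⟩, ⟨1, 2984, [0, 4, 11, 13, 11, 4, 11, 4, 13]⟩]⟩,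
 ⟨7, 4, 80, [13, 11, 4, 12, 11, 12, 3, 1, 0, 2, 1, 3, 2, 0], [], [⟨1, 79, [13, 11, 4, 12, 11, 12]⟩, ⟨1, 6, []⟩, ⟨1, 4, []⟩, ⟨1, 7, []⟩, ⟨1, 3, []⟩, ⟨1, 2, []⟩, ⟨1, 75, [2, 4, 11, 13, 11, 12, 7, 11, 4, 13]⟩, ⟨1, 78, []⟩, ⟨1, 77, []⟩, ⟨1, 2984, [4, 13, 11, 2, 4, 12, 8, 11]⟩]⟩,
 ⟨4, 4, 2988, [], [⟨1, 2987, []⟩], []⟩,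
 ⟨7, 4, 80, [2, 4, 3, 1, 0, 2, 1, 3, 2, 0], [], [⟨1, 79, [2, 4]⟩, ⟨1, 7, []⟩, ⟨1, 6, []⟩, ⟨1, 7, []⟩, ⟨1, 6, []⟩, ⟨1, 8, []⟩, ⟨1, 29, [11, 2, 13, 11, 12, 7, 12]⟩, ⟨1, 24, []⟩, ⟨1, 30, []⟩, ⟨1, 2976, [4, 7, 13, 11, 4]⟩]⟩,
 ⟨2, 4, 2990, [], [⟨1, 2989, []⟩], [⟨1, 81, []⟩, ⟨1, 77, []⟩, ⟨1, 81, []⟩, ⟨1, 81, []⟩, ⟨1, 2986, [2, 11, 4, 13, 11, 4]⟩]⟩,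
 ⟨4, 4, 2990, [], [⟨1, 2989, []⟩], []⟩,
 ⟨7, 4, 80, [0, 4, 13, 11, 4, 3, 1, 0, 2, 1, 3, 2, 0], [], [⟨1, 79, [0, 4, 13, 11, 4]⟩, ⟨1, 3, []⟩, ⟨1, 6, []⟩, ⟨1, 3, []⟩, ⟨1, 75, [13, 11, 4, 11]⟩, ⟨1, 78, []⟩, ⟨1, 2986, [11, 2, 4, 11, 13]⟩]⟩,
 ⟨4, 4, 2993, [], [⟨1, 2992, []⟩], []⟩,
 ⟨7, 5, 89, [13, 11, 4, 12, 11, 4, 3, 1, 0, 2, 1, 3, 2, 0], [], [⟨1, 88, [13, 11, 4, 12, 11, 4]⟩, ⟨1, 6, []⟩, ⟨1, 7, []⟩, ⟨1, 3, []⟩, ⟨1, 6, []⟩, ⟨1, 3, []⟩, ⟨1, 75, [4, 12, 7, 13, 11, 12, 8, 12, 11, 12, 13]⟩, ⟨1, 2986, [2, 4, 7, 13, 11, 12, 8, 11]⟩]⟩,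
 ⟨4, 5, 2995, [], [⟨1, 2994, []⟩], []⟩,
 ⟨7, 5, 89, [13, 11, 12, 3, 1, 0, 2, 1, 3, 2, 0], [], [⟨1, 88, [13, 11, 12]⟩, ⟨1, 3, []⟩, ⟨1, 6, []⟩, ⟨1, 8, []⟩, ⟨1, 29, [0, 4, 11, 13, 11, 4, 12, 7, 11]⟩, ⟨1, 24, []⟩, ⟨1, 22, []⟩, ⟨1, 22, []⟩, ⟨1, 30, []⟩, ⟨1, 2976, [2, 12, 8, 13, 11, 4]⟩]⟩,
 ⟨4, 5, 2997, [], [⟨1, 2996, []⟩], []⟩,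
 ⟨7, 6, 137, [7, 11, 13, 11, 12, 3, 1, 0, 2, 1, 3, 2, 0], [], [⟨1, 136, [7, 11, 13, 11, 12]⟩, ⟨1, 6, []⟩, ⟨1, 8, []⟩, ⟨1, 5, []⟩, ⟨1, 7, []⟩, ⟨1, 4, []⟩, ⟨1, 29, [4, 7, 12, 13, 11, 4, 11, 12, 8]⟩, ⟨1, 24, []⟩, ⟨1, 2976, [2, 4, 8, 12, 7, 11, 4]⟩]⟩,
 ⟨4, 6, 2999, [], [⟨1, 2998, []⟩], []⟩,
 ⟨7, 6, 137, [12, 8, 13, 11, 12, 3, 1, 0, 2, 1, 3, 2, 0], [], [⟨1, 136, [12, 8, 13, 11, 12]⟩, ⟨1, 6, []⟩, ⟨1, 4, []⟩, ⟨1, 7, []⟩, ⟨1, 6, []⟩, ⟨1, 3, []⟩, ⟨1, 75, [4, 12, 11, 12, 13, 11, 4, 12, 8, 11, 13]⟩, ⟨1, 2986, [11, 2, 13, 11, 12, 7, 12, 11, 4]⟩]⟩,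
 ⟨4, 6, 3001, [], [⟨1, 3000, []⟩], []⟩,
 ⟨5, 7, 2980, [7, 11, 4, 12, 13, 3, 2, 0], [], [⟨1, 2979, [7, 11, 4, 12, 13]⟩, ⟨1, 20, []⟩, ⟨1, 24, []⟩, ⟨1, 22, []⟩, ⟨1, 25, []⟩, ⟨1, 22, []⟩, ⟨1, 25, []⟩, ⟨1, 30, []⟩, ⟨1, 212, [0, 7, 12, 7, 11, 12, 8]⟩, ⟨1, 135, []⟩, ⟨1, 134, []⟩, ⟨1, 194, [8, 12, 11, 4, 11, 12, 11]⟩]⟩,
 ⟨4, 7, 3003, [], [⟨1, 3002, []⟩], []⟩,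
 ⟨6, 7, 2980, [8, 11, 4, 12, 13, 0, 2, 4, 3, 2, 0], [], [⟨1, 2979, [8, 11, 4, 12, 13]⟩, ⟨1, 25, []⟩, ⟨1, 24, []⟩, ⟨1, 22, []⟩, ⟨1, 25, []⟩, ⟨1, 30, []⟩, ⟨1, 212, [7, 12, 7, 11, 2, 4, 12, 8]⟩, ⟨1, 142, [7, 12, 8, 11, 12, 7, 11, 12, 11]⟩]⟩,
 ⟨4, 7, 3005, [], [⟨1, 3004, []⟩], []⟩,
 ⟨7, 7, 2980, [11, 13, 11, 12, 3, 1, 0, 2, 1, 3, 2, 0], [], [⟨1, 2979, [11, 13, 11, 12]⟩, ⟨1, 25, []⟩, ⟨1, 23, []⟩, ⟨1, 22, []⟩, ⟨1, 22, []⟩, ⟨1, 25, []⟩, ⟨1, 22, []⟩, ⟨1, 22, []⟩, ⟨1, 25, []⟩, ⟨1, 28, []⟩, ⟨1, 30, []⟩, ⟨1, 212, [2, 7, 13, 11, 12, 8, 11, 4]⟩, ⟨1, 134, []⟩, ⟨1, 135, []⟩, ⟨1, 134, []⟩, ⟨1, 271, [13, 11, 12, 11, 12, 8, 12, 11]⟩]⟩,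
 ⟨4, 7, 3007, [], [⟨1, 3006, []⟩], []⟩,
 ⟨7, 7, 2980, [4, 12, 13, 11, 4, 3, 1, 0, 2, 1, 3, 2, 0], [], [⟨1, 2979, [4, 12, 13, 11, 4]⟩, ⟨1, 22, []⟩, ⟨1, 22, []⟩, ⟨1, 25, []⟩, ⟨1, 49, [0, 4, 7, 11, 13, 11, 4, 11]⟩, ⟨1, 40, []⟩, ⟨1, 96, [8, 12, 8, 11, 12, 8, 11, 12, 13]⟩]⟩,
 ⟨4, 7, 3009, [], [⟨1, 3008, []⟩], []⟩,
 ⟨7, 7, 2980, [12, 13, 11, 4, 3, 1, 0, 2, 1, 3, 2, 0], [], [⟨1, 2979, [12, 13, 11, 4]⟩, ⟨1, 22, []⟩, ⟨1, 25, []⟩, ⟨1, 22, []⟩, ⟨1, 22, []⟩, ⟨1, 36, []⟩, ⟨1, 49, [0, 12, 11, 4, 11, 12, 7, 13]⟩, ⟨1, 43, []⟩, ⟨1, 42, []⟩, ⟨1, 96, [0, 7, 12, 11, 4, 11, 12, 8, 13]⟩]⟩,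
 ⟨4, 7, 3011, [], [⟨1, 3010, []⟩], []⟩]
theorem chk61 : and2 (D.chkL PF61 2958) (Nat.beq (Nat.add 2958 PF61.length) 3012) = true := by decide +kernel

def PF62 : List DPf := [⟨7, 7, 2980, [0, 4, 12, 13, 11, 4, 3, 1, 0, 2, 1, 3, 2, 0], [], [⟨1, 2979, [0, 4, 12, 13, 11, 4]⟩, ⟨1, 24, []⟩, ⟨1, 22, []⟩, ⟨1, 25, []⟩, ⟨1, 22, []⟩, ⟨1, 21, []⟩, ⟨1, 30, []⟩, ⟨1, 2976, [12, 13, 11, 4, 11]⟩, ⟨1, 2997, [2, 8, 11, 4, 11, 13, 11, 4, 11]⟩]⟩,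
 ⟨4, 7, 3013, [], [⟨1, 3012, []⟩], []⟩,
 ⟨7, 7, 2980, [2, 4, 7, 11, 4, 12, 3, 1, 0, 2, 1, 3, 2, 0], [], [⟨1, 2979, [2, 4, 7, 11, 4, 12]⟩, ⟨1, 24, []⟩, ⟨1, 23, []⟩, ⟨1, 22, []⟩, ⟨1, 25, []⟩, ⟨1, 22, []⟩, ⟨1, 22, []⟩, ⟨1, 30, []⟩, ⟨1, 28, []⟩, ⟨1, 212, [2, 7, 13, 11, 12, 8, 12, 11, 4]⟩, ⟨1, 134, []⟩, ⟨1, 135, []⟩, ⟨1, 440, [11, 2, 4, 11, 12, 7, 11, 13]⟩]⟩,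
 ⟨4, 7, 3015, [], [⟨1, 3014, []⟩], []⟩,
 ⟨7, 7, 2980, [4, 7, 12, 8, 11, 12, 3, 1, 0, 2, 1, 3, 2, 0], [], [⟨1, 2979, [4, 7, 12, 8, 11, 12]⟩, ⟨1, 22, []⟩, ⟨1, 22, []⟩, ⟨1, 25, []⟩, ⟨1, 28, []⟩, ⟨1, 30, []⟩, ⟨1, 30, []⟩, ⟨1, 36, []⟩, ⟨1, 36, []⟩, ⟨1, 212, [11, 2, 4, 11, 13, 11, 12, 11]⟩, ⟨1, 135, []⟩, ⟨1, 969, [0, 11, 12, 7, 11, 4, 12, 13]⟩]⟩,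
 ⟨4, 7, 3017, [], [⟨1, 3016, []⟩], []⟩,
 ⟨7, 7, 2980, [4, 11, 4, 11, 12, 3, 1, 0, 2, 1, 3, 2, 0], [], [⟨1, 2979, [4, 11, 4, 11, 12]⟩, ⟨1, 20, []⟩, ⟨1, 25, []⟩, ⟨1, 23, []⟩, ⟨1, 22, []⟩, ⟨1, 25, []⟩, ⟨1, 22, []⟩, ⟨1, 22, []⟩, ⟨1, 28, []⟩, ⟨1, 28, []⟩, ⟨1, 36, []⟩, ⟨1, 212, [7, 12, 8, 11, 4, 12, 13, 11, 4, 12]⟩, ⟨1, 134, []⟩, ⟨1, 1032, [2, 4, 12, 11, 12, 11, 13]⟩]⟩,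
 ⟨4, 7, 3019, [], [⟨1, 3018, []⟩], []⟩,
 ⟨7, 7, 2980, [4, 11, 12, 11, 4, 3, 1, 0, 2, 1, 3, 2, 0], [], [⟨1, 2979, [4, 11, 12, 11, 4]⟩, ⟨1, 24, []⟩, ⟨1, 22, []⟩, ⟨1, 25, []⟩, ⟨1, 22, []⟩, ⟨1, 25, []⟩, ⟨1, 30, []⟩, ⟨1, 22, []⟩, ⟨1, 36, []⟩, ⟨1, 36, []⟩, ⟨1, 212, [0, 4, 7, 11, 12, 8, 11, 4, 11, 12, 11]⟩, ⟨1, 1057, [8, 11, 2, 12, 11, 13]⟩]⟩,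
 ⟨4, 7, 3021, [], [⟨1, 3020, []⟩], []⟩,
 ⟨7, 7, 2980, [8, 12, 8, 11, 12, 13, 3, 1, 0, 2, 1, 3, 2, 0], [], [⟨1, 2979, [8, 12, 8, 11, 12, 13]⟩, ⟨1, 23, []⟩, ⟨1, 22, []⟩, ⟨1, 22, []⟩, ⟨1, 21, []⟩, ⟨1, 28, []⟩, ⟨1, 28, []⟩, ⟨1, 30, []⟩, ⟨1, 36, []⟩, ⟨1, 212, [2, 4, 8, 13, 11, 4, 12, 11]⟩, ⟨1, 134, []⟩, ⟨1, 135, []⟩, ⟨1, 440, [11, 12, 7, 12, 11, 4, 12, 7, 13]⟩]⟩,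
 ⟨4, 7, 3023, [], [⟨1, 3022, []⟩], []⟩,
 ⟨7, 7, 2980, [7, 12, 7, 11, 12, 3, 1, 0, 2, 1, 3, 2, 0], [], [⟨1, 2979, [7, 12, 7, 11, 12]⟩, ⟨1, 25, []⟩, ⟨1, 23, []⟩, ⟨1, 22, []⟩, ⟨1, 22, []⟩, ⟨1, 25, []⟩, ⟨1, 22, []⟩, ⟨1, 22, []⟩, ⟨1, 21, []⟩, ⟨1, 28, []⟩, ⟨1, 30, []⟩, ⟨1, 36, []⟩, ⟨1, 212, [13, 11, 12, 8, 11, 4, 11, 13, 11]⟩, ⟨1, 134, []⟩, ⟨1, 135, []⟩, ⟨1, 969, [0, 12, 8, 13, 11, 12, 7, 11, 12, 8, 12]⟩]⟩,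
 ⟨4, 7, 3025, [], [⟨1, 3024, []⟩], []⟩,
 ⟨7, 7, 2980, [11, 12, 8, 11, 12, 13, 3, 1, 0, 2, 1, 3, 2, 0], [], [⟨1, 2979, [11, 12, 8, 11, 12, 13]⟩, ⟨1, 23, []⟩, ⟨1, 28, []⟩, ⟨1, 28, []⟩, ⟨1, 212, [12, 7, 13, 11, 12, 11, 12, 8, 12]⟩, ⟨1, 1032, [12, 8, 13, 11, 2, 12, 7, 11, 4, 12]⟩]⟩,
 ⟨4, 7, 3027, [], [⟨1, 3026, []⟩], []⟩,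
 ⟨7, 7, 2980, [7, 11, 12, 13, 3, 1, 0, 2, 1, 3, 2, 0], [], [⟨1, 2979, [7, 11, 12, 13]⟩, ⟨1, 20, []⟩, ⟨1, 24, []⟩, ⟨1, 22, []⟩, ⟨1, 22, []⟩, ⟨1, 28, []⟩, ⟨1, 28, []⟩, ⟨1, 30, []⟩, ⟨1, 30, []⟩, ⟨1, 212, [13, 11, 2, 4, 12, 11, 4]⟩, ⟨1, 135, []⟩, ⟨1, 969, [0, 4, 11, 12, 7, 12, 11, 13]⟩]⟩,
 ⟨4, 7, 3029, [], [⟨1, 3028, []⟩], []⟩,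
 ⟨7, 7, 2980, [12, 11, 12, 13, 11, 4, 3, 1, 0, 2, 1, 3, 2, 0], [], [⟨1, 2979, [12, 11, 12, 13, 11, 4]⟩, ⟨1, 20, []⟩, ⟨1, 25, []⟩, ⟨1, 23, []⟩, ⟨1, 22, []⟩, ⟨1, 22, []⟩, ⟨1, 25, []⟩, ⟨1, 22, []⟩, ⟨1, 21, []⟩, ⟨1, 36, []⟩, ⟨1, 212, [12, 11, 12, 7, 11, 12, 8, 13, 11]⟩, ⟨1, 134, []⟩, ⟨1, 135, []⟩, ⟨1, 2648, [2, 11, 4, 13, 11, 12, 8, 12, 11]⟩]⟩,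
 ⟨4, 7, 3031, [], [⟨1, 3030, []⟩], []⟩,
 ⟨7, 7, 2980, [12, 8, 13, 11, 4, 12, 3, 1, 0, 2, 1, 3, 2, 0], [], [⟨1, 2979, [12, 8, 13, 11, 4, 12]⟩, ⟨1, 25, []⟩, ⟨1, 36, []⟩, ⟨1, 2976, [0, 12, 8, 12, 11, 4, 12, 13, 11, 4]⟩, ⟨1, 2978, []⟩, ⟨1, 3004, [0, 12, 8, 13, 11, 12, 7, 11, 4, 12]⟩]⟩,
 ⟨4, 7, 3033, [], [⟨1, 3032, []⟩], []⟩,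
 ⟨7, 7, 2980, [11, 12, 11, 4, 3, 1, 0, 2, 1, 3, 2, 0], [], [⟨1, 2979, [11, 12, 11, 4]⟩, ⟨1, 24, []⟩, ⟨1, 23, []⟩, ⟨1, 22, []⟩, ⟨1, 25, []⟩, ⟨1, 22, []⟩, ⟨1, 25, []⟩, ⟨1, 22, []⟩, ⟨1, 28, []⟩, ⟨1, 36, []⟩, ⟨1, 212, [2, 8, 11, 4, 11, 12, 7]⟩, ⟨1, 1057, [0, 7, 13, 11, 12, 7, 11, 12]⟩]⟩,
 ⟨4, 7, 3035, [], [⟨1, 3034, []⟩], []⟩,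
 ⟨7, 7, 2980, [0, 12, 7, 11, 4, 12, 13, 3, 1, 0, 2, 1, 3, 2, 0], [], [⟨1, 2979, [0, 12, 7, 11, 4, 12, 13]⟩, ⟨1, 25, []⟩, ⟨1, 24, []⟩, ⟨1, 22, []⟩, ⟨1, 25, []⟩, ⟨1, 22, []⟩, ⟨1, 25, []⟩, ⟨1, 28, []⟩, ⟨1, 30, []⟩, ⟨1, 36, []⟩, ⟨1, 212, [2, 4, 12, 11, 12, 8, 13, 11, 4, 12]⟩, ⟨1, 135, []⟩, ⟨1, 134, []⟩, ⟨1, 959, [2, 4, 11, 12, 7, 13, 11, 12, 7, 11]⟩]⟩,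
 ⟨4, 7, 3037, [], [⟨1, 3036, []⟩], []⟩,
 ⟨7, 7, 2980, [4, 12, 7, 11, 12, 3, 1, 0, 2, 1, 3, 2, 0], [], [⟨1, 2979, [4, 12, 7, 11, 12]⟩, ⟨1, 24, []⟩, ⟨1, 22, []⟩, ⟨1, 25, []⟩, ⟨1, 22, []⟩, ⟨1, 25, []⟩, ⟨1, 30, []⟩, ⟨1, 30, []⟩, ⟨1, 36, []⟩, ⟨1, 36, []⟩, ⟨1, 212, [2, 4, 12, 11, 12, 8, 13, 11, 12, 11]⟩, ⟨1, 135, []⟩, ⟨1, 134, []⟩, ⟨1, 271, [0, 13, 11, 12, 7, 11, 12, 8, 11]⟩]⟩,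
 ⟨4, 7, 3039, [], [⟨1, 3038, []⟩], []⟩,
 ⟨7, 7, 2980, [12, 7, 13, 11, 4, 12, 3, 1, 0, 2, 1, 3, 2, 0], [], [⟨1, 2979, [12, 7, 13, 11, 4, 12]⟩, ⟨1, 25, []⟩, ⟨1, 23, []⟩, ⟨1, 22, []⟩, ⟨1, 22, []⟩, ⟨1, 25, []⟩, ⟨1, 28, []⟩, ⟨1, 28, []⟩, ⟨1, 30, []⟩, ⟨1, 36, []⟩, ⟨1, 212, [12, 7, 11, 4, 11, 12, 7, 11]⟩, ⟨1, 135, []⟩, ⟨1, 932, [4, 12, 11, 12, 7, 12, 11, 13]⟩]⟩,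
 ⟨4, 7, 3041, [], [⟨1, 3040, []⟩], []⟩,
 ⟨7, 7, 2980, [11, 4, 13, 11, 4, 11, 12, 3, 1, 0, 2, 1, 3, 2, 0], [], [⟨1, 2979, [11, 4, 13, 11, 4, 11, 12]⟩, ⟨1, 23, []⟩, ⟨1, 22, []⟩, ⟨1, 25, []⟩, ⟨1, 22, []⟩, ⟨1, 21, []⟩, ⟨1, 36, []⟩, ⟨1, 2976, [2, 8, 12, 7, 11, 12, 8, 12, 11]⟩, ⟨1, 2978, []⟩, ⟨1, 2999, [2, 4, 12, 11, 12, 8, 12, 11, 12, 13]⟩]⟩,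
 ⟨4, 7, 3043, [], [⟨1, 3042, []⟩], []⟩,
 ⟨7, 7, 2980, [2, 4, 7, 12, 11, 4, 3, 1, 0, 2, 1, 3, 2, 0], [], [⟨1, 2979, [2, 4, 7, 12, 11, 4]⟩, ⟨1, 20, []⟩, ⟨1, 22, []⟩, ⟨1, 25, []⟩, ⟨1, 22, []⟩, ⟨1, 25, []⟩, ⟨1, 21, []⟩, ⟨1, 2976, [4, 12, 13, 11, 4, 11]⟩, ⟨1, 2978, []⟩, ⟨1, 2977, []⟩, ⟨1, 2999, [2, 4, 7, 11, 13, 11, 4, 11]⟩]⟩,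
 ⟨4, 7, 3045, [], [⟨1, 3044, []⟩], []⟩,
 ⟨7, 7, 2980, [2, 4, 11, 4, 11, 12, 3, 1, 0, 2, 1, 3, 2, 0], [], [⟨1, 2979, [2, 4, 11, 4, 11, 12]⟩, ⟨1, 25, []⟩, ⟨1, 24, []⟩, ⟨1, 23, []⟩, ⟨1, 22, []⟩, ⟨1, 36, []⟩, ⟨1, 36, []⟩, ⟨1, 2976, [11, 12, 8, 11, 12, 8, 11, 13, 11]⟩, ⟨1, 2978, []⟩, ⟨1, 2978, []⟩, ⟨1, 3004, [4, 12, 11, 2, 13, 11, 4, 11, 12, 8]⟩]⟩,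
 ⟨4, 7, 3047, [], [⟨1, 3046, []⟩], []⟩,
 ⟨7, 7, 2980, [8, 11, 12, 7, 11, 12, 3, 1, 0, 2, 1, 3, 2, 0], [], [⟨1, 2979, [8, 11, 12, 7, 11, 12]⟩, ⟨1, 20, []⟩, ⟨1, 24, []⟩, ⟨1, 22, []⟩, ⟨1, 25, []⟩, ⟨1, 22, []⟩, ⟨1, 25, []⟩, ⟨1, 22, []⟩, ⟨1, 28, []⟩, ⟨1, 36, []⟩, ⟨1, 36, []⟩, ⟨1, 2976, [4, 11, 4, 12, 11, 12, 8, 13, 11, 12]⟩, ⟨1, 2978, []⟩, ⟨1, 2978, []⟩, ⟨1, 2977, []⟩, ⟨1, 2999, [8, 12, 11, 4, 13, 11, 4, 11, 12, 7]⟩]⟩,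
 ⟨4, 7, 3049, [], [⟨1, 3048, []⟩], []⟩,
 ⟨7, 7, 2980, [11, 12, 13, 11, 4, 3, 1, 0, 2, 1, 3, 2, 0], [], [⟨1, 2979, [11, 12, 13, 11, 4]⟩, ⟨1, 20, []⟩, ⟨1, 24, []⟩, ⟨1, 30, []⟩, ⟨1, 22, []⟩, ⟨1, 36, []⟩, ⟨1, 36, []⟩, ⟨1, 212, [0, 12, 8, 12, 13, 11, 4, 11, 12, 11]⟩, ⟨1, 618, [11, 4, 13, 11, 12, 11, 4]⟩]⟩,
 ⟨4, 7, 3051, [], [⟨1, 3050, []⟩], []⟩,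
 ⟨7, 7, 2980, [4, 11, 4, 12, 13, 11, 4, 3, 1, 0, 2, 1, 3, 2, 0], [], [⟨1, 2979, [4, 11, 4, 12, 13, 11, 4]⟩, ⟨1, 25, []⟩, ⟨1, 23, []⟩, ⟨1, 22, []⟩, ⟨1, 25, []⟩, ⟨1, 28, []⟩, ⟨1, 30, []⟩, ⟨1, 28, []⟩, ⟨1, 36, []⟩, ⟨1, 36, []⟩, ⟨1, 212, [11, 4, 11, 4, 12, 13, 11, 4, 12, 8]⟩, ⟨1, 1032, [11, 2, 13, 11, 12, 7, 11, 4]⟩]⟩,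
 ⟨4, 7, 3053, [], [⟨1, 3052, []⟩], []⟩,
 ⟨7, 7, 2980, [12, 8, 11, 12, 3, 1, 0, 2, 1, 3, 2, 0], [], [⟨1, 2979, [12, 8, 11, 12]⟩, ⟨1, 20, []⟩, ⟨1, 25, []⟩, ⟨1, 24, []⟩, ⟨1, 22, []⟩, ⟨1, 22, []⟩, ⟨1, 25, []⟩, ⟨1, 22, []⟩, ⟨1, 21, []⟩, ⟨1, 30, []⟩, ⟨1, 36, []⟩, ⟨1, 212, [4, 12, 7, 13, 11, 2, 12, 8, 11, 12]⟩, ⟨1, 134, []⟩, ⟨1, 135, []⟩, ⟨1, 134, []⟩, ⟨1, 271, [4, 11, 12, 8, 11, 4, 13, 11]⟩]⟩,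
 ⟨4, 7, 3055, [], [⟨1, 3054, []⟩], []⟩,
 ⟨7, 7, 2980, [11, 4, 11, 12, 3, 1, 0, 2, 1, 3, 2, 0], [], [⟨1, 2979, [11, 4, 11, 12]⟩, ⟨1, 24, []⟩, ⟨1, 23, []⟩, ⟨1, 28, []⟩, ⟨1, 30, []⟩, ⟨1, 28, []⟩, ⟨1, 36, []⟩, ⟨1, 36, []⟩, ⟨1, 212, [13, 11, 2, 12, 8, 11, 12, 7, 11, 12]⟩, ⟨1, 134, []⟩, ⟨1, 135, []⟩, ⟨1, 440, [7, 12, 7, 11, 12, 8, 13]⟩]⟩,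
 ⟨4, 7, 3057, [], [⟨1, 3056, []⟩], []⟩,
 ⟨8, 7, 2980, [7, 11, 4, 13, 11, 12, 0, 2, 3, 4, 2, 1, 2, 0, 1, 3, 2, 0], [], [⟨1, 2979, [7, 11, 4, 13, 11, 12]⟩, ⟨1, 20, []⟩, ⟨1, 24, []⟩, ⟨1, 22, []⟩, ⟨1, 25, []⟩, ⟨1, 22, []⟩, ⟨1, 25, []⟩, ⟨1, 30, []⟩, ⟨1, 212, [7, 12, 13, 11, 4, 12, 7, 11, 12, 8]⟩, ⟨1, 134, []⟩, ⟨1, 135, []⟩, ⟨1, 2648, [2, 7, 12, 11, 12]⟩]⟩,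
 ⟨4, 7, 3059, [], [⟨1, 3058, []⟩], []⟩]
theorem chk62 : and2 (D.chkL PF62 3012) (Nat.beq (Nat.add 3012 PF62.length) 3060) = true := by decide +kernel

def PF63 : List DPf := [⟨8, 7, 2980, [0, 4, 12, 13, 11, 12, 0, 2, 3, 4, 2, 1, 2, 0, 1, 3, 2, 0], [], [⟨1, 2979, [0, 4, 12, 13, 11, 12]⟩, ⟨1, 20, []⟩, ⟨1, 23, []⟩, ⟨1, 28, []⟩, ⟨1, 2976, [0, 11, 12, 8, 13, 11, 12, 7, 11, 12]⟩, ⟨1, 2978, []⟩, ⟨1, 3004, [2, 12, 11, 4, 11, 12, 8, 11, 4]⟩]⟩,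
 ⟨4, 7, 3061, [], [⟨1, 3060, []⟩], []⟩,
 ⟨8, 7, 2980, [13, 11, 4, 12, 11, 12, 0, 2, 3, 4, 2, 1, 2, 0, 1, 3, 2, 0], [], [⟨1, 2979, [13, 11, 4, 12, 11, 12]⟩, ⟨1, 20, []⟩, ⟨1, 23, []⟩, ⟨1, 28, []⟩, ⟨1, 2976, [4, 8, 12, 11, 12, 7, 11, 4, 13]⟩, ⟨1, 2977, []⟩, ⟨1, 2999, [2, 8, 12, 8, 11, 12, 8, 11, 4, 12]⟩]⟩,
 ⟨4, 7, 3063, [], [⟨1, 3062, []⟩], []⟩,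
 ⟨8, 7, 2980, [0, 11, 4, 13, 11, 12, 0, 2, 3, 4, 2, 1, 2, 0, 1, 3, 2, 0], [], [⟨1, 2979, [0, 11, 4, 13, 11, 12]⟩, ⟨1, 20, []⟩, ⟨1, 25, []⟩, ⟨1, 24, []⟩, ⟨1, 22, []⟩, ⟨1, 22, []⟩, ⟨1, 25, []⟩, ⟨1, 22, []⟩, ⟨1, 30, []⟩, ⟨1, 212, [0, 8, 11, 13, 11, 12, 11, 12, 8, 12]⟩, ⟨1, 135, []⟩, ⟨1, 134, []⟩, ⟨1, 959, [0, 4, 11, 13, 11, 4, 12, 11, 4, 12, 13, 11]⟩]⟩,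
 ⟨4, 7, 3065, [], [⟨1, 3064, []⟩], []⟩,
 ⟨15, 7, 2980, [0, 2, 5, 2, 0], [], [⟨1, 2979, []⟩, ⟨1, 24, []⟩, ⟨1, 22, []⟩, ⟨1, 25, []⟩, ⟨1, 22, []⟩, ⟨1, 21, []⟩, ⟨1, 30, []⟩, ⟨1, 22, []⟩, ⟨1, 212, [11, 12, 11, 12, 7, 13, 11]⟩]⟩,
 ⟨4, 7, 3067, [], [⟨1, 3066, []⟩], []⟩,
 ⟨17, 7, 2980, [7, 11, 13, 5, 5, 3, 6, 6, 2, 0], [], [⟨1, 2979, [7, 11, 13]⟩, ⟨1, 25, []⟩, ⟨1, 22, []⟩, ⟨1, 25, []⟩, ⟨1, 22, []⟩, ⟨1, 25, []⟩, ⟨1, 22, []⟩, ⟨1, 22, []⟩, ⟨1, 36, []⟩, ⟨1, 36, []⟩, ⟨1, 49, [0, 7, 11, 12, 8, 11, 4, 12, 13, 11]⟩, ⟨1, 42, []⟩, ⟨1, 40, []⟩, ⟨1, 2982, [4, 7, 12, 11, 12, 8, 11, 4]⟩]⟩,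
 ⟨7, 5, 140, [2, 8, 11, 12, 7, 11, 12, 3, 1, 0, 2, 1, 3, 2, 0], [], [⟨1, 139, [2, 8, 11, 12, 7, 11, 12]⟩, ⟨1, 135, []⟩, ⟨1, 1004, [4, 12, 8, 11, 12, 8, 11, 12, 8, 11]⟩, ⟨1, 134, []⟩, ⟨1, 135, []⟩, ⟨1, 3000, [0, 12, 13, 11, 12, 8, 11, 12, 7, 13]⟩]⟩,
 ⟨4, 5, 3070, [], [⟨1, 3069, []⟩], []⟩,
 ⟨8, 5, 140, [11, 4, 13, 11, 4, 0, 2, 3, 4, 2, 1, 2, 0, 1, 3, 2, 0], [], [⟨1, 139, [11, 4, 13, 11, 4]⟩, ⟨1, 855, [12, 8, 11, 12, 7, 11, 12, 7, 11, 4]⟩, ⟨1, 134, []⟩, ⟨1, 135, []⟩, ⟨1, 3067, [2, 7, 11, 12, 13, 11, 12, 7]⟩]⟩,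
 ⟨4, 5, 3072, [], [⟨1, 3071, []⟩], []⟩,
 ⟨7, 6, 141, [7, 13, 11, 12, 3, 1, 0, 2, 1, 3, 2, 0], [], [⟨1, 140, [7, 13, 11, 12]⟩, ⟨1, 86, []⟩, ⟨1, 3071, [8, 13, 11, 4, 11, 13]⟩, ⟨1, 2978, []⟩, ⟨1, 2978, []⟩, ⟨1, 3068, [2, 8, 12, 11, 4, 12, 7]⟩]⟩,
 ⟨4, 6, 3074, [], [⟨1, 3073, []⟩], []⟩,
 ⟨8, 6, 141, [2, 4, 11, 4, 0, 2, 3, 4, 2, 1, 2, 0, 1, 3, 2, 0], [], [⟨1, 140, [2, 4, 11, 4]⟩, ⟨1, 90, []⟩, ⟨1, 86, []⟩, ⟨1, 101, [0, 11, 12, 7, 11, 4, 12, 11, 13, 11]⟩, ⟨1, 90, []⟩, ⟨1, 90, []⟩, ⟨1, 3061, [2, 11, 4, 11, 12, 11, 4]⟩]⟩,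
 ⟨4, 6, 3076, [], [⟨1, 3075, []⟩], []⟩,
 ⟨5, 4, 92, [11, 13, 3, 2, 0], [], [⟨1, 91, [11, 13]⟩, ⟨1, 90, []⟩, ⟨1, 90, []⟩, ⟨1, 101, [2, 7, 12, 8, 11, 13, 11, 12, 7]⟩, ⟨1, 90, []⟩, ⟨1, 90, []⟩, ⟨1, 3061, [12, 7, 12, 11, 12, 8]⟩]⟩,
 ⟨4, 4, 3078, [], [⟨1, 3077, []⟩], []⟩,
 ⟨7, 6, 187, [4, 3, 1, 0, 2, 1, 3, 2, 0], [], [⟨1, 186, [4]⟩, ⟨1, 135, []⟩, ⟨1, 1113, [0, 8]⟩, ⟨1, 135, []⟩, ⟨1, 134, []⟩, ⟨1, 2998, [2, 4, 11, 12, 7, 11, 4, 12, 11]⟩]⟩,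
 ⟨4, 6, 3080, [], [⟨1, 3079, []⟩], []⟩,
 ⟨7, 6, 187, [11, 13, 11, 4, 3, 1, 0, 2, 1, 3, 2, 0], [], [⟨1, 186, [11, 13, 11, 4]⟩, ⟨1, 135, []⟩, ⟨1, 134, []⟩, ⟨1, 486, [2, 4, 12, 8, 11, 13]⟩, ⟨1, 87, []⟩, ⟨1, 90, []⟩, ⟨1, 90, []⟩, ⟨1, 2996, [0, 7, 12, 8, 13, 11, 4, 12, 11, 4, 13]⟩]⟩,
 ⟨4, 6, 3082, [], [⟨1, 3081, []⟩], []⟩,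
 ⟨7, 6, 143, [12, 7, 13, 11, 12, 3, 1, 0, 2, 1, 3, 2, 0], [], [⟨1, 142, [12, 7, 13, 11, 12]⟩, ⟨1, 87, []⟩, ⟨1, 90, []⟩, ⟨1, 87, []⟩, ⟨1, 3005, [0, 12, 13, 11, 12, 7, 11, 12, 13]⟩, ⟨1, 2978, []⟩, ⟨1, 2978, []⟩, ⟨1, 3068, [2, 4, 12, 8, 11, 13, 11, 12, 11]⟩]⟩,
 ⟨4, 6, 3084, [], [⟨1, 3083, []⟩], []⟩,
 ⟨12, 6, 143, [0, 8, 13, 11, 4, 12, 0, 2, 3, 1, 0, 2, 1, 2, 4, 3, 2, 0, 2, 0], [], [⟨1, 142, [0, 8, 13, 11, 4, 12]⟩, ⟨1, 86, []⟩, ⟨1, 107, [2, 8, 12, 11, 4, 11, 12, 7, 11, 4]⟩, ⟨1, 76, []⟩, ⟨1, 3077, [8, 11, 12, 8, 11, 4, 13, 11, 4]⟩]⟩,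
 ⟨4, 6, 3086, [], [⟨1, 3085, []⟩], []⟩,
 ⟨7, 6, 145, [8, 12, 7, 11, 12, 3, 1, 0, 2, 1, 3, 2, 0], [], [⟨1, 144, [8, 12, 7, 11, 12]⟩, ⟨1, 90, []⟩, ⟨1, 86, []⟩, ⟨1, 270, [0, 4, 8, 12, 7, 11, 13, 11, 4, 11, 4]⟩, ⟨1, 135, []⟩, ⟨1, 134, []⟩, ⟨1, 3000, [0, 12, 7, 11, 13, 11, 4, 12, 11, 12, 8]⟩]⟩,
 ⟨4, 6, 3088, [], [⟨1, 3087, []⟩], []⟩,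
 ⟨7, 6, 188, [7, 12, 13, 11, 12, 3, 1, 0, 2, 1, 3, 2, 0], [], [⟨1, 187, [7, 12, 13, 11, 12]⟩, ⟨1, 2231, [4, 7, 11, 4, 13, 11]⟩, ⟨1, 134, []⟩, ⟨1, 3000, [0, 7, 11, 13, 11, 12, 7]⟩]⟩,
 ⟨4, 6, 3090, [], [⟨1, 3089, []⟩], []⟩,
 ⟨9, 3, 151, [12, 11, 13, 11, 0, 2, 4, 1, 0, 2, 1, 3, 2, 0], [], [⟨1, 150, [12, 11, 13, 11]⟩, ⟨1, 135, []⟩, ⟨1, 291, [4, 8, 11, 2, 13, 11, 12, 11]⟩, ⟨1, 90, []⟩, ⟨1, 90, []⟩, ⟨1, 3005, [0, 8, 11, 4, 11, 12, 7, 11, 4, 12]⟩]⟩,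
 ⟨4, 3, 3092, [], [⟨1, 3091, []⟩], []⟩,
 ⟨5, 6, 162, [3, 2, 0], [], [⟨1, 161, []⟩, ⟨1, 149, [4, 11, 13, 11, 12, 11, 4, 11, 4, 13]⟩, ⟨1, 3091, [0, 4, 7, 12, 11, 4, 12, 8]⟩]⟩,
 ⟨4, 6, 3094, [], [⟨1, 3093, []⟩], []⟩,
 ⟨6, 6, 162, [0, 2, 4, 3, 2, 0], [], [⟨1, 161, []⟩, ⟨1, 149, [12, 11, 4, 11, 4, 12, 13, 11, 12]⟩, ⟨1, 42, []⟩, ⟨1, 46, []⟩, ⟨1, 46, []⟩, ⟨1, 3091, [2, 8, 13, 11, 12, 7, 11, 12, 11, 13, 11]⟩]⟩,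
 ⟨4, 6, 3096, [], [⟨1, 3095, []⟩], []⟩,
 ⟨6, 6, 162, [12, 13, 0, 2, 4, 3, 2, 0], [], [⟨1, 161, [12, 13]⟩, ⟨1, 135, []⟩, ⟨1, 1397, [7, 11, 12, 8, 13, 11, 12, 11, 12]⟩, ⟨1, 3095, [4, 11, 4, 11, 12, 13]⟩]⟩,
 ⟨4, 6, 3098, [], [⟨1, 3097, []⟩], []⟩,
 ⟨8, 6, 162, [4, 11, 4, 0, 2, 3, 4, 2, 1, 2, 0, 1, 3, 2, 0], [], [⟨1, 161, [4, 11, 4]⟩, ⟨1, 149, [0, 4, 11, 13, 11, 4, 12]⟩, ⟨1, 43, []⟩, ⟨1, 42, []⟩, ⟨1, 40, []⟩, ⟨1, 3091, [4, 7, 11, 12, 11, 4, 12, 8, 11]⟩]⟩,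
 ⟨4, 6, 3100, [], [⟨1, 3099, []⟩], []⟩,
 ⟨8, 6, 162, [0, 8, 12, 7, 11, 12, 13, 0, 2, 3, 4, 2, 1, 2, 0, 1, 3, 2, 0], [], [⟨1, 161, [0, 8, 12, 7, 11, 12, 13]⟩, ⟨1, 135, []⟩, ⟨1, 134, []⟩, ⟨1, 178, [8, 12, 13, 11, 4, 11, 12, 7, 11]⟩, ⟨1, 134, []⟩, ⟨1, 3099, [0, 8, 11, 12, 8, 13, 11, 12, 11]⟩]⟩,
 ⟨4, 6, 3102, [], [⟨1, 3101, []⟩], []⟩,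
 ⟨13, 6, 162, [13, 11, 12, 0, 2, 3, 1, 2, 0, 1, 3, 2, 0], [], [⟨1, 161, [13, 11, 12]⟩, ⟨1, 135, []⟩, ⟨1, 1397, [7, 11, 13, 11, 12, 8, 11]⟩, ⟨1, 134, []⟩, ⟨1, 135, []⟩, ⟨1, 134, []⟩, ⟨1, 3097, [7, 12, 11, 12, 8, 12, 11, 4, 12, 11]⟩]⟩,
 ⟨4, 6, 3104, [], [⟨1, 3103, []⟩], []⟩,
 ⟨13, 6, 162, [7, 12, 11, 4, 12, 0, 2, 3, 1, 2, 0, 1, 3, 2, 0], [], [⟨1, 161, [7, 12, 11, 4, 12]⟩, ⟨1, 164, [0, 11, 4, 12, 13, 11, 4, 11, 12, 7, 13]⟩, ⟨1, 135, []⟩, ⟨1, 3097, [0, 11, 12, 8, 11, 4, 13, 11, 4, 12]⟩]⟩,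
 ⟨4, 6, 3106, [], [⟨1, 3105, []⟩], []⟩,
 ⟨13, 6, 162, [2, 4, 11, 4, 0, 2, 3, 1, 2, 0, 1, 3, 2, 0], [], [⟨1, 161, [2, 4, 11, 4]⟩, ⟨1, 149, [0, 4, 13, 11, 12]⟩, ⟨1, 43, []⟩, ⟨1, 40, []⟩, ⟨1, 46, []⟩, ⟨1, 46, []⟩, ⟨1, 3091, [2, 7, 12, 11, 12, 8, 12, 13]⟩]⟩,
 ⟨4, 6, 3108, [], [⟨1, 3107, []⟩], []⟩,
 ⟨7, 6, 163, [4, 12, 13, 11, 4, 12, 3, 1, 0, 2, 1, 3, 2, 0], [], [⟨1, 162, [4, 12, 13, 11, 4, 12]⟩, ⟨1, 1676, [4, 12, 7, 11, 12, 11, 13, 11]⟩, ⟨1, 134, []⟩, ⟨1, 135, []⟩, ⟨1, 134, []⟩, ⟨1, 3053, [11, 2, 4, 12, 11, 13]⟩]⟩,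
 ⟨4, 6, 3110, [], [⟨1, 3109, []⟩], []⟩,
 ⟨7, 6, 163, [12, 11, 4, 13, 11, 12, 3, 1, 0, 2, 1, 3, 2, 0], [], [⟨1, 162, [12, 11, 4, 13, 11, 12]⟩, ⟨1, 134, []⟩, ⟨1, 135, []⟩, ⟨1, 177, [7, 12, 8, 11, 12, 8, 11, 12, 7]⟩, ⟨1, 134, []⟩, ⟨1, 135, []⟩, ⟨1, 134, []⟩, ⟨1, 3099, [0, 4, 13, 11, 12, 11, 4]⟩]⟩,
 ⟨4, 6, 3112, [], [⟨1, 3111, []⟩], []⟩]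
theorem chk63 : and2 (D.chkL PF63 3060) (Nat.beq (Nat.add 3060 PF63.length) 3113) = true := by decide +kernel

def PF64 : List DPf := [⟨8, 6, 163, [7, 11, 12, 13, 11, 12, 0, 2, 3, 4, 2, 1, 2, 0, 1, 3, 2, 0], [], [⟨1, 162, [7, 11, 12, 13, 11, 12]⟩, ⟨1, 1395, [0, 8, 11, 13, 11, 12, 7, 11, 4]⟩, ⟨1, 134, []⟩, ⟨1, 135, []⟩, ⟨1, 134, []⟩, ⟨1, 3099, [7, 11, 4, 13, 11, 4, 11, 12, 11, 12]⟩]⟩,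
 ⟨4, 6, 3114, [], [⟨1, 3113, []⟩], []⟩,
 ⟨8, 6, 163, [7, 12, 11, 4, 13, 0, 2, 3, 4, 2, 1, 2, 0, 1, 3, 2, 0], [], [⟨1, 162, [7, 12, 11, 4, 13]⟩, ⟨1, 1393, [11, 2, 4, 11, 13, 11, 4, 11]⟩, ⟨1, 135, []⟩, ⟨1, 134, []⟩, ⟨1, 3095, [12, 7, 11, 2, 12, 13, 11, 12, 8]⟩]⟩,
 ⟨4, 6, 3116, [], [⟨1, 3115, []⟩], []⟩,
 ⟨8, 6, 163, [12, 8, 12, 11, 12, 0, 2, 3, 4, 2, 1, 2, 0, 1, 3, 2, 0], [], [⟨1, 162, [12, 8, 12, 11, 12]⟩, ⟨1, 134, []⟩, ⟨1, 135, []⟩, ⟨1, 544, [7, 12, 11, 13, 11, 12, 11]⟩, ⟨1, 86, []⟩, ⟨1, 87, []⟩, ⟨1, 86, []⟩, ⟨1, 90, []⟩, ⟨1, 90, []⟩, ⟨1, 90, []⟩, ⟨1, 3007, [12, 11, 2, 4, 11, 12, 7, 11, 12]⟩]⟩,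
 ⟨4, 6, 3118, [], [⟨1, 3117, []⟩], []⟩,
 ⟨8, 6, 163, [7, 12, 13, 11, 12, 0, 2, 3, 4, 2, 1, 2, 0, 1, 3, 2, 0], [], [⟨1, 162, [7, 12, 13, 11, 12]⟩, ⟨1, 1387, [7, 12, 11, 12, 7, 13, 11, 4, 11, 4]⟩, ⟨1, 134, []⟩, ⟨1, 135, []⟩, ⟨1, 134, []⟩, ⟨1, 3111, [12, 11, 2, 12, 13, 11, 12, 7, 12]⟩]⟩,
 ⟨4, 6, 3120, [], [⟨1, 3119, []⟩], []⟩,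
 ⟨12, 6, 163, [2, 4, 8, 12, 11, 12, 0, 2, 3, 1, 0, 2, 1, 2, 4, 3, 2, 0, 2, 0], [], [⟨1, 162, [2, 4, 8, 12, 11, 12]⟩, ⟨1, 135, []⟩, ⟨1, 134, []⟩, ⟨1, 162, [4, 7, 13, 11, 12, 7, 11, 12, 8, 11]⟩, ⟨1, 3097, [0, 4, 8, 13, 11, 12, 11, 4, 13]⟩]⟩,
 ⟨4, 6, 3122, [], [⟨1, 3121, []⟩], []⟩,
 ⟨13, 6, 163, [12, 13, 11, 12, 11, 4, 0, 2, 3, 1, 2, 0, 1, 3, 2, 0], [], [⟨1, 162, [12, 13, 11, 12, 11, 4]⟩, ⟨1, 616, [2, 4, 8, 12, 11, 4, 12, 8]⟩, ⟨1, 86, []⟩, ⟨1, 90, []⟩, ⟨1, 87, []⟩, ⟨1, 90, []⟩, ⟨1, 90, []⟩, ⟨1, 3015, [8, 12, 13, 11, 2, 4, 12, 8, 11, 12]⟩]⟩,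
 ⟨4, 6, 3124, [], [⟨1, 3123, []⟩], []⟩,
 ⟨17, 6, 163, [4, 8, 12, 7, 5, 5, 3, 6, 6, 2, 0], [], [⟨1, 162, [4, 8, 12, 7]⟩, ⟨1, 134, []⟩, ⟨1, 135, []⟩, ⟨1, 620, [2, 11, 12, 7, 11, 12, 8, 11, 12, 11, 12]⟩, ⟨1, 86, []⟩, ⟨1, 87, []⟩, ⟨1, 86, []⟩, ⟨1, 90, []⟩, ⟨1, 90, []⟩, ⟨1, 90, []⟩, ⟨1, 3009, [4, 7, 12, 8, 13, 11, 12, 11, 4]⟩]⟩,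
 ⟨4, 6, 3126, [], [⟨1, 3125, []⟩], []⟩,
 ⟨17, 6, 164, [11, 12, 8, 12, 13, 5, 5, 3, 6, 6, 2, 0], [], [⟨1, 163, [11, 12, 8, 12, 13]⟩, ⟨1, 134, []⟩, ⟨1, 135, []⟩, ⟨1, 794, [0, 11, 12, 8, 13, 11, 4, 12, 11, 13]⟩, ⟨1, 86, []⟩, ⟨1, 87, []⟩, ⟨1, 86, []⟩, ⟨1, 90, []⟩, ⟨1, 86, []⟩, ⟨1, 3033, [2, 8, 11, 4, 11, 12, 11, 12, 7, 13]⟩]⟩,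
 ⟨4, 6, 3128, [], [⟨1, 3127, []⟩], []⟩,
 ⟨17, 6, 167, [7, 11, 13, 5, 5, 3, 6, 6, 2, 0], [], [⟨1, 166, [7, 11, 13]⟩, ⟨1, 134, []⟩, ⟨1, 135, []⟩, ⟨1, 134, []⟩, ⟨1, 450, [4, 8, 11, 4, 11, 13, 11]⟩, ⟨1, 90, []⟩, ⟨1, 3069, [8, 12, 11, 12, 11, 13, 11, 4]⟩]⟩,
 ⟨4, 6, 3130, [], [⟨1, 3129, []⟩], []⟩,
 ⟨7, 6, 165, [12, 11, 12, 13, 11, 4, 3, 1, 0, 2, 1, 3, 2, 0], [], [⟨1, 164, [12, 11, 12, 13, 11, 4]⟩, ⟨1, 135, []⟩, ⟨1, 716, [0, 4, 7, 13, 11, 12, 7, 11, 12, 8, 13]⟩, ⟨1, 90, []⟩, ⟨1, 90, []⟩, ⟨1, 90, []⟩, ⟨1, 3023, [2, 12, 11, 4, 12, 13, 11, 12]⟩]⟩,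
 ⟨4, 6, 3132, [], [⟨1, 3131, []⟩], []⟩,
 ⟨7, 6, 165, [0, 8, 11, 12, 13, 11, 4, 3, 1, 0, 2, 1, 3, 2, 0], [], [⟨1, 164, [0, 8, 11, 12, 13, 11, 4]⟩, ⟨1, 1098, [8, 11, 12, 7, 13, 11, 12, 8, 12, 11]⟩, ⟨1, 134, []⟩, ⟨1, 135, []⟩, ⟨1, 3059, [4, 7, 12, 11, 4, 11, 13, 11]⟩]⟩,
 ⟨4, 6, 3134, [], [⟨1, 3133, []⟩], []⟩,
 ⟨7, 6, 165, [7, 11, 4, 12, 11, 4, 3, 1, 0, 2, 1, 3, 2, 0], [], [⟨1, 164, [7, 11, 4, 12, 11, 4]⟩, ⟨1, 134, []⟩, ⟨1, 135, []⟩, ⟨1, 546, [4, 11, 4, 12, 11, 12, 8, 11, 13, 11]⟩, ⟨1, 90, []⟩, ⟨1, 86, []⟩, ⟨1, 90, []⟩, ⟨1, 3051, [2, 4, 7, 11, 12, 11, 13, 11, 12, 8, 11]⟩]⟩,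
 ⟨4, 6, 3136, [], [⟨1, 3135, []⟩], []⟩,
 ⟨8, 6, 165, [4, 12, 7, 13, 11, 12, 0, 2, 3, 4, 2, 1, 2, 0, 1, 3, 2, 0], [], [⟨1, 164, [4, 12, 7, 13, 11, 12]⟩, ⟨1, 134, []⟩, ⟨1, 1408, [4, 7, 12, 11, 13, 11, 4, 12]⟩, ⟨1, 135, []⟩, ⟨1, 134, []⟩, ⟨1, 3121, [0, 8, 11, 4, 12, 11, 13, 11, 4, 11]⟩]⟩,
 ⟨4, 6, 3138, [], [⟨1, 3137, []⟩], []⟩,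
 ⟨8, 6, 165, [0, 7, 13, 11, 12, 0, 2, 3, 4, 2, 1, 2, 0, 1, 3, 2, 0], [], [⟨1, 164, [0, 7, 13, 11, 12]⟩, ⟨1, 1690, [0, 4, 7, 12, 11, 12, 8, 13]⟩, ⟨1, 134, []⟩, ⟨1, 3081, [4, 8, 12, 13, 11, 12, 11, 4, 11, 13]⟩]⟩,
 ⟨4, 6, 3140, [], [⟨1, 3139, []⟩], []⟩,
 ⟨13, 6, 165, [2, 12, 7, 11, 12, 0, 2, 3, 1, 2, 0, 1, 3, 2, 0], [], [⟨1, 164, [2, 12, 7, 11, 12]⟩, ⟨1, 135, []⟩, ⟨1, 542, [4, 11, 12, 11, 13]⟩, ⟨1, 90, []⟩, ⟨1, 90, []⟩, ⟨1, 86, []⟩, ⟨1, 90, []⟩, ⟨1, 3047, [12, 7, 13, 11, 12, 7, 11, 12, 13]⟩]⟩,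
 ⟨4, 6, 3142, [], [⟨1, 3141, []⟩], []⟩,
 ⟨17, 6, 165, [11, 12, 7, 13, 5, 5, 3, 6, 6, 2, 0], [], [⟨1, 164, [11, 12, 7, 13]⟩, ⟨1, 134, []⟩, ⟨1, 135, []⟩, ⟨1, 134, []⟩, ⟨1, 331, [11, 4, 11, 12, 7, 13, 11, 4, 11, 12]⟩, ⟨1, 90, []⟩, ⟨1, 87, []⟩, ⟨1, 90, []⟩, ⟨1, 3033, [4, 7, 11, 4, 13, 11, 12, 8, 11, 4]⟩]⟩,
 ⟨4, 6, 3144, [], [⟨1, 3143, []⟩], []⟩,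
 ⟨8, 6, 168, [0, 4, 7, 13, 11, 12, 0, 2, 3, 4, 2, 1, 2, 0, 1, 3, 2, 0], [], [⟨1, 167, [0, 4, 7, 13, 11, 12]⟩, ⟨1, 134, []⟩, ⟨1, 135, []⟩, ⟨1, 134, []⟩, ⟨1, 624, [12, 8, 11, 12, 13, 11, 12, 11, 13]⟩, ⟨1, 86, []⟩, ⟨1, 3055, [2, 7, 11, 4, 12, 11, 12, 7, 11, 13]⟩]⟩,
 ⟨4, 6, 3146, [], [⟨1, 3145, []⟩], []⟩,
 ⟨7, 6, 171, [12, 11, 4, 13, 3, 1, 0, 2, 1, 3, 2, 0], [], [⟨1, 170, [12, 11, 4, 13]⟩, ⟨1, 135, []⟩, ⟨1, 1009, [0, 8, 12, 7, 11, 13, 11, 12, 8, 11, 4]⟩, ⟨1, 86, []⟩, ⟨1, 90, []⟩, ⟨1, 87, []⟩, ⟨1, 3015, [0, 4, 12, 7, 13, 11, 4, 11, 12, 8, 11]⟩]⟩,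
 ⟨4, 6, 3148, [], [⟨1, 3147, []⟩], []⟩,
 ⟨7, 6, 154, [0, 4, 12, 13, 11, 12, 3, 1, 0, 2, 1, 3, 2, 0], [], [⟨1, 153, [0, 4, 12, 13, 11, 12]⟩, ⟨1, 135, []⟩, ⟨1, 271, [0, 4, 7, 11, 4, 12, 13, 11, 4, 12, 8]⟩, ⟨1, 3071, [2, 12, 8, 12, 11, 4, 13, 11, 4]⟩]⟩,
 ⟨4, 6, 3150, [], [⟨1, 3149, []⟩], []⟩,
 ⟨12, 6, 154, [4, 11, 12, 13, 11, 4, 0, 2, 3, 1, 0, 2, 1, 2, 4, 3, 2, 0, 2, 0], [], [⟨1, 153, [4, 11, 12, 13, 11, 4]⟩, ⟨1, 134, []⟩, ⟨1, 135, []⟩, ⟨1, 337, [4, 11, 4, 12, 11, 12, 8, 11, 13, 11]⟩, ⟨1, 86, []⟩, ⟨1, 90, []⟩, ⟨1, 86, []⟩, ⟨1, 3023, [4, 8, 12, 13, 11, 12, 8, 12]⟩]⟩,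
 ⟨4, 6, 3152, [], [⟨1, 3151, []⟩], []⟩,
 ⟨13, 6, 154, [8, 12, 7, 11, 12, 0, 2, 3, 1, 2, 0, 1, 3, 2, 0], [], [⟨1, 153, [8, 12, 7, 11, 12]⟩, ⟨1, 134, []⟩, ⟨1, 1332, [2, 11, 12, 8]⟩, ⟨1, 135, []⟩, ⟨1, 3019, [2, 8, 11, 4, 11, 12, 7, 13]⟩]⟩,
 ⟨4, 6, 3154, [], [⟨1, 3153, []⟩], []⟩,
 ⟨17, 6, 154, [11, 4, 13, 5, 5, 3, 6, 6, 2, 0], [], [⟨1, 153, [11, 4, 13]⟩, ⟨1, 134, []⟩, ⟨1, 135, []⟩, ⟨1, 134, []⟩, ⟨1, 702, [0, 7, 11, 12, 8, 11, 13, 11]⟩, ⟨1, 87, []⟩, ⟨1, 90, []⟩, ⟨1, 90, []⟩, ⟨1, 86, []⟩, ⟨1, 3051, [2, 11, 4, 11, 12, 7, 11, 12, 8, 13]⟩]⟩,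
 ⟨4, 6, 3156, [], [⟨1, 3155, []⟩], []⟩,
 ⟨17, 6, 154, [8, 11, 4, 13, 5, 5, 3, 6, 6, 2, 0], [], [⟨1, 153, [8, 11, 4, 13]⟩, ⟨1, 134, []⟩, ⟨1, 135, []⟩, ⟨1, 134, []⟩, ⟨1, 766, [7, 12, 7, 11, 12, 13, 11, 4, 12]⟩, ⟨1, 86, []⟩, ⟨1, 90, []⟩, ⟨1, 87, []⟩, ⟨1, 3039, [2, 7, 13, 11, 4, 12, 11]⟩]⟩,
 ⟨4, 6, 3158, [], [⟨1, 3157, []⟩], []⟩]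
theorem chk64 : and2 (D.chkL PF64 3113) (Nat.beq (Nat.add 3113 PF64.length) 3159) = true := by decide +kernel

def PF65 : List DPf := [⟨7, 6, 172, [2, 4, 7, 12, 11, 4, 3, 1, 0, 2, 1, 3, 2, 0], [], [⟨1, 171, [2, 4, 7, 12, 11, 4]⟩, ⟨1, 135, []⟩, ⟨1, 2231, [12, 11, 4, 13]⟩, ⟨1, 134, []⟩, ⟨1, 3000, [2, 4, 8, 13, 11, 12, 7, 11, 12, 11, 13]⟩]⟩,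
 ⟨4, 6, 3160, [], [⟨1, 3159, []⟩], []⟩,
 ⟨7, 6, 155, [4, 11, 12, 3, 1, 0, 2, 1, 3, 2, 0], [], [⟨1, 154, [4, 11, 12]⟩, ⟨1, 134, []⟩, ⟨1, 135, []⟩, ⟨1, 1699, [8, 12, 7, 11, 12, 7, 11, 13, 11, 4]⟩, ⟨1, 135, []⟩, ⟨1, 3141, [8, 12, 7, 11, 4, 11, 12, 7]⟩]⟩,
 ⟨4, 6, 3162, [], [⟨1, 3161, []⟩], []⟩,
 ⟨8, 6, 155, [7, 11, 12, 13, 0, 2, 3, 4, 2, 1, 2, 0, 1, 3, 2, 0], [], [⟨1, 154, [7, 11, 12, 13]⟩, ⟨1, 1207, [4, 8, 13, 11, 12, 8, 11, 12, 7, 11, 12]⟩, ⟨1, 3133, [4, 7, 11, 2, 12, 8, 12, 11]⟩]⟩,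
 ⟨4, 6, 3164, [], [⟨1, 3163, []⟩], []⟩,
 ⟨7, 6, 177, [4, 7, 12, 8, 13, 11, 12, 3, 1, 0, 2, 1, 3, 2, 0], [], [⟨1, 176, [4, 7, 12, 8, 13, 11, 12]⟩, ⟨1, 2625, [4, 7, 11, 12, 11, 13, 11, 12, 7, 11, 12]⟩, ⟨1, 3151, [0, 7, 11, 4, 13, 11, 12, 8]⟩]⟩,
 ⟨4, 6, 3166, [], [⟨1, 3165, []⟩], []⟩,
 ⟨12, 6, 177, [4, 12, 7, 11, 12, 13, 0, 2, 3, 1, 0, 2, 1, 2, 4, 3, 2, 0, 2, 0], [], [⟨1, 176, [4, 12, 7, 11, 12, 13]⟩, ⟨1, 134, []⟩, ⟨1, 135, []⟩, ⟨1, 134, []⟩, ⟨1, 416, [2, 11, 4, 13, 11, 12, 8, 11]⟩, ⟨1, 86, []⟩, ⟨1, 90, []⟩, ⟨1, 90, []⟩, ⟨1, 3009, [2, 4, 7, 11, 13, 11, 4, 11, 12, 8]⟩]⟩,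
 ⟨4, 6, 3168, [], [⟨1, 3167, []⟩], []⟩,
 ⟨17, 6, 177, [7, 11, 4, 13, 5, 5, 3, 6, 6, 2, 0], [], [⟨1, 176, [7, 11, 4, 13]⟩, ⟨1, 792, [4, 12, 7, 13, 11, 12, 8, 11, 4, 13]⟩, ⟨1, 86, []⟩, ⟨1, 90, []⟩, ⟨1, 3033, [7, 11, 2, 4, 11, 13, 11, 12, 11]⟩]⟩,
 ⟨4, 6, 3170, [], [⟨1, 3169, []⟩], []⟩,
 ⟨7, 6, 183, [2, 8, 11, 12, 7, 11, 12, 3, 1, 0, 2, 1, 3, 2, 0], [], [⟨1, 182, [2, 8, 11, 12, 7, 11, 12]⟩, ⟨1, 135, []⟩, ⟨1, 680, [0, 7, 11, 4, 12]⟩, ⟨1, 86, []⟩, ⟨1, 90, []⟩, ⟨1, 87, []⟩, ⟨1, 90, []⟩, ⟨1, 3055, [2, 8, 11, 4, 11, 12, 7, 13]⟩]⟩,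
 ⟨4, 6, 3172, [], [⟨1, 3171, []⟩], []⟩,
 ⟨7, 6, 183, [12, 8, 11, 12, 3, 1, 0, 2, 1, 3, 2, 0], [], [⟨1, 182, [12, 8, 11, 12]⟩, ⟨1, 135, []⟩, ⟨1, 134, []⟩, ⟨1, 2172, [2, 7, 11, 12, 8, 12, 11, 12, 13, 11]⟩, ⟨1, 134, []⟩, ⟨1, 3169, [0, 12, 7, 12, 11, 12, 7, 12, 11, 13]⟩]⟩,
 ⟨4, 6, 3174, [], [⟨1, 3173, []⟩], []⟩,
 ⟨8, 6, 183, [4, 12, 8, 13, 11, 12, 0, 2, 3, 4, 2, 1, 2, 0, 1, 3, 2, 0], [], [⟨1, 182, [4, 12, 8, 13, 11, 12]⟩, ⟨1, 135, []⟩, ⟨1, 1584, [4, 12, 7, 11, 4, 12, 8, 11, 13, 11, 12]⟩, ⟨1, 134, []⟩, ⟨1, 135, []⟩, ⟨1, 134, []⟩, ⟨1, 3037, [7, 13, 11, 4, 12, 11, 4, 12, 13, 11]⟩]⟩,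
 ⟨4, 6, 3176, [], [⟨1, 3175, []⟩], []⟩,
 ⟨8, 6, 178, [11, 12, 0, 2, 3, 4, 2, 1, 2, 0, 1, 3, 2, 0], [], [⟨1, 177, [11, 12]⟩, ⟨1, 134, []⟩, ⟨1, 548, [4, 8, 11, 2, 12, 7, 11, 12, 13]⟩, ⟨1, 86, []⟩, ⟨1, 90, []⟩, ⟨1, 86, []⟩, ⟨1, 90, []⟩, ⟨1, 3033, [12, 8, 12, 11, 12, 8, 12, 11, 13]⟩]⟩,
 ⟨4, 6, 3178, [], [⟨1, 3177, []⟩], []⟩,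
 ⟨8, 6, 178, [12, 11, 4, 0, 2, 3, 4, 2, 1, 2, 0, 1, 3, 2, 0], [], [⟨1, 177, [12, 11, 4]⟩, ⟨1, 490, [0, 11, 4, 12, 8, 11, 12, 11, 4]⟩, ⟨1, 87, []⟩, ⟨1, 90, []⟩, ⟨1, 3039, [7, 11, 13, 11, 4, 12, 11, 12, 8, 11]⟩]⟩,
 ⟨4, 6, 3180, [], [⟨1, 3179, []⟩], []⟩,
 ⟨7, 6, 184, [11, 12, 3, 1, 0, 2, 1, 3, 2, 0], [], [⟨1, 183, [11, 12]⟩, ⟨1, 135, []⟩, ⟨1, 134, []⟩, ⟨1, 1418, [11, 12, 7, 12, 13, 11, 12, 7]⟩, ⟨1, 134, []⟩, ⟨1, 3119, [0, 8, 13, 11, 4]⟩]⟩,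
 ⟨4, 6, 3182, [], [⟨1, 3181, []⟩], []⟩,
 ⟨8, 6, 184, [8, 11, 12, 13, 11, 12, 0, 2, 3, 4, 2, 1, 2, 0, 1, 3, 2, 0], [], [⟨1, 183, [8, 11, 12, 13, 11, 12]⟩, ⟨1, 135, []⟩, ⟨1, 134, []⟩, ⟨1, 1967, [2, 13, 11, 12, 11, 4, 13, 11, 12, 7]⟩, ⟨1, 134, []⟩, ⟨1, 135, []⟩, ⟨1, 3129, [2, 8, 12, 11, 13, 11]⟩]⟩,
 ⟨4, 6, 3184, [], [⟨1, 3183, []⟩], []⟩,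
 ⟨8, 6, 184, [12, 8, 11, 12, 0, 2, 3, 4, 2, 1, 2, 0, 1, 3, 2, 0], [], [⟨1, 183, [12, 8, 11, 12]⟩, ⟨1, 135, []⟩, ⟨1, 134, []⟩, ⟨1, 638, [8, 13, 11, 2, 12, 8, 11, 4, 11, 13]⟩, ⟨1, 90, []⟩, ⟨1, 90, []⟩, ⟨1, 90, []⟩, ⟨1, 86, []⟩, ⟨1, 3013, [2, 11, 12, 7, 11, 4, 11, 12, 8, 12, 13]⟩]⟩,
 ⟨4, 6, 3186, [], [⟨1, 3185, []⟩], []⟩,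
 ⟨8, 6, 184, [12, 8, 13, 11, 4, 12, 0, 2, 3, 4, 2, 1, 2, 0, 1, 3, 2, 0], [], [⟨1, 183, [12, 8, 13, 11, 4, 12]⟩, ⟨1, 772, [8, 12, 11, 4, 12, 11, 4, 13]⟩, ⟨1, 86, []⟩, ⟨1, 90, []⟩, ⟨1, 87, []⟩, ⟨1, 90, []⟩, ⟨1, 3023, [7, 11, 2, 4, 11, 12, 11, 4, 11]⟩]⟩,
 ⟨4, 6, 3188, [], [⟨1, 3187, []⟩], []⟩,
 ⟨8, 6, 184, [0, 4, 7, 13, 11, 4, 12, 0, 2, 3, 4, 2, 1, 2, 0, 1, 3, 2, 0], [], [⟨1, 183, [0, 4, 7, 13, 11, 4, 12]⟩, ⟨1, 772, [11, 2, 13, 11, 4, 11]⟩, ⟨1, 90, []⟩, ⟨1, 90, []⟩, ⟨1, 90, []⟩, ⟨1, 3007, [8, 12, 7, 11, 12, 7, 13, 11, 12, 8]⟩]⟩,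
 ⟨4, 6, 3190, [], [⟨1, 3189, []⟩], []⟩,
 ⟨13, 6, 184, [4, 12, 11, 4, 0, 2, 3, 1, 2, 0, 1, 3, 2, 0], [], [⟨1, 183, [4, 12, 11, 4]⟩, ⟨1, 134, []⟩, ⟨1, 1588, [4, 8, 12, 13, 11, 12, 7, 11]⟩, ⟨1, 134, []⟩, ⟨1, 135, []⟩, ⟨1, 134, []⟩, ⟨1, 3079, [2, 4, 12, 11, 12, 11, 4, 13, 11]⟩]⟩,
 ⟨4, 6, 3192, [], [⟨1, 3191, []⟩], []⟩,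
 ⟨7, 6, 175, [0, 4, 13, 11, 12, 3, 1, 0, 2, 1, 3, 2, 0], [], [⟨1, 174, [0, 4, 13, 11, 12]⟩, ⟨1, 134, []⟩, ⟨1, 2849, [11, 13, 11, 4, 11, 13]⟩, ⟨1, 135, []⟩, ⟨1, 3123, [4, 12, 7, 11, 12, 11, 13, 11, 12]⟩]⟩,
 ⟨4, 6, 3194, [], [⟨1, 3193, []⟩], []⟩,
 ⟨5, 6, 179, [12, 13, 3, 2, 0], [], [⟨1, 178, [12, 13]⟩, ⟨1, 135, []⟩, ⟨1, 2736, [7, 12, 11, 2, 4, 11, 12, 11, 13]⟩, ⟨1, 134, []⟩, ⟨1, 3129, [4, 7, 12, 11, 4, 11, 12, 13, 11]⟩]⟩,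
 ⟨4, 6, 3196, [], [⟨1, 3195, []⟩], []⟩,
 ⟨13, 6, 179, [11, 12, 7, 11, 12, 0, 2, 3, 1, 2, 0, 1, 3, 2, 0], [], [⟨1, 178, [11, 12, 7, 11, 12]⟩, ⟨1, 135, []⟩, ⟨1, 1922, [11, 12, 8, 11, 13, 11, 4, 11, 13]⟩, ⟨1, 134, []⟩, ⟨1, 135, []⟩, ⟨1, 134, []⟩, ⟨1, 3183, [11, 12, 7, 11, 4, 13, 11, 4, 11]⟩]⟩,
 ⟨4, 6, 3198, [], [⟨1, 3197, []⟩], []⟩,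
 ⟨7, 6, 180, [2, 4, 7, 12, 11, 4, 3, 1, 0, 2, 1, 3, 2, 0], [], [⟨1, 179, [2, 4, 7, 12, 11, 4]⟩, ⟨1, 134, []⟩, ⟨1, 135, []⟩, ⟨1, 2112, [7, 11, 13, 11, 12, 7, 11, 4, 11, 4]⟩, ⟨1, 134, []⟩, ⟨1, 135, []⟩, ⟨1, 3031, [2, 8, 11, 12, 7, 11, 12, 11, 13]⟩]⟩,
 ⟨4, 6, 3200, [], [⟨1, 3199, []⟩], []⟩,
 ⟨7, 6, 180, [7, 12, 8, 13, 11, 4, 12, 3, 1, 0, 2, 1, 3, 2, 0], [], [⟨1, 179, [7, 12, 8, 13, 11, 4, 12]⟩, ⟨1, 134, []⟩, ⟨1, 135, []⟩, ⟨1, 134, []⟩, ⟨1, 2881, [4, 13, 11, 12, 8, 11, 12, 11, 12, 7]⟩, ⟨1, 134, []⟩, ⟨1, 135, []⟩, ⟨1, 134, []⟩, ⟨1, 3089, [2, 4, 11, 4, 11, 13, 11, 4, 12]⟩]⟩,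
 ⟨4, 6, 3202, [], [⟨1, 3201, []⟩], []⟩,
 ⟨7, 6, 180, [12, 7, 12, 11, 12, 3, 1, 0, 2, 1, 3, 2, 0], [], [⟨1, 179, [12, 7, 12, 11, 12]⟩, ⟨1, 134, []⟩, ⟨1, 135, []⟩, ⟨1, 134, []⟩, ⟨1, 2498, [8, 12, 13, 11, 2, 4, 12, 11]⟩, ⟨1, 135, []⟩, ⟨1, 3151, [11, 12, 11, 4, 11, 12, 8, 12]⟩]⟩,
 ⟨4, 6, 3204, [], [⟨1, 3203, []⟩], []⟩,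
 ⟨8, 6, 240, [2, 4, 8, 11, 4, 12, 0, 2, 3, 4, 2, 1, 2, 0, 1, 3, 2, 0], [], [⟨1, 239, [2, 4, 8, 11, 4, 12]⟩, ⟨1, 39, []⟩, ⟨1, 43, []⟩, ⟨1, 42, []⟩, ⟨1, 41, []⟩, ⟨1, 40, []⟩, ⟨1, 46, []⟩, ⟨1, 46, []⟩, ⟨1, 68, []⟩, ⟨1, 130, [0, 7, 13, 11, 4, 12, 11]⟩, ⟨1, 87, []⟩, ⟨1, 90, []⟩, ⟨1, 86, []⟩, ⟨1, 3009, [2, 13, 11, 12, 11, 4, 11, 12, 7]⟩]⟩,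
 ⟨4, 6, 3206, [], [⟨1, 3205, []⟩], []⟩,
 ⟨17, 6, 240, [11, 12, 7, 12, 13, 5, 5, 3, 6, 6, 2, 0], [], [⟨1, 239, [11, 12, 7, 12, 13]⟩, ⟨1, 43, []⟩, ⟨1, 41, []⟩, ⟨1, 46, []⟩, ⟨1, 46, []⟩, ⟨1, 68, []⟩, ⟨1, 119, [11, 12, 13, 11, 4, 11, 12, 11]⟩, ⟨1, 90, []⟩, ⟨1, 90, []⟩, ⟨1, 90, []⟩, ⟨1, 3007, [2, 12, 8, 12, 11, 12, 7, 11]⟩]⟩,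
 ⟨4, 6, 3208, [], [⟨1, 3207, []⟩], []⟩]
theorem chk65 : and2 (D.chkL PF65 3159) (Nat.beq (Nat.add 3159 PF65.length) 3209) = true := by decide +kernel

def PF66 : List DPf := [⟨7, 6, 236, [7, 12, 8, 11, 4, 12, 3, 1, 0, 2, 1, 3, 2, 0], [], [⟨1, 235, [7, 12, 8, 11, 4, 12]⟩, ⟨1, 43, []⟩, ⟨1, 41, []⟩, ⟨1, 68, []⟩, ⟨1, 68, []⟩, ⟨1, 238, [11, 12, 7, 12, 13, 11, 4, 12, 7, 11]⟩, ⟨1, 3045, [7, 12, 7, 11, 4, 11, 12, 11]⟩]⟩,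
 ⟨4, 6, 3210, [], [⟨1, 3209, []⟩], []⟩,
 ⟨8, 6, 236, [4, 11, 12, 13, 11, 4, 0, 2, 3, 4, 2, 1, 2, 0, 1, 3, 2, 0], [], [⟨1, 235, [4, 11, 12, 13, 11, 4]⟩, ⟨1, 39, []⟩, ⟨1, 43, []⟩, ⟨1, 46, []⟩, ⟨1, 46, []⟩, ⟨1, 68, []⟩, ⟨1, 98, [2, 4, 7, 12, 11, 12, 8, 11, 12, 7]⟩, ⟨1, 3003, [12, 7, 11, 2, 12, 8, 11]⟩]⟩,
 ⟨4, 6, 3212, [], [⟨1, 3211, []⟩], []⟩,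
 ⟨7, 6, 850, [13, 3, 1, 0, 2, 1, 3, 2, 0], [], [⟨1, 849, [13]⟩, ⟨1, 134, []⟩, ⟨1, 135, []⟩, ⟨1, 1569, [0, 11, 4, 12, 7, 11, 12, 8]⟩, ⟨1, 3157, [7, 11, 12, 8, 11, 12, 7]⟩]⟩,
 ⟨4, 6, 3214, [], [⟨1, 3213, []⟩], []⟩,
 ⟨13, 6, 850, [0, 8, 12, 7, 13, 11, 12, 0, 2, 3, 1, 2, 0, 1, 3, 2, 0], [], [⟨1, 849, [0, 8, 12, 7, 13, 11, 12]⟩, ⟨1, 135, []⟩, ⟨1, 134, []⟩, ⟨1, 923, [4, 7, 11, 12, 11, 4, 11, 12, 7, 11]⟩, ⟨1, 134, []⟩, ⟨1, 135, []⟩, ⟨1, 134, []⟩, ⟨1, 3135, [0, 4, 8, 11, 13, 11, 4, 12, 11, 13]⟩]⟩,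
 ⟨4, 6, 3216, [], [⟨1, 3215, []⟩], []⟩,
 ⟨7, 5, 94, [0, 4, 13, 3, 1, 0, 2, 1, 3, 2, 0], [], [⟨1, 93, [0, 4, 13]⟩, ⟨1, 42, []⟩, ⟨1, 41, []⟩, ⟨1, 40, []⟩, ⟨1, 46, []⟩, ⟨1, 46, []⟩, ⟨1, 68, []⟩, ⟨1, 68, []⟩, ⟨1, 250, [2, 8, 12, 8, 11, 12, 11, 4, 11]⟩, ⟨1, 134, []⟩, ⟨1, 135, []⟩, ⟨1, 134, []⟩, ⟨1, 3179, [4, 8, 11, 12, 11, 4, 11, 13, 11, 12]⟩]⟩,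
 ⟨4, 5, 3218, [], [⟨1, 3217, []⟩], []⟩,
 ⟨7, 5, 94, [0, 4, 8, 12, 13, 3, 1, 0, 2, 1, 3, 2, 0], [], [⟨1, 93, [0, 4, 8, 12, 13]⟩, ⟨1, 39, []⟩, ⟨1, 43, []⟩, ⟨1, 42, []⟩, ⟨1, 41, []⟩, ⟨1, 46, []⟩, ⟨1, 121, [2, 4, 12, 11, 4, 12, 11, 13, 11, 12]⟩, ⟨1, 90, []⟩, ⟨1, 87, []⟩, ⟨1, 90, []⟩, ⟨1, 90, []⟩, ⟨1, 3057, [2, 4, 7, 11, 12, 7, 11, 12, 11, 13]⟩]⟩,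
 ⟨4, 5, 3220, [], [⟨1, 3219, []⟩], []⟩,
 ⟨7, 5, 94, [0, 7, 11, 13, 11, 12, 3, 1, 0, 2, 1, 3, 2, 0], [], [⟨1, 93, [0, 7, 11, 13, 11, 12]⟩, ⟨1, 43, []⟩, ⟨1, 42, []⟩, ⟨1, 40, []⟩, ⟨1, 68, []⟩, ⟨1, 68, []⟩, ⟨1, 248, [8, 12, 7, 11, 12, 11, 12, 7, 12, 11]⟩, ⟨1, 135, []⟩, ⟨1, 3041, [4, 12, 11, 12, 7, 12, 13]⟩]⟩,
 ⟨4, 5, 3222, [], [⟨1, 3221, []⟩], []⟩,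
 ⟨17, 5, 94, [7, 12, 8, 13, 5, 5, 3, 6, 6, 2, 0], [], [⟨1, 93, [7, 12, 8, 13]⟩, ⟨1, 41, []⟩, ⟨1, 236, [4, 11, 13, 11, 4, 12, 11, 4, 13]⟩, ⟨1, 135, []⟩, ⟨1, 3083, [7, 12, 11, 2, 12, 8, 13, 11]⟩]⟩,
 ⟨4, 5, 3224, [], [⟨1, 3223, []⟩], []⟩,
 ⟨8, 6, 158, [0, 7, 13, 11, 12, 0, 2, 3, 4, 2, 1, 2, 0, 1, 3, 2, 0], [], [⟨1, 157, [0, 7, 13, 11, 12]⟩, ⟨1, 39, []⟩, ⟨1, 43, []⟩, ⟨1, 42, []⟩, ⟨1, 40, []⟩, ⟨1, 68, []⟩, ⟨1, 68, []⟩, ⟨1, 591, [0, 4, 11, 4, 12, 13, 11, 4, 12, 8, 11]⟩, ⟨1, 134, []⟩, ⟨1, 135, []⟩, ⟨1, 134, []⟩, ⟨1, 3189, [4, 12, 11, 12, 7, 11, 13, 11, 12, 11]⟩]⟩,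
 ⟨4, 6, 3226, [], [⟨1, 3225, []⟩], []⟩,
 ⟨7, 5, 313, [0, 4, 11, 12, 13, 3, 1, 0, 2, 1, 3, 2, 0], [], [⟨1, 312, [0, 4, 11, 12, 13]⟩, ⟨1, 134, []⟩, ⟨1, 135, []⟩, ⟨1, 1634, [2, 8, 12, 7, 13]⟩, ⟨1, 134, []⟩, ⟨1, 135, []⟩, ⟨1, 3049, [4, 12, 8, 11, 13]⟩]⟩,
 ⟨4, 5, 3228, [], [⟨1, 3227, []⟩], []⟩,
 ⟨7, 4, 83, [11, 13, 11, 4, 3, 1, 0, 2, 1, 3, 2, 0], [], [⟨1, 82, [11, 13, 11, 4]⟩, ⟨1, 46, []⟩, ⟨1, 779, [4, 8, 11, 13, 11, 12, 7, 11, 12, 13, 11]⟩, ⟨1, 135, []⟩, ⟨1, 134, []⟩, ⟨1, 3049, [7, 12, 13, 11, 12, 8, 12, 11, 12]⟩]⟩,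
 ⟨4, 4, 3230, [], [⟨1, 3229, []⟩], []⟩,
 ⟨7, 4, 83, [0, 4, 13, 11, 4, 11, 12, 3, 1, 0, 2, 1, 3, 2, 0], [], [⟨1, 82, [0, 4, 13, 11, 4, 11, 12]⟩, ⟨1, 43, []⟩, ⟨1, 40, []⟩, ⟨1, 68, []⟩, ⟨1, 68, []⟩, ⟨1, 250, [0, 8, 12, 11, 4, 13, 11, 4, 12]⟩, ⟨1, 134, []⟩, ⟨1, 3187, [8, 11, 4, 11, 12, 8, 13, 11, 12, 8]⟩]⟩,
 ⟨4, 4, 3232, [], [⟨1, 3231, []⟩], []⟩,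
 ⟨7, 6, 1375, [0, 12, 7, 11, 12, 13, 3, 1, 0, 2, 1, 3, 2, 0], [], [⟨1, 1374, [0, 12, 7, 11, 12, 13]⟩, ⟨1, 135, []⟩, ⟨1, 1300, [4, 11, 4, 12, 11, 12, 8, 11, 13, 11]⟩, ⟨1, 134, []⟩, ⟨1, 135, []⟩, ⟨1, 134, []⟩, ⟨1, 3119, [0, 8, 12, 8, 11, 12, 7, 11, 4, 11, 13]⟩]⟩,
 ⟨4, 6, 3234, [], [⟨1, 3233, []⟩], []⟩,
 ⟨7, 6, 270, [0, 4, 8, 12, 13, 3, 1, 0, 2, 1, 3, 2, 0], [], [⟨1, 269, [0, 4, 8, 12, 13]⟩, ⟨1, 731, [4, 11, 4, 12, 11, 12, 7, 12, 11]⟩, ⟨1, 3075, [2, 11, 12, 8, 11, 13, 11, 4, 12, 11]⟩]⟩,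
 ⟨4, 6, 3236, [], [⟨1, 3235, []⟩], []⟩,
 ⟨7, 6, 268, [7, 13, 11, 12, 3, 1, 0, 2, 1, 3, 2, 0], [], [⟨1, 267, [7, 13, 11, 12]⟩, ⟨1, 86, []⟩, ⟨1, 90, []⟩, ⟨1, 86, []⟩, ⟨1, 90, []⟩, ⟨1, 276, [4, 7, 11, 13, 11, 12, 11, 4, 11]⟩, ⟨1, 134, []⟩, ⟨1, 135, []⟩, ⟨1, 3101, [0, 4, 11, 4, 13, 11, 4, 12, 7]⟩]⟩,
 ⟨4, 6, 3238, [], [⟨1, 3237, []⟩], []⟩,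
 ⟨7, 6, 268, [7, 11, 4, 12, 11, 4, 3, 1, 0, 2, 1, 3, 2, 0], [], [⟨1, 267, [7, 11, 4, 12, 11, 4]⟩, ⟨1, 90, []⟩, ⟨1, 747, [4, 12, 11, 12, 7, 11, 12, 11, 12, 13]⟩, ⟨1, 3141, [13, 11, 12, 8, 11, 4, 13, 11]⟩]⟩,
 ⟨4, 6, 3240, [], [⟨1, 3239, []⟩], []⟩,
 ⟨17, 6, 268, [4, 8, 12, 5, 5, 3, 6, 6, 2, 0], [], [⟨1, 267, [4, 8, 12]⟩, ⟨1, 86, []⟩, ⟨1, 87, []⟩, ⟨1, 90, []⟩, ⟨1, 513, [11, 2, 12, 7, 12, 11, 13, 11, 4]⟩, ⟨1, 134, []⟩, ⟨1, 135, []⟩, ⟨1, 134, []⟩, ⟨1, 3029, [4, 8, 11, 13, 11, 4, 11, 13]⟩]⟩,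
 ⟨4, 6, 3242, [], [⟨1, 3241, []⟩], []⟩,
 ⟨17, 6, 1398, [12, 8, 12, 5, 5, 3, 6, 6, 2, 0], [], [⟨1, 1397, [12, 8, 12]⟩, ⟨1, 135, []⟩, ⟨1, 1143, [7, 11, 2, 12, 8, 13, 11, 12, 7, 11]⟩, ⟨1, 3085, [2, 12, 7, 11, 12, 8, 13, 11, 4]⟩]⟩,
 ⟨4, 6, 3244, [], [⟨1, 3243, []⟩], []⟩,
 ⟨17, 6, 391, [11, 13, 5, 5, 3, 6, 6, 2, 0], [], [⟨1, 390, [11, 13]⟩, ⟨1, 78, []⟩, ⟨1, 77, []⟩, ⟨1, 78, []⟩, ⟨1, 81, []⟩, ⟨1, 126, []⟩, ⟨1, 78, []⟩, ⟨1, 352, [0, 11, 12, 7, 12, 13, 11, 12, 11, 4]⟩, ⟨1, 135, []⟩, ⟨1, 3087, [4, 7, 13, 11, 12, 8, 12, 11, 4, 12]⟩]⟩,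
 ⟨4, 6, 3246, [], [⟨1, 3245, []⟩], []⟩,
 ⟨8, 5, 265, [8, 12, 7, 11, 12, 0, 2, 3, 4, 2, 1, 2, 0, 1, 3, 2, 0], [], [⟨1, 264, [8, 12, 7, 11, 12]⟩, ⟨1, 1959, [2, 4, 8, 11, 12, 7, 11, 12, 8, 13]⟩, ⟨1, 3237, [13, 11, 2, 12, 7, 11, 4, 11, 12]⟩]⟩,
 ⟨4, 5, 3248, [], [⟨1, 3247, []⟩], []⟩,
 ⟨17, 6, 266, [8, 12, 13, 5, 5, 3, 6, 6, 2, 0], [], [⟨1, 265, [8, 12, 13]⟩, ⟨1, 86, []⟩, ⟨1, 87, []⟩, ⟨1, 90, []⟩, ⟨1, 87, []⟩, ⟨1, 701, [4, 12, 11, 13, 11, 4, 12, 11, 4, 13]⟩, ⟨1, 134, []⟩, ⟨1, 135, []⟩, ⟨1, 3113, [11, 12, 7, 12, 13, 11, 12, 11, 4]⟩]⟩,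
 ⟨4, 6, 3250, [], [⟨1, 3249, []⟩], []⟩,
 ⟨7, 6, 824, [7, 11, 12, 8, 13, 11, 12, 3, 1, 0, 2, 1, 3, 2, 0], [], [⟨1, 823, [7, 11, 12, 8, 13, 11, 12]⟩, ⟨1, 1499, [2, 11, 4, 13, 11, 4, 12, 8, 11, 12]⟩, ⟨1, 134, []⟩, ⟨1, 135, []⟩, ⟨1, 3035, [4, 8, 12, 11, 4, 11, 13, 11, 12]⟩]⟩,
 ⟨4, 6, 3252, [], [⟨1, 3251, []⟩], []⟩,
 ⟨17, 6, 819, [11, 12, 7, 13, 5, 5, 3, 6, 6, 2, 0], [], [⟨1, 818, [11, 12, 7, 13]⟩, ⟨1, 134, []⟩, ⟨1, 794, [0, 11, 13, 11, 12, 7, 12, 11, 12, 11]⟩, ⟨1, 2996, [13, 11, 4, 11, 12, 11, 13]⟩]⟩,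
 ⟨4, 6, 3254, [], [⟨1, 3253, []⟩], []⟩,
 ⟨8, 6, 825, [7, 11, 12, 0, 2, 3, 4, 2, 1, 2, 0, 1, 3, 2, 0], [], [⟨1, 824, [7, 11, 12]⟩, ⟨1, 134, []⟩, ⟨1, 135, []⟩, ⟨1, 640, [8, 11, 2, 12, 8, 11, 13]⟩, ⟨1, 86, []⟩, ⟨1, 90, []⟩, ⟨1, 90, []⟩, ⟨1, 3219, [7, 11, 2, 4, 12, 13, 11, 12, 7]⟩]⟩,
 ⟨4, 6, 3256, [], [⟨1, 3255, []⟩], []⟩]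
theorem chk66 : and2 (D.chkL PF66 3209) (Nat.beq (Nat.add 3209 PF66.length) 3257) = true := by decide +kernel

def PF67 : List DPf := [⟨7, 6, 829, [4, 11, 4, 12, 3, 1, 0, 2, 1, 3, 2, 0], [], [⟨1, 828, [4, 11, 4, 12]⟩, ⟨1, 134, []⟩, ⟨1, 135, []⟩, ⟨1, 134, []⟩, ⟨1, 1478, [11, 12, 8, 11, 4, 11, 12, 11, 12, 8]⟩, ⟨1, 135, []⟩, ⟨1, 134, []⟩, ⟨1, 3205, [4, 11, 12, 11, 13, 11, 4, 12, 11]⟩]⟩,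
 ⟨4, 6, 3258, [], [⟨1, 3257, []⟩], []⟩,
 ⟨7, 6, 201, [0, 4, 8, 12, 13, 3, 1, 0, 2, 1, 3, 2, 0], [], [⟨1, 200, [0, 4, 8, 12, 13]⟩, ⟨1, 86, []⟩, ⟨1, 87, []⟩, ⟨1, 90, []⟩, ⟨1, 86, []⟩, ⟨1, 90, []⟩, ⟨1, 459, [8, 11, 2, 4, 11, 12, 7, 11, 13, 11]⟩, ⟨1, 134, []⟩, ⟨1, 3079, [0, 8, 11, 12, 7, 13, 11, 4, 11, 4, 12]⟩]⟩,
 ⟨4, 6, 3260, [], [⟨1, 3259, []⟩], []⟩,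
 ⟨17, 6, 833, [4, 12, 7, 13, 5, 5, 3, 6, 6, 2, 0], [], [⟨1, 832, [4, 12, 7, 13]⟩, ⟨1, 676, [11, 12, 7, 11, 13, 11, 12, 7]⟩, ⟨1, 86, []⟩, ⟨1, 90, []⟩, ⟨1, 86, []⟩, ⟨1, 90, []⟩, ⟨1, 3221, [2, 4, 12, 11, 4, 12, 8, 13, 11, 4, 12]⟩]⟩,
 ⟨4, 6, 3262, [], [⟨1, 3261, []⟩], []⟩,
 ⟨12, 6, 839, [2, 7, 12, 0, 2, 3, 1, 0, 2, 1, 2, 4, 3, 2, 0, 2, 0], [], [⟨1, 838, [2, 7, 12]⟩, ⟨1, 134, []⟩, ⟨1, 1493, [11, 2, 12, 7, 11, 12, 8]⟩, ⟨1, 134, []⟩, ⟨1, 135, []⟩, ⟨1, 134, []⟩, ⟨1, 3149, [7, 12, 7, 13, 11, 2, 12, 7, 11, 12]⟩]⟩,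
 ⟨4, 6, 3264, [], [⟨1, 3263, []⟩], []⟩,
 ⟨17, 7, 2980, [4, 7, 12, 8, 13, 5, 5, 3, 6, 6, 2, 0], [], [⟨1, 2979, [4, 7, 12, 8, 13]⟩, ⟨1, 25, []⟩, ⟨1, 24, []⟩, ⟨1, 23, []⟩, ⟨1, 22, []⟩, ⟨1, 25, []⟩, ⟨1, 22, []⟩, ⟨1, 25, []⟩, ⟨1, 22, []⟩, ⟨1, 28, []⟩, ⟨1, 28, []⟩, ⟨1, 30, []⟩, ⟨1, 30, []⟩, ⟨1, 36, []⟩, ⟨1, 36, []⟩, ⟨1, 212, [11, 12, 11, 13, 11, 12, 11, 12, 8]⟩, ⟨1, 134, []⟩, ⟨1, 135, []⟩, ⟨1, 134, []⟩, ⟨1, 3081, [4, 8, 11, 2, 13, 11, 12, 11, 4, 13]⟩]⟩,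
 ⟨17, 7, 2996, [7, 11, 13, 5, 5, 3, 6, 6, 2, 0], [], [⟨1, 2995, [7, 11, 13]⟩, ⟨1, 86, []⟩, ⟨1, 90, []⟩, ⟨1, 90, []⟩, ⟨1, 90, []⟩, ⟨1, 128, [4, 8, 11, 2, 12, 13, 11, 4, 12, 8]⟩, ⟨1, 86, []⟩, ⟨1, 90, []⟩, ⟨1, 87, []⟩, ⟨1, 90, []⟩, ⟨1, 90, []⟩, ⟨1, 3047, [0, 7, 12, 11, 4, 13, 11, 12, 8, 11, 4]⟩]⟩,
 ⟨0, 0, 0, [], [], []⟩,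
 ⟨2, 2, 3268, [], [⟨1, 3267, []⟩], [⟨1, 20, []⟩, ⟨1, 23, []⟩, ⟨1, 3267, [13]⟩]⟩,
 ⟨4, 2, 3268, [], [⟨1, 3267, []⟩], []⟩,
 ⟨8, 2, 2977, [8, 12, 13, 11, 4, 12, 0, 2, 3, 4, 2, 1, 2, 0, 1, 3, 2, 0], [], [⟨1, 2976, [8, 12, 13, 11, 4, 12]⟩, ⟨1, 2977, []⟩, ⟨1, 2981, []⟩, ⟨1, 2990, []⟩, ⟨1, 2990, []⟩, ⟨1, 2981, []⟩, ⟨1, 2979, [2, 4, 12, 7, 11, 12, 8, 11, 12]⟩, ⟨1, 20, []⟩, ⟨1, 24, []⟩, ⟨1, 22, []⟩, ⟨1, 25, []⟩, ⟨1, 22, []⟩, ⟨1, 22, []⟩, ⟨1, 21, []⟩, ⟨1, 36, []⟩, ⟨1, 3267, [7, 11, 2, 12, 11, 4, 13, 11, 4, 12]⟩]⟩,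
 ⟨2, 2, 3271, [], [⟨1, 3270, []⟩], [⟨1, 20, []⟩, ⟨1, 23, []⟩, ⟨1, 22, []⟩, ⟨1, 25, []⟩, ⟨1, 22, []⟩, ⟨1, 28, []⟩, ⟨1, 28, []⟩, ⟨1, 36, []⟩, ⟨1, 3267, [11, 4, 12, 7, 11, 12, 13]⟩]⟩,
 ⟨8, 2, 2977, [4, 8, 12, 11, 12, 0, 2, 3, 4, 2, 1, 2, 0, 1, 3, 2, 0], [], [⟨1, 2976, [4, 8, 12, 11, 12]⟩, ⟨1, 2981, []⟩, ⟨1, 2990, []⟩, ⟨1, 2990, []⟩, ⟨1, 2981, []⟩, ⟨1, 2979, [4, 12, 8, 11, 12, 7, 11, 12, 11, 13, 11]⟩, ⟨1, 25, []⟩, ⟨1, 22, []⟩, ⟨1, 25, []⟩, ⟨1, 22, []⟩, ⟨1, 25, []⟩, ⟨1, 22, []⟩, ⟨1, 22, []⟩, ⟨1, 21, []⟩, ⟨1, 30, []⟩, ⟨1, 3267, [2, 12, 11, 4, 13, 11, 12, 7]⟩]⟩,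
 ⟨2, 2, 3273, [], [⟨1, 3272, []⟩], [⟨1, 20, []⟩, ⟨1, 25, []⟩, ⟨1, 22, []⟩, ⟨1, 25, []⟩, ⟨1, 22, []⟩, ⟨1, 22, []⟩, ⟨1, 30, []⟩, ⟨1, 30, []⟩, ⟨1, 36, []⟩, ⟨1, 36, []⟩, ⟨1, 3267, [2, 11, 4, 12, 11, 12, 8, 13, 11]⟩]⟩,
 ⟨9, 3, 45, [4, 7, 11, 13, 11, 12, 0, 2, 4, 1, 0, 2, 1, 3, 2, 0], [], [⟨1, 44, [4, 7, 11, 13, 11, 12]⟩, ⟨1, 6, []⟩, ⟨1, 8, []⟩, ⟨1, 5, []⟩, ⟨1, 7, []⟩, ⟨1, 3, []⟩, ⟨1, 6, []⟩, ⟨1, 29, [2, 4, 11, 4, 11, 12, 8, 11, 4]⟩, ⟨1, 20, []⟩, ⟨1, 22, []⟩, ⟨1, 25, []⟩, ⟨1, 22, []⟩, ⟨1, 25, []⟩, ⟨1, 21, []⟩, ⟨1, 30, []⟩, ⟨1, 3267, [2, 4, 12, 11, 4, 12, 13, 11, 4, 12, 7]⟩]⟩,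
 ⟨4, 3, 3275, [], [⟨1, 3274, []⟩], []⟩,
 ⟨12, 3, 45, [2, 4, 0, 2, 3, 1, 0, 2, 1, 2, 4, 3, 2, 0, 2, 0], [], [⟨1, 44, [2, 4]⟩, ⟨1, 7, []⟩, ⟨1, 5, []⟩, ⟨1, 7, []⟩, ⟨1, 6, []⟩, ⟨1, 4, []⟩, ⟨1, 1, []⟩, ⟨1, 38, [2, 11]⟩, ⟨1, 39, []⟩, ⟨1, 43, []⟩, ⟨1, 42, []⟩, ⟨1, 3274, [7, 12, 7, 13, 11, 12, 8, 11, 12, 7, 13]⟩]⟩,
 ⟨4, 3, 3277, [], [⟨1, 3276, []⟩], []⟩,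
 ⟨13, 3, 45, [12, 11, 4, 13, 0, 2, 3, 1, 2, 0, 1, 3, 2, 0], [], [⟨1, 44, [12, 11, 4, 13]⟩, ⟨1, 6, []⟩, ⟨1, 7, []⟩, ⟨1, 6, []⟩, ⟨1, 4, []⟩, ⟨1, 7, []⟩, ⟨1, 6, []⟩, ⟨1, 5, []⟩, ⟨1, 7, []⟩, ⟨1, 6, []⟩, ⟨1, 1, []⟩, ⟨1, 38, [2, 8, 12, 7, 11, 13, 11, 4]⟩, ⟨1, 3274, [11, 12, 11, 12, 7, 12, 11, 12, 7]⟩]⟩,
 ⟨4, 3, 3279, [], [⟨1, 3278, []⟩], []⟩,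
 ⟨7, 4, 80, [4, 7, 11, 12, 13, 3, 1, 0, 2, 1, 3, 2, 0], [], [⟨1, 79, [4, 7, 11, 12, 13]⟩, ⟨1, 6, []⟩, ⟨1, 8, []⟩, ⟨1, 6, []⟩, ⟨1, 7, []⟩, ⟨1, 3, []⟩, ⟨1, 6, []⟩, ⟨1, 1, []⟩, ⟨1, 38, [0, 4, 12, 13, 11, 4, 11, 12, 8, 11]⟩, ⟨1, 39, []⟩, ⟨1, 43, []⟩, ⟨1, 3274, [2, 11, 12, 11, 4, 11, 12, 11, 13]⟩]⟩,
 ⟨4, 4, 3281, [], [⟨1, 3280, []⟩], []⟩,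
 ⟨9, 4, 80, [4, 7, 12, 11, 13, 11, 0, 2, 4, 1, 0, 2, 1, 3, 2, 0], [], [⟨1, 79, [4, 7, 12, 11, 13, 11]⟩, ⟨1, 7, []⟩, ⟨1, 6, []⟩, ⟨1, 4, []⟩, ⟨1, 7, []⟩, ⟨1, 4, []⟩, ⟨1, 2, []⟩, ⟨1, 29, [2, 4, 7, 12, 11, 12, 13, 11, 12, 7]⟩, ⟨1, 25, []⟩, ⟨1, 24, []⟩, ⟨1, 22, []⟩, ⟨1, 25, []⟩, ⟨1, 22, []⟩, ⟨1, 25, []⟩, ⟨1, 22, []⟩, ⟨1, 22, []⟩, ⟨1, 28, []⟩, ⟨1, 30, []⟩, ⟨1, 30, []⟩, ⟨1, 36, []⟩, ⟨1, 36, []⟩, ⟨1, 3267, [12, 11, 2, 13, 11, 4, 11, 13]⟩]⟩,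
 ⟨4, 4, 3283, [], [⟨1, 3282, []⟩], []⟩,
 ⟨9, 4, 80, [4, 7, 12, 11, 4, 12, 0, 2, 4, 1, 0, 2, 1, 3, 2, 0], [], [⟨1, 79, [4, 7, 12, 11, 4, 12]⟩, ⟨1, 6, []⟩, ⟨1, 8, []⟩, ⟨1, 7, []⟩, ⟨1, 6, []⟩, ⟨1, 4, []⟩, ⟨1, 7, []⟩, ⟨1, 4, []⟩, ⟨1, 29, [7, 12, 8, 11, 12, 7, 11, 12, 7, 13]⟩, ⟨1, 25, []⟩, ⟨1, 23, []⟩, ⟨1, 22, []⟩, ⟨1, 22, []⟩, ⟨1, 21, []⟩, ⟨1, 36, []⟩, ⟨1, 3267, [8, 13, 11, 12, 7, 11, 12, 11, 4]⟩]⟩,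
 ⟨4, 4, 3285, [], [⟨1, 3284, []⟩], []⟩,
 ⟨12, 4, 80, [0, 8, 12, 13, 0, 2, 3, 1, 0, 2, 1, 2, 4, 3, 2, 0, 2, 0], [], [⟨1, 79, [0, 8, 12, 13]⟩, ⟨1, 7, []⟩, ⟨1, 6, []⟩, ⟨1, 7, []⟩, ⟨1, 75, [0, 4, 7, 12, 13, 11]⟩, ⟨1, 76, []⟩, ⟨1, 3282, [0, 13, 11, 4, 11, 13]⟩]⟩,
 ⟨4, 4, 3287, [], [⟨1, 3286, []⟩], []⟩,
 ⟨13, 4, 80, [2, 4, 8, 12, 11, 12, 0, 2, 3, 1, 2, 0, 1, 3, 2, 0], [], [⟨1, 79, [2, 4, 8, 12, 11, 12]⟩, ⟨1, 3, []⟩, ⟨1, 75, [0, 4, 8, 12, 11, 12, 8, 12, 11, 12]⟩, ⟨1, 76, []⟩, ⟨1, 76, []⟩, ⟨1, 77, []⟩, ⟨1, 3284, [2, 13, 11, 12, 8, 11, 4, 13, 11, 4]⟩]⟩,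
 ⟨4, 4, 3289, [], [⟨1, 3288, []⟩], []⟩,
 ⟨13, 4, 80, [7, 12, 11, 4, 12, 0, 2, 3, 1, 2, 0, 1, 3, 2, 0], [], [⟨1, 79, [7, 12, 11, 4, 12]⟩, ⟨1, 3, []⟩, ⟨1, 75, [11, 4, 12, 11, 13, 11, 4, 11, 12, 8, 13]⟩, ⟨1, 76, []⟩, ⟨1, 76, []⟩, ⟨1, 3282, [12, 13, 11, 4, 12, 11, 12, 7, 13, 11]⟩]⟩,
 ⟨4, 4, 3291, [], [⟨1, 3290, []⟩], []⟩,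
 ⟨5, 5, 89, [4, 12, 3, 2, 0], [], [⟨1, 88, [4, 12]⟩, ⟨1, 7, []⟩, ⟨1, 3, []⟩, ⟨1, 75, [8, 12, 7, 11, 2, 4]⟩, ⟨1, 78, []⟩, ⟨1, 3282, [4, 8, 11, 4, 13, 11, 4, 11, 13]⟩]⟩,
 ⟨4, 5, 3293, [], [⟨1, 3292, []⟩], []⟩,
 ⟨5, 5, 89, [11, 13, 3, 2, 0], [], [⟨1, 88, [11, 13]⟩, ⟨1, 8, []⟩, ⟨1, 6, []⟩, ⟨1, 1, []⟩, ⟨1, 38, [0, 11, 4, 11]⟩, ⟨1, 39, []⟩, ⟨1, 42, []⟩, ⟨1, 40, []⟩, ⟨1, 3274, [4, 8, 11, 4, 12, 11, 12]⟩]⟩,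
 ⟨4, 5, 3295, [], [⟨1, 3294, []⟩], []⟩,
 ⟨5, 5, 89, [4, 3, 2, 0], [], [⟨1, 88, [4]⟩, ⟨1, 4, []⟩, ⟨1, 7, []⟩, ⟨1, 5, []⟩, ⟨1, 3, []⟩, ⟨1, 85, [4, 11, 2, 4]⟩, ⟨1, 87, []⟩, ⟨1, 86, []⟩, ⟨1, 3294, [0, 4, 11, 13, 11, 4, 11, 4, 13]⟩]⟩,
 ⟨4, 5, 3297, [], [⟨1, 3296, []⟩], []⟩,
 ⟨6, 5, 89, [4, 12, 0, 2, 4, 3, 2, 0], [], [⟨1, 88, [4, 12]⟩, ⟨1, 7, []⟩, ⟨1, 3, []⟩, ⟨1, 75, [0, 8, 12, 7, 11]⟩, ⟨1, 78, []⟩, ⟨1, 77, []⟩, ⟨1, 3284, [11, 4, 12, 13, 11, 4, 11, 12, 8, 13]⟩]⟩,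
 ⟨4, 5, 3299, [], [⟨1, 3298, []⟩], []⟩,
 ⟨7, 5, 89, [11, 13, 11, 4, 3, 1, 0, 2, 1, 3, 2, 0], [], [⟨1, 88, [11, 13, 11, 4]⟩, ⟨1, 8, []⟩, ⟨1, 6, []⟩, ⟨1, 7, []⟩, ⟨1, 5, []⟩, ⟨1, 7, []⟩, ⟨1, 6, []⟩, ⟨1, 4, []⟩, ⟨1, 38, [2, 11, 13, 11, 4, 11, 13]⟩, ⟨1, 39, []⟩, ⟨1, 43, []⟩, ⟨1, 42, []⟩, ⟨1, 3274, [8, 12, 11, 2, 4, 12, 13]⟩]⟩,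
 ⟨4, 5, 3301, [], [⟨1, 3300, []⟩], []⟩,
 ⟨7, 5, 89, [11, 12, 13, 11, 4, 3, 1, 0, 2, 1, 3, 2, 0], [], [⟨1, 88, [11, 12, 13, 11, 4]⟩, ⟨1, 7, []⟩, ⟨1, 6, []⟩, ⟨1, 8, []⟩, ⟨1, 4, []⟩, ⟨1, 7, []⟩, ⟨1, 6, []⟩, ⟨1, 4, []⟩, ⟨1, 3, []⟩, ⟨1, 1, []⟩, ⟨1, 85, [13, 11, 2, 4, 11, 12, 8, 11]⟩, ⟨1, 87, []⟩, ⟨1, 3292, [2, 13, 11, 12, 7, 11, 4]⟩]⟩,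
 ⟨4, 5, 3303, [], [⟨1, 3302, []⟩], []⟩,
 ⟨7, 5, 89, [4, 8, 12, 3, 1, 0, 2, 1, 3, 2, 0], [], [⟨1, 88, [4, 8, 12]⟩, ⟨1, 8, []⟩, ⟨1, 5, []⟩, ⟨1, 7, []⟩, ⟨1, 6, []⟩, ⟨1, 4, []⟩, ⟨1, 7, []⟩, ⟨1, 5, []⟩, ⟨1, 3, []⟩, ⟨1, 1, []⟩, ⟨1, 85, [2, 8, 11, 13, 11, 12, 7, 11, 4, 13, 11]⟩, ⟨1, 3296, [4, 7, 13, 11, 2, 12, 8, 11]⟩]⟩,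
 ⟨4, 5, 3305, [], [⟨1, 3304, []⟩], []⟩]
theorem chk67 : and2 (D.chkL PF67 3257) (Nat.beq (Nat.add 3257 PF67.length) 3306) = true := by decide +kernel

def PF68 : List DPf := [⟨7, 5, 89, [4, 8, 11, 13, 11, 4, 12, 3, 1, 0, 2, 1, 3, 2, 0], [], [⟨1, 88, [4, 8, 11, 13, 11, 4, 12]⟩, ⟨1, 8, []⟩, ⟨1, 6, []⟩, ⟨1, 5, []⟩, ⟨1, 7, []⟩, ⟨1, 6, []⟩, ⟨1, 7, []⟩, ⟨1, 3, []⟩, ⟨1, 75, [7, 11, 12, 8, 11, 12, 11, 4]⟩, ⟨1, 78, []⟩, ⟨1, 77, []⟩, ⟨1, 3284, [7, 12, 11, 12, 7, 11, 4, 13]⟩]⟩,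
 ⟨4, 5, 3307, [], [⟨1, 3306, []⟩], []⟩,
 ⟨7, 5, 89, [4, 7, 11, 13, 11, 12, 3, 1, 0, 2, 1, 3, 2, 0], [], [⟨1, 88, [4, 7, 11, 13, 11, 12]⟩, ⟨1, 8, []⟩, ⟨1, 6, []⟩, ⟨1, 7, []⟩, ⟨1, 6, []⟩, ⟨1, 4, []⟩, ⟨1, 7, []⟩, ⟨1, 3, []⟩, ⟨1, 75, [11, 12, 7, 11, 4, 11, 12, 8, 11]⟩, ⟨1, 78, []⟩, ⟨1, 77, []⟩, ⟨1, 3284, [2, 13, 11, 12, 8, 11, 4, 11, 13, 11]⟩]⟩,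
 ⟨4, 5, 3309, [], [⟨1, 3308, []⟩], []⟩,
 ⟨7, 5, 89, [4, 7, 11, 12, 13, 3, 1, 0, 2, 1, 3, 2, 0], [], [⟨1, 88, [4, 7, 11, 12, 13]⟩, ⟨1, 6, []⟩, ⟨1, 8, []⟩, ⟨1, 6, []⟩, ⟨1, 7, []⟩, ⟨1, 6, []⟩, ⟨1, 4, []⟩, ⟨1, 1, []⟩, ⟨1, 38, [2, 4, 12, 11, 12, 11, 13, 11, 4, 12]⟩, ⟨1, 39, []⟩, ⟨1, 43, []⟩, ⟨1, 3274, [4, 13, 11, 4, 12, 8, 11]⟩]⟩,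
 ⟨4, 5, 3311, [], [⟨1, 3310, []⟩], []⟩,
 ⟨7, 5, 89, [0, 11, 13, 11, 12, 3, 1, 0, 2, 1, 3, 2, 0], [], [⟨1, 88, [0, 11, 13, 11, 12]⟩, ⟨1, 6, []⟩, ⟨1, 8, []⟩, ⟨1, 4, []⟩, ⟨1, 7, []⟩, ⟨1, 2, []⟩, ⟨1, 6, []⟩, ⟨1, 7, []⟩, ⟨1, 5, []⟩, ⟨1, 85, [4, 12, 13, 11, 4]⟩, ⟨1, 87, []⟩, ⟨1, 3298, [0, 11, 4, 13, 11, 4, 11]⟩]⟩,
 ⟨4, 5, 3313, [], [⟨1, 3312, []⟩], []⟩,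
 ⟨7, 5, 89, [4, 8, 12, 13, 11, 4, 3, 1, 0, 2, 1, 3, 2, 0], [], [⟨1, 88, [4, 8, 12, 13, 11, 4]⟩, ⟨1, 6, []⟩, ⟨1, 8, []⟩, ⟨1, 5, []⟩, ⟨1, 7, []⟩, ⟨1, 6, []⟩, ⟨1, 1, []⟩, ⟨1, 38, [12, 11, 2, 4, 12, 11, 13, 11, 12]⟩, ⟨1, 39, []⟩, ⟨1, 43, []⟩, ⟨1, 3274, [7, 11, 4, 11, 12, 11, 12, 7, 13]⟩]⟩,
 ⟨4, 5, 3315, [], [⟨1, 3314, []⟩], []⟩,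
 ⟨7, 5, 89, [0, 8, 11, 12, 13, 3, 1, 0, 2, 1, 3, 2, 0], [], [⟨1, 88, [0, 8, 11, 12, 13]⟩, ⟨1, 8, []⟩, ⟨1, 6, []⟩, ⟨1, 5, []⟩, ⟨1, 7, []⟩, ⟨1, 3, []⟩, ⟨1, 6, []⟩, ⟨1, 7, []⟩, ⟨1, 5, []⟩, ⟨1, 85, [7, 13, 11, 2, 12, 8, 11, 12, 8, 13]⟩, ⟨1, 3298, [0, 4, 7, 12, 11, 13, 11, 4, 11, 12]⟩]⟩,
 ⟨4, 5, 3317, [], [⟨1, 3316, []⟩], []⟩,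
 ⟨7, 5, 89, [8, 11, 4, 12, 13, 11, 4, 12, 3, 1, 0, 2, 1, 3, 2, 0], [], [⟨1, 88, [8, 11, 4, 12, 13, 11, 4, 12]⟩, ⟨1, 8, []⟩, ⟨1, 6, []⟩, ⟨1, 7, []⟩, ⟨1, 3, []⟩, ⟨1, 2, []⟩, ⟨1, 85, [4, 8, 13, 11, 12, 8, 11, 4, 13]⟩, ⟨1, 87, []⟩, ⟨1, 86, []⟩, ⟨1, 3294, [2, 7, 11, 4, 13, 11, 12, 7, 11]⟩]⟩,
 ⟨4, 5, 3319, [], [⟨1, 3318, []⟩], []⟩,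
 ⟨7, 5, 89, [11, 4, 12, 13, 11, 4, 12, 3, 1, 0, 2, 1, 3, 2, 0], [], [⟨1, 88, [11, 4, 12, 13, 11, 4, 12]⟩, ⟨1, 8, []⟩, ⟨1, 6, []⟩, ⟨1, 3, []⟩, ⟨1, 2, []⟩, ⟨1, 85, [4, 7, 13, 11, 12, 8, 11, 4, 13]⟩, ⟨1, 87, []⟩, ⟨1, 86, []⟩, ⟨1, 3294, [2, 8, 11, 4, 13, 11, 12, 7, 11]⟩]⟩,
 ⟨4, 5, 3321, [], [⟨1, 3320, []⟩], []⟩,
 ⟨7, 5, 89, [11, 4, 11, 12, 3, 1, 0, 2, 1, 3, 2, 0], [], [⟨1, 88, [11, 4, 11, 12]⟩, ⟨1, 7, []⟩, ⟨1, 3, []⟩, ⟨1, 6, []⟩, ⟨1, 4, []⟩, ⟨1, 7, []⟩, ⟨1, 3, []⟩, ⟨1, 1, []⟩, ⟨1, 85, [0, 11, 4, 13, 11, 4, 11, 12, 7, 13, 11]⟩, ⟨1, 3292, [0, 8, 11, 4, 12, 11, 13, 11, 4, 11, 12]⟩]⟩,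
 ⟨4, 5, 3323, [], [⟨1, 3322, []⟩], []⟩,
 ⟨7, 5, 89, [2, 4, 11, 12, 3, 1, 0, 2, 1, 3, 2, 0], [], [⟨1, 88, [2, 4, 11, 12]⟩, ⟨1, 8, []⟩, ⟨1, 7, []⟩, ⟨1, 3, []⟩, ⟨1, 6, []⟩, ⟨1, 7, []⟩, ⟨1, 3, []⟩, ⟨1, 1, []⟩, ⟨1, 85, [12, 11, 4]⟩, ⟨1, 3292, [0, 4, 13, 11, 4, 11]⟩]⟩,
 ⟨4, 5, 3325, [], [⟨1, 3324, []⟩], []⟩,
 ⟨7, 5, 89, [11, 4, 13, 11, 4, 3, 1, 0, 2, 1, 3, 2, 0], [], [⟨1, 88, [11, 4, 13, 11, 4]⟩, ⟨1, 8, []⟩, ⟨1, 6, []⟩, ⟨1, 4, []⟩, ⟨1, 7, []⟩, ⟨1, 5, []⟩, ⟨1, 3, []⟩, ⟨1, 2, []⟩, ⟨1, 85, [13, 11, 2, 4, 11, 13]⟩, ⟨1, 87, []⟩, ⟨1, 86, []⟩, ⟨1, 3294, [11, 13, 11, 4, 11, 4]⟩]⟩,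
 ⟨4, 5, 3327, [], [⟨1, 3326, []⟩], []⟩,
 ⟨7, 5, 89, [2, 12, 3, 1, 0, 2, 1, 3, 2, 0], [], [⟨1, 88, [2, 12]⟩, ⟨1, 4, []⟩, ⟨1, 7, []⟩, ⟨1, 6, []⟩, ⟨1, 4, []⟩, ⟨1, 7, []⟩, ⟨1, 1, []⟩, ⟨1, 75, [0, 2, 12, 8, 12]⟩, ⟨1, 76, []⟩, ⟨1, 78, []⟩, ⟨1, 3282, [4, 8, 11, 13]⟩]⟩,
 ⟨4, 5, 3329, [], [⟨1, 3328, []⟩], []⟩,
 ⟨7, 5, 89, [0, 11, 13, 11, 4, 3, 1, 0, 2, 1, 3, 2, 0], [], [⟨1, 88, [0, 11, 13, 11, 4]⟩, ⟨1, 6, []⟩, ⟨1, 8, []⟩, ⟨1, 4, []⟩, ⟨1, 7, []⟩, ⟨1, 3, []⟩, ⟨1, 2, []⟩, ⟨1, 6, []⟩, ⟨1, 7, []⟩, ⟨1, 5, []⟩, ⟨1, 3, []⟩, ⟨1, 85, [13, 11, 4]⟩, ⟨1, 87, []⟩, ⟨1, 3296, [0, 4, 13, 11, 4, 11]⟩]⟩,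
 ⟨4, 5, 3331, [], [⟨1, 3330, []⟩], []⟩,
 ⟨8, 5, 89, [7, 12, 11, 4, 12, 0, 2, 3, 4, 2, 1, 2, 0, 1, 3, 2, 0], [], [⟨1, 88, [7, 12, 11, 4, 12]⟩, ⟨1, 4, []⟩, ⟨1, 7, []⟩, ⟨1, 5, []⟩, ⟨1, 3, []⟩, ⟨1, 85, [0, 12, 11, 12, 8, 13, 11, 4, 11]⟩, ⟨1, 86, []⟩, ⟨1, 87, []⟩, ⟨1, 3292, [4, 13, 11, 2, 12, 7, 11, 4, 13]⟩]⟩,
 ⟨4, 5, 3333, [], [⟨1, 3332, []⟩], []⟩,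
 ⟨8, 5, 89, [4, 7, 12, 8, 13, 11, 12, 0, 2, 3, 4, 2, 1, 2, 0, 1, 3, 2, 0], [], [⟨1, 88, [4, 7, 12, 8, 13, 11, 12]⟩, ⟨1, 6, []⟩, ⟨1, 5, []⟩, ⟨1, 7, []⟩, ⟨1, 1, []⟩, ⟨1, 85, [7, 11, 4, 12, 11, 12, 7, 12, 13]⟩, ⟨1, 87, []⟩, ⟨1, 3292, [8, 12, 13, 11, 4, 11, 12, 8, 13]⟩]⟩,
 ⟨4, 5, 3335, [], [⟨1, 3334, []⟩], []⟩,
 ⟨8, 5, 89, [4, 11, 4, 12, 13, 0, 2, 3, 4, 2, 1, 2, 0, 1, 3, 2, 0], [], [⟨1, 88, [4, 11, 4, 12, 13]⟩, ⟨1, 8, []⟩, ⟨1, 6, []⟩, ⟨1, 7, []⟩, ⟨1, 3, []⟩, ⟨1, 1, []⟩, ⟨1, 75, [4, 8, 12, 7, 13, 11, 4, 11]⟩, ⟨1, 77, []⟩, ⟨1, 3284, [2, 12, 11, 4, 11, 12, 8, 11, 4]⟩]⟩,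
 ⟨4, 5, 3337, [], [⟨1, 3336, []⟩], []⟩,
 ⟨8, 5, 89, [0, 7, 13, 11, 4, 11, 12, 0, 2, 3, 4, 2, 1, 2, 0, 1, 3, 2, 0], [], [⟨1, 88, [0, 7, 13, 11, 4, 11, 12]⟩, ⟨1, 6, []⟩, ⟨1, 7, []⟩, ⟨1, 4, []⟩, ⟨1, 1, []⟩, ⟨1, 85, [11, 2, 12, 8, 11, 12, 7, 11, 4, 13]⟩, ⟨1, 86, []⟩, ⟨1, 87, []⟩, ⟨1, 3292, [12, 7, 13, 11, 4, 12, 8, 11, 12, 13]⟩]⟩,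
 ⟨4, 5, 3339, [], [⟨1, 3338, []⟩], []⟩,
 ⟨5, 6, 137, [4, 7, 12, 3, 2, 0], [], [⟨1, 136, [4, 7, 12]⟩, ⟨1, 7, []⟩, ⟨1, 5, []⟩, ⟨1, 85, [12, 7, 11, 2, 4]⟩, ⟨1, 3292, [8, 11, 13, 11, 4, 11, 13]⟩]⟩,
 ⟨4, 6, 3341, [], [⟨1, 3340, []⟩], []⟩,
 ⟨5, 6, 137, [7, 12, 3, 2, 0], [], [⟨1, 136, [7, 12]⟩, ⟨1, 4, []⟩, ⟨1, 7, []⟩, ⟨1, 75, [4, 7, 12, 8, 11, 2, 4]⟩, ⟨1, 76, []⟩, ⟨1, 78, []⟩, ⟨1, 77, []⟩, ⟨1, 3284, [12, 11, 4, 11, 4, 12, 7, 13, 11, 4, 11, 13]⟩]⟩,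
 ⟨4, 6, 3343, [], [⟨1, 3342, []⟩], []⟩,
 ⟨7, 6, 137, [12, 7, 11, 12, 13, 3, 1, 0, 2, 1, 3, 2, 0], [], [⟨1, 136, [12, 7, 11, 12, 13]⟩, ⟨1, 7, []⟩, ⟨1, 5, []⟩, ⟨1, 7, []⟩, ⟨1, 6, []⟩, ⟨1, 4, []⟩, ⟨1, 7, []⟩, ⟨1, 6, []⟩, ⟨1, 5, []⟩, ⟨1, 3, []⟩, ⟨1, 2, []⟩, ⟨1, 85, [11, 13, 11, 4, 11, 12, 11, 12, 7, 13]⟩, ⟨1, 87, []⟩, ⟨1, 3292, [2, 7, 11, 13, 11, 12, 7, 11, 4]⟩]⟩,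
 ⟨4, 6, 3345, [], [⟨1, 3344, []⟩], []⟩,
 ⟨7, 6, 137, [0, 12, 7, 11, 13, 11, 12, 3, 1, 0, 2, 1, 3, 2, 0], [], [⟨1, 136, [0, 12, 7, 11, 13, 11, 12]⟩, ⟨1, 8, []⟩, ⟨1, 7, []⟩, ⟨1, 6, []⟩, ⟨1, 5, []⟩, ⟨1, 7, []⟩, ⟨1, 2, []⟩, ⟨1, 6, []⟩, ⟨1, 4, []⟩, ⟨1, 3, []⟩, ⟨1, 85, [0, 11, 12, 8, 13, 11, 4, 12, 11, 12]⟩, ⟨1, 86, []⟩, ⟨1, 87, []⟩, ⟨1, 3292, [12, 11, 2, 4, 12, 7, 13]⟩]⟩,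
 ⟨4, 6, 3347, [], [⟨1, 3346, []⟩], []⟩,
 ⟨7, 6, 137, [2, 4, 11, 4, 11, 12, 3, 1, 0, 2, 1, 3, 2, 0], [], [⟨1, 136, [2, 4, 11, 4, 11, 12]⟩, ⟨1, 8, []⟩, ⟨1, 7, []⟩, ⟨1, 5, []⟩, ⟨1, 7, []⟩, ⟨1, 6, []⟩, ⟨1, 7, []⟩, ⟨1, 5, []⟩, ⟨1, 1, []⟩, ⟨1, 85, [7, 11, 12, 7, 11, 4, 11, 12, 8, 11]⟩, ⟨1, 3298, [2, 11, 4, 13, 11, 12, 8, 11]⟩]⟩,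
 ⟨4, 6, 3349, [], [⟨1, 3348, []⟩], []⟩,
 ⟨7, 6, 137, [11, 4, 12, 3, 1, 0, 2, 1, 3, 2, 0], [], [⟨1, 136, [11, 4, 12]⟩, ⟨1, 8, []⟩, ⟨1, 7, []⟩, ⟨1, 4, []⟩, ⟨1, 7, []⟩, ⟨1, 6, []⟩, ⟨1, 7, []⟩, ⟨1, 5, []⟩, ⟨1, 1, []⟩, ⟨1, 85, [2, 7, 12, 11, 4, 12, 8, 11, 4, 12]⟩, ⟨1, 3298, [0, 11, 12, 11, 4, 13, 11, 4, 11, 12]⟩]⟩,
 ⟨4, 6, 3351, [], [⟨1, 3350, []⟩], []⟩,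
 ⟨7, 6, 137, [4, 8, 12, 13, 3, 1, 0, 2, 1, 3, 2, 0], [], [⟨1, 136, [4, 8, 12, 13]⟩, ⟨1, 6, []⟩, ⟨1, 8, []⟩, ⟨1, 3, []⟩, ⟨1, 6, []⟩, ⟨1, 4, []⟩, ⟨1, 7, []⟩, ⟨1, 5, []⟩, ⟨1, 3, []⟩, ⟨1, 2, []⟩, ⟨1, 85, [2, 13, 11, 12, 7, 12, 11, 4, 13, 11]⟩, ⟨1, 3296, [4, 7, 11, 2, 13, 11, 12, 7, 11]⟩]⟩,
 ⟨4, 6, 3353, [], [⟨1, 3352, []⟩], []⟩,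
 ⟨7, 6, 137, [8, 12, 7, 13, 11, 12, 3, 1, 0, 2, 1, 3, 2, 0], [], [⟨1, 136, [8, 12, 7, 13, 11, 12]⟩, ⟨1, 6, []⟩, ⟨1, 4, []⟩, ⟨1, 7, []⟩, ⟨1, 6, []⟩, ⟨1, 7, []⟩, ⟨1, 3, []⟩, ⟨1, 85, [0, 13, 11, 4, 11, 4, 12, 7, 13, 11]⟩, ⟨1, 3292, [11, 2, 13, 11, 4, 12, 8, 11, 4]⟩]⟩,
 ⟨4, 6, 3355, [], [⟨1, 3354, []⟩], []⟩]
theorem chk68 : and2 (D.chkL PF68 3306) (Nat.beq (Nat.add 3306 PF68.length) 3356) = true := by decide +kernel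

def PF69 : List DPf := [⟨7, 6, 137, [4, 13, 11, 12, 3, 1, 0, 2, 1, 3, 2, 0], [], [⟨1, 136, [4, 13, 11, 12]⟩, ⟨1, 6, []⟩, ⟨1, 7, []⟩, ⟨1, 5, []⟩, ⟨1, 7, []⟩, ⟨1, 6, []⟩, ⟨1, 4, []⟩, ⟨1, 7, []⟩, ⟨1, 75, [11, 12, 7, 11, 12, 8, 11, 4, 12]⟩, ⟨1, 76, []⟩, ⟨1, 78, []⟩, ⟨1, 3282, [4, 7, 12, 11, 12, 8, 13, 11, 12, 7, 11]⟩]⟩,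
 ⟨4, 6, 3357, [], [⟨1, 3356, []⟩], []⟩,
 ⟨7, 6, 137, [4, 8, 11, 12, 3, 1, 0, 2, 1, 3, 2, 0], [], [⟨1, 136, [4, 8, 11, 12]⟩, ⟨1, 7, []⟩, ⟨1, 3, []⟩, ⟨1, 6, []⟩, ⟨1, 4, []⟩, ⟨1, 1, []⟩, ⟨1, 38, [12, 11, 12, 13, 11, 4, 12, 8, 11, 13]⟩, ⟨1, 39, []⟩, ⟨1, 43, []⟩, ⟨1, 42, []⟩, ⟨1, 3274, [11, 2, 4, 13, 11, 12, 11]⟩]⟩,
 ⟨4, 6, 3359, [], [⟨1, 3358, []⟩], []⟩,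
 ⟨7, 6, 137, [0, 7, 12, 11, 4, 13, 3, 1, 0, 2, 1, 3, 2, 0], [], [⟨1, 136, [0, 7, 12, 11, 4, 13]⟩, ⟨1, 8, []⟩, ⟨1, 6, []⟩, ⟨1, 5, []⟩, ⟨1, 7, []⟩, ⟨1, 6, []⟩, ⟨1, 5, []⟩, ⟨1, 7, []⟩, ⟨1, 75, [0, 7, 11, 4, 12, 8, 11]⟩, ⟨1, 76, []⟩, ⟨1, 78, []⟩, ⟨1, 3282, [0, 7, 11, 4, 12, 11, 12, 13]⟩]⟩,
 ⟨4, 6, 3361, [], [⟨1, 3360, []⟩], []⟩,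
 ⟨7, 6, 137, [12, 7, 13, 11, 12, 3, 1, 0, 2, 1, 3, 2, 0], [], [⟨1, 136, [12, 7, 13, 11, 12]⟩, ⟨1, 6, []⟩, ⟨1, 3, []⟩, ⟨1, 6, []⟩, ⟨1, 4, []⟩, ⟨1, 7, []⟩, ⟨1, 133, [0, 7, 13, 11, 4, 11, 12, 8, 12, 13, 11]⟩, ⟨1, 3340, [11, 2, 13, 11, 4, 12, 8, 11, 4]⟩]⟩,
 ⟨4, 6, 3363, [], [⟨1, 3362, []⟩], []⟩,
 ⟨7, 6, 137, [8, 11, 12, 7, 11, 12, 3, 1, 0, 2, 1, 3, 2, 0], [], [⟨1, 136, [8, 11, 12, 7, 11, 12]⟩, ⟨1, 7, []⟩, ⟨1, 6, []⟩, ⟨1, 7, []⟩, ⟨1, 5, []⟩, ⟨1, 3, []⟩, ⟨1, 1, []⟩, ⟨1, 85, [12, 11, 12, 8, 11, 12, 11, 4, 12]⟩, ⟨1, 3296, [2, 4, 12, 11, 12, 7, 11, 13]⟩]⟩,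
 ⟨4, 6, 3365, [], [⟨1, 3364, []⟩], []⟩,
 ⟨7, 6, 137, [0, 8, 11, 12, 13, 11, 4, 3, 1, 0, 2, 1, 3, 2, 0], [], [⟨1, 136, [0, 8, 11, 12, 13, 11, 4]⟩, ⟨1, 8, []⟩, ⟨1, 6, []⟩, ⟨1, 7, []⟩, ⟨1, 3, []⟩, ⟨1, 6, []⟩, ⟨1, 4, []⟩, ⟨1, 7, []⟩, ⟨1, 3, []⟩, ⟨1, 75, [2, 12, 11, 4, 12, 8, 11, 4, 12, 11]⟩, ⟨1, 78, []⟩, ⟨1, 77, []⟩, ⟨1, 3284, [11, 12, 11, 4, 12, 13]⟩]⟩,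
 ⟨4, 6, 3367, [], [⟨1, 3366, []⟩], []⟩,
 ⟨7, 6, 137, [4, 8, 12, 3, 1, 0, 2, 1, 3, 2, 0], [], [⟨1, 136, [4, 8, 12]⟩, ⟨1, 8, []⟩, ⟨1, 7, []⟩, ⟨1, 3, []⟩, ⟨1, 6, []⟩, ⟨1, 7, []⟩, ⟨1, 4, []⟩, ⟨1, 7, []⟩, ⟨1, 1, []⟩, ⟨1, 85, [2, 7, 11, 13, 11, 12, 7, 11, 4, 13, 11]⟩, ⟨1, 3296, [4, 8, 13, 11, 2, 12, 8, 11]⟩]⟩,
 ⟨4, 6, 3369, [], [⟨1, 3368, []⟩], []⟩,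
 ⟨7, 6, 137, [4, 7, 11, 13, 11, 12, 3, 1, 0, 2, 1, 3, 2, 0], [], [⟨1, 136, [4, 7, 11, 13, 11, 12]⟩, ⟨1, 8, []⟩, ⟨1, 6, []⟩, ⟨1, 4, []⟩, ⟨1, 7, []⟩, ⟨1, 6, []⟩, ⟨1, 4, []⟩, ⟨1, 7, []⟩, ⟨1, 5, []⟩, ⟨1, 133, [11, 12, 7, 11, 4, 11, 12, 8, 11]⟩, ⟨1, 3342, [4, 13, 11, 2, 12, 8, 11]⟩]⟩,
 ⟨4, 6, 3371, [], [⟨1, 3370, []⟩], []⟩,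
 ⟨7, 6, 137, [0, 8, 11, 12, 13, 3, 1, 0, 2, 1, 3, 2, 0], [], [⟨1, 136, [0, 8, 11, 12, 13]⟩, ⟨1, 8, []⟩, ⟨1, 6, []⟩, ⟨1, 3, []⟩, ⟨1, 6, []⟩, ⟨1, 7, []⟩, ⟨1, 3, []⟩, ⟨1, 75, [13, 11, 2, 12, 8, 11, 12, 8, 13]⟩, ⟨1, 78, []⟩, ⟨1, 77, []⟩, ⟨1, 3284, [7, 11, 4, 13, 11, 4, 12, 11]⟩]⟩,
 ⟨4, 6, 3373, [], [⟨1, 3372, []⟩], []⟩,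
 ⟨7, 6, 137, [8, 11, 12, 11, 4, 3, 1, 0, 2, 1, 3, 2, 0], [], [⟨1, 136, [8, 11, 12, 11, 4]⟩, ⟨1, 8, []⟩, ⟨1, 7, []⟩, ⟨1, 3, []⟩, ⟨1, 6, []⟩, ⟨1, 5, []⟩, ⟨1, 7, []⟩, ⟨1, 1, []⟩, ⟨1, 133, [2, 12, 8, 13, 11, 12, 8, 11, 12, 8, 13]⟩, ⟨1, 3340, [8, 11, 4, 12, 11, 13, 11, 4, 11, 12]⟩]⟩,
 ⟨4, 6, 3375, [], [⟨1, 3374, []⟩], []⟩,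
 ⟨7, 6, 137, [4, 7, 11, 4, 12, 13, 3, 1, 0, 2, 1, 3, 2, 0], [], [⟨1, 136, [4, 7, 11, 4, 12, 13]⟩, ⟨1, 8, []⟩, ⟨1, 7, []⟩, ⟨1, 6, []⟩, ⟨1, 7, []⟩, ⟨1, 133, [8, 12, 13, 11, 4]⟩, ⟨1, 135, []⟩, ⟨1, 3340, [0, 4, 13, 11, 4, 11]⟩]⟩,
 ⟨4, 6, 3377, [], [⟨1, 3376, []⟩], []⟩,
 ⟨7, 6, 137, [4, 11, 12, 7, 11, 12, 13, 3, 1, 0, 2, 1, 3, 2, 0], [], [⟨1, 136, [4, 11, 12, 7, 11, 12, 13]⟩, ⟨1, 6, []⟩, ⟨1, 8, []⟩, ⟨1, 4, []⟩, ⟨1, 7, []⟩, ⟨1, 6, []⟩, ⟨1, 5, []⟩, ⟨1, 7, []⟩, ⟨1, 5, []⟩, ⟨1, 2, []⟩, ⟨1, 133, [11, 12, 8, 11, 12, 7, 11, 12, 7, 11]⟩, ⟨1, 3342, [7, 13, 11, 12, 11, 4]⟩]⟩,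
 ⟨4, 6, 3379, [], [⟨1, 3378, []⟩], []⟩,
 ⟨7, 6, 137, [7, 13, 11, 12, 3, 1, 0, 2, 1, 3, 2, 0], [], [⟨1, 136, [7, 13, 11, 12]⟩, ⟨1, 6, []⟩, ⟨1, 7, []⟩, ⟨1, 6, []⟩, ⟨1, 5, []⟩, ⟨1, 38, [11, 2, 12, 13, 11, 4, 11, 12, 7, 13]⟩, ⟨1, 39, []⟩, ⟨1, 43, []⟩, ⟨1, 42, []⟩, ⟨1, 3274, [11, 12, 13, 11, 4, 11, 4, 12, 7]⟩]⟩,
 ⟨4, 6, 3381, [], [⟨1, 3380, []⟩], []⟩,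
 ⟨7, 6, 137, [0, 7, 12, 13, 11, 4, 3, 1, 0, 2, 1, 3, 2, 0], [], [⟨1, 136, [0, 7, 12, 13, 11, 4]⟩, ⟨1, 4, []⟩, ⟨1, 7, []⟩, ⟨1, 6, []⟩, ⟨1, 7, []⟩, ⟨1, 5, []⟩, ⟨1, 133, [4, 8, 12, 13, 11, 4, 11]⟩, ⟨1, 135, []⟩, ⟨1, 3342, [11, 2, 4, 11, 13]⟩]⟩,
 ⟨4, 6, 3383, [], [⟨1, 3382, []⟩], []⟩,
 ⟨7, 6, 137, [0, 11, 12, 8, 13, 11, 12, 3, 1, 0, 2, 1, 3, 2, 0], [], [⟨1, 136, [0, 11, 12, 8, 13, 11, 12]⟩, ⟨1, 6, []⟩, ⟨1, 8, []⟩, ⟨1, 6, []⟩, ⟨1, 7, []⟩, ⟨1, 6, []⟩, ⟨1, 5, []⟩, ⟨1, 7, []⟩, ⟨1, 3, []⟩, ⟨1, 2, []⟩, ⟨1, 75, [0, 8, 13, 11, 12, 11, 12, 7, 13, 11]⟩, ⟨1, 78, []⟩, ⟨1, 77, []⟩, ⟨1, 3284, [0, 8, 11, 4, 11, 13]⟩]⟩,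
 ⟨4, 6, 3385, [], [⟨1, 3384, []⟩], []⟩,
 ⟨7, 6, 137, [11, 4, 11, 12, 3, 1, 0, 2, 1, 3, 2, 0], [], [⟨1, 136, [11, 4, 11, 12]⟩, ⟨1, 5, []⟩, ⟨1, 7, []⟩, ⟨1, 3, []⟩, ⟨1, 6, []⟩, ⟨1, 7, []⟩, ⟨1, 1, []⟩, ⟨1, 75, [2, 11, 13, 11, 4, 11, 12, 8, 12, 13, 11]⟩, ⟨1, 76, []⟩, ⟨1, 78, []⟩, ⟨1, 3282, [8, 12, 11, 12, 11, 13, 11, 4, 11, 4]⟩]⟩,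
 ⟨4, 6, 3387, [], [⟨1, 3386, []⟩], []⟩,
 ⟨7, 6, 137, [4, 8, 12, 13, 11, 4, 12, 3, 1, 0, 2, 1, 3, 2, 0], [], [⟨1, 136, [4, 8, 12, 13, 11, 4, 12]⟩, ⟨1, 6, []⟩, ⟨1, 8, []⟩, ⟨1, 5, []⟩, ⟨1, 7, []⟩, ⟨1, 6, []⟩, ⟨1, 4, []⟩, ⟨1, 7, []⟩, ⟨1, 5, []⟩, ⟨1, 2, []⟩, ⟨1, 85, [0, 11, 12, 7, 13, 11, 12, 8, 12, 11, 13]⟩, ⟨1, 3298, [2, 4, 7, 13, 11, 12, 8, 12, 11]⟩]⟩,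
 ⟨4, 6, 3389, [], [⟨1, 3388, []⟩], []⟩,
 ⟨8, 6, 137, [8, 12, 0, 2, 3, 4, 2, 1, 2, 0, 1, 3, 2, 0], [], [⟨1, 136, [8, 12]⟩, ⟨1, 3, []⟩, ⟨1, 85, [12, 7, 12, 11, 2, 4, 13]⟩, ⟨1, 86, []⟩, ⟨1, 87, []⟩, ⟨1, 3296, [4, 11, 2, 12, 7, 11, 12, 7, 11, 12]⟩]⟩,
 ⟨4, 6, 3391, [], [⟨1, 3390, []⟩], []⟩,
 ⟨16, 7, 2980, [7, 0, 2, 6, 2, 0, 2, 0], [], [⟨1, 2979, [7]⟩, ⟨1, 22, []⟩, ⟨1, 22, []⟩, ⟨1, 3267, [0, 2]⟩]⟩,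
 ⟨4, 7, 3393, [], [⟨1, 3392, []⟩], []⟩,
 ⟨17, 7, 2980, [5, 5, 3, 6, 6, 2, 0], [], [⟨1, 2979, []⟩, ⟨1, 22, []⟩, ⟨1, 25, []⟩, ⟨1, 22, []⟩, ⟨1, 25, []⟩, ⟨1, 22, []⟩, ⟨1, 22, []⟩, ⟨1, 30, []⟩, ⟨1, 28, []⟩, ⟨1, 212, [2, 12, 11, 12, 8, 13, 11, 12, 7, 11]⟩, ⟨1, 134, []⟩, ⟨1, 135, []⟩, ⟨1, 3354, [2, 4, 7, 11, 12, 11, 4, 12, 11]⟩]⟩,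
 ⟨4, 7, 3395, [], [⟨1, 3394, []⟩], []⟩,
 ⟨5, 8, 3270, [8, 11, 12, 13, 3, 2, 0], [], [⟨1, 3269, [8, 11, 12, 13]⟩, ⟨1, 20, []⟩, ⟨1, 25, []⟩, ⟨1, 24, []⟩, ⟨1, 22, []⟩, ⟨1, 25, []⟩, ⟨1, 22, []⟩, ⟨1, 212, [0, 11, 4, 11, 12, 7, 12, 13, 11, 4, 11, 13]⟩, ⟨1, 135, []⟩, ⟨1, 932, [2, 4, 11, 12, 8, 12, 11]⟩]⟩,
 ⟨4, 8, 3397, [], [⟨1, 3396, []⟩], []⟩,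
 ⟨5, 8, 3270, [4, 3, 2, 0], [], [⟨1, 3269, [4]⟩, ⟨1, 20, []⟩, ⟨1, 25, []⟩, ⟨1, 24, []⟩, ⟨1, 22, []⟩, ⟨1, 25, []⟩, ⟨1, 22, []⟩, ⟨1, 25, []⟩, ⟨1, 28, []⟩, ⟨1, 28, []⟩, ⟨1, 30, []⟩, ⟨1, 30, []⟩, ⟨1, 36, []⟩, ⟨1, 36, []⟩, ⟨1, 212, [4, 12, 11, 12, 11, 13, 11, 12, 11]⟩, ⟨1, 134, []⟩, ⟨1, 476, [4, 11, 13, 11, 12, 11, 12, 8, 12]⟩]⟩,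
 ⟨4, 8, 3399, [], [⟨1, 3398, []⟩], []⟩,
 ⟨5, 8, 3270, [4, 13, 3, 2, 0], [], [⟨1, 3269, [4, 13]⟩, ⟨1, 25, []⟩, ⟨1, 23, []⟩, ⟨1, 22, []⟩, ⟨1, 25, []⟩, ⟨1, 22, []⟩, ⟨1, 22, []⟩, ⟨1, 30, []⟩, ⟨1, 28, []⟩, ⟨1, 212, [7, 11, 2, 4, 13, 11, 4, 12, 11]⟩, ⟨1, 135, []⟩, ⟨1, 134, []⟩, ⟨1, 959, [2, 7, 12, 11, 4, 12, 8, 11, 4, 12]⟩]⟩,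
 ⟨4, 8, 3401, [], [⟨1, 3400, []⟩], []⟩,
 ⟨5, 8, 3270, [11, 12, 13, 3, 2, 0], [], [⟨1, 3269, [11, 12, 13]⟩, ⟨1, 20, []⟩, ⟨1, 25, []⟩, ⟨1, 24, []⟩, ⟨1, 21, []⟩, ⟨1, 212, [0, 8, 11, 12, 8, 11, 12, 7, 11, 4, 11]⟩, ⟨1, 142, [2, 4, 7, 11, 12, 11, 12, 8, 12, 11]⟩]⟩,
 ⟨4, 8, 3403, [], [⟨1, 3402, []⟩], []⟩,
 ⟨5, 8, 3270, [4, 7, 12, 3, 2, 0], [], [⟨1, 3269, [4, 7, 12]⟩, ⟨1, 20, []⟩, ⟨1, 25, []⟩, ⟨1, 22, []⟩, ⟨1, 22, []⟩, ⟨1, 25, []⟩, ⟨1, 22, []⟩, ⟨1, 28, []⟩, ⟨1, 30, []⟩, ⟨1, 28, []⟩, ⟨1, 212, [12, 11, 4, 12, 13]⟩, ⟨1, 134, []⟩, ⟨1, 618, [8, 13, 11, 12, 11, 4, 13]⟩]⟩,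
 ⟨4, 8, 3405, [], [⟨1, 3404, []⟩], []⟩,
 ⟨5, 8, 3270, [7, 12, 3, 2, 0], [], [⟨1, 3269, [7, 12]⟩, ⟨1, 20, []⟩, ⟨1, 22, []⟩, ⟨1, 25, []⟩, ⟨1, 22, []⟩, ⟨1, 25, []⟩, ⟨1, 22, []⟩, ⟨1, 21, []⟩, ⟨1, 28, []⟩, ⟨1, 28, []⟩, ⟨1, 36, []⟩, ⟨1, 212, [2, 8, 11, 4, 11, 12, 11, 12, 13]⟩, ⟨1, 135, []⟩, ⟨1, 2648, [2, 7, 12, 7, 11, 12, 7, 11, 4, 12]⟩]⟩,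
 ⟨4, 8, 3407, [], [⟨1, 3406, []⟩], []⟩,
 ⟨5, 8, 3270, [7, 11, 4, 12, 13, 3, 2, 0], [], [⟨1, 3269, [7, 11, 4, 12, 13]⟩, ⟨1, 25, []⟩, ⟨1, 24, []⟩, ⟨1, 22, []⟩, ⟨1, 22, []⟩, ⟨1, 25, []⟩, ⟨1, 30, []⟩, ⟨1, 22, []⟩, ⟨1, 212, [8, 12, 7, 11, 4]⟩, ⟨1, 1057, [0, 8, 12, 13, 11, 12, 11, 4, 13]⟩]⟩,
 ⟨4, 8, 3409, [], [⟨1, 3408, []⟩], []⟩]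
theorem chk69 : and2 (D.chkL PF69 3356) (Nat.beq (Nat.add 3356 PF69.length) 3410) = true := by decide +kernel

end H19.Th.DC
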