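import Mathlib
import Cfsg.Agent.H19.Th.DC.B

set_option autoImplicit false
set_option maxRecDepth 100000
set_option Elab.async false
set_option linter.all false

namespace H19.Th.DC
open H29

def PF70 : List DPf := [⟨5, 8, 3270, [8, 11, 4, 12, 13, 3, 2, 0], [], [⟨1, 3269, [8, 11, 4, 12, 13]⟩, ⟨1, 20, []⟩, ⟨1, 30, []⟩, ⟨1, 3267, [2, 4, 7, 11, 13, 11, 12, 8, 11, 12]⟩, ⟨1, 3408, [12, 8, 11, 12, 7, 11, 12, 8, 11, 12]⟩]⟩,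
 ⟨4, 8, 3411, [], [⟨1, 3410, []⟩], []⟩,
 ⟨5, 8, 3270, [7, 11, 12, 13, 3, 2, 0], [], [⟨1, 3269, [7, 11, 12, 13]⟩, ⟨1, 20, []⟩, ⟨1, 25, []⟩, ⟨1, 22, []⟩, ⟨1, 25, []⟩, ⟨1, 22, []⟩, ⟨1, 25, []⟩, ⟨1, 22, []⟩, ⟨1, 21, []⟩, ⟨1, 30, []⟩, ⟨1, 30, []⟩, ⟨1, 3267, [2, 7, 12, 11, 12, 7, 12, 13, 11, 12, 7]⟩, ⟨1, 3396, [4, 8, 11, 12, 11, 4, 12, 8, 11]⟩]⟩,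
 ⟨4, 8, 3413, [], [⟨1, 3412, []⟩], []⟩,
 ⟨7, 8, 3270, [4, 12, 13, 11, 4, 3, 1, 0, 2, 1, 3, 2, 0], [], [⟨1, 3269, [4, 12, 13, 11, 4]⟩, ⟨1, 25, []⟩, ⟨1, 24, []⟩, ⟨1, 23, []⟩, ⟨1, 22, []⟩, ⟨1, 22, []⟩, ⟨1, 25, []⟩, ⟨1, 22, []⟩, ⟨1, 28, []⟩, ⟨1, 36, []⟩, ⟨1, 49, [11, 13, 11, 12, 7, 12, 11, 4]⟩, ⟨1, 39, []⟩, ⟨1, 43, []⟩, ⟨1, 96, [4, 7, 11, 13, 11, 12, 8, 11]⟩]⟩,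
 ⟨4, 8, 3415, [], [⟨1, 3414, []⟩], []⟩,
 ⟨7, 8, 3270, [12, 11, 4, 11, 12, 3, 1, 0, 2, 1, 3, 2, 0], [], [⟨1, 3269, [12, 11, 4, 11, 12]⟩, ⟨1, 20, []⟩, ⟨1, 22, []⟩, ⟨1, 25, []⟩, ⟨1, 22, []⟩, ⟨1, 21, []⟩, ⟨1, 28, []⟩, ⟨1, 30, []⟩, ⟨1, 28, []⟩, ⟨1, 212, [4, 7, 12, 8, 13, 11, 12, 8, 11, 4, 11]⟩, ⟨1, 134, []⟩, ⟨1, 135, []⟩, ⟨1, 2648, [0, 7, 11, 4, 13, 11, 12, 8, 11]⟩]⟩,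
 ⟨4, 8, 3417, [], [⟨1, 3416, []⟩], []⟩,
 ⟨7, 8, 3270, [0, 4, 12, 13, 11, 4, 3, 1, 0, 2, 1, 3, 2, 0], [], [⟨1, 3269, [0, 4, 12, 13, 11, 4]⟩, ⟨1, 22, []⟩, ⟨1, 25, []⟩, ⟨1, 22, []⟩, ⟨1, 25, []⟩, ⟨1, 22, []⟩, ⟨1, 21, []⟩, ⟨1, 3267, [12, 11, 4, 11]⟩, ⟨1, 3271, []⟩, ⟨1, 3268, []⟩, ⟨1, 3271, []⟩, ⟨1, 3268, []⟩, ⟨1, 3271, []⟩, ⟨1, 3268, []⟩, ⟨1, 3271, []⟩, ⟨1, 3268, []⟩, ⟨1, 3271, []⟩, ⟨1, 3268, []⟩, ⟨1, 3271, []⟩, ⟨1, 3345, [0, 4, 8, 11, 4, 13, 11, 12, 8, 11]⟩]⟩,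
 ⟨4, 8, 3419, [], [⟨1, 3418, []⟩], []⟩,
 ⟨7, 8, 3270, [2, 4, 7, 11, 4, 12, 3, 1, 0, 2, 1, 3, 2, 0], [], [⟨1, 3269, [2, 4, 7, 11, 4, 12]⟩, ⟨1, 25, []⟩, ⟨1, 22, []⟩, ⟨1, 22, []⟩, ⟨1, 25, []⟩, ⟨1, 22, []⟩, ⟨1, 22, []⟩, ⟨1, 28, []⟩, ⟨1, 30, []⟩, ⟨1, 30, []⟩, ⟨1, 212, [11, 12, 11, 4, 11, 12, 7, 11, 13]⟩, ⟨1, 134, []⟩, ⟨1, 476, [4, 11, 2, 12, 7, 12, 11, 13, 11]⟩]⟩,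
 ⟨4, 8, 3421, [], [⟨1, 3420, []⟩], []⟩,
 ⟨7, 8, 3270, [0, 4, 12, 13, 11, 4, 12, 3, 1, 0, 2, 1, 3, 2, 0], [], [⟨1, 3269, [0, 4, 12, 13, 11, 4, 12]⟩, ⟨1, 20, []⟩, ⟨1, 22, []⟩, ⟨1, 22, []⟩, ⟨1, 25, []⟩, ⟨1, 22, []⟩, ⟨1, 22, []⟩, ⟨1, 30, []⟩, ⟨1, 30, []⟩, ⟨1, 36, []⟩, ⟨1, 36, []⟩, ⟨1, 3267, [2, 4, 12, 11, 4, 11, 12, 8, 11]⟩, ⟨1, 3268, []⟩, ⟨1, 3400, [13, 11, 2, 12, 7, 11, 4]⟩]⟩,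
 ⟨4, 8, 3423, [], [⟨1, 3422, []⟩], []⟩,
 ⟨7, 8, 3270, [4, 7, 12, 8, 11, 12, 3, 1, 0, 2, 1, 3, 2, 0], [], [⟨1, 3269, [4, 7, 12, 8, 11, 12]⟩, ⟨1, 20, []⟩, ⟨1, 24, []⟩, ⟨1, 23, []⟩, ⟨1, 22, []⟩, ⟨1, 22, []⟩, ⟨1, 25, []⟩, ⟨1, 36, []⟩, ⟨1, 3267, [11, 13, 11, 12, 11, 4, 12, 8, 11, 13]⟩, ⟨1, 3268, []⟩, ⟨1, 3293, [4, 7, 12, 8, 11, 4]⟩]⟩,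
 ⟨4, 8, 3425, [], [⟨1, 3424, []⟩], []⟩,
 ⟨7, 8, 3270, [11, 12, 11, 4, 13, 3, 1, 0, 2, 1, 3, 2, 0], [], [⟨1, 3269, [11, 12, 11, 4, 13]⟩, ⟨1, 20, []⟩, ⟨1, 24, []⟩, ⟨1, 23, []⟩, ⟨1, 22, []⟩, ⟨1, 25, []⟩, ⟨1, 28, []⟩, ⟨1, 28, []⟩, ⟨1, 36, []⟩, ⟨1, 212, [4, 7, 11, 12, 7, 13]⟩, ⟨1, 135, []⟩, ⟨1, 134, []⟩, ⟨1, 959, [0, 8, 12, 7, 11, 12, 8, 11, 4, 12, 13]⟩]⟩,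
 ⟨4, 8, 3427, [], [⟨1, 3426, []⟩], []⟩,
 ⟨7, 8, 3270, [11, 12, 13, 11, 4, 12, 3, 1, 0, 2, 1, 3, 2, 0], [], [⟨1, 3269, [11, 12, 13, 11, 4, 12]⟩, ⟨1, 24, []⟩, ⟨1, 22, []⟩, ⟨1, 28, []⟩, ⟨1, 28, []⟩, ⟨1, 36, []⟩, ⟨1, 3267, [0, 4, 12, 7, 13, 11, 12, 8, 12, 11, 13]⟩, ⟨1, 3271, []⟩, ⟨1, 3268, []⟩, ⟨1, 3271, []⟩, ⟨1, 3268, []⟩, ⟨1, 3271, []⟩, ⟨1, 3268, []⟩, ⟨1, 3271, []⟩, ⟨1, 3268, []⟩, ⟨1, 3271, []⟩, ⟨1, 3268, []⟩, ⟨1, 3271, []⟩, ⟨1, 3345, [8, 11, 4, 13, 11, 12, 8, 11, 4]⟩]⟩,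
 ⟨4, 8, 3429, [], [⟨1, 3428, []⟩], []⟩,
 ⟨7, 8, 3270, [8, 12, 11, 4, 12, 13, 3, 1, 0, 2, 1, 3, 2, 0], [], [⟨1, 3269, [8, 12, 11, 4, 12, 13]⟩, ⟨1, 25, []⟩, ⟨1, 24, []⟩, ⟨1, 22, []⟩, ⟨1, 22, []⟩, ⟨1, 25, []⟩, ⟨1, 22, []⟩, ⟨1, 22, []⟩, ⟨1, 25, []⟩, ⟨1, 28, []⟩, ⟨1, 30, []⟩, ⟨1, 212, [0, 7, 11, 13, 11, 4, 11, 12, 11]⟩, ⟨1, 135, []⟩, ⟨1, 134, []⟩, ⟨1, 271, [0, 4, 11, 12, 7, 11, 4, 12, 11]⟩]⟩,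
 ⟨4, 8, 3431, [], [⟨1, 3430, []⟩], []⟩,
 ⟨7, 8, 3270, [8, 12, 8, 11, 12, 13, 3, 1, 0, 2, 1, 3, 2, 0], [], [⟨1, 3269, [8, 12, 8, 11, 12, 13]⟩, ⟨1, 20, []⟩, ⟨1, 24, []⟩, ⟨1, 23, []⟩, ⟨1, 22, []⟩, ⟨1, 25, []⟩, ⟨1, 22, []⟩, ⟨1, 21, []⟩, ⟨1, 30, []⟩, ⟨1, 36, []⟩, ⟨1, 2976, [0, 4, 11, 12, 11, 13, 11, 4, 12]⟩, ⟨1, 2978, []⟩, ⟨1, 2977, []⟩, ⟨1, 2999, [0, 13, 11, 4, 12, 7, 11, 4]⟩]⟩,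
 ⟨4, 8, 3433, [], [⟨1, 3432, []⟩], []⟩,
 ⟨7, 8, 3270, [7, 12, 7, 11, 12, 3, 1, 0, 2, 1, 3, 2, 0], [], [⟨1, 3269, [7, 12, 7, 11, 12]⟩, ⟨1, 22, []⟩, ⟨1, 25, []⟩, ⟨1, 21, []⟩, ⟨1, 28, []⟩, ⟨1, 30, []⟩, ⟨1, 28, []⟩, ⟨1, 212, [8, 11, 2, 4, 11, 13, 11, 12, 8, 11]⟩, ⟨1, 134, []⟩, ⟨1, 135, []⟩, ⟨1, 440, [2, 12, 8, 11, 12, 11, 4, 12, 7, 13]⟩]⟩,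
 ⟨4, 8, 3435, [], [⟨1, 3434, []⟩], []⟩,
 ⟨7, 8, 3270, [11, 12, 8, 11, 12, 13, 3, 1, 0, 2, 1, 3, 2, 0], [], [⟨1, 3269, [11, 12, 8, 11, 12, 13]⟩, ⟨1, 20, []⟩, ⟨1, 24, []⟩, ⟨1, 23, []⟩, ⟨1, 22, []⟩, ⟨1, 25, []⟩, ⟨1, 22, []⟩, ⟨1, 25, []⟩, ⟨1, 22, []⟩, ⟨1, 30, []⟩, ⟨1, 22, []⟩, ⟨1, 36, []⟩, ⟨1, 36, []⟩, ⟨1, 3267, [0, 11, 4, 12, 7, 13, 11, 12, 11, 13]⟩, ⟨1, 3271, []⟩, ⟨1, 3268, []⟩, ⟨1, 3271, []⟩, ⟨1, 3268, []⟩, ⟨1, 3271, []⟩, ⟨1, 3268, []⟩, ⟨1, 3271, []⟩, ⟨1, 3268, []⟩, ⟨1, 3271, []⟩, ⟨1, 3268, []⟩, ⟨1, 3271, []⟩, ⟨1, 3345, [2, 11, 13]⟩]⟩,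
 ⟨4, 8, 3437, [], [⟨1, 3436, []⟩], []⟩,
 ⟨7, 8, 3270, [2, 4, 7, 12, 3, 1, 0, 2, 1, 3, 2, 0], [], [⟨1, 3269, [2, 4, 7, 12]⟩, ⟨1, 20, []⟩, ⟨1, 25, []⟩, ⟨1, 23, []⟩, ⟨1, 21, []⟩, ⟨1, 28, []⟩, ⟨1, 28, []⟩, ⟨1, 36, []⟩, ⟨1, 212, [12, 11, 12, 7, 13, 11, 12, 7]⟩, ⟨1, 135, []⟩, ⟨1, 2648, [2, 4, 12, 7, 13, 11, 12, 8, 12, 11, 12]⟩]⟩,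
 ⟨4, 8, 3439, [], [⟨1, 3438, []⟩], []⟩,
 ⟨7, 8, 3270, [7, 11, 12, 13, 3, 1, 0, 2, 1, 3, 2, 0], [], [⟨1, 3269, [7, 11, 12, 13]⟩, ⟨1, 20, []⟩, ⟨1, 25, []⟩, ⟨1, 23, []⟩, ⟨1, 28, []⟩, ⟨1, 30, []⟩, ⟨1, 28, []⟩, ⟨1, 36, []⟩, ⟨1, 36, []⟩, ⟨1, 3267, [2, 7, 13, 11, 4, 11, 12, 8, 11]⟩, ⟨1, 3271, []⟩, ⟨1, 3337, [0, 12, 11, 12, 8, 13, 11, 12, 11]⟩]⟩,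
 ⟨4, 8, 3441, [], [⟨1, 3440, []⟩], []⟩,
 ⟨7, 8, 3270, [2, 4, 12, 11, 4, 12, 3, 1, 0, 2, 1, 3, 2, 0], [], [⟨1, 3269, [2, 4, 12, 11, 4, 12]⟩, ⟨1, 25, []⟩, ⟨1, 24, []⟩, ⟨1, 22, []⟩, ⟨1, 22, []⟩, ⟨1, 25, []⟩, ⟨1, 22, []⟩, ⟨1, 28, []⟩, ⟨1, 36, []⟩, ⟨1, 212, [2, 8, 11, 13, 11, 12, 7, 11, 4]⟩, ⟨1, 135, []⟩, ⟨1, 2648, [4, 11, 12, 13, 11, 4, 12, 11, 12, 8]⟩]⟩,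
 ⟨4, 8, 3443, [], [⟨1, 3442, []⟩], []⟩,
 ⟨7, 8, 3270, [12, 8, 11, 12, 13, 3, 1, 0, 2, 1, 3, 2, 0], [], [⟨1, 3269, [12, 8, 11, 12, 13]⟩, ⟨1, 20, []⟩, ⟨1, 24, []⟩, ⟨1, 36, []⟩, ⟨1, 36, []⟩, ⟨1, 212, [2, 4, 11, 12, 11, 12, 8, 13]⟩, ⟨1, 618, [8, 12, 13, 11, 2, 4, 11, 12, 7]⟩]⟩,
 ⟨4, 8, 3445, [], [⟨1, 3444, []⟩], []⟩,
 ⟨7, 8, 3270, [0, 4, 11, 12, 13, 3, 1, 0, 2, 1, 3, 2, 0], [], [⟨1, 3269, [0, 4, 11, 12, 13]⟩, ⟨1, 20, []⟩, ⟨1, 23, []⟩, ⟨1, 22, []⟩, ⟨1, 25, []⟩, ⟨1, 22, []⟩, ⟨1, 28, []⟩, ⟨1, 30, []⟩, ⟨1, 36, []⟩, ⟨1, 212, [2, 4, 8, 13, 11, 12, 7, 11, 12]⟩, ⟨1, 134, []⟩, ⟨1, 135, []⟩, ⟨1, 134, []⟩, ⟨1, 959, [2, 8, 13, 11, 4, 12, 11, 12,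 8, 12]⟩]⟩,
 ⟨4, 8, 3447, [], [⟨1, 3446, []⟩], []⟩,
 ⟨7, 8, 3270, [4, 7, 12, 3, 1, 0, 2, 1, 3, 2, 0], [], [⟨1, 3269, [4, 7, 12]⟩, ⟨1, 22, []⟩, ⟨1, 22, []⟩, ⟨1, 25, []⟩, ⟨1, 28, []⟩, ⟨1, 28, []⟩, ⟨1, 30, []⟩, ⟨1, 30, []⟩, ⟨1, 212, [11, 12, 11, 4, 12, 11]⟩, ⟨1, 174, [2, 4, 12, 7, 11, 12, 7, 11, 12, 13]⟩]⟩,
 ⟨4, 8, 3449, [], [⟨1, 3448, []⟩], []⟩,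
 ⟨7, 8, 3270, [2, 4, 8, 12, 3, 1, 0, 2, 1, 3, 2, 0], [], [⟨1, 3269, [2, 4, 8, 12]⟩, ⟨1, 20, []⟩, ⟨1, 24, []⟩, ⟨1, 22, []⟩, ⟨1, 22, []⟩, ⟨1, 25, []⟩, ⟨1, 22, []⟩, ⟨1, 22, []⟩, ⟨1, 36, []⟩, ⟨1, 36, []⟩, ⟨1, 2976, [0, 2, 7, 12, 7, 13]⟩, ⟨1, 2978, []⟩, ⟨1, 2978, []⟩, ⟨1, 2977, []⟩, ⟨1, 2999, [4, 13, 11, 4, 11]⟩]⟩,
 ⟨4, 8, 3451, [], [⟨1, 3450, []⟩], []⟩,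
 ⟨7, 8, 3270, [11, 12, 11, 4, 3, 1, 0, 2, 1, 3, 2, 0], [], [⟨1, 3269, [11, 12, 11, 4]⟩, ⟨1, 20, []⟩, ⟨1, 25, []⟩, ⟨1, 24, []⟩, ⟨1, 30, []⟩, ⟨1, 28, []⟩, ⟨1, 36, []⟩, ⟨1, 36, []⟩, ⟨1, 212, [12, 7, 11, 12, 8, 11]⟩, ⟨1, 1057, [4, 12, 7, 11, 12, 7, 13]⟩]⟩,
 ⟨4, 8, 3453, [], [⟨1, 3452, []⟩], []⟩,
 ⟨7, 8, 3270, [7, 12, 13, 11, 12, 3, 1, 0, 2, 1, 3, 2, 0], [], [⟨1, 3269, [7, 12, 13, 11, 12]⟩, ⟨1, 25, []⟩, ⟨1, 22, []⟩, ⟨1, 22, []⟩, ⟨1, 25, []⟩, ⟨1, 22, []⟩, ⟨1, 22, []⟩, ⟨1, 25, []⟩, ⟨1, 28, []⟩, ⟨1, 36, []⟩, ⟨1, 212, [0, 4, 7, 12, 11, 12, 13, 11, 4, 12, 11]⟩, ⟨1, 476, [7, 11, 4, 11, 12, 7, 11, 12, 8]⟩]⟩,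
 ⟨4, 8, 3455, [], [⟨1, 3454, []⟩], []⟩,
 ⟨7, 8, 3270, [0, 8, 12, 13, 11, 12, 3, 1, 0, 2, 1, 3, 2, 0], [], [⟨1, 3269, [0, 8, 12, 13, 11, 12]⟩, ⟨1, 25, []⟩, ⟨1, 24, []⟩, ⟨1, 23, []⟩, ⟨1, 22, []⟩, ⟨1, 25, []⟩, ⟨1, 28, []⟩, ⟨1, 28, []⟩, ⟨1, 36, []⟩, ⟨1, 36, []⟩, ⟨1, 2976, [0, 8, 11, 12, 13, 11, 4]⟩, ⟨1, 3002, [4, 11, 4, 13, 11, 12, 11, 4]⟩]⟩,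
 ⟨4, 8, 3457, [], [⟨1, 3456, []⟩], []⟩]
theorem chk70 : and2 (D.chkL PF70 3410) (Nat.beq (Nat.add 3410 PF70.length) 3458) = true := by decide +kernel

def PF71 : List DPf := [⟨7, 8, 3270, [4, 7, 12, 13, 3, 1, 0, 2, 1, 3, 2, 0], [], [⟨1, 3269, [4, 7, 12, 13]⟩, ⟨1, 24, []⟩, ⟨1, 22, []⟩, ⟨1, 22, []⟩, ⟨1, 25, []⟩, ⟨1, 21, []⟩, ⟨1, 28, []⟩, ⟨1, 28, []⟩, ⟨1, 30, []⟩, ⟨1, 36, []⟩, ⟨1, 212, [2, 4, 8, 12, 11, 12]⟩, ⟨1, 174, [2, 7, 12, 11, 4, 11, 4, 12, 8, 13]⟩]⟩,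
 ⟨4, 8, 3459, [], [⟨1, 3458, []⟩], []⟩,
 ⟨7, 8, 3270, [2, 4, 7, 12, 11, 4, 3, 1, 0, 2, 1, 3, 2, 0], [], [⟨1, 3269, [2, 4, 7, 12, 11, 4]⟩, ⟨1, 20, []⟩, ⟨1, 25, []⟩, ⟨1, 24, []⟩, ⟨1, 22, []⟩, ⟨1, 25, []⟩, ⟨1, 30, []⟩, ⟨1, 30, []⟩, ⟨1, 3267, [4, 8, 12, 13, 11, 4, 11]⟩, ⟨1, 3268, []⟩, ⟨1, 3406, [11, 2, 4, 11, 13]⟩]⟩,
 ⟨4, 8, 3461, [], [⟨1, 3460, []⟩], []⟩,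
 ⟨7, 8, 3270, [4, 3, 1, 0, 2, 1, 3, 2, 0], [], [⟨1, 3269, [4]⟩, ⟨1, 20, []⟩, ⟨1, 24, []⟩, ⟨1, 23, []⟩, ⟨1, 22, []⟩, ⟨1, 25, []⟩, ⟨1, 22, []⟩, ⟨1, 25, []⟩, ⟨1, 22, []⟩, ⟨1, 28, []⟩, ⟨1, 28, []⟩, ⟨1, 30, []⟩, ⟨1, 36, []⟩, ⟨1, 36, []⟩, ⟨1, 212, [7, 11, 12, 11, 4, 11, 12, 8]⟩, ⟨1, 174, [2, 4, 11, 4, 12, 11, 12, 8, 11, 13]⟩]⟩,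
 ⟨4, 8, 3463, [], [⟨1, 3462, []⟩], []⟩,
 ⟨7, 8, 3270, [11, 4, 11, 12, 13, 3, 1, 0, 2, 1, 3, 2, 0], [], [⟨1, 3269, [11, 4, 11, 12, 13]⟩, ⟨1, 25, []⟩, ⟨1, 22, []⟩, ⟨1, 22, []⟩, ⟨1, 25, []⟩, ⟨1, 22, []⟩, ⟨1, 22, []⟩, ⟨1, 28, []⟩, ⟨1, 30, []⟩, ⟨1, 28, []⟩, ⟨1, 36, []⟩, ⟨1, 36, []⟩, ⟨1, 212, [12, 13, 11, 4, 12, 8, 11, 4, 13]⟩, ⟨1, 135, []⟩, ⟨1, 134, []⟩, ⟨1, 194, [2, 4, 7, 11, 4, 11, 13]⟩]⟩,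
 ⟨4, 8, 3465, [], [⟨1, 3464, []⟩], []⟩,
 ⟨7, 8, 3270, [0, 13, 11, 4, 12, 11, 4, 3, 1, 0, 2, 1, 3, 2, 0], [], [⟨1, 3269, [0, 13, 11, 4, 12, 11, 4]⟩, ⟨1, 20, []⟩, ⟨1, 25, []⟩, ⟨1, 22, []⟩, ⟨1, 25, []⟩, ⟨1, 30, []⟩, ⟨1, 30, []⟩, ⟨1, 36, []⟩, ⟨1, 36, []⟩, ⟨1, 212, [4, 8, 12, 13, 11, 12, 8, 11, 4, 13]⟩, ⟨1, 135, []⟩, ⟨1, 932, [7, 11, 12, 7, 11, 4, 13]⟩]⟩,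
 ⟨4, 8, 3467, [], [⟨1, 3466, []⟩], []⟩,
 ⟨7, 8, 3270, [4, 12, 8, 11, 12, 3, 1, 0, 2, 1, 3, 2, 0], [], [⟨1, 3269, [4, 12, 8, 11, 12]⟩, ⟨1, 22, []⟩, ⟨1, 28, []⟩, ⟨1, 28, []⟩, ⟨1, 30, []⟩, ⟨1, 36, []⟩, ⟨1, 3267, [0, 12, 11, 4, 12, 11, 13, 11, 12]⟩, ⟨1, 3400, [7, 11, 2, 13, 11, 4, 12, 8, 11, 4]⟩]⟩,
 ⟨4, 8, 3469, [], [⟨1, 3468, []⟩], []⟩,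
 ⟨7, 8, 3270, [2, 8, 11, 12, 7, 11, 12, 3, 1, 0, 2, 1, 3, 2, 0], [], [⟨1, 3269, [2, 8, 11, 12, 7, 11, 12]⟩, ⟨1, 28, []⟩, ⟨1, 28, []⟩, ⟨1, 30, []⟩, ⟨1, 30, []⟩, ⟨1, 3267, [2, 12, 7, 11, 12, 13]⟩, ⟨1, 3396, [0, 7, 11, 4, 13, 11, 4, 12, 8, 11]⟩]⟩,
 ⟨4, 8, 3471, [], [⟨1, 3470, []⟩], []⟩,
 ⟨7, 8, 3270, [12, 7, 11, 12, 13, 3, 1, 0, 2, 1, 3, 2, 0], [], [⟨1, 3269, [12, 7, 11, 12, 13]⟩, ⟨1, 20, []⟩, ⟨1, 25, []⟩, ⟨1, 23, []⟩, ⟨1, 22, []⟩, ⟨1, 28, []⟩, ⟨1, 36, []⟩, ⟨1, 36, []⟩, ⟨1, 2976, [0, 11, 12, 13, 11, 12, 11, 4, 13]⟩, ⟨1, 2977, []⟩, ⟨1, 2997, [11, 13, 11, 12, 8, 12, 11, 4]⟩]⟩,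
 ⟨4, 8, 3473, [], [⟨1, 3472, []⟩], []⟩,
 ⟨7, 8, 3270, [11, 4, 12, 3, 1, 0, 2, 1, 3, 2, 0], [], [⟨1, 3269, [11, 4, 12]⟩, ⟨1, 22, []⟩, ⟨1, 22, []⟩, ⟨1, 25, []⟩, ⟨1, 30, []⟩, ⟨1, 36, []⟩, ⟨1, 36, []⟩, ⟨1, 3267, [0, 8, 11, 4, 12, 13, 11, 4]⟩, ⟨1, 3412, [13, 11, 12, 11, 4, 11, 13, 11]⟩]⟩,
 ⟨4, 8, 3475, [], [⟨1, 3474, []⟩], []⟩,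
 ⟨7, 8, 3270, [8, 13, 11, 4, 12, 3, 1, 0, 2, 1, 3, 2, 0], [], [⟨1, 3269, [8, 13, 11, 4, 12]⟩, ⟨1, 25, []⟩, ⟨1, 24, []⟩, ⟨1, 22, []⟩, ⟨1, 22, []⟩, ⟨1, 25, []⟩, ⟨1, 28, []⟩, ⟨1, 36, []⟩, ⟨1, 36, []⟩, ⟨1, 212, [0, 4, 11, 4, 12, 13, 11, 4, 11, 13]⟩, ⟨1, 142, [0, 7, 12, 13, 11, 4, 12, 7, 11, 4, 12]⟩]⟩,
 ⟨4, 8, 3477, [], [⟨1, 3476, []⟩], []⟩,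
 ⟨7, 8, 3270, [12, 13, 11, 12, 11, 4, 3, 1, 0, 2, 1, 3, 2, 0], [], [⟨1, 3269, [12, 13, 11, 12, 11, 4]⟩, ⟨1, 25, []⟩, ⟨1, 24, []⟩, ⟨1, 23, []⟩, ⟨1, 22, []⟩, ⟨1, 25, []⟩, ⟨1, 22, []⟩, ⟨1, 25, []⟩, ⟨1, 22, []⟩, ⟨1, 28, []⟩, ⟨1, 3267, [0, 4, 8, 11, 12, 7, 11, 12, 11, 4, 13]⟩, ⟨1, 3408, [4, 8, 11, 2, 13, 11, 4, 12, 11]⟩]⟩,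
 ⟨4, 8, 3479, [], [⟨1, 3478, []⟩], []⟩,
 ⟨7, 8, 3270, [4, 11, 13, 11, 12, 3, 1, 0, 2, 1, 3, 2, 0], [], [⟨1, 3269, [4, 11, 13, 11, 12]⟩, ⟨1, 25, []⟩, ⟨1, 23, []⟩, ⟨1, 22, []⟩, ⟨1, 25, []⟩, ⟨1, 22, []⟩, ⟨1, 22, []⟩, ⟨1, 28, []⟩, ⟨1, 36, []⟩, ⟨1, 36, []⟩, ⟨1, 212, [0, 11, 12, 11, 4, 11, 12, 7, 11, 13]⟩, ⟨1, 134, []⟩, ⟨1, 476, [7, 12, 8, 11, 12, 7, 11, 12, 11, 12]⟩]⟩,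
 ⟨4, 8, 3481, [], [⟨1, 3480, []⟩], []⟩,
 ⟨7, 8, 3270, [7, 11, 12, 3, 1, 0, 2, 1, 3, 2, 0], [], [⟨1, 3269, [7, 11, 12]⟩, ⟨1, 25, []⟩, ⟨1, 23, []⟩, ⟨1, 22, []⟩, ⟨1, 22, []⟩, ⟨1, 25, []⟩, ⟨1, 22, []⟩, ⟨1, 22, []⟩, ⟨1, 25, []⟩, ⟨1, 30, []⟩, ⟨1, 36, []⟩, ⟨1, 36, []⟩, ⟨1, 212, [0, 4, 11, 13, 11, 12, 7, 12, 11]⟩, ⟨1, 135, []⟩, ⟨1, 2648, [7, 11, 4, 11, 13, 11, 4, 11]⟩]⟩,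
 ⟨4, 8, 3483, [], [⟨1, 3482, []⟩], []⟩,
 ⟨7, 8, 3270, [4, 11, 4, 3, 1, 0, 2, 1, 3, 2, 0], [], [⟨1, 3269, [4, 11, 4]⟩, ⟨1, 25, []⟩, ⟨1, 28, []⟩, ⟨1, 36, []⟩, ⟨1, 36, []⟩, ⟨1, 55, [8, 11, 4, 11, 13, 11, 12, 7, 11]⟩, ⟨1, 39, []⟩, ⟨1, 43, []⟩, ⟨1, 42, []⟩, ⟨1, 185, [0, 7, 11, 4, 11, 12, 13, 11, 4, 11, 12]⟩]⟩,
 ⟨4, 8, 3485, [], [⟨1, 3484, []⟩], []⟩,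
 ⟨7, 8, 3270, [4, 13, 11, 12, 3, 1, 0, 2, 1, 3, 2, 0], [], [⟨1, 3269, [4, 13, 11, 12]⟩, ⟨1, 20, []⟩, ⟨1, 25, []⟩, ⟨1, 23, []⟩, ⟨1, 22, []⟩, ⟨1, 25, []⟩, ⟨1, 22, []⟩, ⟨1, 25, []⟩, ⟨1, 28, []⟩, ⟨1, 30, []⟩, ⟨1, 36, []⟩, ⟨1, 36, []⟩, ⟨1, 3267, [7, 11, 2, 4, 11, 12, 7, 13, 11]⟩, ⟨1, 3343, [4, 8, 11, 12, 8, 11, 12, 7]⟩]⟩,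
 ⟨4, 8, 3487, [], [⟨1, 3486, []⟩], []⟩,
 ⟨7, 8, 3270, [0, 8, 11, 12, 13, 11, 4, 3, 1, 0, 2, 1, 3, 2, 0], [], [⟨1, 3269, [0, 8, 11, 12, 13, 11, 4]⟩, ⟨1, 20, []⟩, ⟨1, 24, []⟩, ⟨1, 23, []⟩, ⟨1, 22, []⟩, ⟨1, 22, []⟩, ⟨1, 25, []⟩, ⟨1, 22, []⟩, ⟨1, 22, []⟩, ⟨1, 21, []⟩, ⟨1, 28, []⟩, ⟨1, 28, []⟩, ⟨1, 30, []⟩, ⟨1, 36, []⟩, ⟨1, 3267, [0, 12, 8, 11, 12, 7, 11, 4, 13]⟩, ⟨1, 3268, []⟩, ⟨1, 3271, []⟩, ⟨1, 3268, []⟩, ⟨1, 3271, []⟩, ⟨1, 3268, []⟩, ⟨1, 3271, []⟩, ⟨1, 3268, []⟩, ⟨1, 3271, []⟩, ⟨1, 3268, []⟩, ⟨1, 3271, []⟩, ⟨1, 3268, []⟩, ⟨1, 3271, []⟩, ⟨1, 3345, [4, 7, 11, 2, 4, 13]⟩]⟩,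
 ⟨4, 8, 3489, [], [⟨1, 3488, []⟩], []⟩,
 ⟨7, 8, 3270, [11, 13, 11, 4, 3, 1, 0, 2, 1, 3, 2, 0], [], [⟨1, 3269, [11, 13, 11, 4]⟩, ⟨1, 20, []⟩, ⟨1, 25, []⟩, ⟨1, 24, []⟩, ⟨1, 23, []⟩, ⟨1, 22, []⟩, ⟨1, 22, []⟩, ⟨1, 25, []⟩, ⟨1, 28, []⟩, ⟨1, 30, []⟩, ⟨1, 30, []⟩, ⟨1, 212, [7, 11, 4, 11, 13, 11, 4, 12, 11]⟩, ⟨1, 134, []⟩, ⟨1, 135, []⟩, ⟨1, 134, []⟩, ⟨1, 271, [4, 12, 11, 13, 11, 4, 11, 4, 12, 7, 13]⟩]⟩,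
 ⟨4, 8, 3491, [], [⟨1, 3490, []⟩], []⟩,
 ⟨7, 8, 3270, [4, 11, 4, 12, 13, 11, 4, 3, 1, 0, 2, 1, 3, 2, 0], [], [⟨1, 3269, [4, 11, 4, 12, 13, 11, 4]⟩, ⟨1, 20, []⟩, ⟨1, 24, []⟩, ⟨1, 23, []⟩, ⟨1, 22, []⟩, ⟨1, 25, []⟩, ⟨1, 30, []⟩, ⟨1, 36, []⟩, ⟨1, 212, [2, 4, 11, 12, 7, 12, 13, 11]⟩, ⟨1, 135, []⟩, ⟨1, 2648, [2, 4, 7, 12, 11, 12, 11, 13]⟩]⟩,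
 ⟨4, 8, 3493, [], [⟨1, 3492, []⟩], []⟩,
 ⟨7, 8, 3270, [8, 11, 4, 13, 11, 12, 3, 1, 0, 2, 1, 3, 2, 0], [], [⟨1, 3269, [8, 11, 4, 13, 11, 12]⟩, ⟨1, 25, []⟩, ⟨1, 23, []⟩, ⟨1, 22, []⟩, ⟨1, 22, []⟩, ⟨1, 25, []⟩, ⟨1, 36, []⟩, ⟨1, 2976, [12, 7, 12, 11, 2, 12, 8]⟩, ⟨1, 2978, []⟩, ⟨1, 2999, [2, 8, 12, 11, 4, 12, 8, 13]⟩]⟩,
 ⟨4, 8, 3495, [], [⟨1, 3494, []⟩], []⟩,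
 ⟨7, 8, 3270, [0, 13, 3, 1, 0, 2, 1, 3, 2, 0], [], [⟨1, 3269, [0, 13]⟩, ⟨1, 20, []⟩, ⟨1, 25, []⟩, ⟨1, 24, []⟩, ⟨1, 22, []⟩, ⟨1, 25, []⟩, ⟨1, 22, []⟩, ⟨1, 25, []⟩, ⟨1, 22, []⟩, ⟨1, 30, []⟩, ⟨1, 28, []⟩, ⟨1, 212, [0, 4, 7, 13, 11, 12, 11, 4, 11]⟩, ⟨1, 134, []⟩, ⟨1, 135, []⟩, ⟨1, 134, []⟩, ⟨1, 959, [2, 8, 12, 8, 11, 12, 8, 11, 13]⟩]⟩,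
 ⟨4, 8, 3497, [], [⟨1, 3496, []⟩], []⟩,
 ⟨7, 8, 3270, [0, 8, 11, 12, 13, 3, 1, 0, 2, 1, 3, 2, 0], [], [⟨1, 3269, [0, 8, 11, 12, 13]⟩, ⟨1, 23, []⟩, ⟨1, 22, []⟩, ⟨1, 22, []⟩, ⟨1, 25, []⟩, ⟨1, 22, []⟩, ⟨1, 22, []⟩, ⟨1, 25, []⟩, ⟨1, 21, []⟩, ⟨1, 28, []⟩, ⟨1, 30, []⟩, ⟨1, 36, []⟩, ⟨1, 212, [2, 4, 13, 11, 12, 8, 11, 12]⟩, ⟨1, 134, []⟩, ⟨1, 135, []⟩, ⟨1, 134, []⟩, ⟨1, 959, [2, 11, 4, 11, 12, 8, 12, 13, 11, 4, 11, 12]⟩]⟩,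
 ⟨4, 8, 3499, [], [⟨1, 3498, []⟩], []⟩,
 ⟨7, 8, 3270, [2, 11, 12, 11, 4, 3, 1, 0, 2, 1, 3, 2, 0], [], [⟨1, 3269, [2, 11, 12, 11, 4]⟩, ⟨1, 20, []⟩, ⟨1, 24, []⟩, ⟨1, 22, []⟩, ⟨1, 25, []⟩, ⟨1, 22, []⟩, ⟨1, 22, []⟩, ⟨1, 21, []⟩, ⟨1, 36, []⟩, ⟨1, 212, [0, 4, 7, 12, 8, 11, 13]⟩, ⟨1, 134, []⟩, ⟨1, 1032, [8, 12, 11, 4, 13, 11, 4, 11, 12, 7]⟩]⟩,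
 ⟨4, 8, 3501, [], [⟨1, 3500, []⟩], []⟩,
 ⟨7, 8, 3270, [7, 12, 8, 13, 11, 4, 12, 3, 1, 0, 2, 1, 3, 2, 0], [], [⟨1, 3269, [7, 12, 8, 13, 11, 4, 12]⟩, ⟨1, 20, []⟩, ⟨1, 25, []⟩, ⟨1, 22, []⟩, ⟨1, 21, []⟩, ⟨1, 28, []⟩, ⟨1, 30, []⟩, ⟨1, 36, []⟩, ⟨1, 3267, [12, 8, 11, 12, 7, 11, 12, 8, 11, 13]⟩, ⟨1, 3412, [2, 4, 8, 11, 4, 13, 11, 12, 7, 11, 4]⟩]⟩,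
 ⟨4, 8, 3503, [], [⟨1, 3502, []⟩], []⟩,
 ⟨7, 8, 3270, [4, 11, 12, 7, 11, 12, 13, 3, 1, 0, 2, 1, 3, 2, 0], [], [⟨1, 3269, [4, 11, 12, 7, 11, 12, 13]⟩, ⟨1, 25, []⟩, ⟨1, 23, []⟩, ⟨1, 22, []⟩, ⟨1, 25, []⟩, ⟨1, 22, []⟩, ⟨1, 21, []⟩, ⟨1, 36, []⟩, ⟨1, 212, [12, 8, 11, 2, 12, 7, 11, 4]⟩, ⟨1, 188, [0, 7, 11, 12, 13, 11, 4, 11, 4]⟩]⟩,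
 ⟨4, 8, 3505, [], [⟨1, 3504, []⟩], []⟩]
theorem chk71 : and2 (D.chkL PF71 3458) (Nat.beq (Nat.add 3458 PF71.length) 3506) = true := by decide +kernel

def PF72 : List DPf := [⟨7, 8, 3270, [7, 13, 11, 12, 3, 1, 0, 2, 1, 3, 2, 0], [], [⟨1, 3269, [7, 13, 11, 12]⟩, ⟨1, 20, []⟩, ⟨1, 25, []⟩, ⟨1, 22, []⟩, ⟨1, 25, []⟩, ⟨1, 22, []⟩, ⟨1, 25, []⟩, ⟨1, 22, []⟩, ⟨1, 28, []⟩, ⟨1, 3267, [12, 11, 12, 13, 11, 4, 12, 8, 11, 13]⟩, ⟨1, 3268, []⟩, ⟨1, 3400, [11, 2, 13, 11, 12, 7, 12, 11, 4]⟩]⟩,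
 ⟨4, 8, 3507, [], [⟨1, 3506, []⟩], []⟩,
 ⟨7, 8, 3270, [11, 12, 13, 11, 12, 3, 1, 0, 2, 1, 3, 2, 0], [], [⟨1, 3269, [11, 12, 13, 11, 12]⟩, ⟨1, 22, []⟩, ⟨1, 25, []⟩, ⟨1, 22, []⟩, ⟨1, 25, []⟩, ⟨1, 22, []⟩, ⟨1, 22, []⟩, ⟨1, 36, []⟩, ⟨1, 36, []⟩, ⟨1, 55, [7, 12, 8, 11, 12, 11, 4, 12, 8, 11, 12]⟩, ⟨1, 46, []⟩, ⟨1, 65, [13, 11, 12, 7, 11, 12, 8, 12, 11]⟩]⟩,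
 ⟨4, 8, 3509, [], [⟨1, 3508, []⟩], []⟩,
 ⟨7, 8, 3270, [4, 8, 13, 11, 4, 12, 3, 1, 0, 2, 1, 3, 2, 0], [], [⟨1, 3269, [4, 8, 13, 11, 4, 12]⟩, ⟨1, 25, []⟩, ⟨1, 23, []⟩, ⟨1, 22, []⟩, ⟨1, 22, []⟩, ⟨1, 25, []⟩, ⟨1, 22, []⟩, ⟨1, 22, []⟩, ⟨1, 28, []⟩, ⟨1, 30, []⟩, ⟨1, 36, []⟩, ⟨1, 212, [7, 12, 8, 11, 12, 8, 11, 4, 11]⟩, ⟨1, 135, []⟩, ⟨1, 932, [4, 7, 13, 11, 4, 12, 11, 12, 11, 13, 11]⟩]⟩,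
 ⟨4, 8, 3511, [], [⟨1, 3510, []⟩], []⟩,
 ⟨7, 8, 3270, [2, 4, 11, 4, 3, 1, 0, 2, 1, 3, 2, 0], [], [⟨1, 3269, [2, 4, 11, 4]⟩, ⟨1, 25, []⟩, ⟨1, 24, []⟩, ⟨1, 22, []⟩, ⟨1, 25, []⟩, ⟨1, 22, []⟩, ⟨1, 25, []⟩, ⟨1, 22, []⟩, ⟨1, 21, []⟩, ⟨1, 3267, [4, 11, 4, 11]⟩, ⟨1, 3268, []⟩, ⟨1, 3400, [11, 2, 4, 11, 13]⟩]⟩,
 ⟨4, 8, 3513, [], [⟨1, 3512, []⟩], []⟩,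
 ⟨7, 8, 3270, [2, 4, 7, 11, 12, 3, 1, 0, 2, 1, 3, 2, 0], [], [⟨1, 3269, [2, 4, 7, 11, 12]⟩, ⟨1, 20, []⟩, ⟨1, 24, []⟩, ⟨1, 28, []⟩, ⟨1, 28, []⟩, ⟨1, 3267, [0, 4, 8, 12, 11, 12, 13, 11, 4]⟩, ⟨1, 3408, [2, 11, 4, 11, 13, 11, 12, 11]⟩]⟩,
 ⟨4, 8, 3515, [], [⟨1, 3514, []⟩], []⟩,
 ⟨7, 8, 3270, [12, 8, 11, 4, 12, 13, 3, 1, 0, 2, 1, 3, 2, 0], [], [⟨1, 3269, [12, 8, 11, 4, 12, 13]⟩, ⟨1, 20, []⟩, ⟨1, 24, []⟩, ⟨1, 21, []⟩, ⟨1, 28, []⟩, ⟨1, 28, []⟩, ⟨1, 30, []⟩, ⟨1, 30, []⟩, ⟨1, 212, [11, 13, 11, 12, 7, 12, 11, 12, 11]⟩, ⟨1, 134, []⟩, ⟨1, 135, []⟩, ⟨1, 969, [0, 4, 8, 12, 7, 11, 4, 13, 11, 4, 11]⟩]⟩,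
 ⟨4, 8, 3517, [], [⟨1, 3516, []⟩], []⟩,
 ⟨7, 8, 3270, [7, 11, 12, 13, 11, 4, 3, 1, 0, 2, 1, 3, 2, 0], [], [⟨1, 3269, [7, 11, 12, 13, 11, 4]⟩, ⟨1, 20, []⟩, ⟨1, 22, []⟩, ⟨1, 25, []⟩, ⟨1, 22, []⟩, ⟨1, 25, []⟩, ⟨1, 22, []⟩, ⟨1, 21, []⟩, ⟨1, 28, []⟩, ⟨1, 36, []⟩, ⟨1, 3267, [0, 4, 7, 13, 11, 12, 11, 12, 8]⟩, ⟨1, 3268, []⟩, ⟨1, 3398, [0, 7, 12, 11, 4, 12, 8, 11, 13]⟩]⟩,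
 ⟨4, 8, 3519, [], [⟨1, 3518, []⟩], []⟩,
 ⟨7, 8, 3270, [12, 7, 12, 11, 12, 3, 1, 0, 2, 1, 3, 2, 0], [], [⟨1, 3269, [12, 7, 12, 11, 12]⟩, ⟨1, 20, []⟩, ⟨1, 25, []⟩, ⟨1, 24, []⟩, ⟨1, 22, []⟩, ⟨1, 22, []⟩, ⟨1, 25, []⟩, ⟨1, 22, []⟩, ⟨1, 30, []⟩, ⟨1, 36, []⟩, ⟨1, 36, []⟩, ⟨1, 3267, [4, 11, 12, 7, 11, 12, 8, 11, 4, 12]⟩, ⟨1, 3268, []⟩, ⟨1, 3343, [0, 4, 11, 12, 7, 11, 12]⟩]⟩,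
 ⟨4, 8, 3521, [], [⟨1, 3520, []⟩], []⟩,
 ⟨7, 8, 3270, [0, 12, 11, 4, 13, 3, 1, 0, 2, 1, 3, 2, 0], [], [⟨1, 3269, [0, 12, 11, 4, 13]⟩, ⟨1, 20, []⟩, ⟨1, 22, []⟩, ⟨1, 25, []⟩, ⟨1, 22, []⟩, ⟨1, 25, []⟩, ⟨1, 22, []⟩, ⟨1, 30, []⟩, ⟨1, 36, []⟩, ⟨1, 2976, [12, 11]⟩, ⟨1, 2978, []⟩, ⟨1, 2999, [2, 4, 7, 11, 13]⟩]⟩,
 ⟨4, 8, 3523, [], [⟨1, 3522, []⟩], []⟩,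
 ⟨7, 8, 3270, [0, 7, 11, 12, 13, 11, 4, 3, 1, 0, 2, 1, 3, 2, 0], [], [⟨1, 3269, [0, 7, 11, 12, 13, 11, 4]⟩, ⟨1, 22, []⟩, ⟨1, 22, []⟩, ⟨1, 30, []⟩, ⟨1, 30, []⟩, ⟨1, 36, []⟩, ⟨1, 36, []⟩, ⟨1, 3267, [4, 8, 13, 11, 12, 11, 4, 12, 7, 13]⟩, ⟨1, 3406, [11, 4, 11, 13, 11, 12, 8, 11]⟩]⟩,
 ⟨4, 8, 3525, [], [⟨1, 3524, []⟩], []⟩,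
 ⟨7, 8, 3270, [4, 7, 11, 13, 11, 4, 12, 3, 1, 0, 2, 1, 3, 2, 0], [], [⟨1, 3269, [4, 7, 11, 13, 11, 4, 12]⟩, ⟨1, 25, []⟩, ⟨1, 22, []⟩, ⟨1, 25, []⟩, ⟨1, 28, []⟩, ⟨1, 36, []⟩, ⟨1, 212, [0, 7, 11, 12, 13, 11]⟩, ⟨1, 135, []⟩, ⟨1, 134, []⟩, ⟨1, 959, [0, 4, 12, 11, 13]⟩]⟩,
 ⟨4, 8, 3527, [], [⟨1, 3526, []⟩], []⟩,
 ⟨7, 8, 3270, [0, 8, 12, 7, 13, 11, 12, 3, 1, 0, 2, 1, 3, 2, 0], [], [⟨1, 3269, [0, 8, 12, 7, 13, 11, 12]⟩, ⟨1, 20, []⟩, ⟨1, 22, []⟩, ⟨1, 21, []⟩, ⟨1, 30, []⟩, ⟨1, 36, []⟩, ⟨1, 3267, [0, 12, 8, 11, 12, 13, 11, 4]⟩, ⟨1, 3408, [0, 4, 8, 12, 13, 11, 4, 11, 12, 7]⟩]⟩,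
 ⟨4, 8, 3529, [], [⟨1, 3528, []⟩], []⟩,
 ⟨7, 8, 3270, [7, 13, 11, 4, 11, 12, 3, 1, 0, 2, 1, 3, 2, 0], [], [⟨1, 3269, [7, 13, 11, 4, 11, 12]⟩, ⟨1, 25, []⟩, ⟨1, 22, []⟩, ⟨1, 25, []⟩, ⟨1, 22, []⟩, ⟨1, 22, []⟩, ⟨1, 36, []⟩, ⟨1, 36, []⟩, ⟨1, 212, [2, 8, 13, 11, 4, 11, 12, 7, 11, 12]⟩, ⟨1, 134, []⟩, ⟨1, 135, []⟩, ⟨1, 134, []⟩, ⟨1, 959, [0, 4, 11, 12, 13, 11, 4, 12, 7, 11]⟩]⟩,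
 ⟨4, 8, 3531, [], [⟨1, 3530, []⟩], []⟩,
 ⟨7, 8, 3270, [2, 12, 7, 11, 12, 3, 1, 0, 2, 1, 3, 2, 0], [], [⟨1, 3269, [2, 12, 7, 11, 12]⟩, ⟨1, 20, []⟩, ⟨1, 25, []⟩, ⟨1, 24, []⟩, ⟨1, 23, []⟩, ⟨1, 22, []⟩, ⟨1, 22, []⟩, ⟨1, 25, []⟩, ⟨1, 22, []⟩, ⟨1, 36, []⟩, ⟨1, 212, [4, 8, 13, 11, 12, 11, 12, 13]⟩, ⟨1, 1057, [0, 8, 11, 12, 7, 13]⟩]⟩,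
 ⟨4, 8, 3533, [], [⟨1, 3532, []⟩], []⟩,
 ⟨7, 8, 3270, [4, 11, 12, 3, 1, 0, 2, 1, 3, 2, 0], [], [⟨1, 3269, [4, 11, 12]⟩, ⟨1, 25, []⟩, ⟨1, 24, []⟩, ⟨1, 23, []⟩, ⟨1, 28, []⟩, ⟨1, 2976, [0, 11, 4, 12, 11, 13, 11, 12]⟩, ⟨1, 2978, []⟩, ⟨1, 2977, []⟩, ⟨1, 2999, [8, 13, 11, 12, 8, 11, 4]⟩]⟩,
 ⟨4, 8, 3535, [], [⟨1, 3534, []⟩], []⟩,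
 ⟨7, 8, 3270, [2, 4, 12, 11, 12, 3, 1, 0, 2, 1, 3, 2, 0], [], [⟨1, 3269, [2, 4, 12, 11, 12]⟩, ⟨1, 24, []⟩, ⟨1, 22, []⟩, ⟨1, 22, []⟩, ⟨1, 25, []⟩, ⟨1, 22, []⟩, ⟨1, 22, []⟩, ⟨1, 25, []⟩, ⟨1, 28, []⟩, ⟨1, 30, []⟩, ⟨1, 30, []⟩, ⟨1, 36, []⟩, ⟨1, 36, []⟩, ⟨1, 3267, [11, 4, 11, 4, 12, 8, 11, 12, 13]⟩, ⟨1, 3408, [7, 11, 12, 11, 4, 12, 8, 11, 13]⟩]⟩,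
 ⟨4, 8, 3537, [], [⟨1, 3536, []⟩], []⟩,
 ⟨8, 8, 3270, [12, 11, 12, 0, 2, 3, 4, 2, 1, 2, 0, 1, 3, 2, 0], [], [⟨1, 3269, [12, 11, 12]⟩, ⟨1, 25, []⟩, ⟨1, 22, []⟩, ⟨1, 25, []⟩, ⟨1, 22, []⟩, ⟨1, 22, []⟩, ⟨1, 30, []⟩, ⟨1, 28, []⟩, ⟨1, 212, [2, 12, 7, 11, 4, 11, 13, 11, 4, 12]⟩, ⟨1, 134, []⟩, ⟨1, 135, []⟩, ⟨1, 440, [11, 13, 11, 4, 11, 12, 13]⟩]⟩,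
 ⟨4, 8, 3539, [], [⟨1, 3538, []⟩], []⟩,
 ⟨8, 8, 3270, [12, 7, 11, 12, 0, 2, 3, 4, 2, 1, 2, 0, 1, 3, 2, 0], [], [⟨1, 3269, [12, 7, 11, 12]⟩, ⟨1, 23, []⟩, ⟨1, 22, []⟩, ⟨1, 25, []⟩, ⟨1, 22, []⟩, ⟨1, 25, []⟩, ⟨1, 22, []⟩, ⟨1, 22, []⟩, ⟨1, 28, []⟩, ⟨1, 28, []⟩, ⟨1, 36, []⟩, ⟨1, 3267, [11, 4, 11, 12, 7, 11, 12, 7, 11]⟩, ⟨1, 3406, [7, 12, 13, 11, 4, 11, 12, 8, 13]⟩]⟩,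
 ⟨4, 8, 3541, [], [⟨1, 3540, []⟩], []⟩,
 ⟨8, 8, 3270, [8, 12, 7, 11, 12, 0, 2, 3, 4, 2, 1, 2, 0, 1, 3, 2, 0], [], [⟨1, 3269, [8, 12, 7, 11, 12]⟩, ⟨1, 20, []⟩, ⟨1, 25, []⟩, ⟨1, 22, []⟩, ⟨1, 22, []⟩, ⟨1, 25, []⟩, ⟨1, 22, []⟩, ⟨1, 28, []⟩, ⟨1, 30, []⟩, ⟨1, 28, []⟩, ⟨1, 212, [4, 13, 11, 4, 12, 11, 12, 7, 11]⟩, ⟨1, 1032, [8, 11, 4, 11, 4]⟩]⟩,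
 ⟨4, 8, 3543, [], [⟨1, 3542, []⟩], []⟩,
 ⟨8, 8, 3270, [7, 12, 0, 2, 3, 4, 2, 1, 2, 0, 1, 3, 2, 0], [], [⟨1, 3269, [7, 12]⟩, ⟨1, 20, []⟩, ⟨1, 22, []⟩, ⟨1, 25, []⟩, ⟨1, 22, []⟩, ⟨1, 25, []⟩, ⟨1, 22, []⟩, ⟨1, 21, []⟩, ⟨1, 28, []⟩, ⟨1, 28, []⟩, ⟨1, 36, []⟩, ⟨1, 212, [2, 8, 11, 4, 11, 12, 11, 12]⟩, ⟨1, 174, [7, 11, 12, 11, 4, 11, 12, 8, 11]⟩]⟩,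
 ⟨4, 8, 3545, [], [⟨1, 3544, []⟩], []⟩,
 ⟨8, 8, 3270, [4, 8, 11, 12, 13, 0, 2, 3, 4, 2, 1, 2, 0, 1, 3, 2, 0], [], [⟨1, 3269, [4, 8, 11, 12, 13]⟩, ⟨1, 20, []⟩, ⟨1, 25, []⟩, ⟨1, 24, []⟩, ⟨1, 22, []⟩, ⟨1, 25, []⟩, ⟨1, 22, []⟩, ⟨1, 212, [8, 11, 12, 7, 11, 13, 11, 12, 7, 11]⟩, ⟨1, 135, []⟩, ⟨1, 969, [12, 8, 11, 2, 12, 7, 11, 4, 11, 12]⟩]⟩,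
 ⟨4, 8, 3547, [], [⟨1, 3546, []⟩], []⟩,
 ⟨8, 8, 3270, [0, 4, 8, 11, 12, 13, 0, 2, 3, 4, 2, 1, 2, 0, 1, 3, 2, 0], [], [⟨1, 3269, [0, 4, 8, 11, 12, 13]⟩, ⟨1, 20, []⟩, ⟨1, 25, []⟩, ⟨1, 24, []⟩, ⟨1, 22, []⟩, ⟨1, 25, []⟩, ⟨1, 22, []⟩, ⟨1, 212, [12, 7, 11, 12, 13, 11, 4, 11, 4]⟩, ⟨1, 135, []⟩, ⟨1, 134, []⟩, ⟨1, 959, [0, 7, 12, 7, 11, 12, 7, 11, 4]⟩]⟩,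
 ⟨4, 8, 3549, [], [⟨1, 3548, []⟩], []⟩,
 ⟨8, 8, 3270, [13, 11, 4, 12, 11, 12, 0, 2, 3, 4, 2, 1, 2, 0, 1, 3, 2, 0], [], [⟨1, 3269, [13, 11, 4, 12, 11, 12]⟩, ⟨1, 25, []⟩, ⟨1, 23, []⟩, ⟨1, 22, []⟩, ⟨1, 25, []⟩, ⟨1, 22, []⟩, ⟨1, 22, []⟩, ⟨1, 30, []⟩, ⟨1, 28, []⟩, ⟨1, 212, [11, 4, 12, 8, 11, 4, 13, 11, 12, 8]⟩, ⟨1, 134, []⟩, ⟨1, 135, []⟩, ⟨1, 2648, [7, 11, 13, 11, 12, 11, 12, 13, 11, 12]⟩]⟩,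
 ⟨4, 8, 3551, [], [⟨1, 3550, []⟩], []⟩,
 ⟨8, 8, 3270, [12, 8, 11, 12, 13, 0, 2, 3, 4, 2, 1, 2, 0, 1, 3, 2, 0], [], [⟨1, 3269, [12, 8, 11, 12, 13]⟩, ⟨1, 20, []⟩, ⟨1, 25, []⟩, ⟨1, 24, []⟩, ⟨1, 22, []⟩, ⟨1, 25, []⟩, ⟨1, 22, []⟩, ⟨1, 212, [2, 11, 12, 7, 12, 11, 4, 11, 13]⟩, ⟨1, 135, []⟩, ⟨1, 2648, [2, 4, 11, 4, 12, 11, 12, 7, 12, 11, 12]⟩]⟩,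
 ⟨4, 8, 3553, [], [⟨1, 3552, []⟩], []⟩]
theorem chk72 : and2 (D.chkL PF72 3506) (Nat.beq (Nat.add 3506 PF72.length) 3554) = true := by decide +kernel

def PF73 : List DPf := [⟨8, 8, 3270, [0, 8, 12, 7, 13, 11, 12, 0, 2, 3, 4, 2, 1, 2, 0, 1, 3, 2, 0], [], [⟨1, 3269, [0, 8, 12, 7, 13, 11, 12]⟩, ⟨1, 23, []⟩, ⟨1, 22, []⟩, ⟨1, 25, []⟩, ⟨1, 22, []⟩, ⟨1, 25, []⟩, ⟨1, 22, []⟩, ⟨1, 21, []⟩, ⟨1, 28, []⟩, ⟨1, 28, []⟩, ⟨1, 36, []⟩, ⟨1, 212, [0, 11, 12, 7, 11, 4, 11, 12, 8]⟩, ⟨1, 135, []⟩, ⟨1, 932, [2, 7, 11, 12, 8, 13, 11, 4, 11, 13]⟩]⟩,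
 ⟨4, 8, 3555, [], [⟨1, 3554, []⟩], []⟩,
 ⟨8, 8, 3270, [0, 8, 11, 13, 11, 4, 12, 0, 2, 3, 4, 2, 1, 2, 0, 1, 3, 2, 0], [], [⟨1, 3269, [0, 8, 11, 13, 11, 4, 12]⟩, ⟨1, 20, []⟩, ⟨1, 30, []⟩, ⟨1, 3267, [8, 11, 12, 7, 11, 4, 13, 11, 4]⟩, ⟨1, 3400, [2, 4, 7, 12, 11, 4, 11, 12, 8]⟩]⟩,
 ⟨4, 8, 3557, [], [⟨1, 3556, []⟩], []⟩,
 ⟨8, 8, 3270, [11, 4, 12, 11, 12, 0, 2, 3, 4, 2, 1, 2, 0, 1, 3, 2, 0], [], [⟨1, 3269, [11, 4, 12, 11, 12]⟩, ⟨1, 20, []⟩, ⟨1, 25, []⟩, ⟨1, 24, []⟩, ⟨1, 22, []⟩, ⟨1, 25, []⟩, ⟨1, 22, []⟩, ⟨1, 25, []⟩, ⟨1, 28, []⟩, ⟨1, 28, []⟩, ⟨1, 30, []⟩, ⟨1, 30, []⟩, ⟨1, 36, []⟩, ⟨1, 36, []⟩, ⟨1, 212, [0, 8, 11, 13, 11, 4, 11, 12, 7,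 11]⟩, ⟨1, 135, []⟩, ⟨1, 2648, [4, 12, 11, 2, 12, 8, 12, 11, 4, 12]⟩]⟩,
 ⟨4, 8, 3559, [], [⟨1, 3558, []⟩], []⟩,
 ⟨8, 8, 3270, [12, 13, 11, 12, 11, 4, 0, 2, 3, 4, 2, 1, 2, 0, 1, 3, 2, 0], [], [⟨1, 3269, [12, 13, 11, 12, 11, 4]⟩, ⟨1, 25, []⟩, ⟨1, 23, []⟩, ⟨1, 22, []⟩, ⟨1, 25, []⟩, ⟨1, 22, []⟩, ⟨1, 22, []⟩, ⟨1, 30, []⟩, ⟨1, 28, []⟩, ⟨1, 212, [2, 7, 12, 11, 12, 7, 11, 12, 8, 11]⟩, ⟨1, 135, []⟩, ⟨1, 932, [12, 8, 11, 2, 4, 12]⟩]⟩,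
 ⟨4, 8, 3561, [], [⟨1, 3560, []⟩], []⟩,
 ⟨8, 8, 3270, [7, 11, 13, 11, 12, 0, 2, 3, 4, 2, 1, 2, 0, 1, 3, 2, 0], [], [⟨1, 3269, [7, 11, 13, 11, 12]⟩, ⟨1, 20, []⟩, ⟨1, 25, []⟩, ⟨1, 22, []⟩, ⟨1, 25, []⟩, ⟨1, 22, []⟩, ⟨1, 25, []⟩, ⟨1, 22, []⟩, ⟨1, 21, []⟩, ⟨1, 30, []⟩, ⟨1, 30, []⟩, ⟨1, 3267, [2, 11, 12, 7, 12, 11, 12, 8, 11, 12]⟩, ⟨1, 3268, []⟩, ⟨1, 3400, [2, 8, 12, 13, 11, 4, 11, 12, 7, 13]⟩]⟩,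
 ⟨4, 8, 3563, [], [⟨1, 3562, []⟩], []⟩,
 ⟨8, 8, 3270, [4, 12, 7, 11, 12, 13, 0, 2, 3, 4, 2, 1, 2, 0, 1, 3, 2, 0], [], [⟨1, 3269, [4, 12, 7, 11, 12, 13]⟩, ⟨1, 20, []⟩, ⟨1, 25, []⟩, ⟨1, 22, []⟩, ⟨1, 25, []⟩, ⟨1, 22, []⟩, ⟨1, 25, []⟩, ⟨1, 22, []⟩, ⟨1, 21, []⟩, ⟨1, 30, []⟩, ⟨1, 30, []⟩, ⟨1, 3267, [0, 4, 7, 13, 11, 12, 8, 11, 12, 11]⟩, ⟨1, 3268, []⟩, ⟨1, 3406, [2, 7, 12, 13, 11, 4, 11, 12, 7, 13]⟩]⟩,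
 ⟨4, 8, 3565, [], [⟨1, 3564, []⟩], []⟩,
 ⟨8, 8, 3270, [4, 12, 7, 11, 13, 11, 12, 0, 2, 3, 4, 2, 1, 2, 0, 1, 3, 2, 0], [], [⟨1, 3269, [4, 12, 7, 11, 13, 11, 12]⟩, ⟨1, 20, []⟩, ⟨1, 25, []⟩, ⟨1, 22, []⟩, ⟨1, 25, []⟩, ⟨1, 22, []⟩, ⟨1, 25, []⟩, ⟨1, 22, []⟩, ⟨1, 21, []⟩, ⟨1, 30, []⟩, ⟨1, 30, []⟩, ⟨1, 3267, [2, 12, 7, 11, 12, 8, 11, 12, 11]⟩, ⟨1, 3268, []⟩, ⟨1, 3343, [7, 13, 11, 4, 12, 11, 4, 11]⟩]⟩,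
 ⟨4, 8, 3567, [], [⟨1, 3566, []⟩], []⟩,
 ⟨12, 8, 3270, [11, 12, 13, 0, 2, 3, 1, 0, 2, 1, 2, 4, 3, 2, 0, 2, 0], [], [⟨1, 3269, [11, 12, 13]⟩, ⟨1, 25, []⟩, ⟨1, 22, []⟩, ⟨1, 22, []⟩, ⟨1, 25, []⟩, ⟨1, 22, []⟩, ⟨1, 21, []⟩, ⟨1, 28, []⟩, ⟨1, 28, []⟩, ⟨1, 30, []⟩, ⟨1, 30, []⟩, ⟨1, 3267, [11, 2, 12, 7, 11, 12, 13, 11, 12]⟩, ⟨1, 3400, [0, 12, 8, 11, 4, 11, 12, 8, 11, 12, 7]⟩]⟩,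
 ⟨4, 8, 3569, [], [⟨1, 3568, []⟩], []⟩,
 ⟨12, 8, 3270, [12, 8, 12, 11, 4, 12, 0, 2, 3, 1, 0, 2, 1, 2, 4, 3, 2, 0, 2, 0], [], [⟨1, 3269, [12, 8, 12, 11, 4, 12]⟩, ⟨1, 20, []⟩, ⟨1, 25, []⟩, ⟨1, 24, []⟩, ⟨1, 22, []⟩, ⟨1, 28, []⟩, ⟨1, 36, []⟩, ⟨1, 36, []⟩, ⟨1, 3267, [0, 7, 12, 11, 12, 7, 13, 11, 4, 11]⟩, ⟨1, 3410, [4, 11, 12, 13, 11, 4, 11, 4, 12, 8, 13, 11]⟩]⟩,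
 ⟨4, 8, 3571, [], [⟨1, 3570, []⟩], []⟩,
 ⟨13, 8, 3270, [4, 13, 11, 4, 12, 11, 12, 0, 2, 3, 1, 2, 0, 1, 3, 2, 0], [], [⟨1, 3269, [4, 13, 11, 4, 12, 11, 12]⟩, ⟨1, 25, []⟩, ⟨1, 24, []⟩, ⟨1, 23, []⟩, ⟨1, 22, []⟩, ⟨1, 25, []⟩, ⟨1, 22, []⟩, ⟨1, 25, []⟩, ⟨1, 28, []⟩, ⟨1, 28, []⟩, ⟨1, 30, []⟩, ⟨1, 30, []⟩, ⟨1, 36, []⟩, ⟨1, 36, []⟩, ⟨1, 212, [4, 8, 11, 2, 12, 7, 11, 4, 13]⟩, ⟨1, 135, []⟩, ⟨1, 932, [7, 11, 12, 8, 13, 11, 4, 12, 11, 13]⟩]⟩,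
 ⟨4, 8, 3573, [], [⟨1, 3572, []⟩], []⟩,
 ⟨15, 8, 3270, [7, 0, 2, 5, 2, 0], [], [⟨1, 3269, [7]⟩, ⟨1, 24, []⟩, ⟨1, 22, []⟩, ⟨1, 25, []⟩, ⟨1, 22, []⟩, ⟨1, 21, []⟩, ⟨1, 30, []⟩, ⟨1, 22, []⟩, ⟨1, 212, [11, 12, 11, 12, 13, 11]⟩]⟩,
 ⟨4, 8, 3575, [], [⟨1, 3574, []⟩], []⟩,
 ⟨15, 8, 3270, [8, 0, 2, 5, 2, 0], [], [⟨1, 3269, [8]⟩, ⟨1, 22, []⟩, ⟨1, 3267, []⟩]⟩,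
 ⟨4, 8, 3577, [], [⟨1, 3576, []⟩], []⟩,
 ⟨16, 8, 3270, [8, 0, 2, 6, 2, 0, 2, 0], [], [⟨1, 3269, [8]⟩, ⟨1, 20, []⟩, ⟨1, 25, []⟩, ⟨1, 24, []⟩, ⟨1, 22, []⟩, ⟨1, 21, []⟩, ⟨1, 30, []⟩, ⟨1, 22, []⟩, ⟨1, 212, [12, 11, 12, 11, 13, 11]⟩]⟩,
 ⟨4, 8, 3579, [], [⟨1, 3578, []⟩], []⟩,
 ⟨17, 8, 3270, [7, 11, 12, 8, 13, 5, 5, 3, 6, 6, 2, 0], [], [⟨1, 3269, [7, 11, 12, 8, 13]⟩, ⟨1, 25, []⟩, ⟨1, 24, []⟩, ⟨1, 22, []⟩, ⟨1, 21, []⟩, ⟨1, 30, []⟩, ⟨1, 30, []⟩, ⟨1, 212, [2, 8, 11, 4, 11]⟩, ⟨1, 135, []⟩, ⟨1, 134, []⟩, ⟨1, 3093, [4, 8, 11, 12, 8, 13, 11, 12, 7]⟩]⟩,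
 ⟨4, 8, 3581, [], [⟨1, 3580, []⟩], []⟩,
 ⟨17, 8, 3270, [7, 11, 13, 5, 5, 3, 6, 6, 2, 0], [], [⟨1, 3269, [7, 11, 13]⟩, ⟨1, 25, []⟩, ⟨1, 22, []⟩, ⟨1, 25, []⟩, ⟨1, 22, []⟩, ⟨1, 25, []⟩, ⟨1, 22, []⟩, ⟨1, 36, []⟩, ⟨1, 36, []⟩, ⟨1, 49, [2, 11, 12, 11, 13, 11, 4, 12, 7]⟩, ⟨1, 39, []⟩, ⟨1, 43, []⟩, ⟨1, 42, []⟩, ⟨1, 46, []⟩, ⟨1, 68, []⟩, ⟨1, 68, []⟩, ⟨1, 3278, [4, 13, 11, 12, 8, 12, 11, 4, 13]⟩]⟩,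
 ⟨17, 8, 3270, [4, 7, 12, 8, 13, 5, 5, 3, 6, 6, 2, 0], [], [⟨1, 3269, [4, 7, 12, 8, 13]⟩, ⟨1, 24, []⟩, ⟨1, 22, []⟩, ⟨1, 25, []⟩, ⟨1, 22, []⟩, ⟨1, 36, []⟩, ⟨1, 212, [2, 12, 11, 12, 7, 13, 11, 12, 11]⟩, ⟨1, 3401, [0, 4, 11, 12, 8, 12, 11]⟩]⟩,
 ⟨4, 8, 3584, [], [⟨1, 3583, []⟩], []⟩,
 ⟨17, 8, 3270, [12, 5, 5, 3, 6, 6, 2, 0], [], [⟨1, 3269, [12]⟩, ⟨1, 22, []⟩, ⟨1, 25, []⟩, ⟨1, 22, []⟩, ⟨1, 22, []⟩, ⟨1, 21, []⟩, ⟨1, 28, []⟩, ⟨1, 36, []⟩, ⟨1, 212, [2, 7, 11, 4, 13, 11, 12, 8, 11, 4]⟩, ⟨1, 135, []⟩, ⟨1, 134, []⟩, ⟨1, 3344, [2, 8, 12, 13, 11, 4, 11, 12, 7, 13]⟩]⟩,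
 ⟨4, 8, 3586, [], [⟨1, 3585, []⟩], []⟩,
 ⟨17, 8, 3270, [7, 11, 4, 13, 5, 5, 3, 6, 6, 2, 0], [], [⟨1, 3269, [7, 11, 4, 13]⟩, ⟨1, 25, []⟩, ⟨1, 22, []⟩, ⟨1, 25, []⟩, ⟨1, 22, []⟩, ⟨1, 25, []⟩, ⟨1, 22, []⟩, ⟨1, 22, []⟩, ⟨1, 21, []⟩, ⟨1, 30, []⟩, ⟨1, 2976, [8, 11, 12, 7, 13, 11]⟩, ⟨1, 2978, []⟩, ⟨1, 2981, []⟩, ⟨1, 2990, []⟩, ⟨1, 2977, []⟩, ⟨1, 3108, [7, 11, 12, 11, 13, 11, 12, 8, 11, 13]⟩]⟩,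
 ⟨4, 8, 3588, [], [⟨1, 3587, []⟩], []⟩,
 ⟨17, 8, 3270, [7, 11, 12, 8, 12, 13, 5, 5, 3, 6, 6, 2, 0], [], [⟨1, 3269, [7, 11, 12, 8, 12, 13]⟩, ⟨1, 20, []⟩, ⟨1, 30, []⟩, ⟨1, 2976, [0, 11, 4, 12, 8, 13, 11, 4, 12, 11]⟩, ⟨1, 2978, []⟩, ⟨1, 2978, []⟩, ⟨1, 3094, [2, 4, 12, 8, 11, 13, 11, 12, 8]⟩]⟩,
 ⟨4, 8, 3590, [], [⟨1, 3589, []⟩], []⟩,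
 ⟨17, 8, 3270, [7, 11, 4, 12, 13, 5, 5, 3, 6, 6, 2, 0], [], [⟨1, 3269, [7, 11, 4, 12, 13]⟩, ⟨1, 24, []⟩, ⟨1, 22, []⟩, ⟨1, 25, []⟩, ⟨1, 22, []⟩, ⟨1, 25, []⟩, ⟨1, 22, []⟩, ⟨1, 22, []⟩, ⟨1, 30, []⟩, ⟨1, 22, []⟩, ⟨1, 212, [2, 12, 7, 11, 4, 11, 12, 11]⟩, ⟨1, 135, []⟩, ⟨1, 134, []⟩, ⟨1, 3107, [0, 12, 7, 11, 4, 11, 12, 8, 11, 12]⟩]⟩,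
 ⟨4, 8, 3592, [], [⟨1, 3591, []⟩], []⟩,
 ⟨7, 5, 140, [4, 8, 13, 11, 12, 3, 1, 0, 2, 1, 3, 2, 0], [], [⟨1, 139, [4, 8, 13, 11, 12]⟩, ⟨1, 134, []⟩, ⟨1, 229, [2, 4, 12, 8, 11, 12, 8, 11, 12, 7]⟩, ⟨1, 3425, [2, 11, 4, 11, 12, 7, 12, 11, 4, 11, 12]⟩]⟩,
 ⟨4, 5, 3594, [], [⟨1, 3593, []⟩], []⟩,
 ⟨7, 6, 139, [11, 4, 13, 11, 4, 3, 1, 0, 2, 1, 3, 2, 0], [], [⟨1, 138, [11, 4, 13, 11, 4]⟩, ⟨1, 81, []⟩, ⟨1, 77, []⟩, ⟨1, 102, [4, 8, 12, 11, 4, 12, 7, 11]⟩, ⟨1, 90, []⟩, ⟨1, 86, []⟩, ⟨1, 90, []⟩, ⟨1, 3425, [2, 11, 12, 11, 4, 12, 11, 13, 11]⟩]⟩,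
 ⟨4, 6, 3596, [], [⟨1, 3595, []⟩], []⟩,
 ⟨8, 6, 139, [7, 12, 13, 0, 2, 3, 4, 2, 1, 2, 0, 1, 3, 2, 0], [], [⟨1, 138, [7, 12, 13]⟩, ⟨1, 76, []⟩, ⟨1, 77, []⟩, ⟨1, 84, [2, 8, 12, 11, 4, 12, 7, 13]⟩, ⟨1, 76, []⟩, ⟨1, 76, []⟩, ⟨1, 78, []⟩, ⟨1, 81, []⟩, ⟨1, 77, []⟩, ⟨1, 81, []⟩, ⟨1, 81, []⟩, ⟨1, 126, []⟩, ⟨1, 3288, [2, 4, 11, 13]⟩]⟩,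
 ⟨4, 6, 3598, [], [⟨1, 3597, []⟩], []⟩,
 ⟨17, 6, 139, [8, 12, 7, 5, 5, 3, 6, 6, 2, 0], [], [⟨1, 138, [8, 12, 7]⟩, ⟨1, 76, []⟩, ⟨1, 220, [2, 7, 11]⟩, ⟨1, 135, []⟩, ⟨1, 134, []⟩, ⟨1, 3413, [13, 11, 4, 12, 7, 11, 4, 13]⟩]⟩,
 ⟨4, 6, 3600, [], [⟨1, 3599, []⟩], []⟩]
theorem chk73 : and2 (D.chkL PF73 3554) (Nat.beq (Nat.add 3554 PF73.length) 3601) = true := by decide +kernel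

def PF74 : List DPf := [⟨17, 6, 139, [4, 7, 12, 8, 13, 5, 5, 3, 6, 6, 2, 0], [], [⟨1, 138, [4, 7, 12, 8, 13]⟩, ⟨1, 76, []⟩, ⟨1, 77, []⟩, ⟨1, 218, [2, 4, 8, 11, 4, 11, 12, 11, 12, 7]⟩, ⟨1, 134, []⟩, ⟨1, 135, []⟩, ⟨1, 3409, [11, 12, 7, 11, 12, 8, 12, 11, 4, 11, 12]⟩]⟩,
 ⟨4, 6, 3602, [], [⟨1, 3601, []⟩], []⟩,
 ⟨7, 6, 187, [0, 11, 13, 11, 4, 3, 1, 0, 2, 1, 3, 2, 0], [], [⟨1, 186, [0, 11, 13, 11, 4]⟩, ⟨1, 134, []⟩, ⟨1, 135, []⟩, ⟨1, 134, []⟩, ⟨1, 426, [12, 8, 11, 12, 7, 11, 4, 12, 8, 11]⟩, ⟨1, 87, []⟩, ⟨1, 90, []⟩, ⟨1, 86, []⟩, ⟨1, 3336, [13, 11, 12, 7, 11, 12, 8, 13]⟩]⟩,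
 ⟨4, 6, 3604, [], [⟨1, 3603, []⟩], []⟩,
 ⟨7, 6, 187, [2, 4, 3, 1, 0, 2, 1, 3, 2, 0], [], [⟨1, 186, [2, 4]⟩, ⟨1, 135, []⟩, ⟨1, 134, []⟩, ⟨1, 2026, [12, 8, 12, 13, 11, 12, 8, 11, 12, 13]⟩, ⟨1, 135, []⟩, ⟨1, 3344, [2, 11, 12, 7, 12, 11, 4, 11]⟩]⟩,
 ⟨4, 6, 3606, [], [⟨1, 3605, []⟩], []⟩,
 ⟨7, 6, 143, [4, 7, 12, 11, 4, 12, 3, 1, 0, 2, 1, 3, 2, 0], [], [⟨1, 142, [4, 7, 12, 11, 4, 12]⟩, ⟨1, 87, []⟩, ⟨1, 86, []⟩, ⟨1, 90, []⟩, ⟨1, 90, []⟩, ⟨1, 113, [7, 12, 13, 11, 4, 12, 11, 12, 8, 13]⟩, ⟨1, 3425, [0, 4, 7, 11, 12, 11, 4, 13, 11, 12, 8]⟩]⟩,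
 ⟨4, 6, 3608, [], [⟨1, 3607, []⟩], []⟩,
 ⟨7, 6, 143, [8, 12, 13, 11, 4, 3, 1, 0, 2, 1, 3, 2, 0], [], [⟨1, 142, [8, 12, 13, 11, 4]⟩, ⟨1, 86, []⟩, ⟨1, 90, []⟩, ⟨1, 86, []⟩, ⟨1, 90, []⟩, ⟨1, 3403, [0, 8, 12, 7, 13, 11, 4, 12, 11, 4, 13]⟩, ⟨1, 3271, []⟩, ⟨1, 3268, []⟩, ⟨1, 3271, []⟩, ⟨1, 3268, []⟩, ⟨1, 3271, []⟩, ⟨1, 3268, []⟩, ⟨1, 3271, []⟩, ⟨1, 3268, []⟩, ⟨1, 3271, []⟩, ⟨1, 3268, []⟩, ⟨1, 3273, []⟩, ⟨1, 3273, []⟩, ⟨1, 3582, [2, 12, 8, 12, 11, 12, 7, 13, 11, 12]⟩]⟩,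
 ⟨4, 6, 3610, [], [⟨1, 3609, []⟩], []⟩,
 ⟨8, 6, 143, [2, 12, 11, 4, 12, 0, 2, 3, 4, 2, 1, 2, 0, 1, 3, 2, 0], [], [⟨1, 142, [2, 12, 11, 4, 12]⟩, ⟨1, 87, []⟩, ⟨1, 3477, [12, 11, 4, 12, 8, 11, 13, 11, 12, 11]⟩, ⟨1, 3268, []⟩, ⟨1, 3271, []⟩, ⟨1, 3268, []⟩, ⟨1, 3271, []⟩, ⟨1, 3268, []⟩, ⟨1, 3271, []⟩, ⟨1, 3268, []⟩, ⟨1, 3271, []⟩, ⟨1, 3268, []⟩, ⟨1, 3271, []⟩, ⟨1, 3268, []⟩, ⟨1, 3271, []⟩, ⟨1, 3273, []⟩, ⟨1, 3584, [0, 7, 11, 13, 11, 4, 11, 4, 13]⟩]⟩,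
 ⟨4, 6, 3612, [], [⟨1, 3611, []⟩], []⟩,
 ⟨13, 6, 143, [11, 12, 13, 11, 4, 12, 0, 2, 3, 1, 2, 0, 1, 3, 2, 0], [], [⟨1, 142, [11, 12, 13, 11, 4, 12]⟩, ⟨1, 86, []⟩, ⟨1, 3477, [11, 4, 11, 4, 13, 11, 12, 8, 11, 13]⟩, ⟨1, 3271, []⟩, ⟨1, 3268, []⟩, ⟨1, 3271, []⟩, ⟨1, 3268, []⟩, ⟨1, 3271, []⟩, ⟨1, 3268, []⟩, ⟨1, 3271, []⟩, ⟨1, 3268, []⟩, ⟨1, 3271, []⟩, ⟨1, 3273, []⟩, ⟨1, 3577, [2, 11, 4, 11, 4, 12, 8, 11, 4]⟩]⟩,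
 ⟨4, 6, 3614, [], [⟨1, 3613, []⟩], []⟩,
 ⟨7, 6, 145, [11, 4, 13, 11, 4, 3, 1, 0, 2, 1, 3, 2, 0], [], [⟨1, 144, [11, 4, 13, 11, 4]⟩, ⟨1, 86, []⟩, ⟨1, 87, []⟩, ⟨1, 90, []⟩, ⟨1, 86, []⟩, ⟨1, 113, [0, 4, 12, 11, 12, 7, 12, 11, 4, 12]⟩, ⟨1, 3425, [7, 12, 7, 11, 13, 11, 4, 11, 4, 13]⟩]⟩,
 ⟨4, 6, 3616, [], [⟨1, 3615, []⟩], []⟩,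
 ⟨7, 6, 145, [7, 12, 11, 12, 3, 1, 0, 2, 1, 3, 2, 0], [], [⟨1, 144, [7, 12, 11, 12]⟩, ⟨1, 90, []⟩, ⟨1, 87, []⟩, ⟨1, 3403, [7, 12, 8, 11, 12, 7]⟩, ⟨1, 3271, []⟩, ⟨1, 3268, []⟩, ⟨1, 3271, []⟩, ⟨1, 3268, []⟩, ⟨1, 3271, []⟩, ⟨1, 3268, []⟩, ⟨1, 3271, []⟩, ⟨1, 3268, []⟩, ⟨1, 3271, []⟩, ⟨1, 3268, []⟩, ⟨1, 3273, []⟩, ⟨1, 3273, []⟩, ⟨1, 3582, [12, 11, 2, 4, 11, 12, 8, 12]⟩]⟩,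
 ⟨4, 6, 3618, [], [⟨1, 3617, []⟩], []⟩,
 ⟨7, 6, 145, [7, 12, 11, 13, 11, 4, 12, 3, 1, 0, 2, 1, 3, 2, 0], [], [⟨1, 144, [7, 12, 11, 13, 11, 4, 12]⟩, ⟨1, 86, []⟩, ⟨1, 90, []⟩, ⟨1, 90, []⟩, ⟨1, 86, []⟩, ⟨1, 90, []⟩, ⟨1, 431, [0, 4, 8, 13, 11, 12, 8, 11, 12, 13]⟩, ⟨1, 135, []⟩, ⟨1, 3382, [2, 7, 13, 11, 4, 12, 8, 11, 12, 8]⟩]⟩,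
 ⟨4, 6, 3620, [], [⟨1, 3619, []⟩], []⟩,
 ⟨7, 6, 145, [4, 7, 12, 11, 4, 12, 3, 1, 0, 2, 1, 3, 2, 0], [], [⟨1, 144, [4, 7, 12, 11, 4, 12]⟩, ⟨1, 90, []⟩, ⟨1, 87, []⟩, ⟨1, 112, [2, 7, 12, 7, 13, 11, 12, 8, 11, 12, 7, 13]⟩, ⟨1, 86, []⟩, ⟨1, 87, []⟩, ⟨1, 3425, [2, 7, 12, 8, 11, 13, 11, 4, 11]⟩]⟩,
 ⟨4, 6, 3622, [], [⟨1, 3621, []⟩], []⟩,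
 ⟨7, 6, 145, [8, 12, 13, 11, 4, 3, 1, 0, 2, 1, 3, 2, 0], [], [⟨1, 144, [8, 12, 13, 11, 4]⟩, ⟨1, 90, []⟩, ⟨1, 90, []⟩, ⟨1, 86, []⟩, ⟨1, 3431, [8, 12, 13, 11, 12, 7, 11, 12, 11, 13]⟩, ⟨1, 3271, []⟩, ⟨1, 3268, []⟩, ⟨1, 3271, []⟩, ⟨1, 3268, []⟩, ⟨1, 3271, []⟩, ⟨1, 3268, []⟩, ⟨1, 3271, []⟩, ⟨1, 3273, []⟩, ⟨1, 3582, [12, 13, 11, 4, 11]⟩]⟩,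
 ⟨4, 6, 3624, [], [⟨1, 3623, []⟩], []⟩,
 ⟨17, 6, 145, [4, 7, 5, 5, 3, 6, 6, 2, 0], [], [⟨1, 144, [4, 7]⟩, ⟨1, 87, []⟩, ⟨1, 86, []⟩, ⟨1, 90, []⟩, ⟨1, 90, []⟩, ⟨1, 232, [12, 8, 11, 2, 12, 7, 11, 12]⟩, ⟨1, 135, []⟩, ⟨1, 3609, [2, 12, 11, 4, 11, 12, 7, 12]⟩]⟩,
 ⟨4, 6, 3626, [], [⟨1, 3625, []⟩], []⟩,
 ⟨17, 6, 145, [11, 12, 7, 12, 13, 5, 5, 3, 6, 6, 2, 0], [], [⟨1, 144, [11, 12, 7, 12, 13]⟩, ⟨1, 90, []⟩, ⟨1, 90, []⟩, ⟨1, 310, [2, 12, 7, 13, 11, 12, 7, 11, 4, 13, 11]⟩, ⟨1, 3397, [11, 2, 4, 11, 12, 8, 11, 4, 12]⟩]⟩,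
 ⟨4, 6, 3628, [], [⟨1, 3627, []⟩], []⟩,
 ⟨7, 6, 188, [13, 11, 4, 12, 11, 12, 3, 1, 0, 2, 1, 3, 2, 0], [], [⟨1, 187, [13, 11, 4, 12, 11, 12]⟩, ⟨1, 135, []⟩, ⟨1, 134, []⟩, ⟨1, 1620, [4, 11, 4, 12, 11, 13, 11, 12, 7, 12]⟩, ⟨1, 134, []⟩, ⟨1, 135, []⟩, ⟨1, 3401, [0, 8, 13, 11, 12, 8, 11, 4, 12, 13]⟩]⟩,
 ⟨4, 6, 3630, [], [⟨1, 3629, []⟩], []⟩,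
 ⟨7, 6, 188, [7, 12, 3, 1, 0, 2, 1, 3, 2, 0], [], [⟨1, 187, [7, 12]⟩, ⟨1, 135, []⟩, ⟨1, 1977, [0, 8, 12, 7, 13, 11, 12, 8, 11, 4]⟩, ⟨1, 134, []⟩, ⟨1, 3382, [12, 11, 2, 4, 11, 12, 13, 11, 4]⟩]⟩,
 ⟨4, 6, 3632, [], [⟨1, 3631, []⟩], []⟩,
 ⟨7, 6, 188, [0, 7, 11, 4, 13, 11, 12, 3, 1, 0, 2, 1, 3, 2, 0], [], [⟨1, 187, [0, 7, 11, 4, 13, 11, 12]⟩, ⟨1, 135, []⟩, ⟨1, 134, []⟩, ⟨1, 305, [2, 12, 8, 13, 11, 12, 7, 11]⟩, ⟨1, 90, []⟩, ⟨1, 90, []⟩, ⟨1, 90, []⟩, ⟨1, 86, []⟩, ⟨1, 3399, [2, 7, 12, 8, 11, 12, 11]⟩]⟩,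
 ⟨4, 6, 3634, [], [⟨1, 3633, []⟩], []⟩,
 ⟨7, 6, 2999, [4, 7, 11, 4, 12, 13, 3, 1, 0, 2, 1, 3, 2, 0], [], [⟨1, 2998, [4, 7, 11, 4, 12, 13]⟩, ⟨1, 2978, []⟩, ⟨1, 2978, []⟩, ⟨1, 2981, []⟩, ⟨1, 2990, []⟩, ⟨1, 3002, [0, 7, 11, 12, 13, 11, 4, 11]⟩, ⟨1, 86, []⟩, ⟨1, 87, []⟩, ⟨1, 86, []⟩, ⟨1, 90, []⟩, ⟨1, 90, []⟩, ⟨1, 3473, [2, 4, 7, 12, 8, 11, 4, 12, 11]⟩]⟩,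
 ⟨4, 6, 3636, [], [⟨1, 3635, []⟩], []⟩,
 ⟨7, 6, 2999, [4, 13, 3, 1, 0, 2, 1, 3, 2, 0], [], [⟨1, 2998, [4, 13]⟩, ⟨1, 2977, []⟩, ⟨1, 2981, []⟩, ⟨1, 3044, [0, 4, 8, 13, 11, 4, 11, 13]⟩, ⟨1, 3523, [0, 4, 7, 11, 13, 11, 4, 11, 4]⟩]⟩,
 ⟨4, 6, 3638, [], [⟨1, 3637, []⟩], []⟩,
 ⟨8, 6, 2999, [12, 13, 11, 12, 0, 2, 3, 4, 2, 1, 2, 0, 1, 3, 2, 0], [], [⟨1, 2998, [12, 13, 11, 12]⟩, ⟨1, 2978, []⟩, ⟨1, 2978, []⟩, ⟨1, 2977, []⟩, ⟨1, 2981, []⟩, ⟨1, 2981, []⟩, ⟨1, 3008, [4, 11, 12, 8, 13, 11, 4, 11, 12, 11]⟩, ⟨1, 90, []⟩, ⟨1, 3304, [8, 11, 13, 11, 12, 7, 11, 12, 13, 11]⟩]⟩,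
 ⟨4, 6, 3640, [], [⟨1, 3639, []⟩], []⟩,
 ⟨8, 7, 3000, [0, 8, 13, 11, 4, 12, 0, 2, 3, 4, 2, 1, 2, 0, 1, 3, 2, 0], [], [⟨1, 2999, [0, 8, 13, 11, 4, 12]⟩, ⟨1, 3535, [8, 11, 4, 13, 11, 4, 11]⟩, ⟨1, 3268, []⟩, ⟨1, 3271, []⟩, ⟨1, 3268, []⟩, ⟨1, 3271, []⟩, ⟨1, 3583, [7, 13, 11, 4, 12, 8, 11, 12, 7]⟩]⟩,
 ⟨4, 7, 3642, [], [⟨1, 3641, []⟩], []⟩,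
 ⟨7, 3, 2983, [7, 12, 7, 11, 12, 3, 1, 0, 2, 1, 3, 2, 0], [], [⟨1, 2982, [7, 12, 7, 11, 12]⟩, ⟨1, 2978, []⟩, ⟨1, 2981, []⟩, ⟨1, 2990, []⟩, ⟨1, 2977, []⟩, ⟨1, 2990, []⟩, ⟨1, 3220, [7, 13, 11, 2, 12, 11, 4, 11, 13]⟩, ⟨1, 87, []⟩, ⟨1, 86, []⟩, ⟨1, 90, []⟩, ⟨1, 90, []⟩, ⟨1, 90, []⟩, ⟨1, 3298, [13, 11, 12, 7, 11, 12, 11, 12, 13]⟩]⟩,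
 ⟨4, 3, 3644, [], [⟨1, 3643, []⟩], []⟩,
 ⟨7, 3, 2983, [12, 7, 11, 12, 13, 3, 1, 0, 2, 1, 3, 2, 0], [], [⟨1, 2982, [12, 7, 11, 12, 13]⟩, ⟨1, 2990, []⟩, ⟨1, 2990, []⟩, ⟨1, 3002, [12, 7, 12, 11, 4, 11, 12, 13]⟩, ⟨1, 86, []⟩, ⟨1, 90, []⟩, ⟨1, 90, []⟩, ⟨1, 3435, [0, 11, 12, 13, 11, 12, 8, 11, 4, 11]⟩]⟩,
 ⟨4, 3, 3646, [], [⟨1, 3645, []⟩], []⟩,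
 ⟨7, 6, 3001, [7, 11, 4, 11, 12, 13, 3, 1, 0, 2, 1, 3, 2, 0], [], [⟨1, 3000, [7, 11, 4, 11, 12, 13]⟩, ⟨1, 2990, []⟩, ⟨1, 2977, []⟩, ⟨1, 3236, [4, 7, 12, 11, 12, 11, 13, 11]⟩, ⟨1, 135, []⟩, ⟨1, 134, []⟩, ⟨1, 3489, [11, 12, 8, 11, 12, 13, 11, 12]⟩]⟩,
 ⟨4, 6, 3648, [], [⟨1, 3647, []⟩], []⟩]
theorem chk74 : and2 (D.chkL PF74 3601) (Nat.beq (Nat.add 3601 PF74.length) 3649) = true := by decide +kernel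

def PF75 : List DPf := [⟨12, 6, 3001, [13, 11, 12, 7, 11, 12, 0, 2, 3, 1, 0, 2, 1, 2, 4, 3, 2, 0, 2, 0], [], [⟨1, 3000, [13, 11, 12, 7, 11, 12]⟩, ⟨1, 2978, []⟩, ⟨1, 2978, []⟩, ⟨1, 2990, []⟩, ⟨1, 2977, []⟩, ⟨1, 2990, []⟩, ⟨1, 3190, [11, 4, 11, 4, 13, 11, 12, 8, 12]⟩, ⟨1, 134, []⟩, ⟨1, 135, []⟩, ⟨1, 3439, [13, 11, 12, 8, 12, 11, 12, 11, 4, 13]⟩]⟩,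
 ⟨4, 6, 3650, [], [⟨1, 3649, []⟩], []⟩,
 ⟨13, 6, 3001, [4, 13, 11, 4, 12, 11, 12, 0, 2, 3, 1, 2, 0, 1, 3, 2, 0], [], [⟨1, 3000, [4, 13, 11, 4, 12, 11, 12]⟩, ⟨1, 2978, []⟩, ⟨1, 2981, []⟩, ⟨1, 2990, []⟩, ⟨1, 2981, []⟩, ⟨1, 3198, [0, 11, 13, 11, 12, 7, 12, 11, 12, 11]⟩, ⟨1, 3513, [4, 12, 11, 2, 4, 13, 11, 12, 8, 11]⟩]⟩,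
 ⟨4, 6, 3652, [], [⟨1, 3651, []⟩], []⟩,
 ⟨8, 6, 3064, [0, 4, 11, 12, 13, 0, 2, 3, 4, 2, 1, 2, 0, 1, 3, 2, 0], [], [⟨1, 3063, [0, 4, 11, 12, 13]⟩, ⟨1, 2981, []⟩, ⟨1, 2981, []⟩, ⟨1, 2990, []⟩, ⟨1, 2977, []⟩, ⟨1, 2990, []⟩, ⟨1, 3064, [0, 8, 11, 12, 7, 11, 12, 8, 11, 12]⟩, ⟨1, 3565, [2, 4, 11, 12, 8, 12, 13, 11, 12]⟩]⟩,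
 ⟨4, 6, 3654, [], [⟨1, 3653, []⟩], []⟩,
 ⟨7, 6, 3046, [12, 13, 11, 12, 11, 4, 3, 1, 0, 2, 1, 3, 2, 0], [], [⟨1, 3045, [12, 13, 11, 12, 11, 4]⟩, ⟨1, 2977, []⟩, ⟨1, 2981, []⟩, ⟨1, 2990, []⟩, ⟨1, 3148, [2, 7, 12, 7, 11, 4, 11, 12, 8]⟩, ⟨1, 134, []⟩, ⟨1, 135, []⟩, ⟨1, 3573, [11, 12, 7, 11, 4, 11, 4, 13, 11]⟩]⟩,
 ⟨4, 6, 3656, [], [⟨1, 3655, []⟩], []⟩,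
 ⟨7, 6, 3046, [0, 7, 12, 13, 11, 12, 3, 1, 0, 2, 1, 3, 2, 0], [], [⟨1, 3045, [0, 7, 12, 13, 11, 12]⟩, ⟨1, 2978, []⟩, ⟨1, 2977, []⟩, ⟨1, 2990, []⟩, ⟨1, 2981, []⟩, ⟨1, 3392, [0, 11, 13, 11, 12, 8, 11, 12, 8, 13]⟩, ⟨1, 3586, [7, 13, 11, 2, 12, 8, 12, 11, 4, 12]⟩]⟩,
 ⟨4, 6, 3658, [], [⟨1, 3657, []⟩], []⟩,
 ⟨7, 6, 3046, [4, 11, 12, 7, 11, 12, 13, 3, 1, 0, 2, 1, 3, 2, 0], [], [⟨1, 3045, [4, 11, 12, 7, 11, 12, 13]⟩, ⟨1, 2978, []⟩, ⟨1, 2978, []⟩, ⟨1, 2977, []⟩, ⟨1, 3146, [0, 4, 8, 11, 4, 12, 13, 11, 4, 11, 12]⟩, ⟨1, 135, []⟩, ⟨1, 134, []⟩, ⟨1, 3567, [4, 7, 12, 11, 4]⟩]⟩,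
 ⟨4, 6, 3660, [], [⟨1, 3659, []⟩], []⟩,
 ⟨7, 6, 3046, [11, 4, 12, 13, 11, 4, 12, 3, 1, 0, 2, 1, 3, 2, 0], [], [⟨1, 3045, [11, 4, 12, 13, 11, 4, 12]⟩, ⟨1, 2978, []⟩, ⟨1, 2978, []⟩, ⟨1, 2990, []⟩, ⟨1, 2981, []⟩, ⟨1, 3146, [2, 4, 11, 12, 7, 11, 12, 11, 4, 12]⟩, ⟨1, 134, []⟩, ⟨1, 3471, [4, 8, 11, 12, 11, 4, 12, 7, 13, 11]⟩]⟩,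
 ⟨4, 6, 3662, [], [⟨1, 3661, []⟩], []⟩,
 ⟨7, 6, 3046, [0, 11, 4, 12, 13, 11, 4, 12, 3, 1, 0, 2, 1, 3, 2, 0], [], [⟨1, 3045, [0, 11, 4, 12, 13, 11, 4, 12]⟩, ⟨1, 2978, []⟩, ⟨1, 2978, []⟩, ⟨1, 2977, []⟩, ⟨1, 3236, [8, 11, 2, 4, 12, 11, 13, 11, 4, 11]⟩, ⟨1, 135, []⟩, ⟨1, 3549, [12, 11, 12, 11, 4, 11, 13, 11, 4]⟩]⟩,
 ⟨4, 6, 3664, [], [⟨1, 3663, []⟩], []⟩,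
 ⟨8, 6, 3046, [7, 12, 7, 11, 13, 11, 12, 0, 2, 3, 4, 2, 1, 2, 0, 1, 3, 2, 0], [], [⟨1, 3045, [7, 12, 7, 11, 13, 11, 12]⟩, ⟨1, 2978, []⟩, ⟨1, 2978, []⟩, ⟨1, 3134, [4, 12, 11, 13, 11, 12, 7, 12]⟩, ⟨1, 3543, [12, 7, 11, 12, 8, 13, 11, 12, 11, 12]⟩]⟩,
 ⟨4, 6, 3666, [], [⟨1, 3665, []⟩], []⟩,
 ⟨7, 6, 3044, [0, 8, 11, 12, 13, 11, 4, 3, 1, 0, 2, 1, 3, 2, 0], [], [⟨1, 3043, [0, 8, 11, 12, 13, 11, 4]⟩, ⟨1, 2978, []⟩, ⟨1, 2990, []⟩, ⟨1, 2981, []⟩, ⟨1, 3180, [4, 8, 11, 12, 13, 11, 12]⟩, ⟨1, 3348, [4, 12, 7, 11, 13, 11, 12]⟩]⟩,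
 ⟨4, 6, 3668, [], [⟨1, 3667, []⟩], []⟩,
 ⟨8, 6, 3044, [0, 8, 12, 13, 0, 2, 3, 4, 2, 1, 2, 0, 1, 3, 2, 0], [], [⟨1, 3043, [0, 8, 12, 13]⟩, ⟨1, 2977, []⟩, ⟨1, 2981, []⟩, ⟨1, 2990, []⟩, ⟨1, 2981, []⟩, ⟨1, 3124, [0, 7, 12, 13, 11, 12, 7, 12, 11, 13]⟩, ⟨1, 134, []⟩, ⟨1, 135, []⟩, ⟨1, 134, []⟩, ⟨1, 3507, [4, 8, 12, 11, 2, 4, 12, 8, 13, 11]⟩]⟩,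
 ⟨4, 6, 3670, [], [⟨1, 3669, []⟩], []⟩,
 ⟨8, 6, 3044, [7, 11, 12, 13, 11, 12, 0, 2, 3, 4, 2, 1, 2, 0, 1, 3, 2, 0], [], [⟨1, 3043, [7, 11, 12, 13, 11, 12]⟩, ⟨1, 2978, []⟩, ⟨1, 2981, []⟩, ⟨1, 2981, []⟩, ⟨1, 2990, []⟩, ⟨1, 2977, []⟩, ⟨1, 3196, [2, 12, 8, 11, 4, 13, 11, 12]⟩, ⟨1, 3655, [2, 4, 12, 11, 12, 7]⟩]⟩,
 ⟨4, 6, 3672, [], [⟨1, 3671, []⟩], []⟩,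
 ⟨12, 6, 3044, [12, 7, 11, 4, 12, 0, 2, 3, 1, 0, 2, 1, 2, 4, 3, 2, 0, 2, 0], [], [⟨1, 3043, [12, 7, 11, 4, 12]⟩, ⟨1, 2978, []⟩, ⟨1, 2978, []⟩, ⟨1, 2981, []⟩, ⟨1, 2981, []⟩, ⟨1, 2990, []⟩, ⟨1, 3042, [8, 11, 12, 8, 11, 12, 7, 13, 11]⟩, ⟨1, 134, []⟩, ⟨1, 135, []⟩, ⟨1, 3366, [2, 11, 4, 12, 7, 11, 4, 12, 13]⟩]⟩,
 ⟨4, 6, 3674, [], [⟨1, 3673, []⟩], []⟩,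
 ⟨13, 6, 3044, [7, 11, 12, 13, 11, 4, 0, 2, 3, 1, 2, 0, 1, 3, 2, 0], [], [⟨1, 3043, [7, 11, 12, 13, 11, 4]⟩, ⟨1, 2981, []⟩, ⟨1, 2981, []⟩, ⟨1, 2990, []⟩, ⟨1, 2990, []⟩, ⟨1, 3144, [4, 11, 2, 12, 8, 13, 11, 12, 11]⟩, ⟨1, 3507, [2, 7, 11, 12, 8, 11, 12, 13, 11, 4]⟩]⟩,
 ⟨4, 6, 3676, [], [⟨1, 3675, []⟩], []⟩,
 ⟨7, 6, 156, [12, 8, 13, 11, 12, 3, 1, 0, 2, 1, 3, 2, 0], [], [⟨1, 155, [12, 8, 13, 11, 12]⟩, ⟨1, 43, []⟩, ⟨1, 40, []⟩, ⟨1, 68, []⟩, ⟨1, 238, [2, 7, 12, 11, 4, 11, 12, 7, 12]⟩, ⟨1, 3663, [12, 8, 13, 11, 12, 7, 11, 4, 12, 8]⟩]⟩,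
 ⟨4, 6, 3678, [], [⟨1, 3677, []⟩], []⟩,
 ⟨7, 6, 156, [0, 12, 8, 11, 13, 11, 12, 3, 1, 0, 2, 1, 3, 2, 0], [], [⟨1, 155, [0, 12, 8, 11, 13, 11, 12]⟩, ⟨1, 42, []⟩, ⟨1, 41, []⟩, ⟨1, 40, []⟩, ⟨1, 46, []⟩, ⟨1, 68, []⟩, ⟨1, 375, [2, 7, 12, 8, 11, 12, 8, 11, 4]⟩, ⟨1, 3390, [11, 2, 12, 13, 11, 4, 12, 8, 11]⟩]⟩,
 ⟨4, 6, 3680, [], [⟨1, 3679, []⟩], []⟩,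
 ⟨7, 6, 3050, [0, 4, 12, 13, 11, 12, 3, 1, 0, 2, 1, 3, 2, 0], [], [⟨1, 3049, [0, 4, 12, 13, 11, 12]⟩, ⟨1, 2977, []⟩, ⟨1, 2981, []⟩, ⟨1, 2981, []⟩, ⟨1, 2990, []⟩, ⟨1, 2981, []⟩, ⟨1, 3160, [11, 13, 11, 4, 12, 11, 12, 8]⟩, ⟨1, 135, []⟩, ⟨1, 3613, [0, 7, 12, 13, 11, 4, 12, 8, 11, 12, 13]⟩]⟩,
 ⟨4, 6, 3682, [], [⟨1, 3681, []⟩], []⟩,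
 ⟨7, 6, 3050, [13, 11, 4, 11, 12, 3, 1, 0, 2, 1, 3, 2, 0], [], [⟨1, 3049, [13, 11, 4, 11, 12]⟩, ⟨1, 2977, []⟩, ⟨1, 2981, []⟩, ⟨1, 2981, []⟩, ⟨1, 2990, []⟩, ⟨1, 2977, []⟩, ⟨1, 3120, [4, 7, 13, 11, 12, 11, 12, 8]⟩, ⟨1, 134, []⟩, ⟨1, 135, []⟩, ⟨1, 134, []⟩, ⟨1, 3551, [0, 8, 13, 11, 12, 11, 12, 7, 12, 11]⟩]⟩,
 ⟨4, 6, 3684, [], [⟨1, 3683, []⟩], []⟩,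
 ⟨8, 6, 3050, [12, 13, 11, 12, 0, 2, 3, 4, 2, 1, 2, 0, 1, 3, 2, 0], [], [⟨1, 3049, [12, 13, 11, 12]⟩, ⟨1, 3230, [0, 7, 12, 11, 12, 8, 13, 11, 4, 11, 4]⟩, ⟨1, 76, []⟩, ⟨1, 78, []⟩, ⟨1, 77, []⟩, ⟨1, 81, []⟩, ⟨1, 77, []⟩, ⟨1, 81, []⟩, ⟨1, 126, []⟩, ⟨1, 3282, [0, 7, 13, 11, 12, 8, 11, 12, 7]⟩]⟩,
 ⟨4, 6, 3686, [], [⟨1, 3685, []⟩], []⟩,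
 ⟨13, 6, 3050, [4, 8, 13, 11, 12, 0, 2, 3, 1, 2, 0, 1, 3, 2, 0], [], [⟨1, 3049, [4, 8, 13, 11, 12]⟩, ⟨1, 2978, []⟩, ⟨1, 2981, []⟩, ⟨1, 2990, []⟩, ⟨1, 2981, []⟩, ⟨1, 3192, [2, 4, 8, 11, 4, 12, 11, 12, 8, 13]⟩, ⟨1, 134, []⟩, ⟨1, 135, []⟩, ⟨1, 134, []⟩, ⟨1, 3537, [8, 11, 12, 7, 13, 11, 12, 8, 12]⟩]⟩,
 ⟨4, 6, 3688, [], [⟨1, 3687, []⟩], []⟩,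
 ⟨17, 6, 162, [7, 12, 8, 13, 5, 5, 3, 6, 6, 2, 0], [], [⟨1, 161, [7, 12, 8, 13]⟩, ⟨1, 134, []⟩, ⟨1, 135, []⟩, ⟨1, 134, []⟩, ⟨1, 776, [4, 13, 11, 2, 12, 7, 12, 11, 4, 12]⟩, ⟨1, 86, []⟩, ⟨1, 90, []⟩, ⟨1, 3435, [8, 12, 8, 11, 12, 13, 11, 4, 12]⟩]⟩,
 ⟨4, 6, 3690, [], [⟨1, 3689, []⟩], []⟩,
 ⟨17, 6, 162, [4, 7, 13, 5, 5, 3, 6, 6, 2, 0], [], [⟨1, 161, [4, 7, 13]⟩, ⟨1, 134, []⟩, ⟨1, 135, []⟩, ⟨1, 694, [0, 12, 8, 12, 13, 11, 4, 12, 11, 4]⟩, ⟨1, 3457, [4, 8, 12, 13, 11, 4, 11, 12, 8]⟩]⟩,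
 ⟨4, 6, 3692, [], [⟨1, 3691, []⟩], []⟩,
 ⟨8, 6, 163, [2, 7, 11, 12, 0, 2, 3, 4, 2, 1, 2, 0, 1, 3, 2, 0], [], [⟨1, 162, [2, 7, 11, 12]⟩, ⟨1, 1404, [2, 4, 12, 8, 13, 11, 12, 7, 11, 12]⟩, ⟨1, 134, []⟩, ⟨1, 135, []⟩, ⟨1, 3419, [13, 11, 12, 8, 12, 11, 12, 8, 11, 13]⟩]⟩,
 ⟨4, 6, 3694, [], [⟨1, 3693, []⟩], []⟩]
theorem chk75 : and2 (D.chkL PF75 3649) (Nat.beq (Nat.add 3649 PF75.length) 3695) = true := by decide +kernel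

def PF76 : List DPf := [⟨8, 6, 163, [2, 4, 11, 12, 0, 2, 3, 4, 2, 1, 2, 0, 1, 3, 2, 0], [], [⟨1, 162, [2, 4, 11, 12]⟩, ⟨1, 134, []⟩, ⟨1, 135, []⟩, ⟨1, 134, []⟩, ⟨1, 690, [4, 12, 8, 11, 12, 13, 11, 12, 7, 12]⟩, ⟨1, 87, []⟩, ⟨1, 86, []⟩, ⟨1, 90, []⟩, ⟨1, 86, []⟩, ⟨1, 90, []⟩, ⟨1, 3334, [8, 12, 7, 13, 11, 2, 12, 7]⟩]⟩,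
 ⟨4, 6, 3696, [], [⟨1, 3695, []⟩], []⟩,
 ⟨12, 6, 163, [0, 4, 8, 13, 11, 12, 0, 2, 3, 1, 0, 2, 1, 2, 4, 3, 2, 0, 2, 0], [], [⟨1, 162, [0, 4, 8, 13, 11, 12]⟩, ⟨1, 134, []⟩, ⟨1, 135, []⟩, ⟨1, 134, []⟩, ⟨1, 578, [2, 8, 12, 8, 11, 12, 7, 11, 12, 7, 11]⟩, ⟨1, 87, []⟩, ⟨1, 90, []⟩, ⟨1, 3300, [2, 7, 11, 4, 12, 8, 11, 4, 11, 12]⟩]⟩,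
 ⟨4, 6, 3698, [], [⟨1, 3697, []⟩], []⟩,
 ⟨8, 6, 164, [11, 13, 11, 12, 0, 2, 3, 4, 2, 1, 2, 0, 1, 3, 2, 0], [], [⟨1, 163, [11, 13, 11, 12]⟩, ⟨1, 134, []⟩, ⟨1, 1927, [2, 7, 11, 12, 11, 12, 8, 12, 11]⟩, ⟨1, 134, []⟩, ⟨1, 3563, [0, 4, 11, 12, 7, 12, 13, 11]⟩]⟩,
 ⟨4, 6, 3700, [], [⟨1, 3699, []⟩], []⟩,
 ⟨7, 6, 169, [8, 11, 12, 13, 3, 1, 0, 2, 1, 3, 2, 0], [], [⟨1, 168, [8, 11, 12, 13]⟩, ⟨1, 794, [8, 11, 4, 12, 11, 12, 7, 11, 13]⟩, ⟨1, 86, []⟩, ⟨1, 87, []⟩, ⟨1, 90, []⟩, ⟨1, 90, []⟩, ⟨1, 90, []⟩, ⟨1, 3308, [11, 4, 12, 11, 12, 13, 11, 4]⟩]⟩,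
 ⟨4, 6, 3702, [], [⟨1, 3701, []⟩], []⟩,
 ⟨7, 6, 169, [7, 11, 12, 13, 3, 1, 0, 2, 1, 3, 2, 0], [], [⟨1, 168, [7, 11, 12, 13]⟩, ⟨1, 134, []⟩, ⟨1, 135, []⟩, ⟨1, 1961, [7, 11, 13, 11, 12, 7, 11, 13]⟩, ⟨1, 135, []⟩, ⟨1, 3573, [2, 12, 8, 11, 4, 11, 4]⟩]⟩,
 ⟨4, 6, 3704, [], [⟨1, 3703, []⟩], []⟩,
 ⟨7, 6, 165, [8, 11, 4, 12, 13, 3, 1, 0, 2, 1, 3, 2, 0], [], [⟨1, 164, [8, 11, 4, 12, 13]⟩, ⟨1, 134, []⟩, ⟨1, 135, []⟩, ⟨1, 664, [2, 12, 11, 4, 12, 8, 13, 11, 12, 11]⟩, ⟨1, 90, []⟩, ⟨1, 86, []⟩, ⟨1, 3457, [2, 7, 12, 13]⟩]⟩,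
 ⟨4, 6, 3706, [], [⟨1, 3705, []⟩], []⟩,
 ⟨8, 6, 165, [4, 8, 11, 12, 11, 4, 0, 2, 3, 4, 2, 1, 2, 0, 1, 3, 2, 0], [], [⟨1, 164, [4, 8, 11, 12, 11, 4]⟩, ⟨1, 135, []⟩, ⟨1, 134, []⟩, ⟨1, 410, [2, 7, 11, 12, 8, 11, 13, 11, 4, 11]⟩, ⟨1, 90, []⟩, ⟨1, 87, []⟩, ⟨1, 90, []⟩, ⟨1, 3334, [0, 13, 11, 4, 11, 12, 11, 12, 8]⟩]⟩,
 ⟨4, 6, 3708, [], [⟨1, 3707, []⟩], []⟩,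
 ⟨8, 6, 165, [4, 8, 11, 12, 13, 0, 2, 3, 4, 2, 1, 2, 0, 1, 3, 2, 0], [], [⟨1, 164, [4, 8, 11, 12, 13]⟩, ⟨1, 1696, [4, 13, 11, 2, 12, 11]⟩, ⟨1, 135, []⟩, ⟨1, 3451, [8, 13, 11, 12, 7, 11, 12, 8, 13]⟩]⟩,
 ⟨4, 6, 3710, [], [⟨1, 3709, []⟩], []⟩,
 ⟨8, 6, 168, [4, 7, 11, 4, 12, 13, 0, 2, 3, 4, 2, 1, 2, 0, 1, 3, 2, 0], [], [⟨1, 167, [4, 7, 11, 4, 12, 13]⟩, ⟨1, 135, []⟩, ⟨1, 319, [2, 4, 8, 12, 11, 12, 7, 13]⟩, ⟨1, 87, []⟩, ⟨1, 86, []⟩, ⟨1, 90, []⟩, ⟨1, 90, []⟩, ⟨1, 3473, [7, 12, 7, 11, 12, 7, 11, 12, 8, 13]⟩]⟩,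
 ⟨4, 6, 3712, [], [⟨1, 3711, []⟩], []⟩,
 ⟨8, 6, 155, [4, 11, 12, 13, 0, 2, 3, 4, 2, 1, 2, 0, 1, 3, 2, 0], [], [⟨1, 154, [4, 11, 12, 13]⟩, ⟨1, 134, []⟩, ⟨1, 135, []⟩, ⟨1, 1475, [13, 11, 2, 4, 11, 12, 7, 12, 13, 11]⟩, ⟨1, 134, []⟩, ⟨1, 135, []⟩, ⟨1, 3451, [2, 12, 11, 4, 12, 11, 13, 11]⟩]⟩,
 ⟨4, 6, 3714, [], [⟨1, 3713, []⟩], []⟩,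
 ⟨8, 6, 155, [8, 11, 12, 13, 11, 12, 0, 2, 3, 4, 2, 1, 2, 0, 1, 3, 2, 0], [], [⟨1, 154, [8, 11, 12, 13, 11, 12]⟩, ⟨1, 291, [0, 11, 12, 11, 4, 11, 12, 11, 13]⟩, ⟨1, 86, []⟩, ⟨1, 87, []⟩, ⟨1, 90, []⟩, ⟨1, 90, []⟩, ⟨1, 3334, [4, 8, 12, 7, 11, 12, 8, 13, 11, 12]⟩]⟩,
 ⟨4, 6, 3716, [], [⟨1, 3715, []⟩], []⟩,
 ⟨17, 6, 183, [4, 8, 12, 7, 13, 5, 5, 3, 6, 6, 2, 0], [], [⟨1, 182, [4, 8, 12, 7, 13]⟩, ⟨1, 134, []⟩, ⟨1, 135, []⟩, ⟨1, 134, []⟩, ⟨1, 752, [2, 4, 8, 11, 4, 12, 13, 11, 4]⟩, ⟨1, 90, []⟩, ⟨1, 87, []⟩, ⟨1, 90, []⟩, ⟨1, 90, []⟩, ⟨1, 3302, [4, 8, 11, 4, 13, 11, 4, 11, 12]⟩]⟩,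
 ⟨4, 6, 3718, [], [⟨1, 3717, []⟩], []⟩,
 ⟨7, 6, 178, [12, 8, 12, 11, 12, 3, 1, 0, 2, 1, 3, 2, 0], [], [⟨1, 177, [12, 8, 12, 11, 12]⟩, ⟨1, 134, []⟩, ⟨1, 135, []⟩, ⟨1, 134, []⟩, ⟨1, 2454, [0, 4, 8, 13, 11, 12, 8, 11, 12, 11]⟩, ⟨1, 3507, [8, 12, 8, 13, 11, 2, 12]⟩]⟩,
 ⟨4, 6, 3720, [], [⟨1, 3719, []⟩], []⟩,
 ⟨7, 6, 178, [12, 3, 1, 0, 2, 1, 3, 2, 0], [], [⟨1, 177, [12]⟩, ⟨1, 135, []⟩, ⟨1, 307, [7, 11, 12, 7, 13, 11, 4, 11, 4, 12]⟩, ⟨1, 86, []⟩, ⟨1, 90, []⟩, ⟨1, 90, []⟩, ⟨1, 86, []⟩, ⟨1, 90, []⟩, ⟨1, 3316, [0, 11, 4, 11, 12, 11, 4, 13]⟩]⟩,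
 ⟨4, 6, 3722, [], [⟨1, 3721, []⟩], []⟩,
 ⟨12, 6, 178, [4, 7, 12, 13, 11, 4, 0, 2, 3, 1, 0, 2, 1, 2, 4, 3, 2, 0, 2, 0], [], [⟨1, 177, [4, 7, 12, 13, 11, 4]⟩, ⟨1, 2770, [7, 12, 8, 11, 4, 11, 12, 11, 4, 11]⟩, ⟨1, 134, []⟩, ⟨1, 135, []⟩, ⟨1, 134, []⟩, ⟨1, 3677, [4, 7, 12, 13, 11, 12, 11, 4]⟩]⟩,
 ⟨4, 6, 3724, [], [⟨1, 3723, []⟩], []⟩,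
 ⟨13, 6, 178, [2, 11, 4, 12, 0, 2, 3, 1, 2, 0, 1, 3, 2, 0], [], [⟨1, 177, [2, 11, 4, 12]⟩, ⟨1, 490, [12, 11, 12, 8, 12, 13, 11, 4, 12, 11]⟩, ⟨1, 87, []⟩, ⟨1, 90, []⟩, ⟨1, 86, []⟩, ⟨1, 3304, [12, 7, 11, 12, 13, 11, 4, 12]⟩]⟩,
 ⟨4, 6, 3726, [], [⟨1, 3725, []⟩], []⟩,
 ⟨17, 6, 184, [8, 11, 4, 12, 13, 5, 5, 3, 6, 6, 2, 0], [], [⟨1, 183, [8, 11, 4, 12, 13]⟩, ⟨1, 134, []⟩, ⟨1, 668, [7, 12, 11, 13, 11, 4, 11]⟩, ⟨1, 86, []⟩, ⟨1, 90, []⟩, ⟨1, 87, []⟩, ⟨1, 90, []⟩, ⟨1, 3302, [2, 12, 8, 11, 12, 8, 11, 12]⟩]⟩,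
 ⟨4, 6, 3728, [], [⟨1, 3727, []⟩], []⟩,
 ⟨8, 6, 174, [4, 8, 12, 13, 11, 4, 0, 2, 3, 4, 2, 1, 2, 0, 1, 3, 2, 0], [], [⟨1, 173, [4, 8, 12, 13, 11, 4]⟩, ⟨1, 690, [4, 7, 12, 13, 11, 12, 8, 11, 13]⟩, ⟨1, 86, []⟩, ⟨1, 87, []⟩, ⟨1, 86, []⟩, ⟨1, 90, []⟩, ⟨1, 87, []⟩, ⟨1, 3539, [4, 8, 12, 11, 4, 12, 8, 11, 13]⟩]⟩,
 ⟨4, 6, 3730, [], [⟨1, 3729, []⟩], []⟩,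
 ⟨7, 6, 175, [12, 13, 11, 4, 3, 1, 0, 2, 1, 3, 2, 0], [], [⟨1, 174, [12, 13, 11, 4]⟩, ⟨1, 2345, [4, 7, 11, 2, 13, 11, 12, 7, 11, 12]⟩, ⟨1, 135, []⟩, ⟨1, 3687, [12, 13, 11, 12, 8, 11, 12, 7, 13, 11]⟩]⟩,
 ⟨4, 6, 3732, [], [⟨1, 3731, []⟩], []⟩,
 ⟨8, 6, 180, [8, 11, 4, 11, 12, 0, 2, 3, 4, 2, 1, 2, 0, 1, 3, 2, 0], [], [⟨1, 179, [8, 11, 4, 11, 12]⟩, ⟨1, 134, []⟩, ⟨1, 632, [12, 7, 11, 4, 12, 11, 4, 13]⟩, ⟨1, 90, []⟩, ⟨1, 87, []⟩, ⟨1, 3338, [7, 12, 7, 11, 2, 12, 8, 12, 13, 11]⟩]⟩,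
 ⟨4, 6, 3734, [], [⟨1, 3733, []⟩], []⟩,
 ⟨7, 6, 240, [11, 4, 12, 8, 11, 12, 3, 1, 0, 2, 1, 3, 2, 0], [], [⟨1, 239, [11, 4, 12, 8, 11, 12]⟩, ⟨1, 39, []⟩, ⟨1, 41, []⟩, ⟨1, 377, [0, 7, 13, 11, 12, 8, 11, 12, 8, 13]⟩, ⟨1, 134, []⟩, ⟨1, 135, []⟩, ⟨1, 134, []⟩, ⟨1, 3555, [13, 11, 4, 12, 7, 11, 12, 11, 13, 11]⟩]⟩,
 ⟨4, 6, 3736, [], [⟨1, 3735, []⟩], []⟩,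
 ⟨7, 6, 236, [4, 12, 8, 11, 12, 3, 1, 0, 2, 1, 3, 2, 0], [], [⟨1, 235, [4, 12, 8, 11, 12]⟩, ⟨1, 39, []⟩, ⟨1, 43, []⟩, ⟨1, 42, []⟩, ⟨1, 41, []⟩, ⟨1, 40, []⟩, ⟨1, 46, []⟩, ⟨1, 46, []⟩, ⟨1, 314, [8, 11, 2, 12, 7, 11, 4, 12]⟩, ⟨1, 3571, [11, 13, 11, 12, 7, 11, 12]⟩]⟩,
 ⟨4, 6, 3738, [], [⟨1, 3737, []⟩], []⟩,
 ⟨7, 5, 3062, [11, 12, 13, 11, 4, 3, 1, 0, 2, 1, 3, 2, 0], [], [⟨1, 3061, [11, 12, 13, 11, 4]⟩, ⟨1, 2978, []⟩, ⟨1, 2978, []⟩, ⟨1, 2977, []⟩, ⟨1, 2981, []⟩, ⟨1, 2981, []⟩, ⟨1, 3036, [7, 12, 8, 11, 12, 7, 11, 12, 11, 4]⟩, ⟨1, 134, []⟩, ⟨1, 135, []⟩, ⟨1, 3551, [7, 12, 8, 11, 12, 13, 11, 12]⟩]⟩,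
 ⟨4, 5, 3740, [], [⟨1, 3739, []⟩], []⟩,
 ⟨17, 6, 268, [13, 5, 5, 3, 6, 6, 2, 0], [], [⟨1, 267, [13]⟩, ⟨1, 86, []⟩, ⟨1, 90, []⟩, ⟨1, 90, []⟩, ⟨1, 633, [2, 7, 11, 12, 8, 11, 12, 11, 12, 13]⟩, ⟨1, 134, []⟩, ⟨1, 3459, [8, 12, 7, 11, 4, 11, 13, 11, 4]⟩]⟩,
 ⟨4, 6, 3742, [], [⟨1, 3741, []⟩], []⟩]
theorem chk76 : and2 (D.chkL PF76 3695) (Nat.beq (Nat.add 3695 PF76.length) 3743) = true := by decide +kernel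

def PF77 : List DPf := [⟨17, 8, 3270, [11, 12, 7, 12, 13, 5, 5, 3, 6, 6, 2, 0], [], [⟨1, 3269, [11, 12, 7, 12, 13]⟩, ⟨1, 24, []⟩, ⟨1, 22, []⟩, ⟨1, 22, []⟩, ⟨1, 25, []⟩, ⟨1, 21, []⟩, ⟨1, 212, [2, 11, 4, 12, 8, 11]⟩, ⟨1, 135, []⟩, ⟨1, 3601, [11, 12, 8, 11, 4, 12]⟩]⟩,
 ⟨4, 8, 3744, [], [⟨1, 3743, []⟩], []⟩,
 ⟨17, 8, 3270, [11, 12, 8, 13, 5, 5, 3, 6, 6, 2, 0], [], [⟨1, 3269, [11, 12, 8, 13]⟩, ⟨1, 20, []⟩, ⟨1, 24, []⟩, ⟨1, 22, []⟩, ⟨1, 22, []⟩, ⟨1, 25, []⟩, ⟨1, 22, []⟩, ⟨1, 21, []⟩, ⟨1, 30, []⟩, ⟨1, 30, []⟩, ⟨1, 212, [7, 11, 4, 12, 11, 13, 11, 4, 11, 12, 13]⟩, ⟨1, 3599, [4, 8, 12, 7, 13, 11, 4, 12, 11, 13]⟩]⟩,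
 ⟨4, 8, 3746, [], [⟨1, 3745, []⟩], []⟩,
 ⟨17, 8, 3270, [13, 5, 5, 3, 6, 6, 2, 0], [], [⟨1, 3269, [13]⟩, ⟨1, 20, []⟩, ⟨1, 23, []⟩, ⟨1, 22, []⟩, ⟨1, 22, []⟩, ⟨1, 25, []⟩, ⟨1, 22, []⟩, ⟨1, 22, []⟩, ⟨1, 28, []⟩, ⟨1, 30, []⟩, ⟨1, 30, []⟩, ⟨1, 36, []⟩, ⟨1, 36, []⟩, ⟨1, 212, [0, 7, 11, 12, 13, 11, 4, 11, 12]⟩, ⟨1, 135, []⟩, ⟨1, 3629, [4, 8, 11, 12, 11, 12, 8, 12, 11, 4, 12]⟩]⟩,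
 ⟨0, 0, 0, [], [], []⟩,
 ⟨2, 3, 3749, [], [⟨1, 3748, []⟩], [⟨1, 41, []⟩, ⟨1, 3748, [13]⟩]⟩,
 ⟨2, 3, 3749, [], [⟨1, 3748, []⟩], [⟨1, 40, []⟩, ⟨1, 46, []⟩, ⟨1, 46, []⟩, ⟨1, 68, []⟩, ⟨1, 3748, [0, 8, 11, 4, 11, 12, 8, 11, 4, 11, 12]⟩]⟩,
 ⟨4, 3, 3749, [], [⟨1, 3748, []⟩], []⟩,
 ⟨5, 9, 3752, [8, 11, 12, 13, 3, 2, 0], [], [⟨1, 3751, [8, 11, 12, 13]⟩, ⟨1, 43, []⟩, ⟨1, 42, []⟩, ⟨1, 46, []⟩, ⟨1, 148, [4, 12, 7, 11, 4, 11, 12, 11, 12, 7]⟩, ⟨1, 135, []⟩, ⟨1, 869, [0, 8, 11, 12, 8, 11, 12, 8, 11]⟩]⟩,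
 ⟨4, 9, 3753, [], [⟨1, 3752, []⟩], []⟩,
 ⟨5, 9, 3752, [4, 12, 3, 2, 0], [], [⟨1, 3751, [4, 12]⟩, ⟨1, 43, []⟩, ⟨1, 41, []⟩, ⟨1, 40, []⟩, ⟨1, 68, []⟩, ⟨1, 68, []⟩, ⟨1, 781, [11, 13, 11, 4, 11, 12, 13]⟩, ⟨1, 134, []⟩, ⟨1, 135, []⟩, ⟨1, 134, []⟩, ⟨1, 2177, [8, 11, 2, 12, 7, 11, 4, 11, 13]⟩]⟩,
 ⟨4, 9, 3755, [], [⟨1, 3754, []⟩], []⟩,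
 ⟨5, 9, 3752, [4, 3, 2, 0], [], [⟨1, 3751, [4]⟩, ⟨1, 39, []⟩, ⟨1, 43, []⟩, ⟨1, 783, [2, 11, 12, 7, 13, 11, 12, 11, 13]⟩, ⟨1, 134, []⟩, ⟨1, 135, []⟩, ⟨1, 134, []⟩, ⟨1, 2339, [12, 11, 2, 4, 11, 12, 7, 12, 13]⟩]⟩,
 ⟨4, 9, 3757, [], [⟨1, 3756, []⟩], []⟩,
 ⟨2, 6, 3758, [], [⟨1, 3757, []⟩], [⟨1, 134, []⟩, ⟨1, 135, []⟩, ⟨1, 134, []⟩, ⟨1, 3755, [0, 4, 12, 13, 11, 12, 8, 11]⟩]⟩,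
 ⟨5, 9, 3752, [7, 11, 4, 12, 13, 3, 2, 0], [], [⟨1, 3751, [7, 11, 4, 12, 13]⟩, ⟨1, 39, []⟩, ⟨1, 42, []⟩, ⟨1, 40, []⟩, ⟨1, 46, []⟩, ⟨1, 68, []⟩, ⟨1, 68, []⟩, ⟨1, 152, [12, 7, 12, 11, 12, 11, 4, 11]⟩, ⟨1, 135, []⟩, ⟨1, 870, [0, 12, 11, 4, 11, 12, 8, 11, 12, 11, 4]⟩]⟩,
 ⟨4, 9, 3760, [], [⟨1, 3759, []⟩], []⟩,
 ⟨7, 9, 3752, [12, 11, 4, 11, 12, 3, 1, 0, 2, 1, 3, 2, 0], [], [⟨1, 3751, [12, 11, 4, 11, 12]⟩, ⟨1, 39, []⟩, ⟨1, 43, []⟩, ⟨1, 41, []⟩, ⟨1, 68, []⟩, ⟨1, 214, [2, 4, 8, 11, 4, 11, 13, 11, 12, 7, 11]⟩, ⟨1, 134, []⟩, ⟨1, 135, []⟩, ⟨1, 2640, [0, 4, 12, 11, 12, 8, 13, 11, 12, 7, 11]⟩]⟩,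
 ⟨4, 9, 3762, [], [⟨1, 3761, []⟩], []⟩,
 ⟨7, 9, 3752, [2, 4, 7, 11, 4, 12, 3, 1, 0, 2, 1, 3, 2, 0], [], [⟨1, 3751, [2, 4, 7, 11, 4, 12]⟩, ⟨1, 43, []⟩, ⟨1, 68, []⟩, ⟨1, 68, []⟩, ⟨1, 216, [8, 12, 13, 11, 12, 11, 4, 11, 13]⟩, ⟨1, 134, []⟩, ⟨1, 135, []⟩, ⟨1, 134, []⟩, ⟨1, 1510, [0, 7, 12, 7, 11, 4, 11, 13, 11, 4]⟩]⟩,
 ⟨4, 9, 3764, [], [⟨1, 3763, []⟩], []⟩,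
 ⟨7, 9, 3752, [4, 3, 1, 0, 2, 1, 3, 2, 0], [], [⟨1, 3751, [4]⟩, ⟨1, 39, []⟩, ⟨1, 42, []⟩, ⟨1, 41, []⟩, ⟨1, 68, []⟩, ⟨1, 68, []⟩, ⟨1, 585, [4, 11, 2, 13, 11, 12, 8, 12, 11, 12]⟩, ⟨1, 134, []⟩, ⟨1, 135, []⟩, ⟨1, 2349, [2, 4, 8, 12, 7, 11, 12, 7, 11, 12]⟩]⟩,
 ⟨4, 9, 3766, [], [⟨1, 3765, []⟩], []⟩,
 ⟨17, 9, 3752, [7, 11, 13, 5, 5, 3, 6, 6, 2, 0], [], [⟨1, 3751, [7, 11, 13]⟩, ⟨1, 46, []⟩, ⟨1, 46, []⟩, ⟨1, 68, []⟩, ⟨1, 68, []⟩, ⟨1, 56, [2, 11, 4, 12, 8, 13, 11, 12]⟩, ⟨1, 39, []⟩, ⟨1, 43, []⟩, ⟨1, 42, []⟩, ⟨1, 46, []⟩, ⟨1, 46, []⟩, ⟨1, 3748, [11, 4, 11, 12, 7, 12, 11, 13, 11, 4]⟩]⟩,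
 ⟨0, 0, 0, [], [], []⟩,
 ⟨2, 3, 3769, [], [⟨1, 3768, []⟩], [⟨1, 43, []⟩, ⟨1, 42, []⟩, ⟨1, 41, []⟩, ⟨1, 40, []⟩, ⟨1, 3768, [13]⟩]⟩,
 ⟨2, 3, 3769, [], [⟨1, 3768, []⟩], [⟨1, 39, []⟩, ⟨1, 43, []⟩, ⟨1, 46, []⟩, ⟨1, 46, []⟩, ⟨1, 68, []⟩, ⟨1, 3768, [2, 11, 12, 11, 13, 11, 12, 7, 11, 12]⟩]⟩,
 ⟨4, 3, 3769, [], [⟨1, 3768, []⟩], []⟩,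
 ⟨9, 3, 3749, [7, 11, 4, 11, 12, 13, 0, 2, 4, 1, 0, 2, 1, 3, 2, 0], [], [⟨1, 3748, [7, 11, 4, 11, 12, 13]⟩, ⟨1, 3758, []⟩, ⟨1, 3749, []⟩, ⟨1, 3750, []⟩, ⟨1, 3758, []⟩, ⟨1, 3758, []⟩, ⟨1, 3758, []⟩, ⟨1, 3758, []⟩, ⟨1, 3750, []⟩, ⟨1, 3758, []⟩, ⟨1, 3751, [2, 8, 11, 12, 7]⟩, ⟨1, 39, []⟩, ⟨1, 46, []⟩, ⟨1, 46, []⟩, ⟨1, 3768, [11, 12, 11, 12, 7, 12, 13, 11, 12]⟩]⟩,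
 ⟨4, 3, 3773, [], [⟨1, 3772, []⟩], []⟩,
 ⟨10, 3, 3749, [4, 12, 8, 13, 11, 12, 0, 2, 3, 2, 0], [], [⟨1, 3748, [4, 12, 8, 13, 11, 12]⟩, ⟨1, 3749, []⟩, ⟨1, 3758, []⟩, ⟨1, 3758, []⟩, ⟨1, 3758, []⟩, ⟨1, 3758, []⟩, ⟨1, 3750, []⟩, ⟨1, 3758, []⟩, ⟨1, 3749, []⟩, ⟨1, 3750, []⟩, ⟨1, 3758, []⟩, ⟨1, 3751, [2, 4, 8, 13, 11, 12]⟩, ⟨1, 39, []⟩, ⟨1, 41, []⟩, ⟨1, 40, []⟩, ⟨1, 46, []⟩, ⟨1, 46, []⟩, ⟨1, 3772, [4, 12, 8, 13, 11, 2, 12, 7, 11, 12, 13]⟩]⟩,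
 ⟨2, 3, 3775, [], [⟨1, 3774, []⟩], [⟨1, 41, []⟩, ⟨1, 3772, [4, 7, 13, 11, 12, 11, 4, 13, 11]⟩]⟩,
 ⟨5, 9, 3752, [11, 13, 3, 2, 0], [], [⟨1, 3751, [11, 13]⟩, ⟨1, 73, [0, 4, 7, 13, 11]⟩, ⟨1, 39, []⟩, ⟨1, 46, []⟩, ⟨1, 46, []⟩, ⟨1, 3768, [4, 8, 11, 2, 4, 13, 11, 4]⟩]⟩,
 ⟨2, 9, 3777, [], [⟨1, 3776, []⟩], [⟨1, 3758, []⟩, ⟨1, 3749, []⟩, ⟨1, 3750, []⟩, ⟨1, 3758, []⟩, ⟨1, 3776, [4, 12, 11, 4, 12, 13, 11, 4, 11, 12, 7]⟩]⟩,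
 ⟨4, 9, 3777, [], [⟨1, 3776, []⟩], []⟩,
 ⟨5, 9, 3752, [11, 4, 13, 3, 2, 0], [], [⟨1, 3751, [11, 4, 13]⟩, ⟨1, 39, []⟩, ⟨1, 43, []⟩, ⟨1, 42, []⟩, ⟨1, 3748, [0, 4, 12, 11, 13, 11, 4, 11, 4]⟩, ⟨1, 3776, [4, 11, 12, 11, 4, 11, 12, 11]⟩]⟩,
 ⟨4, 9, 3780, [], [⟨1, 3779, []⟩], []⟩,
 ⟨8, 9, 3752, [7, 12, 11, 4, 13, 0, 2, 3, 4, 2, 1, 2, 0, 1, 3, 2, 0], [], [⟨1, 3751, [7, 12, 11, 4, 13]⟩, ⟨1, 39, []⟩, ⟨1, 43, []⟩, ⟨1, 42, []⟩, ⟨1, 3748, [2, 7, 12, 7, 11, 4, 11, 13, 11, 4]⟩, ⟨1, 3749, []⟩, ⟨1, 3758, []⟩, ⟨1, 3750, []⟩, ⟨1, 3758, []⟩, ⟨1, 3758, []⟩, ⟨1, 3758, []⟩, ⟨1, 3749, []⟩, ⟨1, 3750, []⟩, ⟨1, 3758, []⟩, ⟨1, 3779, [4, 11, 12, 13, 11, 12,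 7, 12, 11]⟩]⟩,
 ⟨4, 9, 3782, [], [⟨1, 3781, []⟩], []⟩,
 ⟨5, 10, 3772, [4, 8, 12, 3, 2, 0], [], [⟨1, 3771, [4, 8, 12]⟩, ⟨1, 39, []⟩, ⟨1, 43, []⟩, ⟨1, 41, []⟩, ⟨1, 40, []⟩, ⟨1, 68, []⟩, ⟨1, 68, []⟩, ⟨1, 370, [4, 8, 13, 11, 2, 12, 8, 11, 12]⟩, ⟨1, 134, []⟩, ⟨1, 839, [4, 11, 12, 11, 12, 8, 13]⟩]⟩,
 ⟨4, 10, 3784, [], [⟨1, 3783, []⟩], []⟩,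
 ⟨5, 10, 3772, [8, 11, 12, 13, 3, 2, 0], [], [⟨1, 3771, [8, 11, 12, 13]⟩, ⟨1, 43, []⟩, ⟨1, 41, []⟩, ⟨1, 46, []⟩, ⟨1, 46, []⟩, ⟨1, 68, []⟩, ⟨1, 160, [11, 4, 11, 4, 12, 8, 13, 11, 4, 11, 13]⟩, ⟨1, 135, []⟩, ⟨1, 863, [7, 12, 7, 11, 2, 12, 7, 11]⟩]⟩,
 ⟨4, 10, 3786, [], [⟨1, 3785, []⟩], []⟩,
 ⟨5, 10, 3772, [4, 12, 3, 2, 0], [], [⟨1, 3771, [4, 12]⟩, ⟨1, 39, []⟩, ⟨1, 43, []⟩, ⟨1, 42, []⟩, ⟨1, 40, []⟩, ⟨1, 374, [0, 13, 11, 4, 11, 4, 12, 7, 13, 11]⟩, ⟨1, 39, []⟩, ⟨1, 41, []⟩, ⟨1, 3768, [8, 13, 11, 2, 12, 8, 11, 12, 11]⟩]⟩,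
 ⟨5, 10, 3772, [4, 3, 2, 0], [], [⟨1, 3771, [4]⟩, ⟨1, 39, []⟩, ⟨1, 42, []⟩, ⟨1, 46, []⟩, ⟨1, 599, [7, 11, 12, 7, 11, 12, 8, 11, 12, 13]⟩, ⟨1, 135, []⟩, ⟨1, 134, []⟩, ⟨1, 2149, [2, 7, 11, 12, 11, 4, 12, 13, 11]⟩]⟩,
 ⟨4, 10, 3789, [], [⟨1, 3788, []⟩], []⟩,
 ⟨5, 10, 3772, [7, 11, 4, 12, 13, 3, 2, 0], [], [⟨1, 3771, [7, 11, 4, 12, 13]⟩, ⟨1, 43, []⟩, ⟨1, 42, []⟩, ⟨1, 46, []⟩, ⟨1, 46, []⟩, ⟨1, 146, [2, 4, 12, 8, 11, 13, 11, 12, 8, 11, 13]⟩, ⟨1, 872, [7, 11, 4, 11, 12, 11, 4]⟩]⟩,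
 ⟨4, 10, 3791, [], [⟨1, 3790, []⟩], []⟩,
 ⟨6, 10, 3772, [4, 12, 0, 2, 4, 3, 2, 0], [], [⟨1, 3771, [4, 12]⟩, ⟨1, 39, []⟩, ⟨1, 43, []⟩, ⟨1, 42, []⟩, ⟨1, 40, []⟩, ⟨1, 374, [0, 4, 13, 11, 4, 11, 12, 7, 13, 11, 4]⟩, ⟨1, 39, []⟩, ⟨1, 43, []⟩, ⟨1, 42, []⟩, ⟨1, 41, []⟩, ⟨1, 46, []⟩, ⟨1, 3772, [7, 11, 4, 12, 11, 12, 7, 13, 11]⟩]⟩,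
 ⟨4, 10, 3793, [], [⟨1, 3792, []⟩], []⟩,
 ⟨7, 10, 3772, [11, 13, 11, 12, 3, 1, 0, 2, 1, 3, 2, 0], [], [⟨1, 3771, [11, 13, 11, 12]⟩, ⟨1, 39, []⟩, ⟨1, 40, []⟩, ⟨1, 46, []⟩, ⟨1, 68, []⟩, ⟨1, 593, [4, 12, 8, 11, 13, 11, 4, 12]⟩, ⟨1, 135, []⟩, ⟨1, 134, []⟩, ⟨1, 702, [0, 4, 7, 11, 12, 8, 11, 4, 11, 13]⟩]⟩,
 ⟨4, 10, 3795, [], [⟨1, 3794, []⟩], []⟩,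
 ⟨7, 10, 3772, [4, 12, 13, 11, 4, 3, 1, 0, 2, 1, 3, 2, 0], [], [⟨1, 3771, [4, 12, 13, 11, 4]⟩, ⟨1, 43, []⟩, ⟨1, 41, []⟩, ⟨1, 593, [0, 12, 7, 11, 13, 11, 4]⟩, ⟨1, 135, []⟩, ⟨1, 1576, [8, 11, 2, 12, 8, 11, 12, 11, 13]⟩]⟩,
 ⟨4, 10, 3797, [], [⟨1, 3796, []⟩], []⟩,
 ⟨7, 10, 3772, [12, 13, 11, 4, 3, 1, 0, 2, 1, 3, 2, 0], [], [⟨1, 3771, [12, 13, 11, 4]⟩, ⟨1, 41, []⟩, ⟨1, 46, []⟩, ⟨1, 587, [0, 7, 12, 11, 4, 12, 8, 13, 11, 12]⟩, ⟨1, 134, []⟩, ⟨1, 865, [2, 11, 4, 11, 4, 12, 11, 13, 11, 12]⟩]⟩,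
 ⟨4, 10, 3799, [], [⟨1, 3798, []⟩], []⟩,
 ⟨7, 10, 3772, [12, 11, 4, 11, 12, 3, 1, 0, 2, 1, 3, 2, 0], [], [⟨1, 3771, [12, 11, 4, 11, 12]⟩, ⟨1, 43, []⟩, ⟨1, 42, []⟩, ⟨1, 41, []⟩, ⟨1, 40, []⟩, ⟨1, 68, []⟩, ⟨1, 593, [0, 7, 13, 11, 4, 11, 12, 7]⟩, ⟨1, 134, []⟩, ⟨1, 2942, [2, 4, 12, 8, 11, 12, 7, 13]⟩]⟩,
 ⟨4, 10, 3801, [], [⟨1, 3800, []⟩], []⟩]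
theorem chk77 : and2 (D.chkL PF77 3743) (Nat.beq (Nat.add 3743 PF77.length) 3802) = true := by decide +kernel

def PF78 : List DPf := [⟨7, 10, 3772, [0, 4, 12, 13, 11, 4, 3, 1, 0, 2, 1, 3, 2, 0], [], [⟨1, 3771, [0, 4, 12, 13, 11, 4]⟩, ⟨1, 39, []⟩, ⟨1, 42, []⟩, ⟨1, 46, []⟩, ⟨1, 593, [4, 7, 13, 11, 4, 11, 12, 11, 13]⟩, ⟨1, 135, []⟩, ⟨1, 1576, [12, 7, 11, 4, 11, 12, 13, 11, 4, 11, 12]⟩]⟩,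
 ⟨4, 10, 3803, [], [⟨1, 3802, []⟩], []⟩,
 ⟨7, 10, 3772, [2, 4, 7, 11, 4, 12, 3, 1, 0, 2, 1, 3, 2, 0], [], [⟨1, 3771, [2, 4, 7, 11, 4, 12]⟩, ⟨1, 42, []⟩, ⟨1, 41, []⟩, ⟨1, 119, [8, 11, 2, 12, 7, 11, 4, 11, 13]⟩, ⟨1, 87, []⟩, ⟨1, 90, []⟩, ⟨1, 86, []⟩, ⟨1, 677, [0, 4, 8, 11, 4, 12, 11, 13]⟩]⟩,
 ⟨4, 10, 3805, [], [⟨1, 3804, []⟩], []⟩,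
 ⟨7, 10, 3772, [4, 7, 12, 8, 11, 12, 3, 1, 0, 2, 1, 3, 2, 0], [], [⟨1, 3771, [4, 7, 12, 8, 11, 12]⟩, ⟨1, 39, []⟩, ⟨1, 43, []⟩, ⟨1, 42, []⟩, ⟨1, 40, []⟩, ⟨1, 46, []⟩, ⟨1, 46, []⟩, ⟨1, 783, [2, 4, 11, 13, 11, 4, 12]⟩, ⟨1, 134, []⟩, ⟨1, 135, []⟩, ⟨1, 134, []⟩, ⟨1, 1115, [2, 7, 12, 11, 4, 11, 4, 12, 8]⟩]⟩,
 ⟨4, 10, 3807, [], [⟨1, 3806, []⟩], []⟩,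
 ⟨7, 10, 3772, [11, 12, 11, 4, 13, 3, 1, 0, 2, 1, 3, 2, 0], [], [⟨1, 3771, [11, 12, 11, 4, 13]⟩, ⟨1, 43, []⟩, ⟨1, 42, []⟩, ⟨1, 41, []⟩, ⟨1, 46, []⟩, ⟨1, 46, []⟩, ⟨1, 68, []⟩, ⟨1, 368, [0, 7, 11, 4, 11, 12, 8, 11, 4, 11, 13]⟩, ⟨1, 373, [0, 4, 7, 13, 11, 12, 11]⟩]⟩,
 ⟨4, 10, 3809, [], [⟨1, 3808, []⟩], []⟩,
 ⟨7, 10, 3772, [12, 11, 13, 11, 4, 12, 3, 1, 0, 2, 1, 3, 2, 0], [], [⟨1, 3771, [12, 11, 13, 11, 4, 12]⟩, ⟨1, 43, []⟩, ⟨1, 42, []⟩, ⟨1, 41, []⟩, ⟨1, 46, []⟩, ⟨1, 46, []⟩, ⟨1, 250, [8, 11, 13, 11, 12, 7, 11, 12, 7]⟩, ⟨1, 135, []⟩, ⟨1, 134, []⟩, ⟨1, 1797, [8, 11, 12, 8, 11, 13, 11, 12, 8]⟩]⟩,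
 ⟨4, 10, 3811, [], [⟨1, 3810, []⟩], []⟩,
 ⟨7, 10, 3772, [4, 11, 4, 11, 12, 3, 1, 0, 2, 1, 3, 2, 0], [], [⟨1, 3771, [4, 11, 4, 11, 12]⟩, ⟨1, 46, []⟩, ⟨1, 68, []⟩, ⟨1, 372, [0, 13, 11, 12, 8, 11, 4, 11, 13]⟩, ⟨1, 944, [2, 11, 12, 11, 4, 11, 13, 11, 12]⟩]⟩,
 ⟨4, 10, 3813, [], [⟨1, 3812, []⟩], []⟩,
 ⟨7, 10, 3772, [4, 11, 12, 11, 4, 3, 1, 0, 2, 1, 3, 2, 0], [], [⟨1, 3771, [4, 11, 12, 11, 4]⟩, ⟨1, 39, []⟩, ⟨1, 43, []⟩, ⟨1, 41, []⟩, ⟨1, 40, []⟩, ⟨1, 46, []⟩, ⟨1, 46, []⟩, ⟨1, 68, []⟩, ⟨1, 381, [11, 4, 12, 11, 13, 11, 4, 12, 8, 11]⟩, ⟨1, 2233, [12, 7, 12, 11, 12, 7, 12, 11, 12]⟩]⟩,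
 ⟨4, 10, 3815, [], [⟨1, 3814, []⟩], []⟩,
 ⟨7, 10, 3772, [8, 12, 11, 4, 12, 13, 3, 1, 0, 2, 1, 3, 2, 0], [], [⟨1, 3771, [8, 12, 11, 4, 12, 13]⟩, ⟨1, 39, []⟩, ⟨1, 43, []⟩, ⟨1, 42, []⟩, ⟨1, 40, []⟩, ⟨1, 585, [7, 13, 11, 4, 11, 4, 13, 11, 4, 12, 8]⟩, ⟨1, 2839, [2, 7, 12, 11, 4, 11, 12, 7]⟩]⟩,
 ⟨4, 10, 3817, [], [⟨1, 3816, []⟩], []⟩,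
 ⟨7, 10, 3772, [7, 12, 7, 11, 12, 3, 1, 0, 2, 1, 3, 2, 0], [], [⟨1, 3771, [7, 12, 7, 11, 12]⟩, ⟨1, 43, []⟩, ⟨1, 42, []⟩, ⟨1, 41, []⟩, ⟨1, 40, []⟩, ⟨1, 46, []⟩, ⟨1, 68, []⟩, ⟨1, 379, [4, 11, 4, 11, 12, 8, 13, 11, 12, 7]⟩, ⟨1, 134, []⟩, ⟨1, 135, []⟩, ⟨1, 134, []⟩, ⟨1, 2091, [0, 12, 8, 11, 12, 8, 13, 11, 4, 12]⟩]⟩,
 ⟨4, 10, 3819, [], [⟨1, 3818, []⟩], []⟩,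
 ⟨7, 10, 3772, [7, 11, 12, 13, 3, 1, 0, 2, 1, 3, 2, 0], [], [⟨1, 3771, [7, 11, 12, 13]⟩, ⟨1, 39, []⟩, ⟨1, 42, []⟩, ⟨1, 3276, [11, 12, 13, 11, 4, 11, 12, 8]⟩, ⟨1, 3271, []⟩, ⟨1, 3268, []⟩, ⟨1, 3271, []⟩, ⟨1, 3268, []⟩, ⟨1, 3271, []⟩, ⟨1, 3268, []⟩, ⟨1, 3271, []⟩, ⟨1, 3268, []⟩, ⟨1, 3271, []⟩, ⟨1, 3268, []⟩, ⟨1, 3742, [12, 7, 13, 11, 12, 11, 4, 12, 8, 11]⟩]⟩,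
 ⟨4, 10, 3821, [], [⟨1, 3820, []⟩], []⟩,
 ⟨7, 10, 3772, [12, 11, 12, 13, 11, 4, 3, 1, 0, 2, 1, 3, 2, 0], [], [⟨1, 3771, [12, 11, 12, 13, 11, 4]⟩, ⟨1, 42, []⟩, ⟨1, 40, []⟩, ⟨1, 379, [7, 11, 12, 11, 4, 12, 13, 11, 12, 11]⟩, ⟨1, 135, []⟩, ⟨1, 134, []⟩, ⟨1, 1802, [0, 12, 13, 11, 4, 12, 8, 11, 4, 12]⟩]⟩,
 ⟨4, 10, 3823, [], [⟨1, 3822, []⟩], []⟩,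
 ⟨7, 10, 3772, [8, 12, 7, 11, 12, 3, 1, 0, 2, 1, 3, 2, 0], [], [⟨1, 3771, [8, 12, 7, 11, 12]⟩, ⟨1, 39, []⟩, ⟨1, 40, []⟩, ⟨1, 46, []⟩, ⟨1, 68, []⟩, ⟨1, 783, [2, 12, 8, 11, 12, 7, 11, 12, 7, 13, 11]⟩, ⟨1, 135, []⟩, ⟨1, 1900, [0, 8, 12, 7, 11, 12, 7, 11, 12]⟩]⟩,
 ⟨4, 10, 3825, [], [⟨1, 3824, []⟩], []⟩,
 ⟨7, 10, 3772, [4, 7, 12, 3, 1, 0, 2, 1, 3, 2, 0], [], [⟨1, 3771, [4, 7, 12]⟩, ⟨1, 43, []⟩, ⟨1, 42, []⟩, ⟨1, 40, []⟩, ⟨1, 46, []⟩, ⟨1, 364, [7, 11, 12, 8, 11, 4, 11, 13]⟩, ⟨1, 134, []⟩, ⟨1, 135, []⟩, ⟨1, 134, []⟩, ⟨1, 1024, [4, 7, 12, 8, 11, 4, 13, 11, 4, 11]⟩]⟩,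
 ⟨4, 10, 3827, [], [⟨1, 3826, []⟩], []⟩,
 ⟨7, 10, 3772, [2, 4, 8, 12, 3, 1, 0, 2, 1, 3, 2, 0], [], [⟨1, 3771, [2, 4, 8, 12]⟩, ⟨1, 39, []⟩, ⟨1, 40, []⟩, ⟨1, 368, [4, 11, 12, 7, 11, 12, 8, 11]⟩, ⟨1, 1162, [7, 12, 11, 4, 12, 8, 13, 11, 12, 11]⟩]⟩,
 ⟨4, 10, 3829, [], [⟨1, 3828, []⟩], []⟩,
 ⟨7, 10, 3772, [2, 8, 12, 7, 11, 12, 3, 1, 0, 2, 1, 3, 2, 0], [], [⟨1, 3771, [2, 8, 12, 7, 11, 12]⟩, ⟨1, 43, []⟩, ⟨1, 42, []⟩, ⟨1, 40, []⟩, ⟨1, 68, []⟩, ⟨1, 781, [0, 8, 11, 4, 12, 13, 11, 12, 8, 11, 4]⟩, ⟨1, 134, []⟩, ⟨1, 135, []⟩, ⟨1, 134, []⟩, ⟨1, 1835, [11, 4, 11, 12, 11, 13, 11, 12, 8, 12]⟩]⟩,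
 ⟨4, 10, 3831, [], [⟨1, 3830, []⟩], []⟩,
 ⟨7, 10, 3772, [4, 12, 7, 11, 12, 3, 1, 0, 2, 1, 3, 2, 0], [], [⟨1, 3771, [4, 12, 7, 11, 12]⟩, ⟨1, 39, []⟩, ⟨1, 41, []⟩, ⟨1, 40, []⟩, ⟨1, 68, []⟩, ⟨1, 68, []⟩, ⟨1, 591, [8, 11, 4, 11, 12, 11, 12, 13]⟩, ⟨1, 135, []⟩, ⟨1, 134, []⟩, ⟨1, 1214, [4, 7, 11, 2, 12, 13, 11, 4, 11, 13]⟩]⟩,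
 ⟨4, 10, 3833, [], [⟨1, 3832, []⟩], []⟩,
 ⟨7, 10, 3772, [12, 7, 13, 11, 4, 12, 3, 1, 0, 2, 1, 3, 2, 0], [], [⟨1, 3771, [12, 7, 13, 11, 4, 12]⟩, ⟨1, 39, []⟩, ⟨1, 43, []⟩, ⟨1, 42, []⟩, ⟨1, 46, []⟩, ⟨1, 46, []⟩, ⟨1, 68, []⟩, ⟨1, 68, []⟩, ⟨1, 114, [2, 12, 8, 11, 4, 11, 12, 13, 11]⟩, ⟨1, 87, []⟩, ⟨1, 300, [0, 12, 7, 13, 11, 4, 12, 11, 12, 7]⟩]⟩,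
 ⟨4, 10, 3835, [], [⟨1, 3834, []⟩], []⟩,
 ⟨7, 10, 3772, [4, 7, 11, 4, 12, 3, 1, 0, 2, 1, 3, 2, 0], [], [⟨1, 3771, [4, 7, 11, 4, 12]⟩, ⟨1, 42, []⟩, ⟨1, 41, []⟩, ⟨1, 40, []⟩, ⟨1, 46, []⟩, ⟨1, 46, []⟩, ⟨1, 68, []⟩, ⟨1, 68, []⟩, ⟨1, 114, [11, 2, 12, 13, 11, 4, 12, 8, 11, 13]⟩, ⟨1, 623, [0, 12, 13, 11, 4, 11, 4, 12, 7]⟩]⟩,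
 ⟨4, 10, 3837, [], [⟨1, 3836, []⟩], []⟩,
 ⟨7, 10, 3772, [0, 4, 8, 11, 12, 13, 3, 1, 0, 2, 1, 3, 2, 0], [], [⟨1, 3771, [0, 4, 8, 11, 12, 13]⟩, ⟨1, 39, []⟩, ⟨1, 43, []⟩, ⟨1, 41, []⟩, ⟨1, 40, []⟩, ⟨1, 130, [8, 12, 7, 11, 13, 11, 12, 7, 11, 4]⟩, ⟨1, 87, []⟩, ⟨1, 86, []⟩, ⟨1, 90, []⟩, ⟨1, 90, []⟩, ⟨1, 90, []⟩, ⟨1, 701, [2, 4, 11, 4, 13, 11, 12, 11, 13]⟩]⟩,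
 ⟨4, 10, 3839, [], [⟨1, 3838, []⟩], []⟩,
 ⟨7, 10, 3772, [8, 11, 13, 11, 12, 3, 1, 0, 2, 1, 3, 2, 0], [], [⟨1, 3771, [8, 11, 13, 11, 12]⟩, ⟨1, 40, []⟩, ⟨1, 46, []⟩, ⟨1, 46, []⟩, ⟨1, 68, []⟩, ⟨1, 121, [0, 8, 13, 11, 4, 11, 12, 7, 11]⟩, ⟨1, 87, []⟩, ⟨1, 86, []⟩, ⟨1, 90, []⟩, ⟨1, 86, []⟩, ⟨1, 569, [11, 2, 4, 12, 11, 12, 7, 12, 11]⟩]⟩,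
 ⟨4, 10, 3841, [], [⟨1, 3840, []⟩], []⟩,
 ⟨7, 10, 3772, [0, 13, 11, 4, 12, 11, 4, 3, 1, 0, 2, 1, 3, 2, 0], [], [⟨1, 3771, [0, 13, 11, 4, 12, 11, 4]⟩, ⟨1, 39, []⟩, ⟨1, 40, []⟩, ⟨1, 46, []⟩, ⟨1, 3768, [0, 11, 4, 12, 11, 13, 11, 4, 11, 13]⟩, ⟨1, 3787, [0, 4, 12, 7, 13, 11, 12, 8, 11, 12]⟩]⟩,
 ⟨4, 10, 3843, [], [⟨1, 3842, []⟩], []⟩,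
 ⟨7, 10, 3772, [7, 12, 11, 4, 13, 3, 1, 0, 2, 1, 3, 2, 0], [], [⟨1, 3771, [7, 12, 11, 4, 13]⟩, ⟨1, 42, []⟩, ⟨1, 41, []⟩, ⟨1, 40, []⟩, ⟨1, 46, []⟩, ⟨1, 68, []⟩, ⟨1, 370, [2, 12, 7, 13, 11, 4, 12, 11, 12]⟩, ⟨1, 134, []⟩, ⟨1, 135, []⟩, ⟨1, 134, []⟩, ⟨1, 2232, [4, 13, 11, 12, 8, 11, 4, 12, 11]⟩]⟩,
 ⟨4, 10, 3845, [], [⟨1, 3844, []⟩], []⟩,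
 ⟨7, 10, 3772, [12, 7, 11, 12, 13, 3, 1, 0, 2, 1, 3, 2, 0], [], [⟨1, 3771, [12, 7, 11, 12, 13]⟩, ⟨1, 43, []⟩, ⟨1, 41, []⟩, ⟨1, 40, []⟩, ⟨1, 777, [2, 11, 12, 11, 4, 11, 12, 7, 11]⟩, ⟨1, 570, [11, 4, 13, 11, 4, 12, 11, 12, 8, 12]⟩]⟩,
 ⟨4, 10, 3847, [], [⟨1, 3846, []⟩], []⟩,
 ⟨7, 10, 3772, [4, 11, 13, 11, 12, 3, 1, 0, 2, 1, 3, 2, 0], [], [⟨1, 3771, [4, 11, 13, 11, 12]⟩, ⟨1, 43, []⟩, ⟨1, 42, []⟩, ⟨1, 46, []⟩, ⟨1, 316, [8, 11, 12, 7, 11, 13, 11, 12, 8, 11]⟩, ⟨1, 134, []⟩, ⟨1, 135, []⟩, ⟨1, 134, []⟩, ⟨1, 3741, [0, 8, 12, 7, 11, 4, 13, 11, 4]⟩]⟩,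
 ⟨4, 10, 3849, [], [⟨1, 3848, []⟩], []⟩]
theorem chk78 : and2 (D.chkL PF78 3802) (Nat.beq (Nat.add 3802 PF78.length) 3850) = true := by decide +kernel

def PF79 : List DPf := [⟨7, 10, 3772, [0, 7, 12, 11, 4, 13, 3, 1, 0, 2, 1, 3, 2, 0], [], [⟨1, 3771, [0, 7, 12, 11, 4, 13]⟩, ⟨1, 42, []⟩, ⟨1, 41, []⟩, ⟨1, 40, []⟩, ⟨1, 46, []⟩, ⟨1, 599, [2, 4, 8, 11, 12, 13, 11, 4, 12, 7]⟩, ⟨1, 135, []⟩, ⟨1, 134, []⟩, ⟨1, 2580, [12, 7, 11, 2, 12, 7, 11, 12, 7, 11]⟩]⟩,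
 ⟨4, 10, 3851, [], [⟨1, 3850, []⟩], []⟩,
 ⟨7, 10, 3772, [4, 11, 13, 11, 4, 12, 3, 1, 0, 2, 1, 3, 2, 0], [], [⟨1, 3771, [4, 11, 13, 11, 4, 12]⟩, ⟨1, 43, []⟩, ⟨1, 41, []⟩, ⟨1, 40, []⟩, ⟨1, 46, []⟩, ⟨1, 68, []⟩, ⟨1, 68, []⟩, ⟨1, 3809, [8, 12, 11, 4, 12, 8, 13, 11, 12]⟩, ⟨1, 3770, []⟩, ⟨1, 3770, []⟩, ⟨1, 3777, []⟩, ⟨1, 3770, []⟩, ⟨1, 3777, []⟩, ⟨1, 3850, [12, 8, 12, 11, 2, 4]⟩]⟩,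
 ⟨4, 10, 3853, [], [⟨1, 3852, []⟩], []⟩,
 ⟨7, 10, 3772, [4, 8, 11, 4, 12, 13, 3, 1, 0, 2, 1, 3, 2, 0], [], [⟨1, 3771, [4, 8, 11, 4, 12, 13]⟩, ⟨1, 39, []⟩, ⟨1, 43, []⟩, ⟨1, 41, []⟩, ⟨1, 46, []⟩, ⟨1, 68, []⟩, ⟨1, 779, [11, 2, 4, 12, 8, 11, 12, 7, 11, 12]⟩, ⟨1, 2675, [4, 12, 11, 12, 8, 12, 11, 4, 12]⟩]⟩,
 ⟨4, 10, 3855, [], [⟨1, 3854, []⟩], []⟩,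
 ⟨7, 10, 3772, [0, 8, 11, 12, 13, 11, 4, 3, 1, 0, 2, 1, 3, 2, 0], [], [⟨1, 3771, [0, 8, 11, 12, 13, 11, 4]⟩, ⟨1, 39, []⟩, ⟨1, 42, []⟩, ⟨1, 583, [2, 4, 8, 11, 12, 8, 11, 12, 13]⟩, ⟨1, 1281, [0, 4, 8, 12, 13, 11, 4, 11, 12]⟩]⟩,
 ⟨4, 10, 3857, [], [⟨1, 3856, []⟩], []⟩,
 ⟨7, 10, 3772, [0, 7, 12, 13, 11, 12, 3, 1, 0, 2, 1, 3, 2, 0], [], [⟨1, 3771, [0, 7, 12, 13, 11, 12]⟩, ⟨1, 43, []⟩, ⟨1, 375, [0, 8, 11, 4, 11, 12, 7, 11, 13]⟩, ⟨1, 134, []⟩, ⟨1, 2914, [8, 11, 13, 11, 4, 11, 12, 13, 11]⟩]⟩,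
 ⟨4, 10, 3859, [], [⟨1, 3858, []⟩], []⟩,
 ⟨7, 10, 3772, [4, 8, 12, 3, 1, 0, 2, 1, 3, 2, 0], [], [⟨1, 3771, [4, 8, 12]⟩, ⟨1, 39, []⟩, ⟨1, 42, []⟩, ⟨1, 41, []⟩, ⟨1, 40, []⟩, ⟨1, 46, []⟩, ⟨1, 364, [7, 11, 12, 7, 13, 11, 4, 11, 13]⟩, ⟨1, 2793, [12, 13, 11, 4, 12, 11, 4, 13]⟩]⟩,
 ⟨4, 10, 3861, [], [⟨1, 3860, []⟩], []⟩,
 ⟨7, 10, 3772, [2, 11, 4, 12, 11, 4, 3, 1, 0, 2, 1, 3, 2, 0], [], [⟨1, 3771, [2, 11, 4, 12, 11, 4]⟩, ⟨1, 43, []⟩, ⟨1, 42, []⟩, ⟨1, 3748, [0, 4, 8, 11, 12, 8, 11, 12, 7, 13]⟩, ⟨1, 3749, []⟩, ⟨1, 3758, []⟩, ⟨1, 3750, []⟩, ⟨1, 3758, []⟩, ⟨1, 3758, []⟩, ⟨1, 3758, []⟩, ⟨1, 3749, []⟩, ⟨1, 3750, []⟩, ⟨1, 3758, []⟩, ⟨1, 3779,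 [4, 7, 12, 11, 4, 12, 11, 13, 11]⟩]⟩,
 ⟨4, 10, 3863, [], [⟨1, 3862, []⟩], []⟩,
 ⟨7, 10, 3772, [8, 11, 4, 13, 11, 12, 3, 1, 0, 2, 1, 3, 2, 0], [], [⟨1, 3771, [8, 11, 4, 13, 11, 12]⟩, ⟨1, 43, []⟩, ⟨1, 41, []⟩, ⟨1, 40, []⟩, ⟨1, 46, []⟩, ⟨1, 46, []⟩, ⟨1, 68, []⟩, ⟨1, 789, [2, 12, 8, 11, 12, 8, 11, 4, 12, 13]⟩, ⟨1, 135, []⟩, ⟨1, 134, []⟩, ⟨1, 2259, [7, 12, 11, 2, 12, 13, 11, 4, 11]⟩]⟩,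
 ⟨4, 10, 3865, [], [⟨1, 3864, []⟩], []⟩,
 ⟨8, 10, 3772, [0, 4, 7, 11, 13, 11, 12, 0, 2, 3, 4, 2, 1, 2, 0, 1, 3, 2, 0], [], [⟨1, 3771, [0, 4, 7, 11, 13, 11, 12]⟩, ⟨1, 39, []⟩, ⟨1, 42, []⟩, ⟨1, 41, []⟩, ⟨1, 160, [2, 4, 11, 12, 8, 11, 4, 11, 13]⟩, ⟨1, 134, []⟩, ⟨1, 135, []⟩, ⟨1, 134, []⟩, ⟨1, 3097, [8, 13, 11, 12, 8, 11, 12, 11, 13]⟩]⟩,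
 ⟨4, 10, 3867, [], [⟨1, 3866, []⟩], []⟩,
 ⟨8, 10, 3772, [7, 12, 8, 13, 11, 12, 0, 2, 3, 4, 2, 1, 2, 0, 1, 3, 2, 0], [], [⟨1, 3771, [7, 12, 8, 13, 11, 12]⟩, ⟨1, 39, []⟩, ⟨1, 43, []⟩, ⟨1, 41, []⟩, ⟨1, 40, []⟩, ⟨1, 68, []⟩, ⟨1, 599, [2, 11, 12, 7, 11, 12, 8, 11, 12, 8]⟩, ⟨1, 135, []⟩, ⟨1, 3801, [4, 8, 11, 12, 8, 11, 12]⟩]⟩,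
 ⟨4, 10, 3869, [], [⟨1, 3868, []⟩], []⟩,
 ⟨8, 10, 3772, [8, 11, 4, 13, 11, 12, 0, 2, 3, 4, 2, 1, 2, 0, 1, 3, 2, 0], [], [⟨1, 3771, [8, 11, 4, 13, 11, 12]⟩, ⟨1, 39, []⟩, ⟨1, 43, []⟩, ⟨1, 42, []⟩, ⟨1, 41, []⟩, ⟨1, 46, []⟩, ⟨1, 68, []⟩, ⟨1, 146, [2, 8, 13, 11, 4, 12, 11, 12, 8, 12]⟩, ⟨1, 135, []⟩, ⟨1, 2337, [2, 4, 12, 11, 4, 12, 7]⟩]⟩,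
 ⟨4, 10, 3871, [], [⟨1, 3870, []⟩], []⟩,
 ⟨16, 10, 3772, [7, 0, 2, 6, 2, 0, 2, 0], [], [⟨1, 3771, [7]⟩, ⟨1, 43, []⟩, ⟨1, 42, []⟩, ⟨1, 41, []⟩, ⟨1, 46, []⟩, ⟨1, 46, []⟩, ⟨1, 68, []⟩, ⟨1, 160, [7, 12, 11, 12, 8, 13, 11]⟩]⟩,
 ⟨4, 10, 3873, [], [⟨1, 3872, []⟩], []⟩,
 ⟨17, 10, 3772, [7, 11, 13, 5, 5, 3, 6, 6, 2, 0], [], [⟨1, 3771, [7, 11, 13]⟩, ⟨1, 57, [7, 11, 4, 12, 13, 11, 12, 7]⟩, ⟨1, 41, []⟩, ⟨1, 3768, [4, 8, 12, 11, 4, 12, 13, 11, 4, 12]⟩]⟩,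
 ⟨17, 10, 3772, [8, 11, 4, 12, 13, 5, 5, 3, 6, 6, 2, 0], [], [⟨1, 3771, [8, 11, 4, 12, 13]⟩, ⟨1, 43, []⟩, ⟨1, 41, []⟩, ⟨1, 160, [2, 12, 7, 12, 11, 4]⟩, ⟨1, 1118, [11, 4, 11, 12, 13, 11, 4, 11, 12, 8, 13]⟩]⟩,
 ⟨4, 10, 3876, [], [⟨1, 3875, []⟩], []⟩,
 ⟨7, 4, 138, [0, 7, 11, 13, 11, 4, 12, 3, 1, 0, 2, 1, 3, 2, 0], [], [⟨1, 137, [0, 7, 11, 13, 11, 4, 12]⟩, ⟨1, 134, []⟩, ⟨1, 135, []⟩, ⟨1, 2867, [0, 8, 13, 11, 12, 7, 11, 13]⟩, ⟨1, 3807, [0, 4, 12, 11, 12, 13, 11, 4, 12]⟩]⟩,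
 ⟨4, 4, 3878, [], [⟨1, 3877, []⟩], []⟩,
 ⟨7, 6, 141, [0, 13, 3, 1, 0, 2, 1, 3, 2, 0], [], [⟨1, 140, [0, 13]⟩, ⟨1, 87, []⟩, ⟨1, 90, []⟩, ⟨1, 86, []⟩, ⟨1, 711, [0, 8, 12, 11, 4, 12, 13, 11, 4, 11, 12]⟩, ⟨1, 3807, [2, 13, 11, 12, 7, 11, 12, 8, 13]⟩]⟩,
 ⟨4, 6, 3880, [], [⟨1, 3879, []⟩], []⟩,
 ⟨7, 5, 100, [0, 11, 12, 8, 13, 11, 12, 3, 1, 0, 2, 1, 3, 2, 0], [], [⟨1, 99, [0, 11, 12, 8, 13, 11, 12]⟩, ⟨1, 86, []⟩, ⟨1, 87, []⟩, ⟨1, 90, []⟩, ⟨1, 90, []⟩, ⟨1, 86, []⟩, ⟨1, 635, [12, 13, 11, 4, 11, 12, 7, 12]⟩, ⟨1, 135, []⟩, ⟨1, 134, []⟩, ⟨1, 3807, [8, 11, 12, 8]⟩]⟩,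
 ⟨4, 5, 3882, [], [⟨1, 3881, []⟩], []⟩,
 ⟨7, 5, 142, [4, 7, 11, 12, 13, 3, 1, 0, 2, 1, 3, 2, 0], [], [⟨1, 141, [4, 7, 11, 12, 13]⟩, ⟨1, 134, []⟩, ⟨1, 135, []⟩, ⟨1, 2869, [2, 7, 11, 4, 11, 4]⟩, ⟨1, 135, []⟩, ⟨1, 134, []⟩, ⟨1, 3807, [7, 12, 11, 4, 11, 4, 13, 11]⟩]⟩,
 ⟨4, 5, 3884, [], [⟨1, 3883, []⟩], []⟩,
 ⟨8, 5, 142, [0, 8, 11, 13, 11, 4, 12, 0, 2, 3, 4, 2, 1, 2, 0, 1, 3, 2, 0], [], [⟨1, 141, [0, 8, 11, 13, 11, 4, 12]⟩, ⟨1, 134, []⟩, ⟨1, 1007, [8, 11, 2, 12, 8, 11, 4, 11, 13]⟩, ⟨1, 134, []⟩, ⟨1, 3825, [7, 13, 11, 12, 11, 12, 8, 12]⟩]⟩,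
 ⟨4, 5, 3886, [], [⟨1, 3885, []⟩], []⟩,
 ⟨7, 6, 187, [7, 11, 13, 11, 4, 12, 3, 1, 0, 2, 1, 3, 2, 0], [], [⟨1, 186, [7, 11, 13, 11, 4, 12]⟩, ⟨1, 134, []⟩, ⟨1, 135, []⟩, ⟨1, 1115, [8, 13, 11, 12, 7, 11, 13]⟩, ⟨1, 3807, [4, 8, 12, 11, 12, 7, 11, 13]⟩]⟩,
 ⟨4, 6, 3888, [], [⟨1, 3887, []⟩], []⟩,
 ⟨8, 6, 188, [12, 13, 11, 12, 0, 2, 3, 4, 2, 1, 2, 0, 1, 3, 2, 0], [], [⟨1, 187, [12, 13, 11, 12]⟩, ⟨1, 135, []⟩, ⟨1, 210, [4, 11, 12, 11, 13, 11, 4, 11, 12, 7]⟩, ⟨1, 86, []⟩, ⟨1, 90, []⟩, ⟨1, 87, []⟩, ⟨1, 90, []⟩, ⟨1, 3881, [2, 4, 12, 11, 4, 11, 12, 8, 11, 13]⟩]⟩,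
 ⟨4, 6, 3890, [], [⟨1, 3889, []⟩], []⟩,
 ⟨7, 8, 3577, [2, 7, 12, 11, 12, 3, 1, 0, 2, 1, 3, 2, 0], [], [⟨1, 3576, [2, 7, 12, 11, 12]⟩, ⟨1, 3271, []⟩, ⟨1, 3268, []⟩, ⟨1, 3271, []⟩, ⟨1, 3268, []⟩, ⟨1, 3271, []⟩, ⟨1, 3560, [11, 2, 4, 12, 8, 11, 12, 11, 13]⟩, ⟨1, 135, []⟩, ⟨1, 3839, [2, 7, 12, 11, 4, 11, 4, 13, 11, 4]⟩]⟩,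
 ⟨4, 8, 3892, [], [⟨1, 3891, []⟩], []⟩,
 ⟨7, 8, 3578, [0, 11, 12, 7, 11, 12, 13, 3, 1, 0, 2, 1, 3, 2, 0], [], [⟨1, 3577, [0, 11, 12, 7, 11, 12, 13]⟩, ⟨1, 3268, []⟩, ⟨1, 3271, []⟩, ⟨1, 3268, []⟩, ⟨1, 3271, []⟩, ⟨1, 3268, []⟩, ⟨1, 3271, []⟩, ⟨1, 3268, []⟩, ⟨1, 3271, []⟩, ⟨1, 3268, []⟩, ⟨1, 3271, []⟩, ⟨1, 3273, []⟩, ⟨1, 3273, []⟩, ⟨1, 3620, [2, 4, 12, 8, 11, 13, 11, 4, 12, 11, 12]⟩, ⟨1, 134, []⟩, ⟨1, 135, []⟩, ⟨1, 3839, [0, 8, 12, 11, 13, 11, 12, 8, 12]⟩]⟩,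
 ⟨4, 8, 3894, [], [⟨1, 3893, []⟩], []⟩,
 ⟨8, 8, 3578, [4, 7, 11, 13, 11, 12, 0, 2, 3, 4, 2, 1, 2, 0, 1, 3, 2, 0], [], [⟨1, 3577, [4, 7, 11, 13, 11, 12]⟩, ⟨1, 3271, []⟩, ⟨1, 3268, []⟩, ⟨1, 3271, []⟩, ⟨1, 3268, []⟩, ⟨1, 3273, []⟩, ⟨1, 3585, [8, 12, 7, 11, 4, 11, 12, 13, 11, 4]⟩, ⟨1, 3268, []⟩, ⟨1, 3271, []⟩, ⟨1, 3268, []⟩, ⟨1, 3273, []⟩, ⟨1, 3891, [2, 11, 4, 12, 11, 12, 7, 13, 11]⟩]⟩,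
 ⟨4, 8, 3896, [], [⟨1, 3895, []⟩], []⟩]
theorem chk79 : and2 (D.chkL PF79 3850) (Nat.beq (Nat.add 3850 PF79.length) 3897) = true := by decide +kernel

end H19.Th.DC
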