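import Mathlib
import Cfsg.Agent.H19.Th.DC.B

set_option autoImplicit false
set_option maxRecDepth 100000
set_option Elab.async false
set_option linter.all false

namespace H19.Th.DC
open H29

def PF80 : List DPf := [⟨12, 8, 3578, [8, 11, 13, 11, 4, 12, 0, 2, 3, 1, 0, 2, 1, 2, 4, 3, 2, 0, 2, 0], [], [⟨1, 3577, [8, 11, 13, 11, 4, 12]⟩, ⟨1, 3268, []⟩, ⟨1, 3271, []⟩, ⟨1, 3268, []⟩, ⟨1, 3271, []⟩, ⟨1, 3268, []⟩, ⟨1, 3271, []⟩, ⟨1, 3684, [8, 11, 2, 12, 7, 11, 4, 11, 13]⟩, ⟨1, 135, []⟩, ⟨1, 3807, [12, 7, 12, 11, 13, 11, 4, 11, 12]⟩]⟩,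
 ⟨4, 8, 3898, [], [⟨1, 3897, []⟩], []⟩,
 ⟨8, 7, 3393, [4, 7, 11, 13, 11, 12, 0, 2, 3, 4, 2, 1, 2, 0, 1, 3, 2, 0], [], [⟨1, 3392, [4, 7, 11, 13, 11, 12]⟩, ⟨1, 3628, [0, 8, 12, 13, 11, 4, 11]⟩, ⟨1, 135, []⟩, ⟨1, 134, []⟩, ⟨1, 3889, [7, 12, 11, 4, 11, 4, 12, 13, 11, 4, 11, 13]⟩]⟩,
 ⟨4, 7, 3900, [], [⟨1, 3899, []⟩], []⟩,
 ⟨8, 7, 3393, [11, 4, 12, 11, 4, 0, 2, 3, 4, 2, 1, 2, 0, 1, 3, 2, 0], [], [⟨1, 3392, [11, 4, 12, 11, 4]⟩, ⟨1, 3268, []⟩, ⟨1, 3584, [0, 11, 4, 11, 12, 8, 13, 11, 4, 11, 4]⟩, ⟨1, 3268, []⟩, ⟨1, 3271, []⟩, ⟨1, 3268, []⟩, ⟨1, 3271, []⟩, ⟨1, 3268, []⟩, ⟨1, 3271, []⟩, ⟨1, 3268, []⟩, ⟨1, 3271, []⟩, ⟨1, 3268, []⟩, ⟨1, 3271, []⟩,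 ⟨1, 3268, []⟩, ⟨1, 3271, []⟩, ⟨1, 3268, []⟩, ⟨1, 3273, []⟩, ⟨1, 3273, []⟩, ⟨1, 3891, [2, 4, 8, 11, 13, 11, 4, 12, 11, 4]⟩]⟩,
 ⟨4, 7, 3902, [], [⟨1, 3901, []⟩], []⟩,
 ⟨13, 8, 3394, [11, 4, 12, 11, 4, 0, 2, 3, 1, 2, 0, 1, 3, 2, 0], [], [⟨1, 3393, [11, 4, 12, 11, 4]⟩, ⟨1, 2978, []⟩, ⟨1, 2977, []⟩, ⟨1, 2990, []⟩, ⟨1, 3070, [0, 11, 4, 11, 12, 8, 12, 11, 4, 12, 8]⟩, ⟨1, 87, []⟩, ⟨1, 86, []⟩, ⟨1, 90, []⟩, ⟨1, 86, []⟩, ⟨1, 3885, [11, 2, 12, 7, 12, 11, 13, 11]⟩]⟩,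
 ⟨4, 8, 3904, [], [⟨1, 3903, []⟩], []⟩,
 ⟨7, 6, 2999, [13, 11, 4, 12, 11, 4, 3, 1, 0, 2, 1, 3, 2, 0], [], [⟨1, 2998, [13, 11, 4, 12, 11, 4]⟩, ⟨1, 2978, []⟩, ⟨1, 2978, []⟩, ⟨1, 2990, []⟩, ⟨1, 2977, []⟩, ⟨1, 2990, []⟩, ⟨1, 3641, [4, 7, 12, 11, 13, 11, 12, 7, 11]⟩, ⟨1, 3268, []⟩, ⟨1, 3271, []⟩, ⟨1, 3895, [2, 7, 12, 11, 4, 11, 12, 8]⟩]⟩,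
 ⟨4, 6, 3906, [], [⟨1, 3905, []⟩], []⟩,
 ⟨7, 6, 2999, [0, 8, 11, 4, 13, 11, 12, 3, 1, 0, 2, 1, 3, 2, 0], [], [⟨1, 2998, [0, 8, 11, 4, 13, 11, 12]⟩, ⟨1, 2978, []⟩, ⟨1, 2978, []⟩, ⟨1, 2977, []⟩, ⟨1, 2981, []⟩, ⟨1, 2990, []⟩, ⟨1, 2990, []⟩, ⟨1, 2981, []⟩, ⟨1, 3044, [4, 11, 2, 4, 13, 11, 12, 7]⟩, ⟨1, 134, []⟩, ⟨1, 135, []⟩, ⟨1, 3815, [2, 8, 11, 12, 8, 11, 4, 12, 11]⟩]⟩,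
 ⟨4, 6, 3908, [], [⟨1, 3907, []⟩], []⟩,
 ⟨7, 6, 2999, [0, 4, 8, 11, 13, 11, 12, 3, 1, 0, 2, 1, 3, 2, 0], [], [⟨1, 2998, [0, 4, 8, 11, 13, 11, 12]⟩, ⟨1, 2978, []⟩, ⟨1, 2978, []⟩, ⟨1, 2977, []⟩, ⟨1, 2981, []⟩, ⟨1, 2990, []⟩, ⟨1, 2977, []⟩, ⟨1, 3184, [12, 8, 11, 12, 7, 13, 11, 4, 11]⟩, ⟨1, 135, []⟩, ⟨1, 134, []⟩, ⟨1, 3837, [4, 12, 11, 13, 11, 12, 8, 11, 12]⟩]⟩,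
 ⟨4, 6, 3910, [], [⟨1, 3909, []⟩], []⟩,
 ⟨7, 6, 2999, [4, 7, 12, 13, 11, 12, 3, 1, 0, 2, 1, 3, 2, 0], [], [⟨1, 2998, [4, 7, 12, 13, 11, 12]⟩, ⟨1, 2978, []⟩, ⟨1, 2978, []⟩, ⟨1, 2977, []⟩, ⟨1, 2981, []⟩, ⟨1, 2990, []⟩, ⟨1, 2990, []⟩, ⟨1, 2981, []⟩, ⟨1, 3046, [4, 12, 11, 13, 11, 12, 11, 4]⟩, ⟨1, 86, []⟩, ⟨1, 90, []⟩, ⟨1, 3795, [2, 8, 11, 4, 11, 12, 13, 11, 4, 12]⟩]⟩,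
 ⟨4, 6, 3912, [], [⟨1, 3911, []⟩], []⟩,
 ⟨7, 6, 2999, [4, 12, 8, 11, 12, 3, 1, 0, 2, 1, 3, 2, 0], [], [⟨1, 2998, [4, 12, 8, 11, 12]⟩, ⟨1, 2978, []⟩, ⟨1, 2978, []⟩, ⟨1, 2981, []⟩, ⟨1, 2990, []⟩, ⟨1, 2981, []⟩, ⟨1, 2981, []⟩, ⟨1, 3114, [2, 12, 11, 12, 7, 13, 11, 12, 8, 12]⟩, ⟨1, 135, []⟩, ⟨1, 134, []⟩, ⟨1, 3839, [12, 8, 11, 4, 12, 13, 11, 4, 12, 11]⟩]⟩,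
 ⟨4, 6, 3914, [], [⟨1, 3913, []⟩], []⟩,
 ⟨7, 6, 2999, [12, 13, 11, 12, 11, 4, 3, 1, 0, 2, 1, 3, 2, 0], [], [⟨1, 2998, [12, 13, 11, 12, 11, 4]⟩, ⟨1, 2977, []⟩, ⟨1, 2981, []⟩, ⟨1, 2990, []⟩, ⟨1, 2990, []⟩, ⟨1, 2981, []⟩, ⟨1, 3022, [12, 8, 13, 11, 2, 4, 11, 12, 8]⟩, ⟨1, 86, []⟩, ⟨1, 87, []⟩, ⟨1, 90, []⟩, ⟨1, 90, []⟩, ⟨1, 3883, [7, 12, 11, 4, 12, 7]⟩]⟩,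
 ⟨4, 6, 3916, [], [⟨1, 3915, []⟩], []⟩,
 ⟨8, 6, 2999, [11, 4, 13, 11, 12, 0, 2, 3, 4, 2, 1, 2, 0, 1, 3, 2, 0], [], [⟨1, 2998, [11, 4, 13, 11, 12]⟩, ⟨1, 3014, [4, 7, 11, 4, 11, 13, 11, 12, 7, 11, 4]⟩, ⟨1, 87, []⟩, ⟨1, 90, []⟩, ⟨1, 90, []⟩, ⟨1, 86, []⟩, ⟨1, 3883, [13, 11, 12, 7, 11, 12, 7, 11]⟩]⟩,
 ⟨4, 6, 3918, [], [⟨1, 3917, []⟩], []⟩,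
 ⟨8, 6, 2999, [0, 7, 11, 12, 13, 11, 4, 0, 2, 3, 4, 2, 1, 2, 0, 1, 3, 2, 0], [], [⟨1, 2998, [0, 7, 11, 12, 13, 11, 4]⟩, ⟨1, 2978, []⟩, ⟨1, 2981, []⟩, ⟨1, 2990, []⟩, ⟨1, 2977, []⟩, ⟨1, 3050, [7, 11, 12, 11]⟩, ⟨1, 87, []⟩, ⟨1, 86, []⟩, ⟨1, 90, []⟩, ⟨1, 90, []⟩, ⟨1, 90, []⟩, ⟨1, 3881, [12, 8, 12, 13, 11, 12, 7, 11, 12, 11]⟩]⟩,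
 ⟨4, 6, 3920, [], [⟨1, 3919, []⟩], []⟩,
 ⟨8, 6, 2999, [7, 12, 7, 11, 13, 11, 12, 0, 2, 3, 4, 2, 1, 2, 0, 1, 3, 2, 0], [], [⟨1, 2998, [7, 12, 7, 11, 13, 11, 12]⟩, ⟨1, 2978, []⟩, ⟨1, 2977, []⟩, ⟨1, 2990, []⟩, ⟨1, 2990, []⟩, ⟨1, 3014, [12, 8, 11, 12, 7, 11, 4, 12]⟩, ⟨1, 87, []⟩, ⟨1, 90, []⟩, ⟨1, 86, []⟩, ⟨1, 90, []⟩, ⟨1, 3885, [11, 4, 12, 11, 12, 13, 11]⟩]⟩,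
 ⟨4, 6, 3922, [], [⟨1, 3921, []⟩], []⟩,
 ⟨12, 6, 2999, [2, 4, 8, 11, 12, 0, 2, 3, 1, 0, 2, 1, 2, 4, 3, 2, 0, 2, 0], [], [⟨1, 2998, [2, 4, 8, 11, 12]⟩, ⟨1, 2978, []⟩, ⟨1, 2990, []⟩, ⟨1, 2977, []⟩, ⟨1, 3114, [4, 11, 12, 8, 13, 11, 4, 12, 11]⟩, ⟨1, 135, []⟩, ⟨1, 134, []⟩, ⟨1, 3839, [12, 7, 11, 12, 8, 12, 11, 4, 11]⟩]⟩,
 ⟨4, 6, 3924, [], [⟨1, 3923, []⟩], []⟩,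
 ⟨12, 6, 2999, [0, 4, 12, 13, 11, 4, 0, 2, 3, 1, 0, 2, 1, 2, 4, 3, 2, 0, 2, 0], [], [⟨1, 2998, [0, 4, 12, 13, 11, 4]⟩, ⟨1, 2981, []⟩, ⟨1, 2990, []⟩, ⟨1, 2977, []⟩, ⟨1, 3244, [0, 12, 11, 4, 12, 8, 11, 13, 11, 12]⟩, ⟨1, 135, []⟩, ⟨1, 3889, [0, 4, 7, 13, 11, 4, 12, 11, 4, 11]⟩]⟩,
 ⟨4, 6, 3926, [], [⟨1, 3925, []⟩], []⟩,
 ⟨12, 6, 2999, [7, 13, 11, 12, 0, 2, 3, 1, 0, 2, 1, 2, 4, 3, 2, 0, 2, 0], [], [⟨1, 2998, [7, 13, 11, 12]⟩, ⟨1, 3641, [2, 4, 11, 4, 11]⟩, ⟨1, 3268, []⟩, ⟨1, 3903, [0, 7, 11, 13, 11, 12, 8, 11, 4]⟩]⟩,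
 ⟨4, 6, 3928, [], [⟨1, 3927, []⟩], []⟩,
 ⟨12, 6, 2999, [4, 11, 4, 11, 12, 13, 0, 2, 3, 1, 0, 2, 1, 2, 4, 3, 2, 0, 2, 0], [], [⟨1, 2998, [4, 11, 4, 11, 12, 13]⟩, ⟨1, 3194, [11, 4, 12, 8, 11, 12, 8, 11, 13]⟩, ⟨1, 134, []⟩, ⟨1, 135, []⟩, ⟨1, 134, []⟩, ⟨1, 3917, [0, 7, 12, 8, 11, 13, 11, 12]⟩]⟩,
 ⟨4, 6, 3930, [], [⟨1, 3929, []⟩], []⟩,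
 ⟨13, 6, 2999, [11, 4, 12, 13, 11, 4, 12, 0, 2, 3, 1, 2, 0, 1, 3, 2, 0], [], [⟨1, 2998, [11, 4, 12, 13, 11, 4, 12]⟩, ⟨1, 3044, [2, 4, 11, 12, 11, 4, 12, 8]⟩, ⟨1, 134, []⟩, ⟨1, 135, []⟩, ⟨1, 3915, [4, 12, 11, 2, 12, 13, 11, 4, 11]⟩]⟩,
 ⟨4, 6, 3932, [], [⟨1, 3931, []⟩], []⟩,
 ⟨13, 6, 2999, [4, 12, 13, 11, 12, 0, 2, 3, 1, 2, 0, 1, 3, 2, 0], [], [⟨1, 2998, [4, 12, 13, 11, 12]⟩, ⟨1, 2978, []⟩, ⟨1, 2978, []⟩, ⟨1, 2977, []⟩, ⟨1, 3010, [7, 11, 12, 11, 12, 7]⟩, ⟨1, 90, []⟩, ⟨1, 87, []⟩, ⟨1, 3881, [2, 12, 11, 12, 8, 13, 11, 12, 8]⟩]⟩,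
 ⟨4, 6, 3934, [], [⟨1, 3933, []⟩], []⟩,
 ⟨8, 7, 3000, [12, 8, 12, 11, 4, 12, 0, 2, 3, 4, 2, 1, 2, 0, 1, 3, 2, 0], [], [⟨1, 2999, [12, 8, 12, 11, 4, 12]⟩, ⟨1, 135, []⟩, ⟨1, 134, []⟩, ⟨1, 995, [12, 7, 12, 11, 4, 12, 7, 11, 13]⟩, ⟨1, 134, []⟩, ⟨1, 135, []⟩, ⟨1, 3833, [0, 12, 13, 11, 12, 7, 12, 11, 4]⟩]⟩,
 ⟨4, 7, 3936, [], [⟨1, 3935, []⟩], []⟩,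
 ⟨8, 7, 3000, [2, 11, 12, 11, 4, 0, 2, 3, 4, 2, 1, 2, 0, 1, 3, 2, 0], [], [⟨1, 2999, [2, 11, 12, 11, 4]⟩, ⟨1, 135, []⟩, ⟨1, 134, []⟩, ⟨1, 995, [4, 11, 13, 11, 12, 11, 12, 7]⟩, ⟨1, 135, []⟩, ⟨1, 3911, [11, 12, 7, 12, 13, 11, 12, 8, 11, 13]⟩]⟩,
 ⟨4, 7, 3938, [], [⟨1, 3937, []⟩], []⟩,
 ⟨13, 7, 3000, [0, 7, 12, 13, 0, 2, 3, 1, 2, 0, 1, 3, 2, 0], [], [⟨1, 2999, [0, 7, 12, 13]⟩, ⟨1, 3043, [2, 4, 7, 13, 11, 12, 11, 4, 13]⟩, ⟨1, 2978, []⟩, ⟨1, 2981, []⟩, ⟨1, 2981, []⟩, ⟨1, 2990, []⟩, ⟨1, 2977, []⟩, ⟨1, 3901, [11, 12, 8, 13, 11, 12, 7, 11, 12]⟩]⟩,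
 ⟨4, 7, 3940, [], [⟨1, 3939, []⟩], []⟩,
 ⟨7, 5, 2997, [12, 13, 11, 12, 3, 1, 0, 2, 1, 3, 2, 0], [], [⟨1, 2996, [12, 13, 11, 12]⟩, ⟨1, 2978, []⟩, ⟨1, 2981, []⟩, ⟨1, 2990, []⟩, ⟨1, 2981, []⟩, ⟨1, 2981, []⟩, ⟨1, 3032, [12, 8, 12, 11, 12, 8, 11, 13, 11]⟩, ⟨1, 86, []⟩, ⟨1, 90, []⟩, ⟨1, 90, []⟩, ⟨1, 90, []⟩, ⟨1, 86, []⟩, ⟨1, 3885, [8, 12, 7, 11, 12, 8]⟩]⟩,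
 ⟨4, 5, 3942, [], [⟨1, 3941, []⟩], []⟩]
theorem chk80 : and2 (D.chkL PF80 3897) (Nat.beq (Nat.add 3897 PF80.length) 3943) = true := by decide +kernel

def PF81 : List DPf := [⟨7, 5, 2997, [0, 12, 13, 11, 12, 3, 1, 0, 2, 1, 3, 2, 0], [], [⟨1, 2996, [0, 12, 13, 11, 12]⟩, ⟨1, 2977, []⟩, ⟨1, 2981, []⟩, ⟨1, 2981, []⟩, ⟨1, 2990, []⟩, ⟨1, 2981, []⟩, ⟨1, 3008, [7, 11, 12, 7, 13, 11, 12]⟩, ⟨1, 86, []⟩, ⟨1, 90, []⟩, ⟨1, 3885, [8, 11, 12, 7, 13, 11, 12, 8, 12, 11]⟩]⟩,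
 ⟨4, 5, 3944, [], [⟨1, 3943, []⟩], []⟩,
 ⟨7, 5, 2997, [0, 4, 12, 13, 11, 12, 3, 1, 0, 2, 1, 3, 2, 0], [], [⟨1, 2996, [0, 4, 12, 13, 11, 12]⟩, ⟨1, 2978, []⟩, ⟨1, 2977, []⟩, ⟨1, 2990, []⟩, ⟨1, 2981, []⟩, ⟨1, 3010, [11, 2, 4, 12, 11, 12, 13, 11]⟩, ⟨1, 87, []⟩, ⟨1, 90, []⟩, ⟨1, 90, []⟩, ⟨1, 86, []⟩, ⟨1, 3885, [0, 12, 13, 11, 12, 8, 11, 12]⟩]⟩,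
 ⟨4, 5, 3946, [], [⟨1, 3945, []⟩], []⟩,
 ⟨8, 5, 2997, [4, 11, 4, 12, 0, 2, 3, 4, 2, 1, 2, 0, 1, 3, 2, 0], [], [⟨1, 2996, [4, 11, 4, 12]⟩, ⟨1, 2978, []⟩, ⟨1, 2990, []⟩, ⟨1, 2977, []⟩, ⟨1, 3070, [11, 12, 7, 13, 11, 4, 12, 11]⟩, ⟨1, 87, []⟩, ⟨1, 86, []⟩, ⟨1, 90, []⟩, ⟨1, 86, []⟩, ⟨1, 3885, [0, 2, 7, 13]⟩]⟩,
 ⟨4, 5, 3948, [], [⟨1, 3947, []⟩], []⟩,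
 ⟨12, 5, 2997, [11, 4, 13, 11, 4, 12, 11, 12, 0, 2, 3, 1, 0, 2, 1, 2, 4, 3, 2, 0, 2, 0], [], [⟨1, 2996, [11, 4, 13, 11, 4, 12, 11, 12]⟩, ⟨1, 2978, []⟩, ⟨1, 2978, []⟩, ⟨1, 2981, []⟩, ⟨1, 2981, []⟩, ⟨1, 2990, []⟩, ⟨1, 2977, []⟩, ⟨1, 2990, []⟩, ⟨1, 3050, [0, 4, 7, 11, 12, 8, 11, 12, 8, 13]⟩, ⟨1, 86, []⟩, ⟨1, 90, []⟩, ⟨1, 86, []⟩, ⟨1, 3947, [4, 7, 12, 8, 11, 2, 13, 11, 12, 7]⟩]⟩,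
 ⟨4, 5, 3950, [], [⟨1, 3949, []⟩], []⟩,
 ⟨13, 5, 2997, [8, 11, 12, 11, 4, 0, 2, 3, 1, 2, 0, 1, 3, 2, 0], [], [⟨1, 2996, [8, 11, 12, 11, 4]⟩, ⟨1, 2978, []⟩, ⟨1, 2978, []⟩, ⟨1, 3265, [0, 12, 8, 12, 11, 12, 8, 12, 11, 12]⟩, ⟨1, 2977, []⟩, ⟨1, 3935, [0, 7, 12, 8, 11, 12, 8, 11, 4, 12]⟩]⟩,
 ⟨4, 5, 3952, [], [⟨1, 3951, []⟩], []⟩,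
 ⟨13, 5, 2997, [7, 11, 4, 13, 11, 12, 0, 2, 3, 1, 2, 0, 1, 3, 2, 0], [], [⟨1, 2996, [7, 11, 4, 13, 11, 12]⟩, ⟨1, 2978, []⟩, ⟨1, 3032, [4, 7, 11, 4, 11, 13, 11, 12, 7, 11, 13]⟩, ⟨1, 86, []⟩, ⟨1, 90, []⟩, ⟨1, 90, []⟩, ⟨1, 90, []⟩, ⟨1, 86, []⟩, ⟨1, 3885, [4, 11, 12, 7, 12, 13, 11, 4, 12, 11]⟩]⟩,
 ⟨4, 5, 3954, [], [⟨1, 3953, []⟩], []⟩,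
 ⟨13, 5, 2997, [7, 12, 8, 11, 12, 0, 2, 3, 1, 2, 0, 1, 3, 2, 0], [], [⟨1, 2996, [7, 12, 8, 11, 12]⟩, ⟨1, 2978, []⟩, ⟨1, 2978, []⟩, ⟨1, 3265, [0, 4, 13, 11, 12, 11, 12, 13, 11, 4]⟩, ⟨1, 2978, []⟩, ⟨1, 2990, []⟩, ⟨1, 2990, []⟩, ⟨1, 3935, [0, 12, 13, 11, 12, 8, 11, 12, 7]⟩]⟩,
 ⟨4, 5, 3956, [], [⟨1, 3955, []⟩], []⟩,
 ⟨8, 7, 2998, [0, 4, 7, 11, 12, 13, 0, 2, 3, 4, 2, 1, 2, 0, 1, 3, 2, 0], [], [⟨1, 2997, [0, 4, 7, 11, 12, 13]⟩, ⟨1, 3473, [12, 8, 12, 13, 11, 12, 8, 11, 12]⟩, ⟨1, 3268, []⟩, ⟨1, 3271, []⟩, ⟨1, 3268, []⟩, ⟨1, 3271, []⟩, ⟨1, 3268, []⟩, ⟨1, 3271, []⟩, ⟨1, 3268, []⟩, ⟨1, 3271, []⟩, ⟨1, 3891, [2, 7, 12, 8, 11, 4, 12, 11, 4, 11]⟩]⟩,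
 ⟨4, 7, 3958, [], [⟨1, 3957, []⟩], []⟩,
 ⟨5, 5, 2995, [7, 12, 13, 3, 2, 0], [], [⟨1, 2994, [7, 12, 13]⟩, ⟨1, 2981, []⟩, ⟨1, 2990, []⟩, ⟨1, 2990, []⟩, ⟨1, 2981, []⟩, ⟨1, 3054, [0, 2, 12, 8, 12, 13]⟩, ⟨1, 86, []⟩, ⟨1, 87, []⟩, ⟨1, 86, []⟩, ⟨1, 90, []⟩, ⟨1, 90, []⟩, ⟨1, 3943, [2, 12, 7, 11, 12, 11, 4, 13]⟩]⟩,
 ⟨4, 5, 3960, [], [⟨1, 3959, []⟩], []⟩,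
 ⟨7, 5, 2995, [8, 12, 11, 4, 12, 3, 1, 0, 2, 1, 3, 2, 0], [], [⟨1, 2994, [8, 12, 11, 4, 12]⟩, ⟨1, 2978, []⟩, ⟨1, 2978, []⟩, ⟨1, 2981, []⟩, ⟨1, 2990, []⟩, ⟨1, 2977, []⟩, ⟨1, 3170, [7, 11, 2, 12, 8, 12, 13]⟩, ⟨1, 134, []⟩, ⟨1, 135, []⟩, ⟨1, 134, []⟩, ⟨1, 3819, [2, 12, 7, 11, 12, 11, 4, 12, 8, 13, 11]⟩]⟩,
 ⟨4, 5, 3962, [], [⟨1, 3961, []⟩], []⟩,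
 ⟨7, 5, 2995, [12, 11, 13, 11, 4, 12, 3, 1, 0, 2, 1, 3, 2, 0], [], [⟨1, 2994, [12, 11, 13, 11, 4, 12]⟩, ⟨1, 2978, []⟩, ⟨1, 2981, []⟩, ⟨1, 3250, [0, 11, 12, 7, 13, 11, 4, 11, 12, 13]⟩, ⟨1, 135, []⟩, ⟨1, 3915, [2, 8, 11, 4, 11, 12, 7, 11, 4, 12, 13]⟩]⟩,
 ⟨4, 5, 3964, [], [⟨1, 3963, []⟩], []⟩,
 ⟨8, 5, 2995, [4, 7, 13, 11, 4, 12, 0, 2, 3, 4, 2, 1, 2, 0, 1, 3, 2, 0], [], [⟨1, 2994, [4, 7, 13, 11, 4, 12]⟩, ⟨1, 2981, []⟩, ⟨1, 2990, []⟩, ⟨1, 2990, []⟩, ⟨1, 2981, []⟩, ⟨1, 3054, [12, 11, 12, 8, 11, 12]⟩, ⟨1, 86, []⟩, ⟨1, 87, []⟩, ⟨1, 86, []⟩, ⟨1, 90, []⟩, ⟨1, 86, []⟩, ⟨1, 90, []⟩, ⟨1, 3961, [4, 11, 2, 4, 13, 11, 12, 8]⟩]⟩,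
 ⟨4, 5, 3966, [], [⟨1, 3965, []⟩], []⟩,
 ⟨5, 6, 3001, [4, 13, 3, 2, 0], [], [⟨1, 3000, [4, 13]⟩, ⟨1, 2978, []⟩, ⟨1, 2978, []⟩, ⟨1, 2981, []⟩, ⟨1, 2981, []⟩, ⟨1, 2990, []⟩, ⟨1, 2981, []⟩, ⟨1, 2981, []⟩, ⟨1, 3022, [13, 11, 2, 12, 7, 12]⟩, ⟨1, 86, []⟩, ⟨1, 90, []⟩, ⟨1, 87, []⟩, ⟨1, 3883, [0, 4, 12, 7, 11, 12, 11, 4, 13]⟩]⟩,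
 ⟨4, 6, 3968, [], [⟨1, 3967, []⟩], []⟩,
 ⟨7, 6, 3001, [0, 11, 12, 13, 11, 12, 3, 1, 0, 2, 1, 3, 2, 0], [], [⟨1, 3000, [0, 11, 12, 13, 11, 12]⟩, ⟨1, 2978, []⟩, ⟨1, 2977, []⟩, ⟨1, 2981, []⟩, ⟨1, 2990, []⟩, ⟨1, 2990, []⟩, ⟨1, 2981, []⟩, ⟨1, 3641, [0, 8, 12, 13, 11, 4, 12, 11, 12, 7, 13]⟩, ⟨1, 3268, []⟩, ⟨1, 3903, [7, 13, 11, 12, 11, 4, 12, 8, 11]⟩]⟩,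
 ⟨4, 6, 3970, [], [⟨1, 3969, []⟩], []⟩,
 ⟨7, 6, 3001, [7, 12, 11, 13, 11, 4, 12, 3, 1, 0, 2, 1, 3, 2, 0], [], [⟨1, 3000, [7, 12, 11, 13, 11, 4, 12]⟩, ⟨1, 2978, []⟩, ⟨1, 2978, []⟩, ⟨1, 2977, []⟩, ⟨1, 2981, []⟩, ⟨1, 2981, []⟩, ⟨1, 2990, []⟩, ⟨1, 2990, []⟩, ⟨1, 2981, []⟩, ⟨1, 3018, [12, 7, 12, 11, 2, 12, 7, 12, 13]⟩, ⟨1, 134, []⟩, ⟨1, 3931, [4, 12, 11, 12, 7, 13, 11, 12, 11, 13]⟩]⟩,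
 ⟨4, 6, 3972, [], [⟨1, 3971, []⟩], []⟩,
 ⟨7, 6, 3001, [4, 13, 11, 4, 12, 11, 12, 3, 1, 0, 2, 1, 3, 2, 0], [], [⟨1, 3000, [4, 13, 11, 4, 12, 11, 12]⟩, ⟨1, 2978, []⟩, ⟨1, 2981, []⟩, ⟨1, 2990, []⟩, ⟨1, 3156, [12, 11, 4, 12, 13, 11, 4, 12, 7, 11]⟩, ⟨1, 135, []⟩, ⟨1, 134, []⟩, ⟨1, 3931, [12, 11, 12, 13, 11, 12, 7, 12]⟩]⟩,
 ⟨4, 6, 3974, [], [⟨1, 3973, []⟩], []⟩,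
 ⟨7, 6, 3001, [0, 7, 11, 4, 13, 11, 12, 3, 1, 0, 2, 1, 3, 2, 0], [], [⟨1, 3000, [0, 7, 11, 4, 13, 11, 12]⟩, ⟨1, 2978, []⟩, ⟨1, 2978, []⟩, ⟨1, 2981, []⟩, ⟨1, 3238, [4, 7, 12, 8, 13, 11, 12, 11, 4, 11, 4]⟩, ⟨1, 134, []⟩, ⟨1, 3915, [12, 11, 2, 4, 13, 11, 4]⟩]⟩,
 ⟨4, 6, 3976, [], [⟨1, 3975, []⟩], []⟩,
 ⟨7, 6, 3001, [4, 7, 12, 11, 4, 3, 1, 0, 2, 1, 3, 2, 0], [], [⟨1, 3000, [4, 7, 12, 11, 4]⟩, ⟨1, 2978, []⟩, ⟨1, 2981, []⟩, ⟨1, 2981, []⟩, ⟨1, 2990, []⟩, ⟨1, 2990, []⟩, ⟨1, 3114, [11, 12, 7, 11, 12, 11, 12, 8, 12, 13]⟩, ⟨1, 135, []⟩, ⟨1, 134, []⟩, ⟨1, 3839, [11, 12, 8, 11, 4, 11, 12, 11, 13]⟩]⟩,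
 ⟨4, 6, 3978, [], [⟨1, 3977, []⟩], []⟩,
 ⟨8, 6, 3001, [2, 11, 12, 7, 11, 12, 0, 2, 3, 4, 2, 1, 2, 0, 1, 3, 2, 0], [], [⟨1, 3000, [2, 11, 12, 7, 11, 12]⟩, ⟨1, 2990, []⟩, ⟨1, 2990, []⟩, ⟨1, 3265, [0, 7, 11, 12, 8, 11, 12, 13]⟩, ⟨1, 2981, []⟩, ⟨1, 2981, []⟩, ⟨1, 3937, [0, 8, 12, 11, 12, 13, 11, 12]⟩]⟩,
 ⟨4, 6, 3980, [], [⟨1, 3979, []⟩], []⟩,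
 ⟨8, 6, 3001, [2, 4, 8, 12, 11, 12, 0, 2, 3, 4, 2, 1, 2, 0, 1, 3, 2, 0], [], [⟨1, 3000, [2, 4, 8, 12, 11, 12]⟩, ⟨1, 2977, []⟩, ⟨1, 3001, [11, 2, 12, 11, 13, 11, 4, 11, 12, 7]⟩, ⟨1, 135, []⟩, ⟨1, 134, []⟩, ⟨1, 3905, [0, 8, 11, 4, 11, 13, 11, 12, 7, 11, 13]⟩]⟩,
 ⟨4, 6, 3982, [], [⟨1, 3981, []⟩], []⟩,
 ⟨8, 6, 3001, [4, 13, 11, 4, 11, 12, 0, 2, 3, 4, 2, 1, 2, 0, 1, 3, 2, 0], [], [⟨1, 3000, [4, 13, 11, 4, 11, 12]⟩, ⟨1, 2978, []⟩, ⟨1, 2978, []⟩, ⟨1, 2977, []⟩, ⟨1, 3641, [2, 4, 11, 12, 11, 13, 11, 12, 8]⟩, ⟨1, 3268, []⟩, ⟨1, 3271, []⟩, ⟨1, 3268, []⟩, ⟨1, 3271, []⟩, ⟨1, 3268, []⟩, ⟨1, 3271, []⟩, ⟨1, 3273, []⟩, ⟨1, 3273, []⟩, ⟨1, 3903, [4, 12,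 8, 11, 4, 11, 13, 11]⟩]⟩,
 ⟨4, 6, 3984, [], [⟨1, 3983, []⟩], []⟩,
 ⟨8, 6, 3001, [7, 12, 8, 11, 12, 0, 2, 3, 4, 2, 1, 2, 0, 1, 3, 2, 0], [], [⟨1, 3000, [7, 12, 8, 11, 12]⟩, ⟨1, 2990, []⟩, ⟨1, 2990, []⟩, ⟨1, 3265, [11, 2, 4, 12, 7, 11, 12, 11, 4, 13]⟩, ⟨1, 2977, []⟩, ⟨1, 2981, []⟩, ⟨1, 2990, []⟩, ⟨1, 2977, []⟩, ⟨1, 3957, [4, 7, 12, 11, 4, 12, 8, 11, 13, 11, 4]⟩]⟩,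
 ⟨4, 6, 3986, [], [⟨1, 3985, []⟩], []⟩,
 ⟨13, 6, 3001, [8, 11, 12, 11, 4, 0, 2, 3, 1, 2, 0, 1, 3, 2, 0], [], [⟨1, 3000, [8, 11, 12, 11, 4]⟩, ⟨1, 2990, []⟩, ⟨1, 2990, []⟩, ⟨1, 3265, [7, 12, 11, 2, 12, 7, 12]⟩, ⟨1, 2978, []⟩, ⟨1, 2990, []⟩, ⟨1, 2990, []⟩, ⟨1, 3935, [11, 12, 8, 11, 13, 11, 12, 8, 11]⟩]⟩,
 ⟨4, 6, 3988, [], [⟨1, 3987, []⟩], []⟩]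
theorem chk81 : and2 (D.chkL PF81 3943) (Nat.beq (Nat.add 3943 PF81.length) 3989) = true := by decide +kernel

def PF82 : List DPf := [⟨13, 6, 3001, [4, 8, 11, 4, 13, 11, 12, 0, 2, 3, 1, 2, 0, 1, 3, 2, 0], [], [⟨1, 3000, [4, 8, 11, 4, 13, 11, 12]⟩, ⟨1, 2978, []⟩, ⟨1, 2978, []⟩, ⟨1, 2981, []⟩, ⟨1, 2990, []⟩, ⟨1, 2990, []⟩, ⟨1, 3184, [8, 13, 11, 12, 7, 11, 4, 13, 11, 4]⟩, ⟨1, 135, []⟩, ⟨1, 134, []⟩, ⟨1, 3837, [2, 4, 8, 12, 7, 11, 12, 8, 11, 4]⟩]⟩,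
 ⟨4, 6, 3990, [], [⟨1, 3989, []⟩], []⟩,
 ⟨13, 6, 3001, [4, 8, 13, 11, 4, 12, 0, 2, 3, 1, 2, 0, 1, 3, 2, 0], [], [⟨1, 3000, [4, 8, 13, 11, 4, 12]⟩, ⟨1, 2978, []⟩, ⟨1, 2990, []⟩, ⟨1, 2981, []⟩, ⟨1, 2981, []⟩, ⟨1, 3641, [2, 12, 8, 11, 12, 7, 11, 4]⟩, ⟨1, 3268, []⟩, ⟨1, 3271, []⟩, ⟨1, 3268, []⟩, ⟨1, 3271, []⟩, ⟨1, 3268, []⟩, ⟨1, 3271, []⟩, ⟨1, 3273, []⟩, ⟨1, 3273, []⟩, ⟨1, 3903, [8, 12, 8, 13, 11, 12]⟩]⟩,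
 ⟨4, 6, 3992, [], [⟨1, 3991, []⟩], []⟩,
 ⟨17, 6, 3001, [12, 13, 5, 5, 3, 6, 6, 2, 0], [], [⟨1, 3000, [12, 13]⟩, ⟨1, 2981, []⟩, ⟨1, 2981, []⟩, ⟨1, 2990, []⟩, ⟨1, 2990, []⟩, ⟨1, 3250, [4, 11, 4, 11, 12, 7, 11]⟩, ⟨1, 135, []⟩, ⟨1, 3971, [0, 4, 13, 11, 4, 12, 7, 11, 12, 13]⟩]⟩,
 ⟨4, 6, 3994, [], [⟨1, 3993, []⟩], []⟩,
 ⟨7, 7, 2996, [2, 12, 3, 1, 0, 2, 1, 3, 2, 0], [], [⟨1, 2995, [2, 12]⟩, ⟨1, 86, []⟩, ⟨1, 90, []⟩, ⟨1, 90, []⟩, ⟨1, 90, []⟩, ⟨1, 118, [11, 4, 11, 12, 8, 11, 13, 11, 4, 11]⟩, ⟨1, 87, []⟩, ⟨1, 86, []⟩, ⟨1, 90, []⟩, ⟨1, 86, []⟩, ⟨1, 90, []⟩, ⟨1, 3847, [11, 2, 13, 11, 4, 12, 11]⟩]⟩,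
 ⟨4, 7, 3996, [], [⟨1, 3995, []⟩], []⟩,
 ⟨8, 7, 3002, [0, 12, 7, 11, 4, 12, 13, 0, 2, 3, 4, 2, 1, 2, 0, 1, 3, 2, 0], [], [⟨1, 3001, [0, 12, 7, 11, 4, 12, 13]⟩, ⟨1, 3123, [2, 12, 11, 12, 7, 11]⟩, ⟨1, 2978, []⟩, ⟨1, 2981, []⟩, ⟨1, 2990, []⟩, ⟨1, 2990, []⟩, ⟨1, 3935, [7, 13, 11, 4, 12, 11, 12, 8, 11, 13]⟩]⟩,
 ⟨4, 7, 3998, [], [⟨1, 3997, []⟩], []⟩,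
 ⟨8, 3, 3275, [8, 13, 11, 12, 11, 4, 0, 2, 3, 4, 2, 1, 2, 0, 1, 3, 2, 0], [], [⟨1, 3274, [8, 13, 11, 12, 11, 4]⟩, ⟨1, 3268, []⟩, ⟨1, 3301, [0, 7, 11, 13, 11, 12, 8, 12, 11, 4]⟩, ⟨1, 87, []⟩, ⟨1, 86, []⟩, ⟨1, 90, []⟩, ⟨1, 90, []⟩, ⟨1, 90, []⟩, ⟨1, 3947, [4, 11, 4, 11, 13, 11]⟩]⟩,
 ⟨4, 3, 4000, [], [⟨1, 3999, []⟩], []⟩,
 ⟨7, 8, 3276, [0, 13, 11, 12, 7, 11, 12, 3, 1, 0, 2, 1, 3, 2, 0], [], [⟨1, 3275, [0, 13, 11, 12, 7, 11, 12]⟩, ⟨1, 43, []⟩, ⟨1, 42, []⟩, ⟨1, 40, []⟩, ⟨1, 46, []⟩, ⟨1, 46, []⟩, ⟨1, 68, []⟩, ⟨1, 3645, [2, 12, 8, 12, 11, 4, 13, 11, 12]⟩, ⟨1, 3268, []⟩, ⟨1, 3271, []⟩, ⟨1, 3268, []⟩, ⟨1, 3271, []⟩, ⟨1, 3268, []⟩, ⟨1, 3271, []⟩,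 ⟨1, 3268, []⟩, ⟨1, 3271, []⟩, ⟨1, 3897, [0, 11, 12, 7, 11, 12, 8, 11, 12, 8, 13]⟩]⟩,
 ⟨4, 8, 4002, [], [⟨1, 4001, []⟩], []⟩,
 ⟨7, 8, 3276, [7, 12, 13, 3, 1, 0, 2, 1, 3, 2, 0], [], [⟨1, 3275, [7, 12, 13]⟩, ⟨1, 39, []⟩, ⟨1, 46, []⟩, ⟨1, 46, []⟩, ⟨1, 68, []⟩, ⟨1, 3276, [13, 11, 4, 12, 7, 11, 12, 11, 13, 11]⟩, ⟨1, 3271, []⟩, ⟨1, 3849, [0, 11, 4, 11, 12, 7, 12, 13]⟩]⟩,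
 ⟨4, 8, 4004, [], [⟨1, 4003, []⟩], []⟩,
 ⟨6, 6, 3064, [11, 4, 13, 0, 2, 4, 3, 2, 0], [], [⟨1, 3063, [11, 4, 13]⟩, ⟨1, 2981, []⟩, ⟨1, 2981, []⟩, ⟨1, 2990, []⟩, ⟨1, 2981, []⟩, ⟨1, 3206, [4, 11, 4, 13, 11, 12, 8, 12, 11]⟩, ⟨1, 134, []⟩, ⟨1, 135, []⟩, ⟨1, 3971, [0, 4, 7, 12, 11, 4, 12, 13, 11]⟩]⟩,
 ⟨4, 6, 4006, [], [⟨1, 4005, []⟩], []⟩,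
 ⟨7, 6, 3064, [11, 12, 7, 11, 12, 13, 3, 1, 0, 2, 1, 3, 2, 0], [], [⟨1, 3063, [11, 12, 7, 11, 12, 13]⟩, ⟨1, 3054, [2, 8, 12, 7, 11, 4, 12, 11, 12, 13]⟩, ⟨1, 86, []⟩, ⟨1, 87, []⟩, ⟨1, 86, []⟩, ⟨1, 90, []⟩, ⟨1, 90, []⟩, ⟨1, 3943, [0, 12, 8, 11, 12, 7, 11]⟩]⟩,
 ⟨4, 6, 4008, [], [⟨1, 4007, []⟩], []⟩,
 ⟨7, 6, 3064, [11, 4, 13, 3, 1, 0, 2, 1, 3, 2, 0], [], [⟨1, 3063, [11, 4, 13]⟩, ⟨1, 3046, [0, 11, 13, 11, 12, 11, 4, 11, 4]⟩, ⟨1, 86, []⟩, ⟨1, 87, []⟩, ⟨1, 90, []⟩, ⟨1, 90, []⟩, ⟨1, 90, []⟩, ⟨1, 3959, [8, 12, 11, 12, 7]⟩]⟩,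
 ⟨4, 6, 4010, [], [⟨1, 4009, []⟩], []⟩,
 ⟨7, 6, 3064, [0, 12, 8, 13, 11, 4, 12, 3, 1, 0, 2, 1, 3, 2, 0], [], [⟨1, 3063, [0, 12, 8, 13, 11, 4, 12]⟩, ⟨1, 2978, []⟩, ⟨1, 2981, []⟩, ⟨1, 2981, []⟩, ⟨1, 2990, []⟩, ⟨1, 2981, []⟩, ⟨1, 3102, [12, 8, 11, 12, 7, 11, 12, 8, 13]⟩, ⟨1, 134, []⟩, ⟨1, 135, []⟩, ⟨1, 134, []⟩, ⟨1, 3879, [0, 4, 8, 12, 13, 11, 12, 7, 12, 11]⟩]⟩,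
 ⟨4, 6, 4012, [], [⟨1, 4011, []⟩], []⟩,
 ⟨13, 6, 3064, [13, 0, 2, 3, 1, 2, 0, 1, 3, 2, 0], [], [⟨1, 3063, [13]⟩, ⟨1, 2978, []⟩, ⟨1, 2978, []⟩, ⟨1, 2977, []⟩, ⟨1, 2981, []⟩, ⟨1, 2990, []⟩, ⟨1, 2990, []⟩, ⟨1, 2981, []⟩, ⟨1, 3238, [4, 7, 11, 12, 7, 11, 12, 8, 11, 13, 11]⟩, ⟨1, 134, []⟩, ⟨1, 135, []⟩, ⟨1, 4005, [8, 11, 4, 11, 13]⟩]⟩,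
 ⟨4, 6, 4014, [], [⟨1, 4013, []⟩], []⟩,
 ⟨13, 6, 3064, [2, 12, 7, 11, 12, 0, 2, 3, 1, 2, 0, 1, 3, 2, 0], [], [⟨1, 3063, [2, 12, 7, 11, 12]⟩, ⟨1, 2978, []⟩, ⟨1, 2990, []⟩, ⟨1, 2981, []⟩, ⟨1, 2981, []⟩, ⟨1, 3074, [11, 12, 8, 13, 11, 12, 7, 11, 13]⟩, ⟨1, 134, []⟩, ⟨1, 135, []⟩, ⟨1, 3833, [4, 11, 12, 7, 11, 12, 7, 11]⟩]⟩,
 ⟨4, 6, 4016, [], [⟨1, 4015, []⟩], []⟩,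
 ⟨17, 6, 3064, [8, 11, 12, 13, 5, 5, 3, 6, 6, 2, 0], [], [⟨1, 3063, [8, 11, 12, 13]⟩, ⟨1, 2978, []⟩, ⟨1, 2978, []⟩, ⟨1, 2981, []⟩, ⟨1, 2990, []⟩, ⟨1, 2990, []⟩, ⟨1, 2981, []⟩, ⟨1, 3182, [12, 8, 11, 12, 7, 11, 4, 12, 13, 11]⟩, ⟨1, 134, []⟩, ⟨1, 135, []⟩, ⟨1, 134, []⟩, ⟨1, 3971, [4, 7, 13, 11, 12, 11, 12, 7, 12]⟩]⟩,
 ⟨4, 6, 4018, [], [⟨1, 4017, []⟩], []⟩,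
 ⟨12, 8, 3280, [11, 4, 11, 12, 11, 13, 11, 4, 0, 2, 3, 1, 0, 2, 1, 2, 4, 3, 2, 0, 2, 0], [], [⟨1, 3279, [11, 4, 11, 12, 11, 13, 11, 4]⟩, ⟨1, 43, []⟩, ⟨1, 42, []⟩, ⟨1, 68, []⟩, ⟨1, 68, []⟩, ⟨1, 288, [7, 12, 7, 13, 11, 4, 12]⟩, ⟨1, 134, []⟩, ⟨1, 135, []⟩, ⟨1, 3987, [11, 2, 4, 12, 11, 13, 11, 4, 12, 7]⟩]⟩,
 ⟨4, 8, 4020, [], [⟨1, 4019, []⟩], []⟩,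
 ⟨5, 6, 3536, [8, 11, 12, 13, 3, 2, 0], [], [⟨1, 3535, [8, 11, 12, 13]⟩, ⟨1, 3268, []⟩, ⟨1, 3271, []⟩, ⟨1, 3268, []⟩, ⟨1, 3271, []⟩, ⟨1, 3268, []⟩, ⟨1, 3271, []⟩, ⟨1, 3268, []⟩, ⟨1, 3271, []⟩, ⟨1, 3268, []⟩, ⟨1, 3271, []⟩, ⟨1, 3273, []⟩, ⟨1, 3273, []⟩, ⟨1, 3510, [8, 11, 4, 11, 12, 7, 13, 11, 4, 11, 4]⟩, ⟨1, 135, []⟩, ⟨1, 134, []⟩, ⟨1, 4015, [4, 7, 11, 4, 13, 11, 4, 12, 11]⟩]⟩,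
 ⟨4, 6, 4022, [], [⟨1, 4021, []⟩], []⟩,
 ⟨7, 6, 3536, [0, 8, 11, 12, 13, 11, 4, 3, 1, 0, 2, 1, 3, 2, 0], [], [⟨1, 3535, [0, 8, 11, 12, 13, 11, 4]⟩, ⟨1, 3268, []⟩, ⟨1, 3273, []⟩, ⟨1, 3273, []⟩, ⟨1, 3432, [0, 7, 12, 11, 4, 11, 13]⟩, ⟨1, 3929, [0, 4, 7, 12, 13, 11, 4, 11, 12]⟩]⟩,
 ⟨4, 6, 4024, [], [⟨1, 4023, []⟩], []⟩,
 ⟨8, 6, 3536, [2, 12, 8, 11, 4, 12, 0, 2, 3, 4, 2, 1, 2, 0, 1, 3, 2, 0], [], [⟨1, 3535, [2, 12, 8, 11, 4, 12]⟩, ⟨1, 3268, []⟩, ⟨1, 3271, []⟩, ⟨1, 3268, []⟩, ⟨1, 3271, []⟩, ⟨1, 3268, []⟩, ⟨1, 3271, []⟩, ⟨1, 3268, []⟩, ⟨1, 3271, []⟩, ⟨1, 3268, []⟩, ⟨1, 3273, []⟩, ⟨1, 3652, [4, 13, 11, 4, 12, 8, 11, 4, 11]⟩, ⟨1, 134, []⟩, ⟨1,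 135, []⟩, ⟨1, 134, []⟩, ⟨1, 3915, [2, 12, 8, 11, 12, 13, 11, 4, 12, 11]⟩]⟩,
 ⟨4, 6, 4026, [], [⟨1, 4025, []⟩], []⟩,
 ⟨12, 6, 3536, [12, 11, 13, 11, 4, 12, 0, 2, 3, 1, 0, 2, 1, 2, 4, 3, 2, 0, 2, 0], [], [⟨1, 3535, [12, 11, 13, 11, 4, 12]⟩, ⟨1, 3268, []⟩, ⟨1, 3271, []⟩, ⟨1, 3268, []⟩, ⟨1, 3271, []⟩, ⟨1, 3268, []⟩, ⟨1, 3271, []⟩, ⟨1, 3268, []⟩, ⟨1, 3273, []⟩, ⟨1, 3273, []⟩, ⟨1, 3301, [11, 12, 7, 13, 11, 4, 12]⟩, ⟨1, 87, []⟩, ⟨1, 86, []⟩, ⟨1, 90, []⟩, ⟨1, 90, []⟩, ⟨1, 90, []⟩, ⟨1, 3947, [0, 12, 13, 11, 4, 11, 12, 8]⟩]⟩,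
 ⟨4, 6, 4028, [], [⟨1, 4027, []⟩], []⟩,
 ⟨12, 6, 3536, [0, 8, 11, 4, 13, 11, 12, 0, 2, 3, 1, 0, 2, 1, 2, 4, 3, 2, 0, 2, 0], [], [⟨1, 3535, [0, 8, 11, 4, 13, 11, 12]⟩, ⟨1, 3271, []⟩, ⟨1, 3580, [2, 4, 12, 13, 11, 4, 12, 7]⟩, ⟨1, 2981, []⟩, ⟨1, 2981, []⟩, ⟨1, 2990, []⟩, ⟨1, 3867, [0, 8, 13, 11, 12, 7, 11, 12, 8, 11, 12]⟩]⟩,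
 ⟨4, 6, 4030, [], [⟨1, 4029, []⟩], []⟩,
 ⟨13, 6, 3536, [11, 4, 11, 12, 13, 0, 2, 3, 1, 2, 0, 1, 3, 2, 0], [], [⟨1, 3535, [11, 4, 11, 12, 13]⟩, ⟨1, 3271, []⟩, ⟨1, 3268, []⟩, ⟨1, 3271, []⟩, ⟨1, 3268, []⟩, ⟨1, 3271, []⟩, ⟨1, 3268, []⟩, ⟨1, 3271, []⟩, ⟨1, 3268, []⟩, ⟨1, 3271, []⟩, ⟨1, 3268, []⟩, ⟨1, 3271, []⟩, ⟨1, 3268, []⟩, ⟨1, 3273, []⟩, ⟨1, 3534, [4, 12, 8, 13, 11, 4, 11, 12, 13, 11]⟩, ⟨1, 3927, [7, 11, 4, 12, 11, 4, 12, 7]⟩]⟩,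
 ⟨4, 6, 4032, [], [⟨1, 4031, []⟩], []⟩,
 ⟨17, 6, 3536, [7, 11, 12, 8, 12, 13, 5, 5, 3, 6, 6, 2, 0], [], [⟨1, 3535, [7, 11, 12, 8, 12, 13]⟩, ⟨1, 3271, []⟩, ⟨1, 3440, [0, 12, 11, 4, 13, 11, 4, 11, 12, 8]⟩, ⟨1, 86, []⟩, ⟨1, 87, []⟩, ⟨1, 86, []⟩, ⟨1, 90, []⟩, ⟨1, 90, []⟩, ⟨1, 90, []⟩, ⟨1, 3955, [2, 4, 11, 12, 8, 11, 4, 11, 12]⟩]⟩,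
 ⟨4, 6, 4034, [], [⟨1, 4033, []⟩], []⟩]
theorem chk82 : and2 (D.chkL PF82 3989) (Nat.beq (Nat.add 3989 PF82.length) 4035) = true := by decide +kernel

def PF83 : List DPf := [⟨7, 3, 3277, [0, 7, 11, 4, 11, 12, 13, 3, 1, 0, 2, 1, 3, 2, 0], [], [⟨1, 3276, [0, 7, 11, 4, 11, 12, 13]⟩, ⟨1, 3268, []⟩, ⟨1, 3271, []⟩, ⟨1, 3268, []⟩, ⟨1, 3271, []⟩, ⟨1, 3268, []⟩, ⟨1, 3271, []⟩, ⟨1, 3268, []⟩, ⟨1, 3273, []⟩, ⟨1, 3273, []⟩, ⟨1, 3301, [4, 8, 11, 12, 7, 13]⟩, ⟨1, 87, []⟩, ⟨1, 86, []⟩, ⟨1, 90, []⟩, ⟨1, 90, []⟩, ⟨1, 90, []⟩, ⟨1, 3947, [0, 8, 12, 11, 13, 11, 12, 7]⟩]⟩,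
 ⟨4, 3, 4036, [], [⟨1, 4035, []⟩], []⟩,
 ⟨7, 6, 3359, [8, 12, 11, 4, 13, 3, 1, 0, 2, 1, 3, 2, 0], [], [⟨1, 3358, [8, 12, 11, 4, 13]⟩, ⟨1, 3271, []⟩, ⟨1, 3268, []⟩, ⟨1, 3273, []⟩, ⟨1, 3273, []⟩, ⟨1, 3534, [12, 7, 12, 11, 13, 11, 4, 11]⟩, ⟨1, 3927, [2, 7, 11, 4, 13, 11, 12, 8, 12, 11]⟩]⟩,
 ⟨4, 6, 4038, [], [⟨1, 4037, []⟩], []⟩,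
 ⟨7, 6, 3359, [11, 4, 11, 13, 11, 12, 3, 1, 0, 2, 1, 3, 2, 0], [], [⟨1, 3358, [11, 4, 11, 13, 11, 12]⟩, ⟨1, 3271, []⟩, ⟨1, 3273, []⟩, ⟨1, 3564, [0, 13, 11, 12, 7, 11, 12, 8, 12, 11]⟩, ⟨1, 134, []⟩, ⟨1, 135, []⟩, ⟨1, 134, []⟩, ⟨1, 4023, [12, 7, 12, 11, 13, 11, 4]⟩]⟩,
 ⟨4, 6, 4040, [], [⟨1, 4039, []⟩], []⟩,
 ⟨8, 6, 3359, [4, 11, 12, 11, 4, 0, 2, 3, 4, 2, 1, 2, 0, 1, 3, 2, 0], [], [⟨1, 3358, [4, 11, 12, 11, 4]⟩, ⟨1, 3271, []⟩, ⟨1, 3268, []⟩, ⟨1, 3271, []⟩, ⟨1, 3268, []⟩, ⟨1, 3271, []⟩, ⟨1, 3268, []⟩, ⟨1, 3271, []⟩, ⟨1, 3268, []⟩, ⟨1, 3747, [2, 11, 12, 8, 11, 13, 11, 4]⟩, ⟨1, 3268, []⟩, ⟨1, 3891, [2, 8, 11, 13, 11, 4, 12, 11, 13]⟩]⟩,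
 ⟨4, 6, 4042, [], [⟨1, 4041, []⟩], []⟩,
 ⟨8, 6, 3359, [4, 11, 12, 11, 13, 11, 4, 0, 2, 3, 4, 2, 1, 2, 0, 1, 3, 2, 0], [], [⟨1, 3358, [4, 11, 12, 11, 13, 11, 4]⟩, ⟨1, 3271, []⟩, ⟨1, 3268, []⟩, ⟨1, 3271, []⟩, ⟨1, 3268, []⟩, ⟨1, 3271, []⟩, ⟨1, 3268, []⟩, ⟨1, 3271, []⟩, ⟨1, 3273, []⟩, ⟨1, 3273, []⟩, ⟨1, 3369, [0, 11, 12, 7, 13, 11, 4, 11, 4, 13, 11]⟩, ⟨1, 134, []⟩, ⟨1, 3857, [0, 12, 11, 13, 11, 4, 12, 8, 11, 12]⟩]⟩,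
 ⟨4, 6, 4044, [], [⟨1, 4043, []⟩], []⟩,
 ⟨12, 6, 3359, [0, 12, 7, 11, 13, 11, 12, 0, 2, 3, 1, 0, 2, 1, 2, 4, 3, 2, 0, 2, 0], [], [⟨1, 3358, [0, 12, 7, 11, 13, 11, 12]⟩, ⟨1, 3271, []⟩, ⟨1, 3268, []⟩, ⟨1, 3271, []⟩, ⟨1, 3268, []⟩, ⟨1, 3271, []⟩, ⟨1, 3268, []⟩, ⟨1, 3271, []⟩, ⟨1, 3268, []⟩, ⟨1, 3273, []⟩, ⟨1, 3273, []⟩, ⟨1, 3738, [0, 4, 12, 7, 11, 4, 13]⟩, ⟨1, 134, []⟩, ⟨1, 135, []⟩, ⟨1, 3917, [4, 12, 7, 11, 4, 12, 11, 13]⟩]⟩,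
 ⟨4, 6, 4046, [], [⟨1, 4045, []⟩], []⟩,
 ⟨17, 6, 3359, [8, 11, 13, 5, 5, 3, 6, 6, 2, 0], [], [⟨1, 3358, [8, 11, 13]⟩, ⟨1, 3271, []⟩, ⟨1, 3268, []⟩, ⟨1, 3271, []⟩, ⟨1, 3273, []⟩, ⟨1, 3273, []⟩, ⟨1, 3287, [0, 12, 8, 11, 4, 12, 13, 11, 12, 8]⟩, ⟨1, 76, []⟩, ⟨1, 76, []⟩, ⟨1, 78, []⟩, ⟨1, 77, []⟩, ⟨1, 81, []⟩, ⟨1, 77, []⟩, ⟨1, 81, []⟩, ⟨1, 81, []⟩, ⟨1, 126, []⟩, ⟨1, 3877, [7, 11, 12, 8, 11, 12, 7, 11, 12]⟩]⟩,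
 ⟨4, 6, 4048, [], [⟨1, 4047, []⟩], []⟩,
 ⟨17, 6, 3359, [13, 5, 5, 3, 6, 6, 2, 0], [], [⟨1, 3358, [13]⟩, ⟨1, 3268, []⟩, ⟨1, 3273, []⟩, ⟨1, 3849, [11, 4, 12, 11, 12, 7, 13, 11, 12, 8]⟩, ⟨1, 3770, []⟩, ⟨1, 3770, []⟩, ⟨1, 3775, []⟩, ⟨1, 3775, []⟩, ⟨1, 3777, []⟩, ⟨1, 3770, []⟩, ⟨1, 3868, [2, 4, 11, 4, 12, 11, 12, 7, 12, 11, 12, 8]⟩]⟩,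
 ⟨4, 6, 4050, [], [⟨1, 4049, []⟩], []⟩,
 ⟨7, 6, 3381, [4, 13, 11, 12, 3, 1, 0, 2, 1, 3, 2, 0], [], [⟨1, 3380, [4, 13, 11, 12]⟩, ⟨1, 3268, []⟩, ⟨1, 3271, []⟩, ⟨1, 3268, []⟩, ⟨1, 3271, []⟩, ⟨1, 3268, []⟩, ⟨1, 3271, []⟩, ⟨1, 3268, []⟩, ⟨1, 3271, []⟩, ⟨1, 3268, []⟩, ⟨1, 3271, []⟩, ⟨1, 3383, [4, 12, 11, 4, 12, 8, 11, 13, 11]⟩, ⟨1, 134, []⟩, ⟨1, 135, []⟩, ⟨1, 134, []⟩, ⟨1, 3981, [2, 13, 11, 4, 12, 7, 11, 4]⟩]⟩,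
 ⟨4, 6, 4052, [], [⟨1, 4051, []⟩], []⟩,
 ⟨7, 6, 3381, [12, 7, 13, 11, 12, 3, 1, 0, 2, 1, 3, 2, 0], [], [⟨1, 3380, [12, 7, 13, 11, 12]⟩, ⟨1, 3268, []⟩, ⟨1, 3271, []⟩, ⟨1, 3268, []⟩, ⟨1, 3271, []⟩, ⟨1, 3268, []⟩, ⟨1, 3271, []⟩, ⟨1, 3268, []⟩, ⟨1, 3271, []⟩, ⟨1, 3268, []⟩, ⟨1, 3271, []⟩, ⟨1, 3273, []⟩, ⟨1, 3492, [7, 12, 11, 12, 7, 11, 13, 11, 4]⟩, ⟨1, 134, []⟩, ⟨1, 135, []⟩, ⟨1, 3819, [4, 8, 11, 12, 13, 11, 4, 12, 8]⟩]⟩,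
 ⟨4, 6, 4054, [], [⟨1, 4053, []⟩], []⟩,
 ⟨7, 6, 3381, [8, 12, 11, 4, 13, 3, 1, 0, 2, 1, 3, 2, 0], [], [⟨1, 3380, [8, 12, 11, 4, 13]⟩, ⟨1, 3271, []⟩, ⟨1, 3268, []⟩, ⟨1, 3271, []⟩, ⟨1, 3268, []⟩, ⟨1, 3271, []⟩, ⟨1, 3268, []⟩, ⟨1, 3271, []⟩, ⟨1, 3268, []⟩, ⟨1, 3271, []⟩, ⟨1, 3268, []⟩, ⟨1, 3271, []⟩, ⟨1, 3414, [13, 11, 2, 4, 11, 12, 8, 11]⟩, ⟨1, 87, []⟩, ⟨1, 86, []⟩, ⟨1, 90, []⟩, ⟨1, 86, []⟩, ⟨1, 90, []⟩, ⟨1, 3885, [0, 4, 7, 13, 11, 12, 8, 11, 12, 13]⟩]⟩,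
 ⟨4, 6, 4056, [], [⟨1, 4055, []⟩], []⟩,
 ⟨7, 6, 3381, [2, 4, 12, 11, 4, 3, 1, 0, 2, 1, 3, 2, 0], [], [⟨1, 3380, [2, 4, 12, 11, 4]⟩, ⟨1, 3271, []⟩, ⟨1, 3268, []⟩, ⟨1, 3271, []⟩, ⟨1, 3268, []⟩, ⟨1, 3271, []⟩, ⟨1, 3268, []⟩, ⟨1, 3271, []⟩, ⟨1, 3268, []⟩, ⟨1, 3271, []⟩, ⟨1, 3268, []⟩, ⟨1, 3271, []⟩, ⟨1, 3268, []⟩, ⟨1, 3273, []⟩, ⟨1, 3273, []⟩, ⟨1, 3452, [8, 11, 2, 12, 13, 11, 4, 11, 12]⟩, ⟨1, 4053, [2, 12, 8, 11, 12, 8]⟩]⟩,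
 ⟨4, 6, 4058, [], [⟨1, 4057, []⟩], []⟩,
 ⟨7, 6, 3381, [8, 13, 11, 4, 11, 12, 3, 1, 0, 2, 1, 3, 2, 0], [], [⟨1, 3380, [8, 13, 11, 4, 11, 12]⟩, ⟨1, 3271, []⟩, ⟨1, 3268, []⟩, ⟨1, 3271, []⟩, ⟨1, 3268, []⟩, ⟨1, 3271, []⟩, ⟨1, 3522, [4, 11, 2, 13, 11, 4, 12, 8, 11]⟩, ⟨1, 135, []⟩, ⟨1, 4009, [12, 11, 12, 7, 11, 12, 8, 11, 12]⟩]⟩,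
 ⟨4, 6, 4060, [], [⟨1, 4059, []⟩], []⟩,
 ⟨7, 6, 3381, [2, 4, 11, 12, 3, 1, 0, 2, 1, 3, 2, 0], [], [⟨1, 3380, [2, 4, 11, 12]⟩, ⟨1, 3271, []⟩, ⟨1, 3268, []⟩, ⟨1, 3271, []⟩, ⟨1, 3268, []⟩, ⟨1, 3271, []⟩, ⟨1, 3268, []⟩, ⟨1, 3271, []⟩, ⟨1, 3268, []⟩, ⟨1, 3271, []⟩, ⟨1, 3268, []⟩, ⟨1, 3271, []⟩, ⟨1, 3273, []⟩, ⟨1, 3446, [0, 7, 12, 8, 11, 4, 11, 13, 11]⟩, ⟨1, 135, []⟩, ⟨1, 4011, [8, 12, 13, 11, 2, 4, 11, 12, 7]⟩]⟩,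
 ⟨4, 6, 4062, [], [⟨1, 4061, []⟩], []⟩,
 ⟨8, 6, 3381, [7, 12, 0, 2, 3, 4, 2, 1, 2, 0, 1, 3, 2, 0], [], [⟨1, 3380, [7, 12]⟩, ⟨1, 3271, []⟩, ⟨1, 3268, []⟩, ⟨1, 3271, []⟩, ⟨1, 3268, []⟩, ⟨1, 3271, []⟩, ⟨1, 3268, []⟩, ⟨1, 3271, []⟩, ⟨1, 3268, []⟩, ⟨1, 3271, []⟩, ⟨1, 3604, [4, 11, 4, 12, 11, 12, 8, 13, 11]⟩, ⟨1, 135, []⟩, ⟨1, 3913, [7, 12, 11, 13, 11, 4, 11, 12, 13]⟩]⟩,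
 ⟨4, 6, 4064, [], [⟨1, 4063, []⟩], []⟩,
 ⟨8, 6, 3381, [8, 12, 13, 0, 2, 3, 4, 2, 1, 2, 0, 1, 3, 2, 0], [], [⟨1, 3380, [8, 12, 13]⟩, ⟨1, 3268, []⟩, ⟨1, 3684, [7, 11, 2, 4, 12, 8, 13, 11, 12, 8]⟩, ⟨1, 135, []⟩, ⟨1, 3807, [4, 7, 12, 11, 12, 7, 13, 11, 4, 11]⟩]⟩,
 ⟨4, 6, 4066, [], [⟨1, 4065, []⟩], []⟩,
 ⟨12, 6, 3381, [0, 8, 11, 4, 13, 11, 12, 0, 2, 3, 1, 0, 2, 1, 2, 4, 3, 2, 0, 2, 0], [], [⟨1, 3380, [0, 8, 11, 4, 13, 11, 12]⟩, ⟨1, 3268, []⟩, ⟨1, 3271, []⟩, ⟨1, 3268, []⟩, ⟨1, 3271, []⟩, ⟨1, 3268, []⟩, ⟨1, 3271, []⟩, ⟨1, 3722, [11, 13, 11, 4, 11, 4, 13, 11, 12, 8, 12]⟩, ⟨1, 134, []⟩, ⟨1, 135, []⟩, ⟨1, 134, []⟩, ⟨1, 3983, [12, 13, 11, 4, 12,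 8, 11, 12, 11]⟩]⟩,
 ⟨4, 6, 4068, [], [⟨1, 4067, []⟩], []⟩,
 ⟨12, 6, 3381, [2, 11, 12, 7, 11, 12, 0, 2, 3, 1, 0, 2, 1, 2, 4, 3, 2, 0, 2, 0], [], [⟨1, 3380, [2, 11, 12, 7, 11, 12]⟩, ⟨1, 3271, []⟩, ⟨1, 3268, []⟩, ⟨1, 3273, []⟩, ⟨1, 3273, []⟩, ⟨1, 3568, [8, 12, 8, 13, 11, 12, 11, 4]⟩, ⟨1, 134, []⟩, ⟨1, 3861, [8, 13, 11, 4, 12, 11, 4, 13, 11, 12]⟩]⟩,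
 ⟨4, 6, 4070, [], [⟨1, 4069, []⟩], []⟩,
 ⟨13, 6, 3381, [11, 4, 11, 12, 13, 0, 2, 3, 1, 2, 0, 1, 3, 2, 0], [], [⟨1, 3380, [11, 4, 11, 12, 13]⟩, ⟨1, 3271, []⟩, ⟨1, 3268, []⟩, ⟨1, 3271, []⟩, ⟨1, 3268, []⟩, ⟨1, 3271, []⟩, ⟨1, 3268, []⟩, ⟨1, 3271, []⟩, ⟨1, 3268, []⟩, ⟨1, 3271, []⟩, ⟨1, 3268, []⟩, ⟨1, 3271, []⟩, ⟨1, 3268, []⟩, ⟨1, 3738, [7, 11, 2, 4, 11, 12, 8, 13, 11]⟩, ⟨1, 134, []⟩, ⟨1, 135, []⟩, ⟨1, 3917, [2, 4, 11, 4, 12, 11, 12, 8, 13, 11]⟩]⟩,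
 ⟨4, 6, 4072, [], [⟨1, 4071, []⟩], []⟩,
 ⟨17, 6, 3381, [7, 11, 4, 12, 13, 5, 5, 3, 6, 6, 2, 0], [], [⟨1, 3380, [7, 11, 4, 12, 13]⟩, ⟨1, 3271, []⟩, ⟨1, 3268, []⟩, ⟨1, 3271, []⟩, ⟨1, 3268, []⟩, ⟨1, 3271, []⟩, ⟨1, 3268, []⟩, ⟨1, 3271, []⟩, ⟨1, 3268, []⟩, ⟨1, 3271, []⟩, ⟨1, 3333, [12, 7, 11, 12, 7, 11, 12, 7, 11]⟩, ⟨1, 87, []⟩, ⟨1, 90, []⟩, ⟨1, 86, []⟩, ⟨1, 90, []⟩, ⟨1, 3883, [8, 12, 8, 11, 2, 4, 13]⟩]⟩,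
 ⟨4, 6, 4074, [], [⟨1, 4073, []⟩], []⟩,
 ⟨5, 6, 3046, [11, 12, 13, 3, 2, 0], [], [⟨1, 3045, [11, 12, 13]⟩, ⟨1, 2978, []⟩, ⟨1, 2978, []⟩, ⟨1, 3238, [0, 13, 11, 4, 12, 7, 11, 4, 12, 8]⟩, ⟨1, 134, []⟩, ⟨1, 135, []⟩, ⟨1, 4005, [0, 7, 11, 12, 8, 11, 12, 13, 11, 12, 11]⟩]⟩,
 ⟨4, 6, 4076, [], [⟨1, 4075, []⟩], []⟩,
 ⟨5, 6, 3046, [12, 13, 3, 2, 0], [], [⟨1, 3045, [12, 13]⟩, ⟨1, 2978, []⟩, ⟨1, 2977, []⟩, ⟨1, 2990, []⟩, ⟨1, 2981, []⟩, ⟨1, 3054, [0, 4, 11, 12, 7, 12, 11]⟩, ⟨1, 86, []⟩, ⟨1, 87, []⟩, ⟨1, 86, []⟩, ⟨1, 90, []⟩, ⟨1, 86, []⟩, ⟨1, 90, []⟩, ⟨1, 3961, [4, 12, 11, 4, 13, 11, 4, 12, 11, 4]⟩]⟩,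
 ⟨4, 6, 4078, [], [⟨1, 4077, []⟩], []⟩,
 ⟨5, 6, 3046, [8, 12, 3, 2, 0], [], [⟨1, 3045, [8, 12]⟩, ⟨1, 2978, []⟩, ⟨1, 2977, []⟩, ⟨1, 2990, []⟩, ⟨1, 2977, []⟩, ⟨1, 3174, [8, 12, 7, 11, 2, 4, 11, 12, 8, 13]⟩, ⟨1, 134, []⟩, ⟨1, 3865, [8, 11, 4, 11, 12, 13, 11, 12, 8]⟩]⟩,
 ⟨4, 6, 4080, [], [⟨1, 4079, []⟩], []⟩,
 ⟨7, 6, 3046, [2, 12, 3, 1, 0, 2, 1, 3, 2, 0], [], [⟨1, 3045, [2, 12]⟩, ⟨1, 2981, []⟩, ⟨1, 2990, []⟩, ⟨1, 2977, []⟩, ⟨1, 3104, [12, 7, 13, 11, 12, 8, 12, 11]⟩, ⟨1, 3889, [11, 12, 7, 12, 13]⟩]⟩,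
 ⟨4, 6, 4082, [], [⟨1, 4081, []⟩], []⟩]
theorem chk83 : and2 (D.chkL PF83 4035) (Nat.beq (Nat.add 4035 PF83.length) 4083) = true := by decide +kernel

def PF84 : List DPf := [⟨7, 6, 3046, [2, 4, 7, 11, 4, 12, 3, 1, 0, 2, 1, 3, 2, 0], [], [⟨1, 3045, [2, 4, 7, 11, 4, 12]⟩, ⟨1, 2981, []⟩, ⟨1, 2981, []⟩, ⟨1, 2990, []⟩, ⟨1, 2990, []⟩, ⟨1, 2981, []⟩, ⟨1, 3899, [4, 7, 13, 11, 12, 8, 11, 4, 12, 11]⟩, ⟨1, 3775, []⟩, ⟨1, 3775, []⟩, ⟨1, 3869, [4, 7, 12, 8, 13, 11, 12, 7, 11]⟩]⟩,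
 ⟨4, 6, 4084, [], [⟨1, 4083, []⟩], []⟩,
 ⟨7, 6, 3046, [0, 12, 7, 11, 13, 11, 12, 3, 1, 0, 2, 1, 3, 2, 0], [], [⟨1, 3045, [0, 12, 7, 11, 13, 11, 12]⟩, ⟨1, 2978, []⟩, ⟨1, 2978, []⟩, ⟨1, 2977, []⟩, ⟨1, 2990, []⟩, ⟨1, 2990, []⟩, ⟨1, 2981, []⟩, ⟨1, 3050, [0, 4, 13, 11, 12, 7, 11, 4, 12, 13]⟩, ⟨1, 87, []⟩, ⟨1, 86, []⟩, ⟨1, 90, []⟩, ⟨1, 90, []⟩, ⟨1, 90, []⟩, ⟨1, 3881, [11, 2, 12, 11, 13, 11, 4, 11, 13]⟩]⟩,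
 ⟨4, 6, 4086, [], [⟨1, 4085, []⟩], []⟩,
 ⟨8, 6, 3046, [11, 13, 11, 12, 0, 2, 3, 4, 2, 1, 2, 0, 1, 3, 2, 0], [], [⟨1, 3045, [11, 13, 11, 12]⟩, ⟨1, 2978, []⟩, ⟨1, 2978, []⟩, ⟨1, 3238, [0, 7, 12, 11, 12, 8, 12, 13, 11, 12]⟩, ⟨1, 135, []⟩, ⟨1, 3807, [4, 11, 12, 7, 11, 12, 8, 11, 12, 7, 11]⟩]⟩,
 ⟨4, 6, 4088, [], [⟨1, 4087, []⟩], []⟩,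
 ⟨8, 6, 3046, [4, 12, 13, 11, 4, 0, 2, 3, 4, 2, 1, 2, 0, 1, 3, 2, 0], [], [⟨1, 3045, [4, 12, 13, 11, 4]⟩, ⟨1, 2978, []⟩, ⟨1, 2977, []⟩, ⟨1, 2990, []⟩, ⟨1, 2981, []⟩, ⟨1, 3054, [4, 11, 12, 7, 12, 11, 13, 11, 4, 11]⟩, ⟨1, 90, []⟩, ⟨1, 86, []⟩, ⟨1, 90, []⟩, ⟨1, 3965, [0, 11, 12, 7, 13, 11, 4, 11, 4, 12]⟩]⟩,
 ⟨4, 6, 4090, [], [⟨1, 4089, []⟩], []⟩,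
 ⟨8, 6, 3046, [4, 8, 11, 12, 0, 2, 3, 4, 2, 1, 2, 0, 1, 3, 2, 0], [], [⟨1, 3045, [4, 8, 11, 12]⟩, ⟨1, 2978, []⟩, ⟨1, 2978, []⟩, ⟨1, 2977, []⟩, ⟨1, 2981, []⟩, ⟨1, 2990, []⟩, ⟨1, 2990, []⟩, ⟨1, 2981, []⟩, ⟨1, 3250, [7, 12, 7, 13, 11, 12, 7]⟩, ⟨1, 134, []⟩, ⟨1, 135, []⟩, ⟨1, 3861, [12, 7, 12, 11, 12, 8, 11, 13]⟩]⟩,
 ⟨4, 6, 4092, [], [⟨1, 4091, []⟩], []⟩,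
 ⟨13, 6, 3046, [8, 12, 7, 13, 11, 12, 0, 2, 3, 1, 2, 0, 1, 3, 2, 0], [], [⟨1, 3045, [8, 12, 7, 13, 11, 12]⟩, ⟨1, 2981, []⟩, ⟨1, 2990, []⟩, ⟨1, 2977, []⟩, ⟨1, 2990, []⟩, ⟨1, 3162, [12, 8, 12, 11, 12, 7, 13, 11, 12, 11]⟩, ⟨1, 134, []⟩, ⟨1, 135, []⟩, ⟨1, 134, []⟩, ⟨1, 3879, [0, 12, 8, 12, 11, 13, 11, 4, 12, 8]⟩]⟩,
 ⟨4, 6, 4094, [], [⟨1, 4093, []⟩], []⟩,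
 ⟨13, 6, 3046, [0, 8, 11, 12, 13, 11, 4, 0, 2, 3, 1, 2, 0, 1, 3, 2, 0], [], [⟨1, 3045, [0, 8, 11, 12, 13, 11, 4]⟩, ⟨1, 2978, []⟩, ⟨1, 2981, []⟩, ⟨1, 2981, []⟩, ⟨1, 2990, []⟩, ⟨1, 2981, []⟩, ⟨1, 3166, [0, 11, 12, 13, 11, 4, 12, 7, 11, 4, 13, 11]⟩, ⟨1, 134, []⟩, ⟨1, 135, []⟩, ⟨1, 134, []⟩, ⟨1, 4089, [11, 12, 8, 13, 11, 4]⟩]⟩,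
 ⟨4, 6, 4096, [], [⟨1, 4095, []⟩], []⟩,
 ⟨17, 6, 3046, [4, 8, 5, 5, 3, 6, 6, 2, 0], [], [⟨1, 3045, [4, 8]⟩, ⟨1, 2978, []⟩, ⟨1, 2981, []⟩, ⟨1, 2990, []⟩, ⟨1, 2977, []⟩, ⟨1, 3136, [0, 12, 7, 11, 4, 12, 11, 4]⟩, ⟨1, 3819, [0, 8, 12, 13, 11, 12, 7, 11, 12]⟩]⟩,
 ⟨4, 6, 4098, [], [⟨1, 4097, []⟩], []⟩,
 ⟨17, 6, 3046, [4, 12, 7, 5, 5, 3, 6, 6, 2, 0], [], [⟨1, 3045, [4, 12, 7]⟩, ⟨1, 2977, []⟩, ⟨1, 2981, []⟩, ⟨1, 2981, []⟩, ⟨1, 2990, []⟩, ⟨1, 3244, [2, 13, 11, 12, 8, 11, 12, 11, 4, 11]⟩, ⟨1, 134, []⟩, ⟨1, 3823, [11, 12, 11, 4, 13, 11, 12, 8, 11]⟩]⟩,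
 ⟨4, 6, 4100, [], [⟨1, 4099, []⟩], []⟩,
 ⟨7, 6, 3353, [0, 7, 12, 13, 11, 12, 3, 1, 0, 2, 1, 3, 2, 0], [], [⟨1, 3352, [0, 7, 12, 13, 11, 12]⟩, ⟨1, 3271, []⟩, ⟨1, 3268, []⟩, ⟨1, 3271, []⟩, ⟨1, 3268, []⟩, ⟨1, 3271, []⟩, ⟨1, 3268, []⟩, ⟨1, 3271, []⟩, ⟨1, 3268, []⟩, ⟨1, 3271, []⟩, ⟨1, 3273, []⟩, ⟨1, 3273, []⟩, ⟨1, 3385, [4, 8, 13, 11, 12, 11, 4, 12, 7, 11]⟩, ⟨1, 135, []⟩, ⟨1, 3927, [4, 12, 8, 11, 12, 7, 11, 4, 12]⟩]⟩,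
 ⟨4, 6, 4102, [], [⟨1, 4101, []⟩], []⟩,
 ⟨7, 6, 3353, [8, 12, 11, 4, 13, 3, 1, 0, 2, 1, 3, 2, 0], [], [⟨1, 3352, [8, 12, 11, 4, 13]⟩, ⟨1, 3271, []⟩, ⟨1, 3268, []⟩, ⟨1, 3271, []⟩, ⟨1, 3268, []⟩, ⟨1, 3271, []⟩, ⟨1, 3268, []⟩, ⟨1, 3271, []⟩, ⟨1, 3268, []⟩, ⟨1, 3271, []⟩, ⟨1, 3268, []⟩, ⟨1, 3738, [7, 11, 13, 11, 4]⟩, ⟨1, 134, []⟩, ⟨1, 135, []⟩, ⟨1, 3917, [13, 11, 2, 12, 7, 11, 13]⟩]⟩,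
 ⟨4, 6, 4104, [], [⟨1, 4103, []⟩], []⟩,
 ⟨7, 6, 3353, [12, 8, 11, 4, 12, 13, 3, 1, 0, 2, 1, 3, 2, 0], [], [⟨1, 3352, [12, 8, 11, 4, 12, 13]⟩, ⟨1, 3268, []⟩, ⟨1, 3271, []⟩, ⟨1, 3268, []⟩, ⟨1, 3271, []⟩, ⟨1, 3273, []⟩, ⟨1, 3583, [7, 12, 8, 13, 11, 4, 11, 12, 7, 11]⟩, ⟨1, 3268, []⟩, ⟨1, 3903, [8, 11, 12, 11, 4, 12, 7, 13]⟩]⟩,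
 ⟨4, 6, 4106, [], [⟨1, 4105, []⟩], []⟩,
 ⟨8, 6, 3353, [12, 13, 11, 4, 0, 2, 3, 4, 2, 1, 2, 0, 1, 3, 2, 0], [], [⟨1, 3352, [12, 13, 11, 4]⟩, ⟨1, 3271, []⟩, ⟨1, 3268, []⟩, ⟨1, 3271, []⟩, ⟨1, 3268, []⟩, ⟨1, 3271, []⟩, ⟨1, 3273, []⟩, ⟨1, 3273, []⟩, ⟨1, 3684, [4, 12, 8, 11, 12, 11, 4, 11, 13]⟩, ⟨1, 135, []⟩, ⟨1, 3807, [12, 7, 11, 13, 11, 4, 11, 12, 7]⟩]⟩,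
 ⟨4, 6, 4108, [], [⟨1, 4107, []⟩], []⟩,
 ⟨8, 6, 3353, [0, 12, 13, 11, 4, 0, 2, 3, 4, 2, 1, 2, 0, 1, 3, 2, 0], [], [⟨1, 3352, [0, 12, 13, 11, 4]⟩, ⟨1, 3271, []⟩, ⟨1, 3268, []⟩, ⟨1, 3271, []⟩, ⟨1, 3268, []⟩, ⟨1, 3271, []⟩, ⟨1, 3273, []⟩, ⟨1, 3273, []⟩, ⟨1, 3684, [0, 4, 12, 8, 11, 4, 12, 11, 13]⟩, ⟨1, 3911, [11, 4, 13, 11, 4, 11, 12, 11, 12]⟩]⟩,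
 ⟨4, 6, 4110, [], [⟨1, 4109, []⟩], []⟩,
 ⟨17, 6, 3353, [4, 12, 7, 13, 5, 5, 3, 6, 6, 2, 0], [], [⟨1, 3352, [4, 12, 7, 13]⟩, ⟨1, 3268, []⟩, ⟨1, 3271, []⟩, ⟨1, 3268, []⟩, ⟨1, 3271, []⟩, ⟨1, 3268, []⟩, ⟨1, 3271, []⟩, ⟨1, 3268, []⟩, ⟨1, 3271, []⟩, ⟨1, 3268, []⟩, ⟨1, 3271, []⟩, ⟨1, 3268, []⟩, ⟨1, 3271, []⟩, ⟨1, 3268, []⟩, ⟨1, 3273, []⟩, ⟨1, 3273, []⟩, ⟨1, 3526, [4, 7, 12, 11, 4, 12, 8, 11, 13]⟩, ⟨1, 3859, [0, 11, 4, 11, 12, 7, 12, 11, 4]⟩]⟩,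
 ⟨4, 6, 4112, [], [⟨1, 4111, []⟩], []⟩,
 ⟨7, 6, 3365, [0, 8, 12, 13, 11, 12, 3, 1, 0, 2, 1, 3, 2, 0], [], [⟨1, 3364, [0, 8, 12, 13, 11, 12]⟩, ⟨1, 3271, []⟩, ⟨1, 3268, []⟩, ⟨1, 3414, [2, 7, 12, 11, 4, 12, 8, 11, 13, 11]⟩, ⟨1, 90, []⟩, ⟨1, 90, []⟩, ⟨1, 90, []⟩, ⟨1, 3947, [2, 7, 12, 8, 11, 4, 11, 13, 11]⟩]⟩,
 ⟨4, 6, 4114, [], [⟨1, 4113, []⟩], []⟩,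
 ⟨7, 6, 3365, [0, 11, 12, 11, 4, 13, 3, 1, 0, 2, 1, 3, 2, 0], [], [⟨1, 3364, [0, 11, 12, 11, 4, 13]⟩, ⟨1, 3271, []⟩, ⟨1, 3268, []⟩, ⟨1, 3273, []⟩, ⟨1, 3273, []⟩, ⟨1, 3692, [12, 11, 2, 4, 12, 8, 11, 12]⟩, ⟨1, 135, []⟩, ⟨1, 4027, [7, 12, 8, 11, 12, 8, 11, 4, 12, 13]⟩]⟩,
 ⟨4, 6, 4116, [], [⟨1, 4115, []⟩], []⟩,
 ⟨7, 6, 3365, [0, 7, 12, 13, 11, 4, 3, 1, 0, 2, 1, 3, 2, 0], [], [⟨1, 3364, [0, 7, 12, 13, 11, 4]⟩, ⟨1, 3268, []⟩, ⟨1, 3271, []⟩, ⟨1, 3268, []⟩, ⟨1, 3271, []⟩, ⟨1, 3268, []⟩, ⟨1, 3271, []⟩, ⟨1, 3268, []⟩, ⟨1, 3271, []⟩, ⟨1, 3268, []⟩, ⟨1, 3271, []⟩, ⟨1, 3268, []⟩, ⟨1, 3271, []⟩, ⟨1, 3268, []⟩, ⟨1, 3494, [4, 7, 11, 13, 11, 12, 7, 11]⟩,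 ⟨1, 135, []⟩, ⟨1, 4007, [4, 12, 8, 11, 4, 13, 11, 12]⟩]⟩,
 ⟨4, 6, 4118, [], [⟨1, 4117, []⟩], []⟩,
 ⟨7, 6, 3365, [0, 11, 4, 12, 13, 11, 4, 12, 3, 1, 0, 2, 1, 3, 2, 0], [], [⟨1, 3364, [0, 11, 4, 12, 13, 11, 4, 12]⟩, ⟨1, 3268, []⟩, ⟨1, 3271, []⟩, ⟨1, 3273, []⟩, ⟨1, 3618, [4, 8, 12, 11, 12, 11, 13, 11, 4, 11]⟩, ⟨1, 134, []⟩, ⟨1, 3861, [8, 11, 12, 11, 12, 8, 12, 11]⟩]⟩,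
 ⟨4, 6, 4120, [], [⟨1, 4119, []⟩], []⟩,
 ⟨13, 6, 3365, [0, 11, 4, 12, 13, 11, 4, 0, 2, 3, 1, 2, 0, 1, 3, 2, 0], [], [⟨1, 3364, [0, 11, 4, 12, 13, 11, 4]⟩, ⟨1, 3271, []⟩, ⟨1, 3268, []⟩, ⟨1, 3271, []⟩, ⟨1, 3268, []⟩, ⟨1, 3273, []⟩, ⟨1, 3273, []⟩, ⟨1, 3383, [2, 4, 11, 4, 12, 13, 11, 12, 7]⟩, ⟨1, 134, []⟩, ⟨1, 135, []⟩, ⟨1, 134, []⟩, ⟨1, 3981, [2, 4, 8, 11, 4, 11, 12, 11, 12]⟩]⟩,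
 ⟨4, 6, 4122, [], [⟨1, 4121, []⟩], []⟩,
 ⟨7, 6, 3369, [4, 11, 4, 12, 11, 4, 3, 1, 0, 2, 1, 3, 2, 0], [], [⟨1, 3368, [4, 11, 4, 12, 11, 4]⟩, ⟨1, 3273, []⟩, ⟨1, 3273, []⟩, ⟨1, 3742, [0, 12, 7, 11, 12, 7, 11, 4, 13]⟩, ⟨1, 3821, [4, 7, 11, 4, 11, 13, 11, 12, 11, 4]⟩]⟩,
 ⟨4, 6, 4124, [], [⟨1, 4123, []⟩], []⟩,
 ⟨15, 6, 3369, [7, 0, 2, 5, 2, 0], [], [⟨1, 3368, [7]⟩, ⟨1, 3271, []⟩, ⟨1, 3268, []⟩, ⟨1, 3271, []⟩, ⟨1, 3273, []⟩, ⟨1, 3273, []⟩, ⟨1, 3849, [11, 12, 8, 12, 11, 4, 12, 8]⟩]⟩,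
 ⟨4, 6, 4126, [], [⟨1, 4125, []⟩], []⟩,
 ⟨17, 6, 3369, [4, 12, 5, 5, 3, 6, 6, 2, 0], [], [⟨1, 3368, [4, 12]⟩, ⟨1, 3268, []⟩, ⟨1, 3271, []⟩, ⟨1, 3268, []⟩, ⟨1, 3271, []⟩, ⟨1, 3268, []⟩, ⟨1, 3271, []⟩, ⟨1, 3268, []⟩, ⟨1, 3273, []⟩, ⟨1, 3273, []⟩, ⟨1, 3670, [4, 11, 12, 11, 4, 11, 12, 11, 13]⟩, ⟨1, 4101, [12, 8, 12, 13, 11, 2, 4, 12, 8, 11]⟩]⟩,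
 ⟨4, 6, 4128, [], [⟨1, 4127, []⟩], []⟩,
 ⟨17, 6, 3369, [4, 7, 13, 5, 5, 3, 6, 6, 2, 0], [], [⟨1, 3368, [4, 7, 13]⟩, ⟨1, 3271, []⟩, ⟨1, 3268, []⟩, ⟨1, 3271, []⟩, ⟨1, 3268, []⟩, ⟨1, 3271, []⟩, ⟨1, 3268, []⟩, ⟨1, 3271, []⟩, ⟨1, 3268, []⟩, ⟨1, 3271, []⟩, ⟨1, 3273, []⟩, ⟨1, 3558, [8, 12, 11, 12, 7, 11, 13, 11]⟩, ⟨1, 135, []⟩, ⟨1, 134, []⟩, ⟨1, 4083, [11, 12, 11, 12, 8, 12, 11, 4, 11]⟩]⟩,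
 ⟨4, 6, 4130, [], [⟨1, 4129, []⟩], []⟩]
theorem chk84 : and2 (D.chkL PF84 4083) (Nat.beq (Nat.add 4083 PF84.length) 4131) = true := by decide +kernel

def PF85 : List DPf := [⟨7, 6, 3391, [2, 12, 8, 11, 4, 12, 3, 1, 0, 2, 1, 3, 2, 0], [], [⟨1, 3390, [2, 12, 8, 11, 4, 12]⟩, ⟨1, 3273, []⟩, ⟨1, 3442, [12, 7, 13, 11, 12, 11, 4, 13, 11]⟩, ⟨1, 135, []⟩, ⟨1, 134, []⟩, ⟨1, 3981, [0, 4, 7, 11, 12, 13, 11, 4, 12, 11]⟩]⟩,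
 ⟨4, 6, 4132, [], [⟨1, 4131, []⟩], []⟩,
 ⟨7, 6, 3391, [2, 8, 11, 4, 12, 3, 1, 0, 2, 1, 3, 2, 0], [], [⟨1, 3390, [2, 8, 11, 4, 12]⟩, ⟨1, 3271, []⟩, ⟨1, 3268, []⟩, ⟨1, 3271, []⟩, ⟨1, 3268, []⟩, ⟨1, 3271, []⟩, ⟨1, 3268, []⟩, ⟨1, 3271, []⟩, ⟨1, 3268, []⟩, ⟨1, 3273, []⟩, ⟨1, 3273, []⟩, ⟨1, 3325, [2, 8, 12, 11, 12, 13]⟩, ⟨1, 86, []⟩, ⟨1, 87, []⟩, ⟨1, 86, []⟩, ⟨1, 90, []⟩, ⟨1, 86, []⟩, ⟨1, 3847, [0, 7, 11, 4, 13, 11, 12, 11, 12]⟩]⟩,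
 ⟨4, 6, 4134, [], [⟨1, 4133, []⟩], []⟩,
 ⟨8, 6, 3391, [8, 11, 4, 13, 11, 12, 0, 2, 3, 4, 2, 1, 2, 0, 1, 3, 2, 0], [], [⟨1, 3390, [8, 11, 4, 13, 11, 12]⟩, ⟨1, 3268, []⟩, ⟨1, 3271, []⟩, ⟨1, 3273, []⟩, ⟨1, 3273, []⟩, ⟨1, 3385, [4, 11, 12, 8, 11, 4, 13, 11]⟩, ⟨1, 135, []⟩, ⟨1, 3927, [11, 4, 12, 7, 11, 13, 11, 4]⟩]⟩,
 ⟨4, 6, 4136, [], [⟨1, 4135, []⟩], []⟩,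
 ⟨8, 6, 3391, [4, 8, 11, 12, 0, 2, 3, 4, 2, 1, 2, 0, 1, 3, 2, 0], [], [⟨1, 3390, [4, 8, 11, 12]⟩, ⟨1, 3268, []⟩, ⟨1, 3271, []⟩, ⟨1, 3268, []⟩, ⟨1, 3273, []⟩, ⟨1, 3492, [0, 13, 11, 12, 11, 4, 12, 7]⟩, ⟨1, 135, []⟩, ⟨1, 134, []⟩, ⟨1, 4097, [8, 11, 2, 4, 12, 13, 11, 4, 12, 8]⟩]⟩,
 ⟨4, 6, 4138, [], [⟨1, 4137, []⟩], []⟩,
 ⟨8, 6, 3391, [2, 8, 11, 4, 12, 0, 2, 3, 4, 2, 1, 2, 0, 1, 3, 2, 0], [], [⟨1, 3390, [2, 8, 11, 4, 12]⟩, ⟨1, 3268, []⟩, ⟨1, 3271, []⟩, ⟨1, 3268, []⟩, ⟨1, 3273, []⟩, ⟨1, 3492, [0, 8, 12, 13, 11, 4, 12, 8, 11, 12]⟩, ⟨1, 134, []⟩, ⟨1, 135, []⟩, ⟨1, 3819, [0, 7, 13, 11, 12, 8, 11, 12, 8, 11]⟩]⟩,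
 ⟨4, 6, 4140, [], [⟨1, 4139, []⟩], []⟩,
 ⟨8, 6, 3391, [8, 12, 13, 11, 12, 0, 2, 3, 4, 2, 1, 2, 0, 1, 3, 2, 0], [], [⟨1, 3390, [8, 12, 13, 11, 12]⟩, ⟨1, 3271, []⟩, ⟨1, 3268, []⟩, ⟨1, 3271, []⟩, ⟨1, 3268, []⟩, ⟨1, 3271, []⟩, ⟨1, 3268, []⟩, ⟨1, 3271, []⟩, ⟨1, 3268, []⟩, ⟨1, 3732, [0, 7, 11, 12, 8, 12, 11, 12, 7, 13, 11, 12]⟩, ⟨1, 134, []⟩, ⟨1, 135, []⟩, ⟨1, 3831, [0, 7, 12, 8, 11, 4, 13, 11, 4, 11, 13]⟩]⟩,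
 ⟨4, 6, 4142, [], [⟨1, 4141, []⟩], []⟩,
 ⟨7, 6, 3367, [2, 8, 11, 12, 7, 11, 12, 3, 1, 0, 2, 1, 3, 2, 0], [], [⟨1, 3366, [2, 8, 11, 12, 7, 11, 12]⟩, ⟨1, 3271, []⟩, ⟨1, 3268, []⟩, ⟨1, 3271, []⟩, ⟨1, 3273, []⟩, ⟨1, 3420, [8, 12, 7, 13, 11, 2, 12, 7, 11, 4, 13]⟩, ⟨1, 86, []⟩, ⟨1, 87, []⟩, ⟨1, 86, []⟩, ⟨1, 90, []⟩, ⟨1, 3947, [0, 8, 12, 8, 13, 11, 12, 11, 4]⟩]⟩,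
 ⟨4, 6, 4144, [], [⟨1, 4143, []⟩], []⟩,
 ⟨8, 6, 3367, [7, 12, 11, 4, 13, 0, 2, 3, 4, 2, 1, 2, 0, 1, 3, 2, 0], [], [⟨1, 3366, [7, 12, 11, 4, 13]⟩, ⟨1, 3271, []⟩, ⟨1, 3268, []⟩, ⟨1, 3271, []⟩, ⟨1, 3268, []⟩, ⟨1, 3271, []⟩, ⟨1, 3268, []⟩, ⟨1, 3271, []⟩, ⟨1, 3268, []⟩, ⟨1, 3273, []⟩, ⟨1, 3273, []⟩, ⟨1, 3524, [11, 12, 7, 12, 13, 11, 12, 7, 11]⟩, ⟨1, 135, []⟩, ⟨1, 134, []⟩, ⟨1, 4037, [2, 4, 8, 11, 12, 7, 11, 4, 11, 13]⟩]⟩,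
 ⟨4, 6, 4146, [], [⟨1, 4145, []⟩], []⟩,
 ⟨17, 6, 3367, [8, 13, 5, 5, 3, 6, 6, 2, 0], [], [⟨1, 3366, [8, 13]⟩, ⟨1, 3271, []⟩, ⟨1, 3268, []⟩, ⟨1, 3271, []⟩, ⟨1, 3268, []⟩, ⟨1, 3420, [2, 7, 12, 7, 11, 12, 7, 13, 11]⟩, ⟨1, 87, []⟩, ⟨1, 86, []⟩, ⟨1, 90, []⟩, ⟨1, 86, []⟩, ⟨1, 90, []⟩, ⟨1, 3881, [4, 8, 13, 11, 2, 4, 12, 11, 13]⟩]⟩,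
 ⟨4, 6, 4148, [], [⟨1, 4147, []⟩], []⟩,
 ⟨17, 6, 3367, [8, 11, 4, 12, 13, 5, 5, 3, 6, 6, 2, 0], [], [⟨1, 3366, [8, 11, 4, 12, 13]⟩, ⟨1, 3268, []⟩, ⟨1, 3271, []⟩, ⟨1, 3268, []⟩, ⟨1, 3271, []⟩, ⟨1, 3268, []⟩, ⟨1, 3271, []⟩, ⟨1, 3268, []⟩, ⟨1, 3271, []⟩, ⟨1, 3268, []⟩, ⟨1, 3271, []⟩, ⟨1, 3268, []⟩, ⟨1, 3271, []⟩, ⟨1, 3268, []⟩, ⟨1, 3273, []⟩, ⟨1, 3273, []⟩, ⟨1, 3526, [7, 11, 2, 4, 11, 12, 13, 11, 4, 11, 13]⟩, ⟨1, 134, []⟩, ⟨1, 4063, [4, 12, 7, 11, 4, 11, 13, 11]⟩]⟩,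
 ⟨4, 6, 4150, [], [⟨1, 4149, []⟩], []⟩,
 ⟨7, 6, 3373, [13, 11, 4, 11, 12, 3, 1, 0, 2, 1, 3, 2, 0], [], [⟨1, 3372, [13, 11, 4, 11, 12]⟩, ⟨1, 3271, []⟩, ⟨1, 3268, []⟩, ⟨1, 3271, []⟩, ⟨1, 3268, []⟩, ⟨1, 3271, []⟩, ⟨1, 3268, []⟩, ⟨1, 3271, []⟩, ⟨1, 3268, []⟩, ⟨1, 3271, []⟩, ⟨1, 3268, []⟩, ⟨1, 3273, []⟩, ⟨1, 3273, []⟩, ⟨1, 3718, [4, 8, 11, 13, 11, 12, 11, 13]⟩, ⟨1, 3819, [0, 4, 12, 8, 11, 12, 7, 13]⟩]⟩,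
 ⟨4, 6, 4152, [], [⟨1, 4151, []⟩], []⟩,
 ⟨7, 6, 3373, [0, 7, 11, 12, 13, 11, 12, 3, 1, 0, 2, 1, 3, 2, 0], [], [⟨1, 3372, [0, 7, 11, 12, 13, 11, 12]⟩, ⟨1, 3268, []⟩, ⟨1, 3271, []⟩, ⟨1, 3268, []⟩, ⟨1, 3271, []⟩, ⟨1, 3268, []⟩, ⟨1, 3271, []⟩, ⟨1, 3268, []⟩, ⟨1, 3271, []⟩, ⟨1, 3325, [12, 11, 4, 13, 11, 12, 11, 4, 13]⟩, ⟨1, 90, []⟩, ⟨1, 86, []⟩, ⟨1, 90, []⟩, ⟨1, 3953, [0, 7, 11, 13, 11, 4, 12, 11, 4, 12]⟩]⟩,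
 ⟨4, 6, 4154, [], [⟨1, 4153, []⟩], []⟩,
 ⟨12, 6, 3373, [4, 8, 11, 13, 11, 12, 0, 2, 3, 1, 0, 2, 1, 2, 4, 3, 2, 0, 2, 0], [], [⟨1, 3372, [4, 8, 11, 13, 11, 12]⟩, ⟨1, 3268, []⟩, ⟨1, 3271, []⟩, ⟨1, 3268, []⟩, ⟨1, 3271, []⟩, ⟨1, 3268, []⟩, ⟨1, 3446, [4, 12, 13, 11, 4, 11, 12]⟩, ⟨1, 135, []⟩, ⟨1, 4051, [8, 12, 7, 11, 12, 11, 12, 8]⟩]⟩,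
 ⟨4, 6, 4156, [], [⟨1, 4155, []⟩], []⟩,
 ⟨17, 6, 3373, [8, 11, 13, 5, 5, 3, 6, 6, 2, 0], [], [⟨1, 3372, [8, 11, 13]⟩, ⟨1, 3268, []⟩, ⟨1, 3271, []⟩, ⟨1, 3268, []⟩, ⟨1, 3271, []⟩, ⟨1, 3268, []⟩, ⟨1, 3273, []⟩, ⟨1, 3389, [13, 11, 12, 11, 4, 12, 7, 13]⟩, ⟨1, 3879, [8, 12, 7, 13, 11, 2, 12, 11, 4, 13]⟩]⟩,
 ⟨4, 6, 4158, [], [⟨1, 4157, []⟩], []⟩,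
 ⟨7, 6, 3385, [4, 8, 13, 11, 4, 12, 3, 1, 0, 2, 1, 3, 2, 0], [], [⟨1, 3384, [4, 8, 13, 11, 4, 12]⟩, ⟨1, 3642, [0, 4, 11, 12, 8]⟩, ⟨1, 2978, []⟩, ⟨1, 2981, []⟩, ⟨1, 2981, []⟩, ⟨1, 2990, []⟩, ⟨1, 2990, []⟩, ⟨1, 3901, [0, 12, 13, 11, 12, 8, 12, 11, 4, 12]⟩]⟩,
 ⟨4, 6, 4160, [], [⟨1, 4159, []⟩], []⟩,
 ⟨8, 6, 3385, [4, 7, 12, 11, 4, 0, 2, 3, 4, 2, 1, 2, 0, 1, 3, 2, 0], [], [⟨1, 3384, [4, 7, 12, 11, 4]⟩, ⟨1, 3268, []⟩, ⟨1, 3271, []⟩, ⟨1, 3268, []⟩, ⟨1, 3271, []⟩, ⟨1, 3444, [0, 12, 13, 11, 12, 7, 12, 11]⟩, ⟨1, 86, []⟩, ⟨1, 87, []⟩, ⟨1, 86, []⟩, ⟨1, 90, []⟩, ⟨1, 86, []⟩, ⟨1, 90, []⟩, ⟨1, 3941, [2, 12, 8, 13, 11, 12, 7, 11, 13]⟩]⟩,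
 ⟨4, 6, 4162, [], [⟨1, 4161, []⟩], []⟩,
 ⟨13, 6, 3385, [0, 12, 13, 0, 2, 3, 1, 2, 0, 1, 3, 2, 0], [], [⟨1, 3384, [0, 12, 13]⟩, ⟨1, 3271, []⟩, ⟨1, 3268, []⟩, ⟨1, 3271, []⟩, ⟨1, 3268, []⟩, ⟨1, 3271, []⟩, ⟨1, 3268, []⟩, ⟨1, 3271, []⟩, ⟨1, 3268, []⟩, ⟨1, 3273, []⟩, ⟨1, 3718, [11, 2, 4, 12, 11, 12, 8, 13]⟩, ⟨1, 3819, [0, 11, 12, 8, 11, 12, 7]⟩]⟩,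
 ⟨4, 6, 4164, [], [⟨1, 4163, []⟩], []⟩,
 ⟨17, 6, 3385, [12, 7, 13, 5, 5, 3, 6, 6, 2, 0], [], [⟨1, 3384, [12, 7, 13]⟩, ⟨1, 3273, []⟩, ⟨1, 3472, [4, 12, 13, 11, 12, 7, 11, 4, 11, 13]⟩, ⟨1, 90, []⟩, ⟨1, 90, []⟩, ⟨1, 90, []⟩, ⟨1, 3943, [11, 2, 12, 7, 11, 12, 8, 11, 4]⟩]⟩,
 ⟨4, 6, 4166, [], [⟨1, 4165, []⟩], []⟩,
 ⟨7, 6, 3044, [0, 4, 11, 13, 11, 12, 3, 1, 0, 2, 1, 3, 2, 0], [], [⟨1, 3043, [0, 4, 11, 13, 11, 12]⟩, ⟨1, 2977, []⟩, ⟨1, 2981, []⟩, ⟨1, 2990, []⟩, ⟨1, 2981, []⟩, ⟨1, 3244, [0, 4, 12, 8, 13, 11, 12, 11, 4, 11]⟩, ⟨1, 135, []⟩, ⟨1, 3889, [2, 11, 12, 7, 11, 12]⟩]⟩,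
 ⟨4, 6, 4168, [], [⟨1, 4167, []⟩], []⟩,
 ⟨7, 6, 3044, [12, 3, 1, 0, 2, 1, 3, 2, 0], [], [⟨1, 3043, [12]⟩, ⟨1, 2981, []⟩, ⟨1, 2981, []⟩, ⟨1, 2990, []⟩, ⟨1, 3018, [11, 4, 12, 7, 11]⟩, ⟨1, 3975, [7, 11, 12, 11, 12, 8, 12, 11, 4, 12]⟩]⟩,
 ⟨4, 6, 4170, [], [⟨1, 4169, []⟩], []⟩,
 ⟨7, 6, 3044, [0, 8, 12, 13, 11, 12, 3, 1, 0, 2, 1, 3, 2, 0], [], [⟨1, 3043, [0, 8, 12, 13, 11, 12]⟩, ⟨1, 2978, []⟩, ⟨1, 2981, []⟩, ⟨1, 2990, []⟩, ⟨1, 2977, []⟩, ⟨1, 3018, [4, 12, 7, 11, 2, 12, 8, 11, 13]⟩, ⟨1, 134, []⟩, ⟨1, 135, []⟩, ⟨1, 4165, [4, 11, 4, 11, 12, 7, 11, 4, 12, 13]⟩]⟩,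
 ⟨4, 6, 4172, [], [⟨1, 4171, []⟩], []⟩,
 ⟨8, 6, 3044, [7, 11, 12, 8, 13, 11, 12, 0, 2, 3, 4, 2, 1, 2, 0, 1, 3, 2, 0], [], [⟨1, 3043, [7, 11, 12, 8, 13, 11, 12]⟩, ⟨1, 2978, []⟩, ⟨1, 2990, []⟩, ⟨1, 2981, []⟩, ⟨1, 3218, [2, 7, 11, 12, 8, 11, 12, 11, 4, 11]⟩, ⟨1, 86, []⟩, ⟨1, 87, []⟩, ⟨1, 90, []⟩, ⟨1, 86, []⟩, ⟨1, 3885, [7, 11, 4, 12, 11, 12, 11, 13, 11, 4]⟩]⟩,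
 ⟨4, 6, 4174, [], [⟨1, 4173, []⟩], []⟩,
 ⟨8, 6, 3044, [0, 4, 13, 11, 4, 11, 12, 0, 2, 3, 4, 2, 1, 2, 0, 1, 3, 2, 0], [], [⟨1, 3043, [0, 4, 13, 11, 4, 11, 12]⟩, ⟨1, 2978, []⟩, ⟨1, 2981, []⟩, ⟨1, 2981, []⟩, ⟨1, 2990, []⟩, ⟨1, 2977, []⟩, ⟨1, 2990, []⟩, ⟨1, 3226, [12, 7, 11, 12, 11, 12]⟩, ⟨1, 135, []⟩, ⟨1, 134, []⟩, ⟨1, 4089, [0, 12, 7, 11, 12, 8, 13, 11, 12, 11, 4]⟩]⟩,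
 ⟨4, 6, 4176, [], [⟨1, 4175, []⟩], []⟩]
theorem chk85 : and2 (D.chkL PF85 4131) (Nat.beq (Nat.add 4131 PF85.length) 4177) = true := by decide +kernel

def PF86 : List DPf := [⟨8, 6, 3044, [0, 7, 12, 11, 13, 11, 4, 0, 2, 3, 4, 2, 1, 2, 0, 1, 3, 2, 0], [], [⟨1, 3043, [0, 7, 12, 11, 13, 11, 4]⟩, ⟨1, 2978, []⟩, ⟨1, 2978, []⟩, ⟨1, 2977, []⟩, ⟨1, 2981, []⟩, ⟨1, 2990, []⟩, ⟨1, 2990, []⟩, ⟨1, 2981, []⟩, ⟨1, 3014, [0, 4, 8, 12, 11]⟩, ⟨1, 87, []⟩, ⟨1, 90, []⟩, ⟨1, 86, []⟩, ⟨1, 90, []⟩, ⟨1, 3885, [4, 13, 11, 12, 7, 11, 4]⟩]⟩,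
 ⟨4, 6, 4178, [], [⟨1, 4177, []⟩], []⟩,
 ⟨8, 6, 3044, [12, 8, 11, 12, 0, 2, 3, 4, 2, 1, 2, 0, 1, 3, 2, 0], [], [⟨1, 3043, [12, 8, 11, 12]⟩, ⟨1, 2978, []⟩, ⟨1, 2978, []⟩, ⟨1, 2981, []⟩, ⟨1, 2981, []⟩, ⟨1, 2990, []⟩, ⟨1, 2977, []⟩, ⟨1, 3138, [4, 12, 7, 11, 4, 11, 12, 8, 11, 12]⟩, ⟨1, 135, []⟩, ⟨1, 134, []⟩, ⟨1, 4021, [0, 12, 7, 11, 12, 8, 11, 12]⟩]⟩,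
 ⟨4, 6, 4180, [], [⟨1, 4179, []⟩], []⟩,
 ⟨12, 6, 3496, [7, 11, 12, 13, 11, 4, 0, 2, 3, 1, 0, 2, 1, 2, 4, 3, 2, 0, 2, 0], [], [⟨1, 3495, [7, 11, 12, 13, 11, 4]⟩, ⟨1, 3268, []⟩, ⟨1, 3271, []⟩, ⟨1, 3273, []⟩, ⟨1, 3552, [7, 12, 11, 4, 11, 4, 13, 11, 12]⟩, ⟨1, 134, []⟩, ⟨1, 135, []⟩, ⟨1, 134, []⟩, ⟨1, 3813, [2, 4, 8, 11, 4, 12, 13, 11, 4, 12]⟩]⟩,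
 ⟨4, 6, 4182, [], [⟨1, 4181, []⟩], []⟩,
 ⟨13, 6, 3496, [0, 7, 11, 4, 13, 11, 12, 0, 2, 3, 1, 2, 0, 1, 3, 2, 0], [], [⟨1, 3495, [0, 7, 11, 4, 13, 11, 12]⟩, ⟨1, 3268, []⟩, ⟨1, 3271, []⟩, ⟨1, 3732, [7, 11, 2, 12, 7, 11, 12, 7, 11]⟩, ⟨1, 134, []⟩, ⟨1, 3784, [4, 11, 4, 11, 12, 7, 11, 13, 11, 4]⟩]⟩,
 ⟨4, 6, 4184, [], [⟨1, 4183, []⟩], []⟩,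
 ⟨17, 6, 3496, [8, 11, 12, 7, 13, 5, 5, 3, 6, 6, 2, 0], [], [⟨1, 3495, [8, 11, 12, 7, 13]⟩, ⟨1, 3268, []⟩, ⟨1, 3271, []⟩, ⟨1, 3273, []⟩, ⟨1, 3418, [7, 11, 12, 7, 13, 11, 4, 12, 8, 11]⟩, ⟨1, 135, []⟩, ⟨1, 4169, [7, 12, 8, 11, 2, 4, 12, 13, 11, 4]⟩]⟩,
 ⟨4, 6, 4186, [], [⟨1, 4185, []⟩], []⟩,
 ⟨7, 6, 3349, [11, 4, 12, 13, 11, 4, 12, 3, 1, 0, 2, 1, 3, 2, 0], [], [⟨1, 3348, [11, 4, 12, 13, 11, 4, 12]⟩, ⟨1, 3271, []⟩, ⟨1, 3268, []⟩, ⟨1, 3271, []⟩, ⟨1, 3268, []⟩, ⟨1, 3271, []⟩, ⟨1, 3273, []⟩, ⟨1, 3273, []⟩, ⟨1, 3291, [0, 4, 11, 12, 7, 11, 12, 11, 4, 11]⟩, ⟨1, 76, []⟩, ⟨1, 76, []⟩, ⟨1, 78, []⟩, ⟨1, 81, []⟩, ⟨1, 77, []⟩, ⟨1, 126, []⟩, ⟨1, 3877,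 [7, 12, 8, 11, 4, 12, 13, 11, 4]⟩]⟩,
 ⟨4, 6, 4188, [], [⟨1, 4187, []⟩], []⟩,
 ⟨15, 6, 3349, [7, 0, 2, 5, 2, 0], [], [⟨1, 3348, [7]⟩, ⟨1, 3271, []⟩, ⟨1, 3268, []⟩, ⟨1, 3271, []⟩, ⟨1, 3268, []⟩, ⟨1, 3271, []⟩, ⟨1, 3893, [0, 12, 7, 11, 4, 12, 8, 13, 11, 4]⟩]⟩,
 ⟨4, 6, 4190, [], [⟨1, 4189, []⟩], []⟩,
 ⟨17, 6, 3349, [4, 8, 12, 5, 5, 3, 6, 6, 2, 0], [], [⟨1, 3348, [4, 8, 12]⟩, ⟨1, 3268, []⟩, ⟨1, 3271, []⟩, ⟨1, 3268, []⟩, ⟨1, 3271, []⟩, ⟨1, 3268, []⟩, ⟨1, 3271, []⟩, ⟨1, 3268, []⟩, ⟨1, 3271, []⟩, ⟨1, 3268, []⟩, ⟨1, 3271, []⟩, ⟨1, 3268, []⟩, ⟨1, 3271, []⟩, ⟨1, 3636, [0, 4, 8, 12, 11, 13, 11, 4, 11, 4, 12, 13]⟩, ⟨1, 3789, [0, 4, 7, 12, 8, 13,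 11, 12, 8, 11, 4, 11]⟩]⟩,
 ⟨4, 6, 4192, [], [⟨1, 4191, []⟩], []⟩,
 ⟨7, 6, 3351, [11, 4, 12, 3, 1, 0, 2, 1, 3, 2, 0], [], [⟨1, 3350, [11, 4, 12]⟩, ⟨1, 3268, []⟩, ⟨1, 3271, []⟩, ⟨1, 3268, []⟩, ⟨1, 3271, []⟩, ⟨1, 3268, []⟩, ⟨1, 3271, []⟩, ⟨1, 3268, []⟩, ⟨1, 3271, []⟩, ⟨1, 3268, []⟩, ⟨1, 3271, []⟩, ⟨1, 3268, []⟩, ⟨1, 3273, []⟩, ⟨1, 3273, []⟩, ⟨1, 3468, [11, 4, 11, 13, 11, 4, 12, 11, 12]⟩, ⟨1, 134, []⟩, ⟨1, 135, []⟩, ⟨1, 4007, [11, 4, 12, 8, 13, 11, 4, 12, 11, 4]⟩]⟩,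
 ⟨4, 6, 4194, [], [⟨1, 4193, []⟩], []⟩,
 ⟨12, 6, 3351, [8, 11, 4, 12, 13, 11, 4, 12, 0, 2, 3, 1, 0, 2, 1, 2, 4, 3, 2, 0, 2, 0], [], [⟨1, 3350, [8, 11, 4, 12, 13, 11, 4, 12]⟩, ⟨1, 3268, []⟩, ⟨1, 3271, []⟩, ⟨1, 3268, []⟩, ⟨1, 3712, [2, 8, 11, 12, 11, 12, 7, 13, 11, 12, 11]⟩, ⟨1, 135, []⟩, ⟨1, 4167, [8, 12, 8, 11, 13]⟩]⟩,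
 ⟨4, 6, 4196, [], [⟨1, 4195, []⟩], []⟩,
 ⟨7, 6, 3389, [0, 4, 13, 11, 4, 12, 3, 1, 0, 2, 1, 3, 2, 0], [], [⟨1, 3388, [0, 4, 13, 11, 4, 12]⟩, ⟨1, 3271, []⟩, ⟨1, 3273, []⟩, ⟨1, 3273, []⟩, ⟨1, 3422, [0, 13, 11, 4, 11, 12, 8, 12, 13, 11, 4, 11]⟩, ⟨1, 134, []⟩, ⟨1, 135, []⟩, ⟨1, 3977, [4, 12, 7, 11, 4, 11, 13]⟩]⟩,
 ⟨4, 6, 4198, [], [⟨1, 4197, []⟩], []⟩,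
 ⟨7, 6, 3389, [8, 11, 12, 3, 1, 0, 2, 1, 3, 2, 0], [], [⟨1, 3388, [8, 11, 12]⟩, ⟨1, 3268, []⟩, ⟨1, 3271, []⟩, ⟨1, 3268, []⟩, ⟨1, 3271, []⟩, ⟨1, 3268, []⟩, ⟨1, 3271, []⟩, ⟨1, 3268, []⟩, ⟨1, 3271, []⟩, ⟨1, 3268, []⟩, ⟨1, 3271, []⟩, ⟨1, 3273, []⟩, ⟨1, 3273, []⟩, ⟨1, 3432, [7, 12, 7, 13, 11]⟩, ⟨1, 3929, [12, 11, 4, 13, 11, 4, 12, 11, 12]⟩]⟩,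
 ⟨4, 6, 4200, [], [⟨1, 4199, []⟩], []⟩,
 ⟨8, 6, 3389, [11, 4, 12, 8, 11, 12, 0, 2, 3, 4, 2, 1, 2, 0, 1, 3, 2, 0], [], [⟨1, 3388, [11, 4, 12, 8, 11, 12]⟩, ⟨1, 3268, []⟩, ⟨1, 3271, []⟩, ⟨1, 3268, []⟩, ⟨1, 3271, []⟩, ⟨1, 3268, []⟩, ⟨1, 3271, []⟩, ⟨1, 3268, []⟩, ⟨1, 3271, []⟩, ⟨1, 3268, []⟩, ⟨1, 3271, []⟩, ⟨1, 3268, []⟩, ⟨1, 3271, []⟩, ⟨1, 3564, [0, 11, 12, 13, 11, 12, 7, 12, 11]⟩, ⟨1, 134, []⟩, ⟨1, 135, []⟩, ⟨1, 3977, [0, 4, 7, 13, 11, 12, 7, 11, 4, 12, 13]⟩]⟩,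
 ⟨4, 6, 4202, [], [⟨1, 4201, []⟩], []⟩,
 ⟨13, 6, 3389, [2, 7, 11, 4, 11, 12, 0, 2, 3, 1, 2, 0, 1, 3, 2, 0], [], [⟨1, 3388, [2, 7, 11, 4, 11, 12]⟩, ⟨1, 3271, []⟩, ⟨1, 3268, []⟩, ⟨1, 3271, []⟩, ⟨1, 3268, []⟩, ⟨1, 3271, []⟩, ⟨1, 3268, []⟩, ⟨1, 3271, []⟩, ⟨1, 3268, []⟩, ⟨1, 3271, []⟩, ⟨1, 3268, []⟩, ⟨1, 3273, []⟩, ⟨1, 3273, []⟩, ⟨1, 3474, [0, 12, 11, 4, 13, 11, 4, 12, 7, 11, 4]⟩, ⟨1, 134, []⟩, ⟨1, 135, []⟩, ⟨1, 4201, [0, 4, 13, 11, 12, 8, 11, 12, 11, 12]⟩]⟩,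
 ⟨4, 6, 4204, [], [⟨1, 4203, []⟩], []⟩,
 ⟨8, 6, 3379, [0, 12, 13, 11, 4, 0, 2, 3, 4, 2, 1, 2, 0, 1, 3, 2, 0], [], [⟨1, 3378, [0, 12, 13, 11, 4]⟩, ⟨1, 3271, []⟩, ⟨1, 3268, []⟩, ⟨1, 3271, []⟩, ⟨1, 3268, []⟩, ⟨1, 3271, []⟩, ⟨1, 3268, []⟩, ⟨1, 3271, []⟩, ⟨1, 3268, []⟩, ⟨1, 3271, []⟩, ⟨1, 3268, []⟩, ⟨1, 3271, []⟩, ⟨1, 3268, []⟩, ⟨1, 3273, []⟩, ⟨1, 3277, [7, 11, 12, 8, 13, 11, 12, 11, 4, 11]⟩, ⟨1, 39, []⟩, ⟨1, 42, []⟩, ⟨1, 40, []⟩, ⟨1, 3999, [2, 4, 8, 11, 13, 11, 12, 7, 11, 4, 13]⟩]⟩,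
 ⟨4, 6, 4206, [], [⟨1, 4205, []⟩], []⟩,
 ⟨12, 6, 3524, [4, 12, 13, 0, 2, 3, 1, 0, 2, 1, 2, 4, 3, 2, 0, 2, 0], [], [⟨1, 3523, [4, 12, 13]⟩, ⟨1, 3268, []⟩, ⟨1, 3271, []⟩, ⟨1, 3273, []⟩, ⟨1, 3273, []⟩, ⟨1, 3652, [2, 11, 4, 11, 12, 13, 11, 4, 11]⟩, ⟨1, 134, []⟩, ⟨1, 135, []⟩, ⟨1, 134, []⟩, ⟨1, 3915, [2, 12, 7, 11, 4, 13, 11]⟩]⟩,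
 ⟨4, 6, 4208, [], [⟨1, 4207, []⟩], []⟩,
 ⟨7, 6, 3434, [4, 3, 1, 0, 2, 1, 3, 2, 0], [], [⟨1, 3433, [4]⟩, ⟨1, 3268, []⟩, ⟨1, 3271, []⟩, ⟨1, 3268, []⟩, ⟨1, 3271, []⟩, ⟨1, 3268, []⟩, ⟨1, 3273, []⟩, ⟨1, 3273, []⟩, ⟨1, 3446, [0, 4, 8, 13, 11, 4]⟩, ⟨1, 135, []⟩, ⟨1, 4051, [8, 11, 12, 7, 11, 4, 12, 11, 12, 13]⟩]⟩,
 ⟨4, 6, 4210, [], [⟨1, 4209, []⟩], []⟩,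
 ⟨7, 6, 3568, [4, 11, 4, 12, 13, 11, 4, 3, 1, 0, 2, 1, 3, 2, 0], [], [⟨1, 3567, [4, 11, 4, 12, 13, 11, 4]⟩, ⟨1, 3271, []⟩, ⟨1, 3268, []⟩, ⟨1, 3452, [0, 7, 11, 4, 13]⟩, ⟨1, 4053, [8, 12, 11, 12, 11, 4, 11]⟩]⟩,
 ⟨4, 6, 4212, [], [⟨1, 4211, []⟩], []⟩,
 ⟨8, 6, 3452, [0, 7, 12, 13, 11, 4, 0, 2, 3, 4, 2, 1, 2, 0, 1, 3, 2, 0], [], [⟨1, 3451, [0, 7, 12, 13, 11, 4]⟩, ⟨1, 3271, []⟩, ⟨1, 3268, []⟩, ⟨1, 3271, []⟩, ⟨1, 3268, []⟩, ⟨1, 3271, []⟩, ⟨1, 3268, []⟩, ⟨1, 3271, []⟩, ⟨1, 3268, []⟩, ⟨1, 3271, []⟩, ⟨1, 3273, []⟩, ⟨1, 3273, []⟩, ⟨1, 3512, [4, 11, 4, 13, 11, 4, 11, 12, 8, 13]⟩, ⟨1, 4177, [11, 12, 8, 11, 12, 13, 11, 4]⟩]⟩,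
 ⟨4, 6, 4214, [], [⟨1, 4213, []⟩], []⟩,
 ⟨8, 6, 3050, [2, 8, 12, 0, 2, 3, 4, 2, 1, 2, 0, 1, 3, 2, 0], [], [⟨1, 3049, [2, 8, 12]⟩, ⟨1, 2978, []⟩, ⟨1, 2990, []⟩, ⟨1, 2981, []⟩, ⟨1, 2981, []⟩, ⟨1, 3014, [12, 7, 11, 2, 12, 7, 11]⟩, ⟨1, 87, []⟩, ⟨1, 90, []⟩, ⟨1, 86, []⟩, ⟨1, 90, []⟩, ⟨1, 3885, [0, 12, 8, 11, 12, 8, 11, 13]⟩]⟩,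
 ⟨4, 6, 4216, [], [⟨1, 4215, []⟩], []⟩,
 ⟨13, 6, 3050, [12, 7, 11, 4, 12, 0, 2, 3, 1, 2, 0, 1, 3, 2, 0], [], [⟨1, 3049, [12, 7, 11, 4, 12]⟩, ⟨1, 2978, []⟩, ⟨1, 2990, []⟩, ⟨1, 2981, []⟩, ⟨1, 2981, []⟩, ⟨1, 3014, [11, 2, 4, 12, 11, 13, 11, 4, 12, 11]⟩, ⟨1, 86, []⟩, ⟨1, 3963, [2, 11, 4, 13, 11, 12, 7, 11]⟩]⟩,
 ⟨4, 6, 4218, [], [⟨1, 4217, []⟩], []⟩,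
 ⟨7, 6, 3387, [7, 11, 12, 13, 11, 12, 3, 1, 0, 2, 1, 3, 2, 0], [], [⟨1, 3386, [7, 11, 12, 13, 11, 12]⟩, ⟨1, 3268, []⟩, ⟨1, 3271, []⟩, ⟨1, 3268, []⟩, ⟨1, 3273, []⟩, ⟨1, 3273, []⟩, ⟨1, 3686, [8, 11, 13, 11, 4, 11, 4, 12]⟩, ⟨1, 134, []⟩, ⟨1, 135, []⟩, ⟨1, 3853, [4, 8, 12, 7, 11, 2, 12, 13, 11, 4]⟩]⟩,
 ⟨4, 6, 4220, [], [⟨1, 4219, []⟩], []⟩,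
 ⟨7, 6, 3387, [0, 7, 11, 12, 13, 11, 12, 3, 1, 0, 2, 1, 3, 2, 0], [], [⟨1, 3386, [0, 7, 11, 12, 13, 11, 12]⟩, ⟨1, 3268, []⟩, ⟨1, 3271, []⟩, ⟨1, 3422, [2, 7, 11, 12, 8, 13, 11, 12, 11, 13]⟩, ⟨1, 134, []⟩, ⟨1, 135, []⟩, ⟨1, 3977, [0, 4, 11, 12, 11, 4, 13, 11, 4, 11]⟩]⟩,
 ⟨4, 6, 4222, [], [⟨1, 4221, []⟩], []⟩]
theorem chk86 : and2 (D.chkL PF86 4177) (Nat.beq (Nat.add 4177 PF86.length) 4223) = true := by decide +kernel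

def PF87 : List DPf := [⟨7, 6, 3363, [0, 11, 12, 11, 4, 13, 3, 1, 0, 2, 1, 3, 2, 0], [], [⟨1, 3362, [0, 11, 12, 11, 4, 13]⟩, ⟨1, 3271, []⟩, ⟨1, 3268, []⟩, ⟨1, 3271, []⟩, ⟨1, 3268, []⟩, ⟨1, 3271, []⟩, ⟨1, 3268, []⟩, ⟨1, 3271, []⟩, ⟨1, 3268, []⟩, ⟨1, 3271, []⟩, ⟨1, 3268, []⟩, ⟨1, 3271, []⟩, ⟨1, 3268, []⟩, ⟨1, 3273, []⟩, ⟨1, 3273, []⟩, ⟨1, 3478, [11, 4, 12, 7, 11, 4, 12, 11, 4]⟩, ⟨1, 134, []⟩, ⟨1, 135, []⟩, ⟨1, 134, []⟩, ⟨1, 4207, [8, 12, 11, 2, 13, 11, 4, 11, 13]⟩]⟩,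
 ⟨4, 6, 4224, [], [⟨1, 4223, []⟩], []⟩,
 ⟨7, 6, 162, [4, 11, 4, 13, 11, 12, 3, 1, 0, 2, 1, 3, 2, 0], [], [⟨1, 161, [4, 11, 4, 13, 11, 12]⟩, ⟨1, 134, []⟩, ⟨1, 135, []⟩, ⟨1, 134, []⟩, ⟨1, 4185, [2, 4, 11, 12, 11, 4, 13, 11]⟩, ⟨1, 3769, []⟩, ⟨1, 3770, []⟩, ⟨1, 3770, []⟩, ⟨1, 3775, []⟩, ⟨1, 3775, []⟩, ⟨1, 3777, []⟩, ⟨1, 3770, []⟩, ⟨1, 3869, [7, 12, 13, 11, 2, 4, 11, 13]⟩]⟩,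
 ⟨4, 6, 4226, [], [⟨1, 4225, []⟩], []⟩,
 ⟨7, 6, 169, [0, 12, 13, 11, 4, 3, 1, 0, 2, 1, 3, 2, 0], [], [⟨1, 168, [0, 12, 13, 11, 4]⟩, ⟨1, 134, []⟩, ⟨1, 2768, [0, 11, 4, 12, 11, 4, 13, 11, 4, 11, 12]⟩, ⟨1, 134, []⟩, ⟨1, 135, []⟩, ⟨1, 134, []⟩, ⟨1, 4185, [2, 12, 7, 11, 4, 11, 13, 11]⟩]⟩,
 ⟨4, 6, 4228, [], [⟨1, 4227, []⟩], []⟩,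
 ⟨7, 6, 170, [2, 7, 12, 3, 1, 0, 2, 1, 3, 2, 0], [], [⟨1, 169, [2, 7, 12]⟩, ⟨1, 2331, [0]⟩, ⟨1, 134, []⟩, ⟨1, 135, []⟩, ⟨1, 4151, [2, 4, 11, 12, 8, 13, 11, 12, 11]⟩]⟩,
 ⟨4, 6, 4230, [], [⟨1, 4229, []⟩], []⟩,
 ⟨7, 9, 3768, [0, 13, 11, 4, 11, 12, 3, 1, 0, 2, 1, 3, 2, 0], [], [⟨1, 3767, [0, 13, 11, 4, 11, 12]⟩, ⟨1, 3758, []⟩, ⟨1, 3749, []⟩, ⟨1, 3758, []⟩, ⟨1, 3765, [2, 4, 7, 11, 4, 12, 11, 12, 11, 13]⟩, ⟨1, 134, []⟩, ⟨1, 135, []⟩, ⟨1, 134, []⟩, ⟨1, 4071, [0, 4, 7, 11, 12, 13, 11, 12, 7, 11]⟩]⟩,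
 ⟨4, 9, 4232, [], [⟨1, 4231, []⟩], []⟩,
 ⟨16, 9, 3768, [8, 0, 2, 6, 2, 0, 2, 0], [], [⟨1, 3767, [8]⟩, ⟨1, 3776, [11, 4, 11, 12, 11, 4, 11, 12]⟩]⟩,
 ⟨4, 9, 4234, [], [⟨1, 4233, []⟩], []⟩,
 ⟨7, 10, 3772, [0, 7, 11, 12, 13, 3, 1, 0, 2, 1, 3, 2, 0], [], [⟨1, 3771, [0, 7, 11, 12, 13]⟩, ⟨1, 42, []⟩, ⟨1, 40, []⟩, ⟨1, 46, []⟩, ⟨1, 46, []⟩, ⟨1, 3091, [0, 12, 13, 11, 4, 11, 12, 8, 12]⟩, ⟨1, 2977, []⟩, ⟨1, 2981, []⟩, ⟨1, 2981, []⟩, ⟨1, 2990, []⟩, ⟨1, 3937, [8, 12, 11, 12, 8, 13, 11, 12, 11]⟩]⟩,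
 ⟨4, 10, 4236, [], [⟨1, 4235, []⟩], []⟩,
 ⟨7, 10, 3875, [12, 13, 11, 4, 3, 1, 0, 2, 1, 3, 2, 0], [], [⟨1, 3874, [12, 13, 11, 4]⟩, ⟨1, 3770, []⟩, ⟨1, 4038, [0, 8, 12, 7, 13, 11, 12, 11, 4, 12, 7]⟩, ⟨1, 134, []⟩, ⟨1, 135, []⟩, ⟨1, 134, []⟩, ⟨1, 4071, [11, 2, 13, 11, 4, 12, 8, 11, 4, 12]⟩]⟩,
 ⟨4, 10, 4238, [], [⟨1, 4237, []⟩], []⟩,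
 ⟨7, 10, 3875, [2, 4, 8, 12, 3, 1, 0, 2, 1, 3, 2, 0], [], [⟨1, 3874, [2, 4, 8, 12]⟩, ⟨1, 3770, []⟩, ⟨1, 3770, []⟩, ⟨1, 3777, []⟩, ⟨1, 4178, [4, 13, 11, 12, 11, 4, 13, 11, 12]⟩, ⟨1, 134, []⟩, ⟨1, 4151, [2, 11, 4, 11, 12, 7, 13, 11, 4]⟩]⟩,
 ⟨4, 10, 4240, [], [⟨1, 4239, []⟩], []⟩,
 ⟨7, 10, 3781, [11, 13, 11, 12, 3, 1, 0, 2, 1, 3, 2, 0], [], [⟨1, 3780, [11, 13, 11, 12]⟩, ⟨1, 3750, []⟩, ⟨1, 3758, []⟩, ⟨1, 3750, []⟩, ⟨1, 3758, []⟩, ⟨1, 3758, []⟩, ⟨1, 3749, []⟩, ⟨1, 3750, []⟩, ⟨1, 3750, []⟩, ⟨1, 3758, []⟩, ⟨1, 3758, []⟩, ⟨1, 3763, [2, 11, 4, 11, 4, 13, 11, 12]⟩, ⟨1, 135, []⟩, ⟨1, 134, []⟩, ⟨1, 4213, [2, 12, 8, 11, 12, 7, 11, 12, 8, 13]⟩]⟩,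
 ⟨4, 10, 4242, [], [⟨1, 4241, []⟩], []⟩,
 ⟨7, 10, 3781, [0, 4, 8, 11, 12, 13, 3, 1, 0, 2, 1, 3, 2, 0], [], [⟨1, 3780, [0, 4, 8, 11, 12, 13]⟩, ⟨1, 3749, []⟩, ⟨1, 3758, []⟩, ⟨1, 3749, []⟩, ⟨1, 3750, []⟩, ⟨1, 3758, []⟩, ⟨1, 3750, []⟩, ⟨1, 3750, []⟩, ⟨1, 3758, []⟩, ⟨1, 3758, []⟩, ⟨1, 3751, [2, 8, 12, 11, 4, 11, 4, 12, 13, 11, 12]⟩, ⟨1, 41, []⟩, ⟨1, 3772, [2, 4, 7, 11, 12, 11, 12, 8, 13]⟩]⟩,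
 ⟨7, 10, 3873, [0, 4, 12, 13, 11, 4, 12, 3, 1, 0, 2, 1, 3, 2, 0], [], [⟨1, 3872, [0, 4, 12, 13, 11, 4, 12]⟩, ⟨1, 134, []⟩, ⟨1, 135, []⟩, ⟨1, 1399, [4, 7, 12, 8, 11, 2, 12, 7, 13, 11]⟩, ⟨1, 135, []⟩, ⟨1, 4033, [12, 7, 11, 4, 11, 12, 11, 13]⟩]⟩,
 ⟨4, 10, 4245, [], [⟨1, 4244, []⟩], []⟩,
 ⟨7, 10, 3873, [2, 8, 12, 7, 11, 12, 3, 1, 0, 2, 1, 3, 2, 0], [], [⟨1, 3872, [2, 8, 12, 7, 11, 12]⟩, ⟨1, 2199, [0, 12, 7, 12, 13, 11, 12]⟩, ⟨1, 135, []⟩, ⟨1, 3983, [7, 11, 4, 12, 8, 11, 4, 11, 12, 7]⟩]⟩,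
 ⟨7, 10, 3873, [12, 7, 13, 11, 4, 12, 3, 1, 0, 2, 1, 3, 2, 0], [], [⟨1, 3872, [12, 7, 13, 11, 4, 12]⟩, ⟨1, 134, []⟩, ⟨1, 135, []⟩, ⟨1, 134, []⟩, ⟨1, 1291, [11, 4, 11, 12, 8, 12, 13]⟩, ⟨1, 135, []⟩, ⟨1, 4077, [7, 12, 11, 13, 11, 12, 7, 11, 4, 13]⟩]⟩,
 ⟨8, 10, 3873, [0, 4, 13, 0, 2, 3, 4, 2, 1, 2, 0, 1, 3, 2, 0], [], [⟨1, 3872, [0, 4, 13]⟩, ⟨1, 135, []⟩, ⟨1, 2798, [2, 12, 7, 11, 12, 8, 12, 13, 11, 4]⟩, ⟨1, 134, []⟩, ⟨1, 4081, [12, 8, 11, 13, 11, 12, 11, 12]⟩]⟩,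
 ⟨4, 10, 4249, [], [⟨1, 4248, []⟩], []⟩,
 ⟨7, 10, 3876, [11, 13, 11, 12, 3, 1, 0, 2, 1, 3, 2, 0], [], [⟨1, 3875, [11, 13, 11, 12]⟩, ⟨1, 134, []⟩, ⟨1, 135, []⟩, ⟨1, 2555, [0, 7, 13, 11, 12, 11, 12, 8, 12, 11, 4]⟩, ⟨1, 134, []⟩, ⟨1, 135, []⟩, ⟨1, 4203, [0, 12, 8, 11, 12, 7, 11, 12, 7]⟩]⟩,
 ⟨4, 10, 4251, [], [⟨1, 4250, []⟩], []⟩,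
 ⟨7, 10, 3876, [11, 12, 13, 11, 4, 12, 3, 1, 0, 2, 1, 3, 2, 0], [], [⟨1, 3875, [11, 12, 13, 11, 4, 12]⟩, ⟨1, 4051, [7, 12, 7, 11, 2, 4, 12, 11]⟩, ⟨1, 3769, []⟩, ⟨1, 3777, []⟩, ⟨1, 4250, [4, 11, 12, 7, 11, 4, 12, 8]⟩]⟩,
 ⟨7, 10, 3876, [12, 8, 11, 12, 13, 3, 1, 0, 2, 1, 3, 2, 0], [], [⟨1, 3875, [12, 8, 11, 12, 13]⟩, ⟨1, 135, []⟩, ⟨1, 1010, [2, 7, 13, 11, 12, 11, 4, 11]⟩, ⟨1, 4123, [12, 8, 12, 11, 12, 11, 4, 13, 11]⟩]⟩,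
 ⟨7, 10, 3876, [0, 11, 4, 12, 13, 11, 4, 3, 1, 0, 2, 1, 3, 2, 0], [], [⟨1, 3875, [0, 11, 4, 12, 13, 11, 4]⟩, ⟨1, 134, []⟩, ⟨1, 135, []⟩, ⟨1, 4053, [0, 12, 7, 12, 11, 4]⟩, ⟨1, 3769, []⟩, ⟨1, 3770, []⟩, ⟨1, 3775, []⟩, ⟨1, 3775, []⟩, ⟨1, 3777, []⟩, ⟨1, 3770, []⟩, ⟨1, 4249, [0, 4, 8, 12, 13, 11, 12, 8]⟩]⟩,
 ⟨4, 10, 4255, [], [⟨1, 4254, []⟩], []⟩,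
 ⟨7, 10, 3867, [11, 4, 12, 13, 3, 1, 0, 2, 1, 3, 2, 0], [], [⟨1, 3866, [11, 4, 12, 13]⟩, ⟨1, 2978, []⟩, ⟨1, 2981, []⟩, ⟨1, 2981, []⟩, ⟨1, 2990, []⟩, ⟨1, 2977, []⟩, ⟨1, 2990, []⟩, ⟨1, 3120, [12, 11, 13, 11, 12, 7, 11, 12, 8]⟩, ⟨1, 4097, [4, 7, 12, 11, 12, 7, 13, 11, 4]⟩]⟩,
 ⟨7, 10, 3867, [8, 13, 11, 12, 3, 1, 0, 2, 1, 3, 2, 0], [], [⟨1, 3866, [8, 13, 11, 12]⟩, ⟨1, 2978, []⟩, ⟨1, 2978, []⟩, ⟨1, 2981, []⟩, ⟨1, 2981, []⟩, ⟨1, 2990, []⟩, ⟨1, 2981, []⟩, ⟨1, 3010, [0, 4, 12, 11, 13, 11, 12, 8]⟩, ⟨1, 87, []⟩, ⟨1, 86, []⟩, ⟨1, 90, []⟩, ⟨1, 90, []⟩, ⟨1, 3963, [2, 4, 8, 12, 7, 11, 4, 13, 11]⟩]⟩]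
theorem chk87 : and2 (D.chkL PF87 4223) (Nat.beq (Nat.add 4223 PF87.length) 4258) = true := by decide +kernel

end H19.Th.DC
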