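import Mathlib
import Cfsg.Agent.H19.Th.DC.B
import Cfsg.Agent.H19.Th.DC.L

set_option autoImplicit false
set_option maxRecDepth 100000
set_option Elab.async false
set_option linter.all false

namespace H19.Th.DC
open H29

theorem gen0 : all2 (D.genChk 4258 0) gf0 gw0 = true := by decide +kernel

theorem row0_0 : all2 (D.rowChk 4258 [0, 1, 2, 3, 4, 5, 6, 7, 8, 9, 10] 0) pf0_0 pw0_0 = true := by decide +kernel

theorem gen1 : all2 (D.genChk 4258 1) gf1 gw1 = true := by decide +kernel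

theorem row1_0 : all2 (D.rowChk 4258 [0, 1, 2, 3, 4, 5, 6, 7, 8, 9, 10] 1) pf1_0 pw1_0 = true := by decide +kernel

theorem gen2 : all2 (D.genChk 4258 2) gf2 gw2 = true := by decide +kernel

theorem row2_0 : all2 (D.rowChk 4258 [0, 1, 2, 3, 4, 5, 6, 7, 8, 9, 10] 2) pf2_0 pw2_0 = true := by decide +kernel

theorem gen3 : all2 (D.genChk 4258 3) gf3 gw3 = true := by decide +kernel

theorem row3_0 : all2 (D.rowChk 4258 [0, 1, 2, 3, 4, 5, 6, 7, 8, 9, 10] 3) pf3_0 pw3_0 = true := by decide +kernel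

theorem gen4 : all2 (D.genChk 4258 4) gf4 gw4 = true := by decide +kernel

theorem row4_0 : all2 (D.rowChk 4258 [0, 1, 2, 3, 4, 5, 6, 7, 8, 9, 10] 4) pf4_0 pw4_0 = true := by decide +kernel

theorem gen5 : all2 (D.genChk 4258 5) gf5 gw5 = true := by decide +kernel

theorem row5_0 : all2 (D.rowChk 4258 [0, 1, 2, 3, 4, 5, 6, 7, 8, 9, 10] 5) pf5_0 pw5_0 = true := by decide +kernel

theorem row5_1 : all2 (D.rowChk 4258 [0, 1, 2, 3, 4, 5, 6, 7, 8, 9, 10] 5) pf5_1 pw5_1 = true := by decide +kernel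

theorem row5_2 : all2 (D.rowChk 4258 [0, 1, 2, 3, 4, 5, 6, 7, 8, 9, 10] 5) pf5_2 pw5_2 = true := by decide +kernel

theorem gen6 : all2 (D.genChk 4258 6) gf6 gw6 = true := by decide +kernel

theorem row6_0 : all2 (D.rowChk 4258 [0, 1, 2, 3, 4, 5, 6, 7, 8, 9, 10] 6) pf6_0 pw6_0 = true := by decide +kernel

theorem row6_1 : all2 (D.rowChk 4258 [0, 1, 2, 3, 4, 5, 6, 7, 8, 9, 10] 6) pf6_1 pw6_1 = true := by decide +kernel

theorem row6_2 : all2 (D.rowChk 4258 [0, 1, 2, 3, 4, 5, 6, 7, 8, 9, 10] 6) pf6_2 pw6_2 = true := by decide +kernel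

theorem row6_3 : all2 (D.rowChk 4258 [0, 1, 2, 3, 4, 5, 6, 7, 8, 9, 10] 6) pf6_3 pw6_3 = true := by decide +kernel

theorem row6_4 : all2 (D.rowChk 4258 [0, 1, 2, 3, 4, 5, 6, 7, 8, 9, 10] 6) pf6_4 pw6_4 = true := by decide +kernel

theorem row6_5 : all2 (D.rowChk 4258 [0, 1, 2, 3, 4, 5, 6, 7, 8, 9, 10] 6) pf6_5 pw6_5 = true := by decide +kernel

theorem row6_6 : all2 (D.rowChk 4258 [0, 1, 2, 3, 4, 5, 6, 7, 8, 9, 10] 6) pf6_6 pw6_6 = true := by decide +kernel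

theorem row6_7 : all2 (D.rowChk 4258 [0, 1, 2, 3, 4, 5, 6, 7, 8, 9, 10] 6) pf6_7 pw6_7 = true := by decide +kernel

theorem row6_8 : all2 (D.rowChk 4258 [0, 1, 2, 3, 4, 5, 6, 7, 8, 9, 10] 6) pf6_8 pw6_8 = true := by decide +kernel

end H19.Th.DC
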