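import Mathlib
import Cfsg.Agent.H19.Th.DC.B
import Cfsg.Agent.H19.Th.DC.L

set_option autoImplicit false
set_option maxRecDepth 100000
set_option Elab.async false
set_option linter.all false

namespace H19.Th.DC
open H29

theorem row6_9 : all2 (D.rowChk 4258 [0, 1, 2, 3, 4, 5, 6, 7, 8, 9, 10] 6) pf6_9 pw6_9 = true := by decide +kernel

theorem row6_10 : all2 (D.rowChk 4258 [0, 1, 2, 3, 4, 5, 6, 7, 8, 9, 10] 6) pf6_10 pw6_10 = true := by decide +kernel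

theorem row6_11 : all2 (D.rowChk 4258 [0, 1, 2, 3, 4, 5, 6, 7, 8, 9, 10] 6) pf6_11 pw6_11 = true := by decide +kernel

theorem row6_12 : all2 (D.rowChk 4258 [0, 1, 2, 3, 4, 5, 6, 7, 8, 9, 10] 6) pf6_12 pw6_12 = true := by decide +kernel

theorem row6_13 : all2 (D.rowChk 4258 [0, 1, 2, 3, 4, 5, 6, 7, 8, 9, 10] 6) pf6_13 pw6_13 = true := by decide +kernel

theorem row6_14 : all2 (D.rowChk 4258 [0, 1, 2, 3, 4, 5, 6, 7, 8, 9, 10] 6) pf6_14 pw6_14 = true := by decide +kernel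

theorem row6_15 : all2 (D.rowChk 4258 [0, 1, 2, 3, 4, 5, 6, 7, 8, 9, 10] 6) pf6_15 pw6_15 = true := by decide +kernel

theorem row6_16 : all2 (D.rowChk 4258 [0, 1, 2, 3, 4, 5, 6, 7, 8, 9, 10] 6) pf6_16 pw6_16 = true := by decide +kernel

theorem row6_17 : all2 (D.rowChk 4258 [0, 1, 2, 3, 4, 5, 6, 7, 8, 9, 10] 6) pf6_17 pw6_17 = true := by decide +kernel

theorem row6_18 : all2 (D.rowChk 4258 [0, 1, 2, 3, 4, 5, 6, 7, 8, 9, 10] 6) pf6_18 pw6_18 = true := by decide +kernel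

theorem row6_19 : all2 (D.rowChk 4258 [0, 1, 2, 3, 4, 5, 6, 7, 8, 9, 10] 6) pf6_19 pw6_19 = true := by decide +kernel

theorem row6_20 : all2 (D.rowChk 4258 [0, 1, 2, 3, 4, 5, 6, 7, 8, 9, 10] 6) pf6_20 pw6_20 = true := by decide +kernel

theorem row6_21 : all2 (D.rowChk 4258 [0, 1, 2, 3, 4, 5, 6, 7, 8, 9, 10] 6) pf6_21 pw6_21 = true := by decide +kernel

end H19.Th.DC
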