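import Mathlib
import Cfsg.Agent.H19.Th.DC.B
import Cfsg.Agent.H19.Th.DC.L

set_option autoImplicit false
set_option maxRecDepth 100000
set_option Elab.async false
set_option linter.all false

namespace H19.Th.DC
open H29

theorem row6_22 : all2 (D.rowChk 4258 [0, 1, 2, 3, 4, 5, 6, 7, 8, 9, 10] 6) pf6_22 pw6_22 = true := by decide +kernel

theorem gen7 : all2 (D.genChk 4258 7) gf7 gw7 = true := by decide +kernel

theorem row7_0 : all2 (D.rowChk 4258 [0, 1, 2, 3, 4, 5, 6, 7, 8, 9, 10] 7) pf7_0 pw7_0 = true := by decide +kernel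

theorem row7_1 : all2 (D.rowChk 4258 [0, 1, 2, 3, 4, 5, 6, 7, 8, 9, 10] 7) pf7_1 pw7_1 = true := by decide +kernel

theorem gen8 : all2 (D.genChk 4258 8) gf8 gw8 = true := by decide +kernel

theorem row8_0 : all2 (D.rowChk 4258 [0, 1, 2, 3, 4, 5, 6, 7, 8, 9, 10] 8) pf8_0 pw8_0 = true := by decide +kernel

theorem row8_1 : all2 (D.rowChk 4258 [0, 1, 2, 3, 4, 5, 6, 7, 8, 9, 10] 8) pf8_1 pw8_1 = true := by decide +kernel

theorem gen9 : all2 (D.genChk 4258 9) gf9 gw9 = true := by decide +kernel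

theorem row9_0 : all2 (D.rowChk 4258 [0, 1, 2, 3, 4, 5, 6, 7, 8, 9, 10] 9) pf9_0 pw9_0 = true := by decide +kernel

theorem gen10 : all2 (D.genChk 4258 10) gf10 gw10 = true := by decide +kernel

theorem row10_0 : all2 (D.rowChk 4258 [0, 1, 2, 3, 4, 5, 6, 7, 8, 9, 10] 10) pf10_0 pw10_0 = true := by decide +kernel

theorem row10_1 : all2 (D.rowChk 4258 [0, 1, 2, 3, 4, 5, 6, 7, 8, 9, 10] 10) pf10_1 pw10_1 = true := by decide +kernel

end H19.Th.DC
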