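import Mathlib
import Cfsg.Agent.H19.Th.DC.L
import Cfsg.Agent.H19.Th.N
import Cfsg.Agent.H19.DCE7

set_option autoImplicit false
set_option maxRecDepth 100000
set_option Elab.async false
set_option linter.all false

namespace H19.Th.DC
open H29

theorem st0_0 : Starts N.nets N.cols pw0_0 S0_0 := starts_of_chk N.hn N.hiv (by decide +kernel)

theorem cov0 : Reach (wNets N.nets gw0) [0, 1, 2, 3, 4, 5, 6] S0 (ones 17199) :=
  reach_of_chk (r := 6) (N.hn.wNets _) (by decide +kernel)

theorem st1_0 : Starts N.nets N.cols pw1_0 S1_0 := starts_of_chk N.hn N.hiv (by decide +kernel)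

theorem cov1 : Reach (wNets N.nets gw1) [0, 1, 2, 3, 4, 5, 6] S1 (ones 17199) :=
  reach_of_chk (r := 4) (N.hn.wNets _) (by decide +kernel)

theorem st2_0 : Starts N.nets N.cols pw2_0 S2_0 := starts_of_chk N.hn N.hiv (by decide +kernel)

theorem cov2 : Reach (wNets N.nets gw2) [0, 1, 2, 3, 4, 5, 6, 7, 8] S2 (ones 17199) :=
  reach_of_chk (r := 3) (N.hn.wNets _) (by decide +kernel)

theorem st3_0 : Starts N.nets N.cols pw3_0 S3_0 := starts_of_chk N.hn N.hiv (by decide +kernel)

theorem cov3 : Reach (wNets N.nets gw3) [0, 1, 2, 3, 4, 5, 6] S3 (ones 17199) :=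
  reach_of_chk (r := 2) (N.hn.wNets _) (by decide +kernel)

theorem st4_0 : Starts N.nets N.cols pw4_0 S4_0 := starts_of_chk N.hn N.hiv (by decide +kernel)

theorem cov4 : Reach (wNets N.nets gw4) [0, 1, 2, 3, 4] S4 (ones 17199) :=
  reach_of_chk (r := 3) (N.hn.wNets _) (by decide +kernel)

theorem st5_0 : Starts N.nets N.cols pw5_0 S5_0 := starts_of_chk N.hn N.hiv (by decide +kernel)

theorem st5_1 : Starts N.nets N.cols pw5_1 S5_1 := starts_of_chk N.hn N.hiv (by decide +kernel)

theorem st5_2 : Starts N.nets N.cols pw5_2 S5_2 := starts_of_chk N.hn N.hiv (by decide +kernel)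

theorem cov5 : Reach (wNets N.nets gw5) [0, 1, 2] S5 (ones 17199) :=
  reach_of_chk (r := 3) (N.hn.wNets _) (by decide +kernel)

theorem st6_0 : Starts N.nets N.cols pw6_0 S6_0 := starts_of_chk N.hn N.hiv (by decide +kernel)

theorem st6_1 : Starts N.nets N.cols pw6_1 S6_1 := starts_of_chk N.hn N.hiv (by decide +kernel)

end H19.Th.DC
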