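import Mathlib
import Cfsg.Agent.H19.Th.DC.L
import Cfsg.Agent.H19.Th.N
import Cfsg.Agent.H19.DCE7

set_option autoImplicit false
set_option maxRecDepth 100000
set_option Elab.async false
set_option linter.all false

namespace H19.Th.DC
open H29

theorem st6_2 : Starts N.nets N.cols pw6_2 S6_2 := starts_of_chk N.hn N.hiv (by decide +kernel)

theorem st6_3 : Starts N.nets N.cols pw6_3 S6_3 := starts_of_chk N.hn N.hiv (by decide +kernel)

theorem st6_4 : Starts N.nets N.cols pw6_4 S6_4 := starts_of_chk N.hn N.hiv (by decide +kernel)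

theorem st6_5 : Starts N.nets N.cols pw6_5 S6_5 := starts_of_chk N.hn N.hiv (by decide +kernel)

theorem st6_6 : Starts N.nets N.cols pw6_6 S6_6 := starts_of_chk N.hn N.hiv (by decide +kernel)

theorem st6_7 : Starts N.nets N.cols pw6_7 S6_7 := starts_of_chk N.hn N.hiv (by decide +kernel)

end H19.Th.DC
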