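import Mathlib
import Cfsg.Agent.H19.Th.DC.L
import Cfsg.Agent.H19.Th.N
import Cfsg.Agent.H19.DCE7

set_option autoImplicit false
set_option maxRecDepth 100000
set_option Elab.async false
set_option linter.all false

namespace H19.Th.DC
open H29

theorem st6_14 : Starts N.nets N.cols pw6_14 S6_14 := starts_of_chk N.hn N.hiv (by decide +kernel)

theorem st6_15 : Starts N.nets N.cols pw6_15 S6_15 := starts_of_chk N.hn N.hiv (by decide +kernel)

theorem st6_16 : Starts N.nets N.cols pw6_16 S6_16 := starts_of_chk N.hn N.hiv (by decide +kernel)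

theorem st6_17 : Starts N.nets N.cols pw6_17 S6_17 := starts_of_chk N.hn N.hiv (by decide +kernel)

theorem st6_18 : Starts N.nets N.cols pw6_18 S6_18 := starts_of_chk N.hn N.hiv (by decide +kernel)

theorem st6_19 : Starts N.nets N.cols pw6_19 S6_19 := starts_of_chk N.hn N.hiv (by decide +kernel)

end H19.Th.DC
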