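import Mathlib
import Cfsg.Agent.H19.Th.DC.L
import Cfsg.Agent.H19.Th.N
import Cfsg.Agent.H19.DCE7

set_option autoImplicit false
set_option maxRecDepth 100000
set_option Elab.async false
set_option linter.all false

namespace H19.Th.DC
open H29

theorem st6_20 : Starts N.nets N.cols pw6_20 S6_20 := starts_of_chk N.hn N.hiv (by decide +kernel)

theorem st6_21 : Starts N.nets N.cols pw6_21 S6_21 := starts_of_chk N.hn N.hiv (by decide +kernel)

theorem st6_22 : Starts N.nets N.cols pw6_22 S6_22 := starts_of_chk N.hn N.hiv (by decide +kernel)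

theorem cov6 : Reach (wNets N.nets gw6) [0, 1] S6 (ones 17199) :=
  reach_of_chk (r := 2) (N.hn.wNets _) (by decide +kernel)

theorem st7_0 : Starts N.nets N.cols pw7_0 S7_0 := starts_of_chk N.hn N.hiv (by decide +kernel)

theorem st7_1 : Starts N.nets N.cols pw7_1 S7_1 := starts_of_chk N.hn N.hiv (by decide +kernel)

theorem cov7 : Reach (wNets N.nets gw7) [0, 1, 2, 3] S7 (ones 17199) :=
  reach_of_chk (r := 3) (N.hn.wNets _) (by decide +kernel)

theorem st8_0 : Starts N.nets N.cols pw8_0 S8_0 := starts_of_chk N.hn N.hiv (by decide +kernel)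

theorem st8_1 : Starts N.nets N.cols pw8_1 S8_1 := starts_of_chk N.hn N.hiv (by decide +kernel)

theorem cov8 : Reach (wNets N.nets gw8) [0, 1, 2] S8 (ones 17199) :=
  reach_of_chk (r := 3) (N.hn.wNets _) (by decide +kernel)

theorem st9_0 : Starts N.nets N.cols pw9_0 S9_0 := starts_of_chk N.hn N.hiv (by decide +kernel)

theorem cov9 : Reach (wNets N.nets gw9) [0, 1, 2] S9 (ones 17199) :=
  reach_of_chk (r := 7) (N.hn.wNets _) (by decide +kernel)

theorem st10_0 : Starts N.nets N.cols pw10_0 S10_0 := starts_of_chk N.hn N.hiv (by decide +kernel)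

end H19.Th.DC
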