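import Mathlib
import Cfsg.Agent.H19.Th.DC.L
import Cfsg.Agent.H19.Th.N
import Cfsg.Agent.H19.DCE7

set_option autoImplicit false
set_option maxRecDepth 100000
set_option Elab.async false
set_option linter.all false

namespace H19.Th.DC
open H29

theorem st10_1 : Starts N.nets N.cols pw10_1 S10_1 := starts_of_chk N.hn N.hiv (by decide +kernel)

theorem cov10 : Reach (wNets N.nets gw10) [0, 1, 2, 3] S10 (ones 17199) :=
  reach_of_chk (r := 3) (N.hn.wNets _) (by decide +kernel)

end H19.Th.DC
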