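import Mathlib
import Cfsg.Agent.H19.Th.DC.L
import Cfsg.Agent.H19.Th.N
import Cfsg.Agent.H19.DCE7

set_option autoImplicit false
set_option maxRecDepth 100000
set_option Elab.async false
set_option linter.all false

namespace H19.Th.DC
open H29

theorem st6_8 : Starts N.nets N.cols pw6_8 S6_8 := starts_of_chk N.hn N.hiv (by decide +kernel)

theorem st6_9 : Starts N.nets N.cols pw6_9 S6_9 := starts_of_chk N.hn N.hiv (by decide +kernel)

theorem st6_10 : Starts N.nets N.cols pw6_10 S6_10 := starts_of_chk N.hn N.hiv (by decide +kernel)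

theorem st6_11 : Starts N.nets N.cols pw6_11 S6_11 := starts_of_chk N.hn N.hiv (by decide +kernel)

theorem st6_12 : Starts N.nets N.cols pw6_12 S6_12 := starts_of_chk N.hn N.hiv (by decide +kernel)

theorem st6_13 : Starts N.nets N.cols pw6_13 S6_13 := starts_of_chk N.hn N.hiv (by decide +kernel)

end H19.Th.DC
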